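import Mathlib
import Groth.Agent.Hopf.Coeff

/-!
A commutative Hopf algebra over a field is faithfully flat over each of its Hopf subalgebras
(Takeuchi).  The proof: for a finitely generated relative Hopf submodule `M` of `A` (or of `A ⧸ B`),
the ideals of minors of the relation matrix are stable under the coaction, hence trivial, hence `M`
is projective.
-/

universe u v w

open TensorProduct Matrix

namespace Groth.Sga3.SubHopfFlat

section Minors

variable {B : Type*} [CommRing B] {ι : Type*} [Fintype ι]

/-- The ideal of `s × s` minors of the vectors in `K`. -/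
def minorIdeal (K : Submodule B (ι → B)) (s : ℕ) : Ideal B :=
  Ideal.span {d | ∃ (x : Fin s → ι → B) (f : Fin s → ι), (∀ i, x i ∈ K) ∧
    Matrix.det (fun i j => x i (f j)) = d}

omit [Fintype ι] in
lemma det_mem {K : Submodule B (ι → B)} {s : ℕ} (x : Fin s → ι → B) (f : Fin s → ι)
    (hx : ∀ i, x i ∈ K) : Matrix.det (fun i j => x i (f j)) ∈ minorIdeal K s :=
  Ideal.subset_span ⟨x, f, hx, rfl⟩

omit [Fintype ι] in
lemma minorIdeal_zero (K : Submodule B (ι → B)) : minorIdeal K 0 = ⊤ := by
  rw [Ideal.eq_top_iff_one]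
  simpa using det_mem (K := K) (s := 0) Fin.elim0 Fin.elim0 (fun i => i.elim0)

lemma minorIdeal_of_card_lt (K : Submodule B (ι → B)) {s : ℕ} (h : Fintype.card ι < s) :
    minorIdeal K s = ⊥ := by
  refine le_bot_iff.mp (Ideal.span_le.mpr ?_)
  rintro _ ⟨x, f, -, rfl⟩
  obtain ⟨i, j, hij, hf⟩ := Fintype.exists_ne_map_eq_of_card_lt f (by simpa using h)
  exact Matrix.det_zero_of_column_eq hij fun l => by simp [hf]

omit [Fintype ι] in
/-- One minor almost splits `K` off, when the bigger minors vanish. -/
lemma exists_partial_projection {K : Submodule B (ι → B)} {s : ℕ}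
    (hs1 : minorIdeal K (s + 1) = ⊥) (x : Fin s → ι → B) (f : Fin s → ι) (hx : ∀ i, x i ∈ K) :
    ∃ π : (ι → B) →ₗ[B] (ι → B), (∀ v, π v ∈ K) ∧
      ∀ y ∈ K, π y = (Matrix.det (fun i j => x i (f j)) ^ 2) • y := by
  classical
  let u : Matrix (Fin s) (Fin s) B := fun i j => x i (f j)
  let c : (ι → B) →ₗ[B] (Fin s → B) :=
    (Matrix.vecMulLinear u.adjugate).comp (LinearMap.funLeft B B f)
  let π₀ : (ι → B) →ₗ[B] (ι → B) := (Fintype.linearCombination B x).comp c
  have hπ₀ : ∀ v, π₀ v ∈ K := fun v => by
    change Fintype.linearCombination B x (c v) ∈ K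
    rw [Fintype.linearCombination_apply]
    exact Submodule.sum_mem _ fun i _ => Submodule.smul_mem _ _ (hx i)
  refine ⟨u.det • π₀, fun v => Submodule.smul_mem _ _ (hπ₀ v), fun y hy => ?_⟩
  let z := u.det • y - π₀ y
  have hz : z ∈ K := K.sub_mem (K.smul_mem _ hy) (hπ₀ y)
  have hzf : ∀ j, z (f j) = 0 := by
    intro j
    have h1 : (c y ᵥ* u) j = u.det * y (f j) := by
      change ((fun m => y (f m)) ᵥ* u.adjugate ᵥ* u) j = _
      rw [Matrix.vecMul_vecMul, Matrix.adjugate_mul, Matrix.vecMul_smul, Matrix.vecMul_one]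
      rfl
    change u.det * y (f j) - Fintype.linearCombination B x (c y) (f j) = 0
    rw [Fintype.linearCombination_apply, ← h1]
    simp [Matrix.vecMul, dotProduct, Finset.sum_apply, u]
  have hkey : ∀ l, u.det * z l = 0 := by
    intro l
    let e : Fin (s + 1) ≃ Fin s ⊕ Fin 1 := finSumFinEquiv.symm
    let x' : Fin s ⊕ Fin 1 → ι → B := Sum.elim x fun _ => z
    let f' : Fin s ⊕ Fin 1 → ι := Sum.elim f fun _ => l
    have h2 : Matrix.det (fun i j => x' (e i) (f' (e j))) ∈ minorIdeal K (s + 1) :=
      det_mem (fun i => x' (e i)) (fun j => f' (e j)) fun i => by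
        rcases e i with i | i
        · exact hx i
        · exact hz
    rw [hs1, Ideal.mem_bot] at h2
    have h3 : (fun i j => x' (e i) (f' (e j)) : Matrix (Fin (s + 1)) (Fin (s + 1)) B) =
        Matrix.submatrix (Matrix.fromBlocks u (fun i _ => x i l) 0 (fun _ _ => z l)) e e := by
      funext i j
      change _ = Matrix.fromBlocks u (fun i _ => x i l) 0 (fun _ _ => z l) (e i) (e j)
      rcases e i with i | i <;> rcases e j with j | j <;> simp [x', f', u, hzf]
    rw [h3, Matrix.det_submatrix_equiv_self, Matrix.det_fromBlocks_zero₂₁] at h2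
    simpa using h2
  have h4 : u.det • π₀ y = u.det ^ 2 • y := by
    funext l
    have := hkey l
    simp only [z, Pi.sub_apply, Pi.smul_apply, smul_eq_mul, mul_sub, sub_eq_zero] at this
    simp only [Pi.smul_apply, smul_eq_mul]
    rw [← this]
    ring
  simpa [u] using h4

lemma projective_quotient {K : Submodule B (ι → B)} {s : ℕ} (hs : minorIdeal K s = ⊤)
    (hs1 : minorIdeal K (s + 1) = ⊥) : Module.Projective B ((ι → B) ⧸ K) := by
  classical
  let J : Ideal B :=
    { carrier := {b | ∃ π : (ι → B) →ₗ[B] (ι → B), (∀ v, π v ∈ K) ∧ ∀ y ∈ K, π y = b • y}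
      zero_mem' := ⟨0, fun v => K.zero_mem, fun y _ => by simp⟩
      add_mem' := fun {a b} ⟨p, hp, hp'⟩ ⟨q, hq, hq'⟩ => ⟨p + q, fun v => K.add_mem (hp v) (hq v),
        fun y hy => by simp [hp' y hy, hq' y hy, add_smul]⟩
      smul_mem' := fun c {b} ⟨p, hp, hp'⟩ => ⟨c • p, fun v => K.smul_mem c (hp v),
        fun y hy => by simp [hp' y hy, smul_smul]⟩ }
  have hle : minorIdeal K s ≤ J.radical := by
    refine Ideal.span_le.mpr ?_
    rintro _ ⟨x, f, hx, rfl⟩
    obtain ⟨π, h1, h2⟩ := exists_partial_projection hs1 x f hx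
    exact ⟨2, π, h1, h2⟩
  have hJ : (1 : B) ∈ J := by
    rw [← Ideal.eq_top_iff_one, ← Ideal.radical_eq_top, eq_top_iff, ← hs]
    exact hle
  obtain ⟨π, hπK, hπ⟩ := hJ
  have hπ1 : ∀ y ∈ K, π y = y := fun y hy => (hπ y hy).trans (one_smul B y)
  refine Module.Projective.of_split (K.liftQ (LinearMap.id - π) ?_) K.mkQ ?_
  · intro y hy
    simp [hπ1 y hy]
  · refine Submodule.linearMap_qext K (LinearMap.ext fun v => ?_)
    have h0 : (Submodule.Quotient.mk (π v) : (ι → B) ⧸ K) = 0 :=
      (Submodule.Quotient.mk_eq_zero K).mpr (hπK v)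
    simp [h0]

lemma projective_quotient_of_trivial {K : Submodule B (ι → B)}
    (h : ∀ s, minorIdeal K s = ⊥ ∨ minorIdeal K s = ⊤) : Module.Projective B ((ι → B) ⧸ K) := by
  classical
  by_contra hcon
  have key : ∀ s, minorIdeal K s = ⊤ := by
    intro s
    induction s with
    | zero => exact minorIdeal_zero K
    | succ s ih => exact (h _).resolve_left fun hb => hcon (projective_quotient ih hb)
  have h1 := key (Fintype.card ι + 1)
  rw [minorIdeal_of_card_lt K (Nat.lt_succ_self _)] at h1
  have : Subsingleton B := subsingleton_of_zero_eq_one (by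
    have : (1 : B) ∈ (⊥ : Ideal B) := h1 ▸ Submodule.mem_top
    exact ((Ideal.mem_bot).mp this).symm)
  exact hcon inferInstance

end Minors

/-- A multilinear map sends a product of spans where it sends the product of the generating sets. -/
lemma multilinear_mem {C M : Type*} [CommRing C] [AddCommGroup M] [Module C M] {σ : Type*}
    [Fintype σ] (Φ : MultilinearMap C (fun _ : σ => M) C) {L : Set M} {I : Ideal C}
    (h : ∀ g : σ → M, (∀ i, g i ∈ L) → Φ g ∈ I) {z : σ → M}
    (hz : ∀ i, z i ∈ Submodule.span C L) : Φ z ∈ I := by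
  classical
  suffices key : ∀ (S : Finset σ) (g : σ → M), (∀ i ∈ S, g i ∈ Submodule.span C L) →
      (∀ i ∉ S, g i ∈ L) → Φ g ∈ I from key Finset.univ z (fun i _ => hz i) (by simp)
  intro S
  induction S using Finset.induction_on with
  | empty => exact fun g _ hg => h g fun i => hg i (by simp)
  | insert a S ha ih =>
    intro g hgS hg
    have hle : Submodule.span C L ≤ Submodule.comap (Φ.toLinearMap g a) I := by
      rw [Submodule.span_le]
      intro m hm
      change Φ (Function.update g a m) ∈ I
      refine ih _ (fun i hi => ?_) (fun i hi => ?_)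
      · rw [Function.update_of_ne (by rintro rfl; exact ha hi)]
        exact hgS i (Finset.mem_insert_of_mem hi)
      · by_cases hia : i = a
        · subst hia
          rwa [Function.update_self]
        · rw [Function.update_of_ne hia]
          exact hg i (by simp [hia, hi])
    have := hle (hgS a (Finset.mem_insert_self a S))
    change Φ (Function.update g a (g a)) ∈ I at this
    rwa [Function.update_eq_self] at this

/-- Minors of a linear transform of vectors lie in the ideal of the minors. -/
lemma det_mem_map {B C : Type*} [CommRing B] [CommRing C] (φ : B →+* C) {ι : Type*} [Fintype ι]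
    (K : Submodule B (ι → B)) (T : Matrix ι ι C) {s : ℕ} {z : Fin s → ι → C}
    (hz : ∀ i, ∃ y ∈ Submodule.span C ((fun k => φ ∘ k) '' (K : Set (ι → B))), T *ᵥ y = z i)
    (f : Fin s → ι) :
    Matrix.det (fun i j => z i (f j)) ∈ (minorIdeal K s).map φ := by
  classical
  let D : MultilinearMap C (fun _ : Fin s => Fin s → C) C :=
    (Matrix.detRowAlternating (R := C) (n := Fin s)).toMultilinearMap
  let Φ : MultilinearMap C (fun _ : Fin s => ι → C) C :=
    D.compLinearMap fun _ => (LinearMap.funLeft C C f).comp T.mulVecLin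
  choose y hy hyz using hz
  have hzy : Matrix.det (fun i j => z i (f j)) = Φ y := by
    change _ = Matrix.det (fun i j => (T *ᵥ y i) (f j))
    simp only [hyz]
  rw [hzy]
  refine multilinear_mem Φ (fun g hg => ?_) hy
  choose k hkK hk using hg
  let v : ι → (Fin s → C) := fun l i => φ (k i l)
  have h2 : Φ g = D (fun j => ∑ l, T (f j) l • v l) := by
    change Matrix.det (fun i j => (T *ᵥ g i) (f j)) =
      Matrix.det (fun j => ∑ l, T (f j) l • v l)
    rw [← Matrix.det_transpose]
    congr 1
    funext j i
    simp [Matrix.transpose, Matrix.mulVec, dotProduct, v, ← hk i, Finset.sum_apply]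
  rw [h2]
  refine multilinear_mem D (L := Set.range v) (fun g' hg' => ?_) fun j =>
    Submodule.sum_mem _ fun l _ => Submodule.smul_mem _ _ (Submodule.subset_span ⟨l, rfl⟩)
  choose h hh using hg'
  have h3 : D g' = φ (Matrix.det (fun i j => k i (h j))) := by
    rw [RingHom.map_det, ← Matrix.det_transpose]
    change Matrix.det g' = _
    congr 1
    funext j i
    simp [← hh j, v, Matrix.transpose]
  rw [h3]
  exact Ideal.mem_map_of_mem φ (det_mem _ _ hkK)

section Hopf

open scoped Classical

variable {k : Type u} [Field k] {A : Type v} [CommRing A] [HopfAlgebra k A] (B : Subalgebra k A)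

/-- The inclusion `B ⊗ A → A ⊗ A`. -/
noncomputable abbrev j : B ⊗[k] A →ₐ[k] A ⊗[k] A :=
  Algebra.TensorProduct.map B.val (AlgHom.id k A)

lemma j_injective : Function.Injective (j B) := by
  have : Function.Injective (B.val.toLinearMap.rTensor A) :=
    Module.Flat.rTensor_preserves_injective_linearMap _ Subtype.val_injective
  exact this

variable {B}
variable (hΔ : ∀ b ∈ B, CoalgebraStruct.comul (R := k) (A := A) b ∈
  LinearMap.range (TensorProduct.map B.val.toLinearMap B.val.toLinearMap))
variable (hS : ∀ b ∈ B, HopfAlgebraStruct.antipode (R := k) (A := A) b ∈ B)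

include hΔ in
lemma comul_mem_range (b : B) : Bialgebra.comulAlgHom k A b ∈ (j B).range := by
  obtain ⟨z, hz⟩ := hΔ b b.2
  refine ⟨(Algebra.TensorProduct.map (AlgHom.id k B) B.val) z, ?_⟩
  change _ = Coalgebra.comul (R := k) (b : A)
  rw [← hz]
  induction z using TensorProduct.induction_on with
  | zero => simp
  | tmul p q => rfl
  | add p q hp hq =>
    have : ∀ w : B ⊗[k] B, (j B) ((Algebra.TensorProduct.map (AlgHom.id k B) B.val) w) =
        TensorProduct.map B.val.toLinearMap B.val.toLinearMap w := by
      intro w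
      induction w using TensorProduct.induction_on with
      | zero => simp
      | tmul p q => rfl
      | add p q hp hq => simp only [map_add, hp, hq]
    exact this _

/-- The coaction `B → B ⊗ A`. -/
noncomputable def delta : B →ₐ[k] B ⊗[k] A :=
  ((AlgEquiv.ofInjective (j B) (j_injective B)).symm : _ →ₐ[k] _).comp
    (((Bialgebra.comulAlgHom k A).comp B.val).codRestrict (j B).range (comul_mem_range hΔ))

lemma j_delta (b : B) : j B (delta hΔ b) = Coalgebra.comul (R := k) (b : A) :=
  congrArg Subtype.val ((AlgEquiv.ofInjective (j B) (j_injective B)).apply_symm_apply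
    ⟨_, comul_mem_range hΔ b⟩)

include hΔ hS in
/-- An ideal of `B` stable under the coaction is trivial. -/
lemma eq_bot_or_top_of_stable (I : Ideal B)
    (hI : ∀ x ∈ I, delta hΔ x ∈ I.map (Algebra.TensorProduct.includeLeftRingHom :
      B →+* B ⊗[k] A)) : I = ⊥ ∨ I = ⊤ := by
  by_cases htop : I = ⊤
  · exact Or.inr htop
  left
  let SB : B →ₐ[k] B :=
    ((HopfAlgebra.antipodeAlgHom k A).comp B.val).codRestrict B fun b => hS b b.2
  let Q : B →ₐ[k] B ⧸ I := Ideal.Quotient.mkₐ k I
  have hker : ∀ t ∈ I.map (Algebra.TensorProduct.includeLeftRingHom : B →+* B ⊗[k] A),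
      Algebra.TensorProduct.map Q (AlgHom.id k A) t = 0 := by
    intro t ht
    have hle : I.map (Algebra.TensorProduct.includeLeftRingHom : B →+* B ⊗[k] A) ≤
        RingHom.ker (Algebra.TensorProduct.map Q (AlgHom.id k A)) := by
      rw [Ideal.map_le_iff_le_comap]
      intro b hb
      rw [Ideal.mem_comap, RingHom.mem_ker]
      simp [Algebra.TensorProduct.includeLeftRingHom, Q, Ideal.Quotient.eq_zero_iff_mem.mpr hb]
    exact hle ht
  have hε : ∀ x ∈ I, Coalgebra.counit (R := k) (x : A) = 0 := by
    intro x hx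
    obtain ⟨z, hz⟩ := hΔ x x.2
    have hzd : Algebra.TensorProduct.map (AlgHom.id k B) B.val z = delta hΔ x := by
      apply j_injective B
      rw [j_delta, ← hz]
      clear hz
      induction z using TensorProduct.induction_on with
      | zero => simp
      | tmul p q => rfl
      | add p q hp hq => simp only [map_add, hp, hq]
    have h1 : Algebra.TensorProduct.map Q (AlgHom.id k B) z = 0 := by
      have hinj : Function.Injective (B.val.toLinearMap.lTensor (B ⧸ I)) :=
        Module.Flat.lTensor_preserves_injective_linearMap _ Subtype.val_injective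
      apply hinj
      rw [map_zero]
      refine Eq.trans ?_ (hker _ (hI x hx))
      rw [← hzd]
      clear hz hzd
      induction z using TensorProduct.induction_on with
      | zero => simp
      | tmul p q => rfl
      | add p q hp hq => simp only [map_add, hp, hq]
    have h2 : Algebra.TensorProduct.lift (AlgHom.id k (B ⧸ I)) (Q.comp SB)
        (fun _ _ => mul_comm _ _) (Algebra.TensorProduct.map Q (AlgHom.id k B) z) =
        Q (algebraMap k B (Coalgebra.counit (R := k) (x : A))) := by
      have h3 : Algebra.TensorProduct.lift (AlgHom.id k B) SB (fun _ _ => mul_comm _ _) z =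
          algebraMap k B (Coalgebra.counit (R := k) (x : A)) := by
        apply Subtype.val_injective
        refine Eq.trans ?_ (HopfAlgebra.mul_antipode_lTensor_comul_apply (R := k) (x : A))
        rw [← hz]
        clear hz hzd h1
        induction z using TensorProduct.induction_on with
        | zero => simp
        | tmul p q => simp [SB]
        | add p q hp hq => simp only [map_add, AddMemClass.coe_add, hp, hq]
      rw [← h3]
      clear hz hzd h1 h3
      induction z using TensorProduct.induction_on with
      | zero => simp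
      | tmul p q => simp [Q]
      | add p q hp hq => simp only [map_add, hp, hq]
    rw [h1, map_zero] at h2
    by_contra hne
    apply htop
    have hu : IsUnit (algebraMap k B (Coalgebra.counit (R := k) (x : A))) :=
      (isUnit_iff_ne_zero.mpr hne).map _
    exact Ideal.eq_top_of_isUnit_mem _ (Ideal.Quotient.eq_zero_iff_mem.mp h2.symm) hu
  rw [eq_bot_iff]
  intro x hx
  let E : B ⊗[k] A →ₐ[k] A := Algebra.TensorProduct.lift
    ((Algebra.ofId k A).comp ((Bialgebra.counitAlgHom k A).comp B.val)) (AlgHom.id k A)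
    (fun _ _ => mul_comm _ _)
  have h0 : E (delta hΔ x) = 0 := by
    have hle : I.map (Algebra.TensorProduct.includeLeftRingHom : B →+* B ⊗[k] A) ≤
        RingHom.ker E := by
      rw [Ideal.map_le_iff_le_comap]
      intro b hb
      rw [Ideal.mem_comap, RingHom.mem_ker]
      simp [Algebra.TensorProduct.includeLeftRingHom, E, hε b hb]
    exact hle (hI x hx)
  have h1 : ∀ t : B ⊗[k] A, E t =
      TensorProduct.lid k A ((Coalgebra.counit (R := k) (A := A)).rTensor A (j B t)) := by
    intro t
    induction t using TensorProduct.induction_on with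
    | zero => simp
    | tmul p q => simp [E, Algebra.smul_def]
    | add p q hp hq => simp only [map_add, hp, hq]
  rw [h1, j_delta, Coalgebra.rTensor_counit_comul] at h0
  simp only [TensorProduct.lid_tmul, one_smul] at h0
  exact (Submodule.mem_bot B).mpr (Subtype.ext h0)

include hΔ hS in
/-- Relation modules of relative Hopf modules have projective cokernel. -/
lemma projective_of_stable {ι : Type*} [Fintype ι] (w : ι → A) (a : Matrix ι ι A)
    (hw : ∀ i, Coalgebra.comul (R := k) (w i) = ∑ l, w l ⊗ₜ[k] a l i)
    (hSa : ∀ i i', ∑ l, HopfAlgebra.antipode k (a i l) * a l i' = if i = i' then 1 else 0)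
    (N : Submodule B A)
    (hN : ∀ n ∈ N, (N.mkQ.restrictScalars k).rTensor A (Coalgebra.comul (R := k) n) = 0) :
    Module.Projective B ((ι → B) ⧸ LinearMap.ker (N.mkQ ∘ₗ Fintype.linearCombination B w)) := by
  set K := LinearMap.ker (N.mkQ ∘ₗ Fintype.linearCombination B w)
  let φ₀ : (ι → B) →ₗ[k] A ⧸ N := (N.mkQ ∘ₗ Fintype.linearCombination B w).restrictScalars k
  refine projective_quotient_of_trivial fun s => eq_bot_or_top_of_stable hΔ hS _ ?_
  let T : Matrix ι ι (B ⊗[k] A) := fun i l => (1 : B) ⊗ₜ[k] HopfAlgebra.antipode k (a i l)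
  let incl : B →+* B ⊗[k] A := Algebra.TensorProduct.includeLeftRingHom
  have htrans : ∀ x ∈ K, ∃ y ∈ Submodule.span (B ⊗[k] A)
      ((fun c => incl ∘ c) '' (K : Set (ι → B))), T *ᵥ y = fun i => delta hΔ (x i) := by
    intro x hx
    let y : ι → B ⊗[k] A := fun l => ∑ i, delta hΔ (x i) * ((1 : B) ⊗ₜ[k] a l i)
    refine ⟨y, ?_, ?_⟩
    swap
    · funext i
      simp only [Matrix.mulVec, dotProduct, y, Finset.mul_sum, T]
      rw [Finset.sum_comm]
      have h1 : ∀ i', ∑ l, ((1 : B) ⊗ₜ[k] HopfAlgebra.antipode k (a i l)) *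
          (delta hΔ (x i') * ((1 : B) ⊗ₜ[k] a l i')) =
          delta hΔ (x i') * ((1 : B) ⊗ₜ[k] (if i = i' then (1 : A) else 0)) := by
        intro i'
        rw [← hSa, TensorProduct.tmul_sum, Finset.mul_sum]
        refine Finset.sum_congr rfl fun l _ => ?_
        rw [mul_left_comm, Algebra.TensorProduct.tmul_mul_tmul, one_mul]
      rw [Finset.sum_congr rfl fun i' _ => h1 i', Finset.sum_eq_single i]
      · simp [← Algebra.TensorProduct.one_def]
      · intro b _ hb
        simp [Ne.symm hb]
      · simp
    let Y : (ι → B) ⊗[k] A := ∑ l, (LinearMap.single k (fun _ : ι => B) l).rTensor A (y l)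
    let e : (ι → B) ⊗[k] A →ₗ[k] (ι → B ⊗[k] A) :=
      LinearMap.pi fun l => (LinearMap.proj l).rTensor A
    have heY : e Y = y := by
      funext l
      simp only [Y, map_sum, e, LinearMap.pi_apply, ← LinearMap.rTensor_comp_apply]
      rw [Finset.sum_eq_single l]
      · simp [LinearMap.proj_comp_single_same]
      · intro b _ hb
        simp [LinearMap.proj_comp_single_ne k (fun _ : ι => B) l b (Ne.symm hb)]
      · simp
    have hφY : φ₀.rTensor A Y = 0 := by
      have h2 : ∀ l (t : B ⊗[k] A), φ₀.rTensor A
          ((LinearMap.single k (fun _ : ι => B) l).rTensor A t) =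
          (N.mkQ.restrictScalars k).rTensor A ((w l ⊗ₜ[k] (1 : A)) * j B t) := by
        intro l t
        induction t using TensorProduct.induction_on with
        | zero => simp
        | tmul p q =>
          simp [φ₀, Fintype.linearCombination_apply_single, mul_comm, Subalgebra.smul_def]
        | add p q hp hq => simp only [map_add, mul_add, hp, hq]
      simp only [Y, map_sum, h2]
      rw [← map_sum]
      have hm : N.mkQ (Fintype.linearCombination B w x) = 0 := hx
      rw [Submodule.mkQ_apply, Submodule.Quotient.mk_eq_zero] at hm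
      refine Eq.trans ?_ (hN _ hm)
      congr 1
      rw [Fintype.linearCombination_apply, map_sum]
      simp only [y, map_sum, Finset.mul_sum, Subalgebra.smul_def, smul_eq_mul, Bialgebra.comul_mul, hw]
      rw [Finset.sum_comm]
      refine Finset.sum_congr rfl fun i _ => Finset.sum_congr rfl fun l _ => ?_
      rw [map_mul, j_delta, mul_left_comm]
      simp
    have hex := Module.Flat.rTensor_exact (R := k) A
      (LinearMap.exact_subtype_ker_map φ₀)
    obtain ⟨Y', hY'⟩ := (hex Y).1 hφY
    rw [← heY, ← hY']
    clear hY'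
    induction Y' using TensorProduct.induction_on with
    | zero => simp
    | tmul c q =>
      have h3 : e ((LinearMap.ker φ₀).subtype.rTensor A (c ⊗ₜ[k] q)) =
          ((1 : B) ⊗ₜ[k] q) • (incl ∘ (c : ι → B)) := by
        funext l
        simp [e, incl, Algebra.TensorProduct.includeLeftRingHom]
      rw [h3]
      exact Submodule.smul_mem _ _ (Submodule.subset_span ⟨_, c.2, rfl⟩)
    | add p q hp hq =>
      simp only [map_add]
      exact add_mem hp hq
  intro d hd
  induction hd using Submodule.span_induction with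
  | mem d hd =>
    obtain ⟨x, f, hx, rfl⟩ := hd
    have h4 : delta hΔ (Matrix.det (fun i j => x i (f j))) =
        Matrix.det (fun i j => (fun i' => delta hΔ (x i i')) (f j)) :=
      AlgHom.map_det (delta hΔ) _
    rw [h4]
    exact det_mem_map incl K T (fun i => htrans (x i) (hx i)) f
  | zero => simp
  | add p q _ _ hp hq => simpa using add_mem hp hq
  | smul c p _ hp => simpa using Ideal.mul_mem_left _ _ hp

omit B in
/-- Finitely many elements lie in a finite-dimensional subcomodule, described by a matrix. -/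
lemma exists_matrix (t : Finset A) : ∃ (d : ℕ) (w : Fin d → A) (a : Matrix (Fin d) (Fin d) A),
    (∀ x ∈ t, x ∈ Submodule.span k (Set.range w)) ∧
    (∀ i, Coalgebra.comul (R := k) (w i) = ∑ l, w l ⊗ₜ[k] a l i) ∧
    (∀ i i', ∑ l, HopfAlgebra.antipode k (a i l) * a l i' = if i = i' then 1 else 0) := by
  classical
  obtain ⟨W, hfin, htW, hW⟩ :=
    Groth.ComodLib.exists_finite_subcomod_span (k := k) (A := A) (V := A) t.finite_toSet
  let b := Module.finBasis k W
  choose ψ hψ using fun l => LinearMap.exists_extend (b.coord l)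
  let w : Fin (Module.finrank k W) → A := fun i => b i
  let a : Matrix (Fin (Module.finrank k W)) (Fin (Module.finrank k W)) A := fun l i =>
    Groth.ComodLib.cf (A := A) (ψ l) (w i)
  have hψw : ∀ (l i), ψ l (w i) = if i = l then 1 else 0 := fun l i => by
    have := LinearMap.congr_fun (hψ l) (b i)
    simpa [w, Finsupp.single_apply] using this
  have hw : ∀ i, Coalgebra.comul (R := k) (w i) = ∑ l, w l ⊗ₜ[k] a l i := by
    intro i
    refine Groth.ComodLib.ext_slice fun φ => ?_
    rw [map_sum]
    simp only [Groth.ComodLib.slice_tmul, a, Groth.ComodLib.apply_cf]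
    have hmem := (Groth.ComodLib.isSubcomod_iff W).1 hW φ (w i) (b i).2
    have h1 := congrArg (W.subtype) (b.sum_repr ⟨_, hmem⟩)
    rw [map_sum] at h1
    refine Eq.trans ?_ (h1.symm.trans ?_)
    · rfl
    · refine Finset.sum_congr rfl fun l _ => ?_
      rw [map_smul]
      congr 1
      exact (LinearMap.congr_fun (hψ l) ⟨_, hmem⟩).symm
  refine ⟨_, w, a, fun x hx => ?_, hw, fun i i' => ?_⟩
  · have h1 := congrArg W.subtype (b.sum_repr ⟨x, htW hx⟩)
    rw [map_sum] at h1
    change x ∈ _
    rw [show x = W.subtype ⟨x, htW hx⟩ from rfl, ← b.sum_repr ⟨x, htW hx⟩, map_sum]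
    refine Submodule.sum_mem _ fun l _ => ?_
    rw [map_smul]
    exact Submodule.smul_mem _ _ (Submodule.subset_span ⟨l, rfl⟩)
  · have hcom : Coalgebra.comul (R := k) (a i i') = ∑ l, a i l ⊗ₜ[k] a l i' := by
      simp only [a]
      rw [Groth.ComodLib.comul_cf]
      change LinearMap.rTensor A _ (Coalgebra.comul (R := k) (w i')) = _
      rw [hw, map_sum]
      rfl
    have h1 := HopfAlgebra.mul_antipode_rTensor_comul_apply (R := k) (a i i')
    rw [hcom, map_sum, map_sum] at h1
    simp only [LinearMap.rTensor_tmul, LinearMap.mul'_apply] at h1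
    rw [h1]
    have h2 : Coalgebra.counit (R := k) (a i i') = if i' = i then 1 else 0 := by
      simp only [a]
      rw [Groth.ComodLib.apply_cf, Groth.ComodLib.op_counit, hψw]
    rw [h2]
    simp [eq_comm, apply_ite (algebraMap k A)]

/-- A commutative Hopf algebra over a field is faithfully flat over a Hopf subalgebra. -/
theorem faithfullyFlat (B : Subalgebra k A)
    (hΔ : ∀ b ∈ B, CoalgebraStruct.comul (R := k) (A := A) b ∈
      LinearMap.range (TensorProduct.map B.val.toLinearMap B.val.toLinearMap))
    (hS : ∀ b ∈ B, HopfAlgebraStruct.antipode (R := k) (A := A) b ∈ B) :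
    Module.FaithfullyFlat B A := by
  classical
  have hproj : ∀ (N : Submodule B A),
      (∀ n ∈ N, (N.mkQ.restrictScalars k).rTensor A (Coalgebra.comul (R := k) n) = 0) →
      ∀ t : Finset A, ∃ (d : ℕ) (w : Fin d → A),
        (∀ x ∈ t, x ∈ LinearMap.range (Fintype.linearCombination B w)) ∧
        Module.Projective B
          ((Fin d → B) ⧸ LinearMap.ker (N.mkQ ∘ₗ Fintype.linearCombination B w)) := by
    intro N hN t
    obtain ⟨d, w, a, htw, hw, hSa⟩ := exists_matrix (k := k) t
    refine ⟨d, w, fun x hx => ?_, projective_of_stable hΔ hS w a hw (fun i i' => by convert hSa i i') N hN⟩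
    rw [Fintype.range_linearCombination]
    exact (Submodule.span_le (R := k) (p := (Submodule.span B (Set.range w)).restrictScalars k)).mpr
      Submodule.subset_span (htw x hx)
  have hflat : Module.Flat B A := by
    refine Module.Flat.of_forall_isTrivialRelation fun {l f x} hfx => ?_
    obtain ⟨d, w, htw, hP⟩ := hproj ⊥ (fun n hn => by
      rw [(Submodule.mem_bot B).mp hn, map_zero, map_zero]) (Finset.univ.image x)
    let Φ := Fintype.linearCombination B w
    let K := LinearMap.ker ((⊥ : Submodule B A).mkQ ∘ₗ Φ)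
    have hK : ∀ c, c ∈ K ↔ Φ c = 0 := fun c => by simp [K, Φ]
    let ψ : ((Fin d → B) ⧸ K) →ₗ[B] A := K.liftQ Φ fun c hc => (hK c).1 hc
    choose c hc using fun i => htw (x i) (Finset.mem_image_of_mem x (Finset.mem_univ i))
    have h0 : ∑ i, f i • K.mkQ (c i) = 0 := by
      simp only [← map_smul, ← map_sum]
      rw [Submodule.mkQ_apply, Submodule.Quotient.mk_eq_zero, hK, map_sum]
      simpa [Φ, hc] using hfx
    obtain ⟨κ, m, y, hy, hm⟩ := Module.Flat.iff_forall_isTrivialRelation.mp inferInstance h0
    refine ⟨κ, m, fun q => ψ (y q), fun i => ?_, hm⟩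
    have h2 := congrArg ψ (hy i)
    simp only [map_sum, map_smul] at h2
    rw [← h2]
    exact (hc i).symm
  refine ⟨fun m hm htop => ?_⟩
  have h1 : (1 : A) ∈ m • (⊤ : Submodule B A) := by
    rw [htop]
    exact Submodule.mem_top
  obtain ⟨t, ht⟩ : ∃ t : Finset A, (1 : A) ∈ m • Submodule.span B (t : Set A) := by
    refine Submodule.smul_induction_on h1
      (fun r hr a _ => ⟨{a}, Submodule.smul_mem_smul hr (Submodule.subset_span (by simp))⟩) ?_
    rintro p q ⟨s, hs⟩ ⟨s', hs'⟩
    exact ⟨s ∪ s', add_mem
      (Submodule.smul_mono le_rfl (Submodule.span_mono (by simp)) hs)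
      (Submodule.smul_mono le_rfl (Submodule.span_mono (by simp)) hs')⟩
  let N : Submodule B A := Submodule.span B {1}
  obtain ⟨d, w, htw, hP⟩ := hproj N (fun n hn => by
    obtain ⟨b, rfl⟩ := Submodule.mem_span_singleton.mp hn
    obtain ⟨z, hz⟩ := hΔ b b.2
    rw [Subalgebra.smul_def, smul_eq_mul, mul_one, ← hz]
    clear hz
    induction z using TensorProduct.induction_on with
    | zero => simp
    | tmul p q =>
      have : (Submodule.Quotient.mk (p : A) : A ⧸ N) = 0 := (Submodule.Quotient.mk_eq_zero N).mpr
        (Submodule.mem_span_singleton.mpr ⟨p, mul_one _⟩)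
      simp [this]
    | add p q hp hq => simp only [map_add, hp, hq, add_zero]) t
  let Φ := Fintype.linearCombination B w
  let K := LinearMap.ker (N.mkQ ∘ₗ Φ)
  obtain ⟨σ, hσ⟩ := Module.projective_lifting_property K.mkQ LinearMap.id K.mkQ_surjective
  let g : (Fin d → B) →ₗ[B] (Fin d → B) := LinearMap.id - σ ∘ₗ K.mkQ
  have hgN : ∀ v, Φ (g v) ∈ N := by
    intro v
    have h2 : K.mkQ (g v) = 0 := by
      have := LinearMap.congr_fun hσ (K.mkQ v)
      simp only [LinearMap.comp_apply, LinearMap.id_apply] at this
      simp only [g, LinearMap.sub_apply, LinearMap.id_apply, LinearMap.comp_apply, map_sub]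
      rw [this, sub_self]
    rw [Submodule.mkQ_apply, Submodule.Quotient.mk_eq_zero] at h2
    exact (Submodule.Quotient.mk_eq_zero N).mp (LinearMap.mem_ker.mp h2)
  have h2 : (1 : A) ∈ Submodule.map Φ (m • ⊤) := by
    rw [Submodule.map_smul'', Submodule.map_top]
    exact Submodule.smul_mono le_rfl (Submodule.span_le.mpr fun x hx => htw x hx) ht
  obtain ⟨V, hV, hV1⟩ := h2
  have hVK : K.mkQ V = 0 := by
    rw [Submodule.mkQ_apply, Submodule.Quotient.mk_eq_zero, LinearMap.mem_ker, LinearMap.comp_apply,
      hV1, Submodule.mkQ_apply, Submodule.Quotient.mk_eq_zero]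
    exact Submodule.subset_span rfl
  have h3 : Φ (g V) = 1 := by
    simp only [g, LinearMap.sub_apply, LinearMap.id_apply, LinearMap.comp_apply, hVK, map_zero,
      sub_zero]
    exact hV1
  have h4 : Φ (g V) ∈ m • N :=
    Submodule.smul_induction_on hV (fun r hr v _ => by
      rw [map_smul, map_smul]
      exact Submodule.smul_mem_smul hr (hgN v)) (fun p q hp hq => by
      rw [map_add, map_add]; exact add_mem hp hq)
  rw [h3, Submodule.mem_smul_span_singleton] at h4
  obtain ⟨r, hr, hr1⟩ := h4
  have hr2 : r = 1 := Subtype.ext (by rwa [Subalgebra.smul_def, smul_eq_mul, mul_one] at hr1)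
  exact hm.ne_top (Ideal.eq_top_iff_one m |>.mpr (hr2 ▸ hr))

end Hopf

end Groth.Sga3.SubHopfFlat
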