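import Groth.Agent.Sga3.SubHopfFlat

/-!
The image of a bialgebra map between commutative Hopf algebras is a Hopf subalgebra.
-/

universe u v w

open TensorProduct WithConv

namespace Groth.Sga3.SubHopfFlat

variable {k : Type u} [Field k] {A : Type v} {B : Type w} [CommRing A] [CommRing B]
  [HopfAlgebra k A] [HopfAlgebra k B]

lemma map_antipode (f : A →ₐc[k] B) (a : A) :
    f (HopfAlgebra.antipode k a) = HopfAlgebra.antipode k (f a) := by
  have h : toConv ((f : A →ₐ[k] B).comp (HopfAlgebra.antipodeAlgHom k A)) =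
      toConv ((HopfAlgebra.antipodeAlgHom k B).comp (f : A →ₐ[k] B)) := by
    refine left_inv_eq_right_inv (a := toConv (f : A →ₐ[k] B)) ?_ ?_
    · exact inv_mul_cancel (toConv (f : A →ₐ[k] B))
    · apply WithConv.ofConv_injective
      have h2 := AlgHom.convMul_comp_bialgHom_distrib (toConv (AlgHom.id k B))
        (toConv (HopfAlgebra.antipodeAlgHom k B)) f
      have h3 : toConv (AlgHom.id k B) * toConv (HopfAlgebra.antipodeAlgHom k B) = 1 :=
        mul_inv_cancel (toConv (AlgHom.id k B))
      rw [h3] at h2
      refine h2.symm.trans (AlgHom.ext fun x => ?_)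
      simp
  exact congrArg (fun p : WithConv (A →ₐ[k] B) => p.ofConv a) h

theorem faithfullyFlat_range (f : A →ₐc[k] B) :
    Module.FaithfullyFlat (f : A →ₐ[k] B).range B := by
  refine faithfullyFlat (f : A →ₐ[k] B).range ?_ ?_
  · rintro _ ⟨a, rfl⟩
    refine ⟨TensorProduct.map (f : A →ₐ[k] B).rangeRestrict.toLinearMap
      (f : A →ₐ[k] B).rangeRestrict.toLinearMap (Coalgebra.comul (R := k) a), ?_⟩
    refine Eq.trans ?_ (CoalgHomClass.map_comp_comul_apply f a)
    generalize Coalgebra.comul (R := k) a = z
    induction z using TensorProduct.induction_on with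
    | zero => simp
    | tmul p q => rfl
    | add p q hp hq => simp only [map_add, hp, hq]
  · rintro _ ⟨a, rfl⟩
    exact ⟨HopfAlgebra.antipode k a, map_antipode f a⟩

end Groth.Sga3.SubHopfFlat
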