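import Groth.Agent.Sga3.MultType
import Mathlib.RingTheory.HopfAlgebra.Quotient

/-!
The kernel of a surjective map of commutative Hopf algebras is a Hopf ideal.
-/

set_option autoImplicit false

universe u

open TensorProduct WithConv Coalgebra

noncomputable section

namespace Groth.Sga3.HopfKer

variable {R : Type u} [CommRing R] {C B : Type u} [CommRing C] [HopfAlgebra R C] [CommRing B]
  [HopfAlgebra R B]

theorem map_antipode (f : C →ₐc[R] B) (a : C) :
    f (HopfAlgebra.antipode R a) = HopfAlgebra.antipode R (f a) := by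
  have h : toConv ((f : C →ₐ[R] B).comp (HopfAlgebra.antipodeAlgHom R C)) =
      toConv ((HopfAlgebra.antipodeAlgHom R B).comp (f : C →ₐ[R] B)) := by
    refine left_inv_eq_right_inv (a := toConv (f : C →ₐ[R] B)) ?_ ?_
    · exact inv_mul_cancel (toConv (f : C →ₐ[R] B))
    · apply WithConv.ofConv_injective
      have h2 := AlgHom.convMul_comp_bialgHom_distrib (toConv (AlgHom.id R B))
        (toConv (HopfAlgebra.antipodeAlgHom R B)) f
      have h3 : toConv (AlgHom.id R B) * toConv (HopfAlgebra.antipodeAlgHom R B) = 1 :=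
        mul_inv_cancel (toConv (AlgHom.id R B))
      rw [h3] at h2
      refine h2.symm.trans (AlgHom.ext fun x => ?_)
      simp
  exact congrArg (fun p : WithConv (C →ₐ[R] B) => p.ofConv a) h

theorem isHopfIdeal_ker (f : C →ₐc[R] B) (hs : Function.Surjective f) {J : Ideal C}
    (hJ : RingHom.ker f = J) : J.IsHopfIdeal R := by
  subst hJ
  let J : Ideal C := RingHom.ker f
  let Q : C →ₐ[R] C ⧸ J := Ideal.Quotient.mkₐ R J
  let f' : C ⧸ J →ₐ[R] B := Ideal.Quotient.liftₐ J (f : C →ₐ[R] B) fun x hx => hx
  have hf' : Function.Bijective f' := by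
    refine ⟨(injective_iff_map_eq_zero _).2 fun x hx => ?_, fun y => ?_⟩
    · obtain ⟨x, rfl⟩ := Ideal.Quotient.mk_surjective x
      exact Ideal.Quotient.eq_zero_iff_mem.2 hx
    · obtain ⟨x, rfl⟩ := hs y
      exact ⟨Ideal.Quotient.mk J x, rfl⟩
  let g : B →ₐ[R] C ⧸ J := (AlgEquiv.ofBijective f' hf').symm.toAlgHom
  have hg : ∀ x, Q x = g (f x) := fun x =>
    ((AlgEquiv.ofBijective f' hf').symm_apply_apply (Q x)).symm
  have hco : (J.restrictScalars R).IsCoideal := by
    refine ⟨fun x hx => ?_, fun x hx => ?_⟩
    · change counit (R := R) x = 0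
      rw [← CoalgHomClass.counit_comp_apply f x, show f x = 0 from hx, map_zero]
    · change Algebra.TensorProduct.map Q Q (comul (R := R) x) = 0
      have h1 : ∀ t, Algebra.TensorProduct.map Q Q t =
          Algebra.TensorProduct.map g g (TensorProduct.map (f : C →ₗ[R] B) (f : C →ₗ[R] B) t) := by
        intro t
        induction t using TensorProduct.induction_on with
        | zero => simp
        | add p q hp hq => simp only [map_add, hp, hq]
        | tmul a b => simp [hg]
      rw [h1, CoalgHomClass.map_comp_comul_apply f x, show f x = 0 from hx, map_zero, map_zero]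
  refine { hco with antipode_mem := fun x hx => ?_ }
  change f (HopfAlgebra.antipode R x) = 0
  rw [map_antipode, show f x = 0 from hx, map_zero]

/-- the quotient by the kernel -/
def quotKerEquiv (f : C →ₐc[R] B) (hs : Function.Surjective f) {J : Ideal C}
    (hJ : RingHom.ker f = J) [J.IsHopfIdeal R] : (C ⧸ J) ≃ₐc[R] B :=
  let f' : C ⧸ J →ₐ[R] B := Ideal.Quotient.liftₐ J (f : C →ₐ[R] B) fun x hx => by
    subst hJ; exact hx
  BialgEquiv.ofAlgEquiv (AlgEquiv.ofBijective f' (by
    refine ⟨(injective_iff_map_eq_zero _).2 fun x hx => ?_, fun y => ?_⟩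
    · obtain ⟨x, rfl⟩ := Ideal.Quotient.mk_surjective x
      refine Ideal.Quotient.eq_zero_iff_mem.2 ?_
      subst hJ
      exact hx
    · obtain ⟨x, rfl⟩ := hs y
      exact ⟨Ideal.Quotient.mk J x, rfl⟩))
    (AlgHom.ext fun y => by
      obtain ⟨x, rfl⟩ := Ideal.Quotient.mk_surjective y
      exact CoalgHomClass.counit_comp_apply f x)
    (AlgHom.ext fun y => by
      obtain ⟨x, rfl⟩ := Ideal.Quotient.mk_surjective y
      change TensorProduct.map f'.toLinearMap f'.toLinearMap
          (TensorProduct.map (Ideal.Quotient.mkₐ R J).toLinearMap (Ideal.Quotient.mkₐ R J).toLinearMap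
            (comul (R := R) x)) = comul (R := R) (f x)
      rw [← CoalgHomClass.map_comp_comul_apply f x]
      generalize comul (R := R) x = t
      induction t using TensorProduct.induction_on with
      | zero => simp
      | add p q hp hq => simp only [map_add, hp, hq]
      | tmul a b => rfl)

end Groth.Sga3.HopfKer
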