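import Groth.Prelude.Def_SGA3b
import Mathlib

/-!
Groups of multiplicative type in Hopf form: base change of the diagonalisable structure and
reduction of statements to the diagonalisable case.
-/

set_option autoImplicit false

universe u v

open TensorProduct Coalgebra

noncomputable section

namespace Groth.Sga3.MultType

variable {R : Type u} [CommRing R]

section BaseChange

variable (S : Type u) [CommRing S] [Algebra R S]

/-- base change of a bialgebra map -/
def mapBC {A B : Type u} [CommRing A] [Bialgebra R A] [CommRing B] [Bialgebra R B]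
    (φ : A →ₐc[R] B) : S ⊗[R] A →ₐc[S] S ⊗[R] B :=
  Bialgebra.TensorProduct.map (BialgHom.id S S) φ

theorem mapBC_tmul {A B : Type u} [CommRing A] [Bialgebra R A] [CommRing B] [Bialgebra R B]
    (φ : A →ₐc[R] B) (s : S) (a : A) : mapBC S φ (s ⊗ₜ a) = s ⊗ₜ φ a := rfl

/-- base change of a bialgebra equivalence -/
def congrBC {A B : Type u} [CommRing A] [Bialgebra R A] [CommRing B] [Bialgebra R B]
    (e : A ≃ₐc[R] B) : S ⊗[R] A ≃ₐc[S] S ⊗[R] B :=
  BialgEquiv.ofBijective (mapBC S (e : A →ₐc[R] B)) <| by
    have h : ∀ x, mapBC S (e : A →ₐc[R] B) x =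
        LinearEquiv.lTensor S (e : A ≃ₐ[R] B).toLinearEquiv x := by
      intro x
      induction x using TensorProduct.induction_on with
      | zero => simp
      | tmul s a => rfl
      | add x y hx hy => simp [map_add, hx, hy]
    exact (funext h) ▸ (LinearEquiv.lTensor S (e : A ≃ₐ[R] B).toLinearEquiv).bijective

variable (R) in
/-- base change of a group algebra -/
def monAlgBC (M : Type u) [CommGroup M] :
    S ⊗[R] MonoidAlgebra R M ≃ₐc[S] MonoidAlgebra S M :=
  BialgEquiv.ofAlgEquiv (MonoidAlgebra.scalarTensorEquiv R S)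
    (by ext <;> simp [MonoidAlgebra.scalarTensorEquiv_tmul])
    (by ext <;> simp [MonoidAlgebra.scalarTensorEquiv_tmul, Algebra.TensorProduct.one_def])

variable (T : Type u) [CommRing T] [Algebra R T] [Algebra S T] [IsScalarTower R S T]

variable (R) in
/-- successive base changes -/
def cancelBC (A : Type u) [CommRing A] [Bialgebra R A] :
    T ⊗[S] (S ⊗[R] A) ≃ₐc[T] T ⊗[R] A :=
  BialgEquiv.ofAlgEquiv (Algebra.TensorProduct.cancelBaseChange R S T T A)
    (by ext a; simp [Algebra.algebraMap_eq_smul_one])
    (by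
      ext a
      simp [← (Coalgebra.Repr.arbitrary R a).eq, TensorProduct.tmul_sum, TensorProduct.sum_tmul])

end BaseChange

open SGA3b

theorem isDiag_of_equiv {A B : Type u} [CommRing A] [HopfAlgebra R A] [CommRing B] [HopfAlgebra R B]
    (e : A ≃ₐc[R] B) (h : IsDiag R A) : IsDiag R B := by
  obtain ⟨M, _, ⟨f⟩⟩ := h
  exact ⟨M, _, ⟨e.symm.trans f⟩⟩

theorem isDiag_baseChange (S : Type u) [CommRing S] [Algebra R S] (A : Type u) [CommRing A]
    [HopfAlgebra R A] (h : IsDiag R A) : IsDiag S (S ⊗[R] A) := by
  obtain ⟨M, _, ⟨f⟩⟩ := h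
  exact ⟨M, _, ⟨(congrBC S f).trans (monAlgBC R S M)⟩⟩

theorem isDiag_trans (S T : Type u) [CommRing S] [Algebra R S] [CommRing T] [Algebra R T]
    [Algebra S T] [IsScalarTower R S T] (A : Type u) [CommRing A] [HopfAlgebra R A]
    (h : IsDiag T (T ⊗[S] (S ⊗[R] A))) : IsDiag T (T ⊗[R] A) :=
  isDiag_of_equiv (cancelBC R S T A) h

theorem one_tmul_injective_of_faithfullyFlat (S : Type u) [CommRing S] [Algebra R S]
    [Module.FaithfullyFlat R S] (N : Type u) [AddCommGroup N] [Module R N] :
    Function.Injective fun x : N => (1 : S) ⊗ₜ[R] x := by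
  exact Module.FaithfullyFlat.tensorProduct_mk_injective N

/-- An element of any module vanishes if it does after every base change diagonalising a given group
of multiplicative type. -/
theorem eq_zero_of_forall {A : Type u} [CommRing A] [HopfAlgebra R A] (h : IsMultType R A)
    {N : Type u} [AddCommGroup N] [Module R N] {x : N}
    (hx : ∀ (S : Type u) [CommRing S] [Algebra R S], IsDiag S (S ⊗[R] A) → (1 : S) ⊗ₜ[R] x = 0) :
    x = 0 := by
  obtain ⟨s, hs, hloc⟩ := h
  have hann : ∀ f ∈ s, ∃ n : ℕ, f ^ n • x = 0 := by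
    intro f hf
    obtain ⟨R', _, _, hff, hdiag⟩ := hloc f hf
    letI : Algebra R R' :=
      ((algebraMap (Localization.Away f) R').comp (algebraMap R (Localization.Away f))).toAlgebra
    haveI : IsScalarTower R (Localization.Away f) R' := IsScalarTower.of_algebraMap_eq' rfl
    have h1 := hx R' (isDiag_trans (Localization.Away f) R' A hdiag)
    have h2 : (1 : R') ⊗ₜ[Localization.Away f] ((1 : Localization.Away f) ⊗ₜ[R] x) = 0 :=
      (TensorProduct.AlgebraTensorModule.cancelBaseChange R (Localization.Away f) R' R' N).injective <| by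
        rw [map_zero, TensorProduct.AlgebraTensorModule.cancelBaseChange_tmul, one_smul]
        exact h1
    have h3 : (1 : Localization.Away f) ⊗ₜ[R] x = 0 :=
      one_tmul_injective_of_faithfullyFlat (R := Localization.Away f) R'
        (Localization.Away f ⊗[R] N) (h2.trans (TensorProduct.tmul_zero _ _).symm)
    obtain ⟨⟨_, n, rfl⟩, hn⟩ := (IsLocalizedModule.eq_zero_iff (Submonoid.powers f)
      (TensorProduct.mk R (Localization.Away f) N 1)).1 h3
    exact ⟨n, hn⟩
  let K : Ideal R := LinearMap.ker (LinearMap.toSpanSingleton R N x)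
  have hK : K.radical = ⊤ := by
    rw [eq_top_iff, ← hs, Ideal.span_le]
    intro f hf
    obtain ⟨n, hn⟩ := hann f hf
    exact ⟨n, hn⟩
  have h1 : (1 : R) ∈ K := (Ideal.radical_eq_top.1 hK) ▸ Submodule.mem_top
  simpa [K] using h1

/-- Two maps into a group of multiplicative type agree if they do after every diagonalising base
change. -/
theorem bialgHom_ext {A : Type u} [CommRing A] [HopfAlgebra R A] (h : IsMultType R A)
    {C : Type u} [CommRing C] [Bialgebra R C] {φ ψ : C →ₐc[R] A}
    (hx : ∀ (S : Type u) [CommRing S] [Algebra R S], IsDiag S (S ⊗[R] A) →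
      mapBC S φ = mapBC S ψ) : φ = ψ := by
  ext c
  refine sub_eq_zero.1 (eq_zero_of_forall h fun S _ _ hS => ?_)
  rw [TensorProduct.tmul_sub, ← mapBC_tmul, ← mapBC_tmul, hx S hS, sub_self]

theorem isMultTypeConst_of_isDiag {A : Type u} [CommRing A] [HopfAlgebra R A] (h : IsDiag R A) :
    IsMultTypeConst R A :=
  ⟨R, _, _, inferInstance, isDiag_baseChange R A h⟩

theorem isMultType_of_const {A : Type u} [CommRing A] [HopfAlgebra R A] (h : IsMultTypeConst R A) :
    IsMultType R A := by
  refine ⟨{1}, Ideal.span_singleton_one, fun f hf => ?_⟩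
  obtain ⟨R', _, _, hff, hdiag⟩ := h
  have hu : IsUnit f := hf ▸ isUnit_one
  let e : R ≃ₐ[R] Localization.Away f := IsLocalization.atUnits R (Submonoid.powers f)
    (by rintro _ ⟨n, rfl⟩; exact hu.pow n)
  letI : Algebra (Localization.Away f) R' := ((algebraMap R R').comp (e.symm : Localization.Away f →+* R)).toAlgebra
  haveI : IsScalarTower R (Localization.Away f) R' :=
    IsScalarTower.of_algebraMap_eq fun r => by
      simp [RingHom.algebraMap_toAlgebra]
  refine ⟨R', _, _, ?_, isDiag_of_equiv (cancelBC R (Localization.Away f) R' A).symm hdiag⟩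
  have h1 : ((algebraMap R R').comp (e.symm : Localization.Away f →+* R)).FaithfullyFlat :=
    RingHom.FaithfullyFlat.stableUnderComposition (e.symm : Localization.Away f →+* R) (algebraMap R R')
      (RingHom.FaithfullyFlat.of_bijective (f := (e.symm : Localization.Away f →+* R)) e.symm.bijective)
      (RingHom.faithfullyFlat_algebraMap_iff.2 hff)
  exact RingHom.faithfullyFlat_algebraMap_iff.1 h1

theorem exists_isMultTypeConst_of_isLocalRing [IsLocalRing R] {A : Type u} [CommRing A]
    [HopfAlgebra R A] (h : IsMultType R A) : IsMultTypeConst R A := by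
  obtain ⟨s, hs, hloc⟩ := h
  obtain ⟨f, hf, hu⟩ : ∃ f ∈ s, IsUnit f := by
    by_contra hne
    push Not at hne
    refine (IsLocalRing.maximalIdeal.isMaximal R).ne_top (eq_top_iff.2 ?_)
    rw [← hs, Ideal.span_le]
    exact fun f hf => hne f hf
  obtain ⟨R', _, _, hff, hdiag⟩ := hloc f hf
  let e : R ≃ₐ[R] Localization.Away f := IsLocalization.atUnits R (Submonoid.powers f)
    (by rintro _ ⟨n, rfl⟩; exact hu.pow n)
  letI : Algebra R R' :=
    ((algebraMap (Localization.Away f) R').comp (algebraMap R (Localization.Away f))).toAlgebra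
  haveI : IsScalarTower R (Localization.Away f) R' := IsScalarTower.of_algebraMap_eq' rfl
  haveI : Module.FaithfullyFlat R (Localization.Away f) :=
    Module.FaithfullyFlat.of_linearEquiv R R e.symm.toLinearEquiv
  exact ⟨R', _, _, Module.FaithfullyFlat.trans R (Localization.Away f) R',
    isDiag_trans (Localization.Away f) R' A hdiag⟩

end Groth.Sga3.MultType
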