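import Groth.Agent.Sga3.SubHopfMap
import Groth.Agent.Sga3.HopfKer
import Groth.Agent.Sga3.MultType
import Groth.Agent.Hopf.Push
import Groth.Prelude.Def_SGA3b
import Mathlib.RingTheory.HopfAlgebra.Quotient
import Mathlib.RingTheory.Flat.FaithfullyFlat.Algebra
import Mathlib.FieldTheory.IsAlgClosed.Basic

/-!
Extensions of diagonalisable groups by unipotent groups over an algebraically closed field split
(SGA 3 XVII 5.1.1), in Hopf form.  For a minimal closed subgroup surjecting to the quotient, a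
non-constant crossed homomorphism into a character line can be changed by a coboundary so that its
zero locus still surjects, so the minimal subgroup is the quotient itself.
-/

set_option autoImplicit false
set_option linter.unusedSectionVars false

universe u

open TensorProduct Coalgebra WithConv
open Groth.ComodLib (lslice lslice_tmul lslice_rTensor lslice_lTensor eq_zero_of_lslice slice
  slice_tmul op op_apply ext_slice)

noncomputable section

namespace Groth.Sga3.UnipotentExt

variable {k : Type u} [Field k]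

section Dual

variable {ι V : Type u} [AddCommGroup V] [Module k V]

/-- a form dual to one member of an independent family -/
theorem exists_dual {ι : Type*} [DecidableEq ι] {v : ι → V} (hv : LinearIndependent k v) (i : ι) :
    ∃ φ : V →ₗ[k] k, ∀ j, φ (v j) = if j = i then 1 else 0 := by
  obtain ⟨φ, hφ⟩ := LinearMap.exists_extend ((Finsupp.lapply i) ∘ₗ hv.repr)
  refine ⟨φ, fun j => ?_⟩
  have h := LinearMap.congr_fun hφ ⟨v j, Submodule.subset_span ⟨j, rfl⟩⟩
  rw [LinearMap.comp_apply, LinearMap.comp_apply, hv.repr_eq_single j _ rfl] at h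
  simpa [Finsupp.single_apply, eq_comm] using h

end Dual

section Coinv

variable {A B T : Type u} [CommRing A] [HopfAlgebra k A] [CommRing B] [HopfAlgebra k B]
  [CommRing T] [Algebra k T] {ψ : B →ₐc[k] A} {J : Ideal A}
  (hJ : J = Ideal.map (ψ : B →+* A) (RingHom.ker (Bialgebra.counitAlgHom k B)))

/-- composition of points with `ψ` -/
def precomp (ψ : B →ₐc[k] A) : WithConv (A →ₐ[k] T) →* WithConv (B →ₐ[k] T) where
  toFun f := toConv (f.ofConv.comp (ψ : B →ₐ[k] A))
  map_one' := WithConv.ofConv_injective (AlgHom.ext fun b => by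
    change algebraMap k T (counit (R := k) (ψ b)) = algebraMap k T (counit (R := k) b)
    rw [CoalgHomClass.counit_comp_apply])
  map_mul' f g := WithConv.ofConv_injective (AlgHom.convMul_comp_bialgHom_distrib f g ψ)

theorem postcomp_mul {C : Type u} [CommRing C] [Algebra k C] (f : C →ₐ[k] T)
    (g h : WithConv (A →ₐ[k] C)) :
    toConv (f.comp (g * h).ofConv) = toConv (f.comp g.ofConv) * toConv (f.comp h.ofConv) := by
  refine WithConv.ofConv_injective (AlgHom.ext fun a => ?_)
  change f ((Algebra.TensorProduct.lmul' k).comp (Algebra.TensorProduct.map g.ofConv h.ofConv)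
      (comul (R := k) a)) = (Algebra.TensorProduct.lmul' k).comp
      (Algebra.TensorProduct.map (f.comp g.ofConv) (f.comp h.ofConv)) (comul (R := k) a)
  generalize comul (R := k) a = z
  induction z using TensorProduct.induction_on with
  | zero => simp
  | add x y hx hy => simp only [map_add, hx, hy]
  | tmul x y => simp

/-- the inverse of a point -/
def pinv (f : A →ₐ[k] T) : WithConv (A →ₐ[k] T) := toConv (f.comp (HopfAlgebra.antipodeAlgHom k A))

theorem postcomp_one (f : A →ₐ[k] T) :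
    toConv (f.comp (1 : WithConv (A →ₐ[k] A)).ofConv) = 1 :=
  WithConv.ofConv_injective (AlgHom.ext fun a => f.commutes _)

theorem mul_pinv (f : A →ₐ[k] T) : toConv f * pinv f = 1 := by
  have h := postcomp_mul f (toConv (AlgHom.id k A)) (toConv (AlgHom.id k A))⁻¹
  rw [mul_inv_cancel, postcomp_one, AlgHom.comp_id] at h
  exact h.symm

theorem pinv_mul (f : A →ₐ[k] T) : pinv f * toConv f = 1 := by
  have h := postcomp_mul f (toConv (AlgHom.id k A))⁻¹ (toConv (AlgHom.id k A))
  rw [inv_mul_cancel, postcomp_one, AlgHom.comp_id] at h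
  exact h.symm

theorem precomp_pinv {i₁ i₂ : A →ₐ[k] T} (h : ∀ b, i₁ (ψ b) = i₂ (ψ b)) :
    precomp ψ (pinv i₁) = precomp ψ (pinv i₂) :=
  WithConv.ofConv_injective (AlgHom.ext fun b => by
    change i₁ (HopfAlgebra.antipode k (ψ b)) = i₂ (HopfAlgebra.antipode k (ψ b))
    rw [← HopfKer.map_antipode]
    exact h _)

include hJ in
theorem lift_ratio (κ : WithConv (A →ₐ[k] T)) (hκ : precomp ψ κ = 1) :
    ∀ x ∈ J, κ.ofConv x = 0 := by
  subst hJ
  intro x hx
  induction hx using Submodule.span_induction with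
  | mem y hy =>
    obtain ⟨b, hb, rfl⟩ := hy
    have h1 : κ.ofConv (ψ b) = algebraMap k T (counit (R := k) b) :=
      congrArg (fun f : WithConv (B →ₐ[k] T) => f.ofConv b) hκ
    rw [show counit (R := k) b = 0 from hb, map_zero] at h1
    exact h1
  | zero => simp
  | add y z _ _ hy hz => rw [map_add, hy, hz, add_zero]
  | smul c y _ hy => rw [smul_eq_mul, map_mul, hy, mul_zero]

include hJ in
theorem eq_of_coinv_right (i₁ i₂ : A →ₐ[k] T) (h : ∀ b, i₁ (ψ b) = i₂ (ψ b)) {x : A}
    (hx : Algebra.TensorProduct.map (AlgHom.id k A) (Ideal.Quotient.mkₐ k J) (comul (R := k) x) =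
      x ⊗ₜ 1) : i₁ x = i₂ x := by
  let κ : WithConv (A →ₐ[k] T) := pinv i₁ * toConv i₂
  let κ' : A ⧸ J →ₐ[k] T := Ideal.Quotient.liftₐ J κ.ofConv
    (lift_ratio hJ κ (by rw [map_mul, precomp_pinv h, ← map_mul, pinv_mul, map_one]))
  have h1 : toConv i₁ * κ = toConv i₂ := by rw [← mul_assoc, mul_pinv, one_mul]
  have h2 : (toConv i₁ * κ).ofConv x = i₂ x := by rw [h1]
  have h3 : ∀ z, (Algebra.TensorProduct.lmul' k).comp (Algebra.TensorProduct.map i₁ κ.ofConv) z =
      (Algebra.TensorProduct.lmul' k).comp (Algebra.TensorProduct.map i₁ κ')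
        (Algebra.TensorProduct.map (AlgHom.id k A) (Ideal.Quotient.mkₐ k J) z) := by
    intro z
    induction z using TensorProduct.induction_on with
    | zero => simp
    | add p q hp hq => simp only [map_add, hp, hq]
    | tmul p q => simp [κ']
  refine Eq.trans ?_ h2
  change _ = (Algebra.TensorProduct.lmul' k).comp (Algebra.TensorProduct.map i₁ κ.ofConv) (comul (R := k) x)
  rw [h3, hx]
  simp

include hJ in
theorem eq_of_coinv_left (i₁ i₂ : A →ₐ[k] T) (h : ∀ b, i₁ (ψ b) = i₂ (ψ b)) {x : A}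
    (hx : Algebra.TensorProduct.map (Ideal.Quotient.mkₐ k J) (AlgHom.id k A) (comul (R := k) x) =
      1 ⊗ₜ x) : i₁ x = i₂ x := by
  let κ : WithConv (A →ₐ[k] T) := toConv i₁ * pinv i₂
  let κ' : A ⧸ J →ₐ[k] T := Ideal.Quotient.liftₐ J κ.ofConv
    (lift_ratio hJ κ (by rw [map_mul, ← precomp_pinv h, ← map_mul, mul_pinv, map_one]))
  have h1 : κ * toConv i₂ = toConv i₁ := by rw [mul_assoc, pinv_mul, mul_one]
  have h2 : (κ * toConv i₂).ofConv x = i₁ x := by rw [h1]
  have h3 : ∀ z, (Algebra.TensorProduct.lmul' k).comp (Algebra.TensorProduct.map κ.ofConv i₂) z =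
      (Algebra.TensorProduct.lmul' k).comp (Algebra.TensorProduct.map κ' i₂)
        (Algebra.TensorProduct.map (Ideal.Quotient.mkₐ k J) (AlgHom.id k A) z) := by
    intro z
    induction z using TensorProduct.induction_on with
    | zero => simp
    | add p q hp hq => simp only [map_add, hp, hq]
    | tmul p q => simp [κ']
  refine h2.symm.trans ?_
  change (Algebra.TensorProduct.lmul' k).comp (Algebra.TensorProduct.map κ.ofConv i₂) (comul (R := k) x) = _
  rw [h3, hx]
  simp

theorem mem_range_of_tmul (ψ : B →ₐc[k] A) {x : A}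
    (h : ∀ (T : Type u) [CommRing T] [Algebra k T] (i₁ i₂ : A →ₐ[k] T),
      (∀ b, i₁ (ψ b) = i₂ (ψ b)) → i₁ x = i₂ x) : ∃ b, ψ b = x := by
  let R := (ψ : B →ₐ[k] A).range
  haveI : Module.FaithfullyFlat R A := SubHopfFlat.faithfullyFlat_range ψ
  let i₁ : A →ₐ[k] A ⊗[R] A :=
    (Algebra.TensorProduct.includeLeft : A →ₐ[R] A ⊗[R] A).restrictScalars k
  let i₂ : A →ₐ[k] A ⊗[R] A :=
    (Algebra.TensorProduct.includeRight : A →ₐ[R] A ⊗[R] A).restrictScalars k
  have h12 : x ⊗ₜ[R] (1 : A) = (1 : A) ⊗ₜ[R] x := h _ i₁ i₂ fun b => by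
    let r : R := ⟨ψ b, b, rfl⟩
    change (algebraMap R A r) ⊗ₜ[R] (1 : A) = (1 : A) ⊗ₜ[R] (algebraMap R A r)
    rw [Algebra.algebraMap_eq_smul_one, TensorProduct.smul_tmul]
  let N : Submodule R A := Submodule.span R {1}
  have h2 : (1 : A) ⊗ₜ[R] N.mkQ x = 0 := by
    have := congrArg (N.mkQ.lTensor A) h12
    rw [LinearMap.lTensor_tmul, LinearMap.lTensor_tmul] at this
    rw [← this, Submodule.mkQ_apply, (Submodule.Quotient.mk_eq_zero N).2 (Submodule.subset_span rfl),
      TensorProduct.tmul_zero]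
  have h3 : N.mkQ x = 0 :=
    (Module.FaithfullyFlat.tensorProduct_mk_injective (A := R) (B := A) (A ⧸ N)) (by
      rw [TensorProduct.mk_apply, h2, map_zero])
  obtain ⟨⟨r, b, hb⟩, hr⟩ := Submodule.mem_span_singleton.1 ((Submodule.Quotient.mk_eq_zero N).1 h3)
  refine ⟨b, ?_⟩
  rw [← hr, Subalgebra.smul_def, smul_eq_mul, mul_one]
  exact hb

end Coinv

section Quot

variable {A B : Type u} [CommRing A] [HopfAlgebra k A] [CommRing B] [HopfAlgebra k B]
  {ψ : B →ₐc[k] A} {J : Ideal A}
  (hJ : J = Ideal.map (ψ : B →+* A) (RingHom.ker (Bialgebra.counitAlgHom k B)))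

include hJ in
theorem mk_ψ (b : B) :
    Ideal.Quotient.mkₐ k J (ψ b) = algebraMap k (A ⧸ J) (counit (R := k) b) := by
  rw [← sub_eq_zero, ← AlgHom.commutes (Ideal.Quotient.mkₐ k J), ← map_sub, Ideal.Quotient.mkₐ_eq_mk,
    Ideal.Quotient.eq_zero_iff_mem, hJ,
    show ψ b - algebraMap k A (counit (R := k) b) =
      (ψ : B →+* A) (b - algebraMap k B (counit (R := k) b)) by
        simp [AlgHomClass.commutes]]
  refine Ideal.mem_map_of_mem _ ?_
  simp [RingHom.mem_ker]

include hJ in
theorem left_ψ (b : B) :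
    Algebra.TensorProduct.map (Ideal.Quotient.mkₐ k J) (AlgHom.id k A) (comul (R := k) (ψ b)) =
      1 ⊗ₜ ψ b := by
  have h : ∀ z : B ⊗[k] B,
      Algebra.TensorProduct.map (Ideal.Quotient.mkₐ k J) (AlgHom.id k A)
        (TensorProduct.map (ψ : B →ₗ[k] A) (ψ : B →ₗ[k] A) z) =
      1 ⊗ₜ ψ (TensorProduct.lid k B ((counit (R := k) (A := B)).rTensor B z)) := by
    intro z
    induction z using TensorProduct.induction_on with
    | zero => simp
    | add p q hp hq => simp only [map_add, TensorProduct.tmul_add, hp, hq]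
    | tmul p q =>
      simp only [TensorProduct.map_tmul, Algebra.TensorProduct.map_tmul, LinearMap.rTensor_tmul,
        TensorProduct.lid_tmul, map_smul, TensorProduct.tmul_smul]
      rw [show (ψ : B →ₗ[k] A) p = ψ p from rfl, mk_ψ hJ, Algebra.algebraMap_eq_smul_one,
        TensorProduct.smul_tmul']
      rfl
  have hc := CoalgHomClass.map_comp_comul_apply ψ b
  rw [← hc, h, Coalgebra.rTensor_counit_comul, TensorProduct.lid_tmul, one_smul]

include hJ in
theorem ker_counit : ∀ x ∈ J, counit (R := k) x = 0 := by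
  subst hJ
  intro x hx
  have hle : Ideal.map (ψ : B →+* A) (RingHom.ker (Bialgebra.counitAlgHom k B)) ≤
      RingHom.ker (Bialgebra.counitAlgHom k A) := by
    rw [Ideal.map_le_iff_le_comap]
    intro b hb
    change counit (R := k) (ψ b) = 0
    rw [CoalgHomClass.counit_comp_apply]
    exact hb
  exact hle hx

include hJ in
theorem ker_delta : ∀ x ∈ J,
    (Algebra.TensorProduct.map (Ideal.Quotient.mkₐ k J) (Ideal.Quotient.mkₐ k J)).comp
      (Bialgebra.comulAlgHom k A) x = 0 := by
  intro x hx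
  have hle : J ≤ RingHom.ker ((Algebra.TensorProduct.map (Ideal.Quotient.mkₐ k J)
      (Ideal.Quotient.mkₐ k J)).comp (Bialgebra.comulAlgHom k A)) := by
    conv_lhs => rw [hJ]
    rw [Ideal.map_le_iff_le_comap]
    intro b hb
    change Algebra.TensorProduct.map (Ideal.Quotient.mkₐ k J) (Ideal.Quotient.mkₐ k J)
      (comul (R := k) (ψ b)) = 0
    have e : ∀ z, Algebra.TensorProduct.map (Ideal.Quotient.mkₐ k J) (Ideal.Quotient.mkₐ k J) z =
        Algebra.TensorProduct.map (AlgHom.id k (A ⧸ J)) (Ideal.Quotient.mkₐ k J)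
          (Algebra.TensorProduct.map (Ideal.Quotient.mkₐ k J) (AlgHom.id k A) z) := by
      intro z
      induction z using TensorProduct.induction_on with
      | zero => simp
      | add p q hp hq => simp only [map_add, hp, hq]
      | tmul p q => simp
    rw [e, left_ψ hJ, Algebra.TensorProduct.map_tmul, mk_ψ hJ, show counit (R := k) b = 0 from hb,
      map_zero, TensorProduct.tmul_zero]
  exact hle hx

/-- the counit of the kernel -/
def counitQ : A ⧸ J →ₐ[k] k := Ideal.Quotient.liftₐ J (Bialgebra.counitAlgHom k A) (ker_counit hJ)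

/-- the comultiplication of the kernel -/
def deltaQ : A ⧸ J →ₐ[k] (A ⧸ J) ⊗[k] (A ⧸ J) := Ideal.Quotient.liftₐ J
  ((Algebra.TensorProduct.map (Ideal.Quotient.mkₐ k J) (Ideal.Quotient.mkₐ k J)).comp
    (Bialgebra.comulAlgHom k A)) (ker_delta hJ)

end Quot

section Poly

variable {R : Type*} [CommRing R] [Algebra k R]

/-- an additive monomial -/
theorem smul_add_pow {c : k} {i : ℕ} (h0 : i = 0 → c = 0)
    (h : ∀ j, 0 < j → j < i → c * (i.choose j : k) = 0) (x y : R) :
    c • (x + y) ^ i = c • x ^ i + c • y ^ i := by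
  rcases Nat.eq_zero_or_pos i with rfl | hi
  · simp [h0 rfl]
  obtain ⟨i, rfl⟩ : ∃ i', i = i' + 1 := ⟨i - 1, by omega⟩
  rw [add_pow, Finset.sum_range_succ, Finset.sum_range_succ', smul_add, smul_add, Finset.smul_sum]
  rw [Finset.sum_eq_zero fun j hj => ?_, zero_add, add_comm]
  · simp
  · have hj' := Finset.mem_range.1 hj
    rw [← nsmul_eq_mul', ← Nat.cast_smul_eq_nsmul k, smul_smul,
      h (j + 1) (by omega) (by omega), zero_smul]

end Poly

section Crossed

variable {A B : Type u} [CommRing A] [HopfAlgebra k A] [CommRing B] [HopfAlgebra k B]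
  {ψ : B →ₐc[k] A} {J : Ideal A}
  (hJ : J = Ideal.map (ψ : B →+* A) (RingHom.ker (Bialgebra.counitAlgHom k B)))
  {M : Type u} [CommGroup M] {μ : M →* A} (hμ : ∀ m, IsGroupLikeElem k (μ m))
  (hli : LinearIndependent k μ) (hspan : ∀ b, ψ b ∈ Submodule.span k (Set.range μ))
  (hμψ : ∀ m, ∃ b, ψ b = μ m)

local notation "π" => Ideal.Quotient.mkₐ k J
local notation "Φ" => Algebra.TensorProduct.map (Ideal.Quotient.mkₐ k J) (AlgHom.id k A)

theorem lslice_term {Q : Type u} [CommRing Q] [Algebra k Q] (l : Q →ₗ[k] k) (q : Q) (x y : A)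
    (t s n : ℕ) :
    lslice l (((1 : Q) ⊗ₜ[k] x) * ((q ⊗ₜ[k] (1 : A)) ^ t * ((1 : Q) ⊗ₜ[k] y) ^ s * (n : Q ⊗[k] A))) =
      n • (l (q ^ t) • (x * y ^ s)) := by
  rw [Algebra.TensorProduct.tmul_pow, Algebra.TensorProduct.tmul_pow, one_pow, one_pow,
    Algebra.TensorProduct.tmul_mul_tmul, mul_one, one_mul, ← nsmul_eq_mul', mul_smul_comm,
    Algebra.TensorProduct.tmul_mul_tmul, one_mul, map_nsmul, lslice_tmul]

include hJ in
/-- The powers of a lift of an independent primitive family are independent over the quotient. -/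
theorem indep {g : A} (hg : Φ (comul (R := k) g) = π g ⊗ₜ 1 + 1 ⊗ₜ g) : ∀ d : ℕ,
    LinearIndependent k (fun i : Fin d => π g ^ (i : ℕ)) → ∀ b : ℕ → B,
      ∑ i ∈ Finset.range d, ψ (b i) * g ^ i = 0 → ∀ i < d, ψ (b i) = 0
  | 0, _, _, _, _, hi => by omega
  | d + 1, hd, b, hsum, i, hi => by
    classical
    have hd' : LinearIndependent k (fun i : Fin d => π g ^ (i : ℕ)) :=
      hd.comp Fin.castSucc (Fin.castSucc_injective d)
    obtain ⟨l, hl⟩ := exists_dual hd (Fin.last d)
    have hl' : ∀ j, j ≤ d → l (π g ^ j) = if j = d then 1 else 0 := by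
      intro j hj
      refine (hl ⟨j, by omega⟩).trans ?_
      simp [Fin.ext_iff]
    have htop : ψ (b d) = 0 := by
      have h1 := congrArg (fun y => lslice l (Φ (Bialgebra.comulAlgHom k A y))) hsum
      simp only [map_zero, map_sum, map_mul, map_pow] at h1
      have hterm : ∀ j, lslice l (Φ (Bialgebra.comulAlgHom k A (ψ (b j))) *
          Φ (Bialgebra.comulAlgHom k A g) ^ j) =
          ∑ t ∈ Finset.range (j + 1), (j.choose t) • (l (π g ^ t) • (ψ (b j) * g ^ (j - t))) := by
        intro j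
        rw [show Φ (Bialgebra.comulAlgHom k A (ψ (b j))) = 1 ⊗ₜ ψ (b j) from left_ψ hJ (b j),
          show Φ (Bialgebra.comulAlgHom k A g) = _ from hg, add_pow, Finset.mul_sum, map_sum]
        exact Finset.sum_congr rfl fun t _ => lslice_term l _ _ _ _ _ _
      simp only [hterm] at h1
      rw [Finset.sum_eq_single_of_mem d (Finset.self_mem_range_succ d) ?_,
        Finset.sum_eq_single_of_mem d (Finset.self_mem_range_succ d) ?_, hl' d le_rfl, if_pos rfl,
        Nat.choose_self, one_smul, one_smul, Nat.sub_self, pow_zero, mul_one] at h1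
      · exact h1
      · intro t ht htd
        have ht' := Finset.mem_range.1 ht
        rw [hl' t (by omega), if_neg htd, zero_smul, smul_zero]
      · intro j hj hjd
        have hj' := Finset.mem_range.1 hj
        refine Finset.sum_eq_zero fun t ht => ?_
        have ht' := Finset.mem_range.1 ht
        rw [hl' t (by omega), if_neg (by omega), zero_smul, smul_zero]
    rcases eq_or_ne i d with rfl | hid
    · exact htop
    · refine indep hg d hd' b ?_ i (by omega)
      rwa [Finset.sum_range_succ, htop, zero_mul, add_zero] at hsum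

include hJ in
/-- A relation of least degree satisfied by a primitive element is additive. -/
theorem additive {g : A} (hg : deltaQ hJ (π g) = π g ⊗ₜ 1 + 1 ⊗ₜ π g) {d : ℕ} (p : ℕ → k)
    (hd : LinearIndependent k (fun i : Fin d => π g ^ (i : ℕ)))
    (hp : ∑ i ∈ Finset.range (d + 1), p i • π g ^ i = 0) :
    ∀ i ≤ d, ∀ j, 0 < j → j < i → p i * (i.choose j : k) = 0 := by
  classical
  intro i hi j hj hji
  obtain ⟨l₁, hl₁⟩ := exists_dual hd ⟨j, by omega⟩
  obtain ⟨l₂, hl₂⟩ := exists_dual hd ⟨i - j, by omega⟩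
  have hl₁' : ∀ t, t < d → l₁ (π g ^ t) = if t = j then 1 else 0 := fun t ht =>
    (hl₁ ⟨t, ht⟩).trans (by simp [Fin.ext_iff])
  have hl₂' : ∀ t, t < d → l₂ (π g ^ t) = if t = i - j then 1 else 0 := fun t ht =>
    (hl₂ ⟨t, ht⟩).trans (by simp [Fin.ext_iff])
  let L : (A ⧸ J) ⊗[k] (A ⧸ J) →ₗ[k] k := LinearMap.mul' k k ∘ₗ TensorProduct.map l₁ l₂
  have hL : ∀ a b, L (a ⊗ₜ b) = l₁ a * l₂ b := fun a b => by simp [L]
  have key : ∀ n t, n ≤ d → t ≤ n → L ((π g ^ t) ⊗ₜ (π g ^ (n - t))) =
      if t = j ∧ n = i then 1 else 0 := by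
    intro n t hn ht
    rw [hL]
    by_cases ht' : t < d
    · rw [hl₁' t ht']
      by_cases hnt : n - t < d
      · rw [hl₂' _ hnt]
        split_ifs <;> first | (exfalso; omega) | simp
      · rw [if_neg (by omega : ¬ t = j), zero_mul, if_neg (by omega)]
    · have h2 : n - t = 0 := by omega
      rw [h2, hl₂' 0 (by omega), if_neg (by omega), mul_zero, if_neg (by omega)]
  have h1 := congrArg (fun y => L (deltaQ hJ y)) hp
  simp only [map_zero, map_sum, map_smul, map_pow, hg] at h1
  rw [Finset.sum_eq_single_of_mem i (Finset.mem_range.2 (by omega)) ?_] at h1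
  · rw [add_pow, map_sum, Finset.sum_eq_single_of_mem j (Finset.mem_range.2 (by omega)) ?_] at h1
    · rw [← nsmul_eq_mul', map_nsmul, Algebra.TensorProduct.tmul_pow, Algebra.TensorProduct.tmul_pow,
        Algebra.TensorProduct.tmul_mul_tmul, one_pow, one_pow, mul_one, one_mul, key i j hi hji.le,
        if_pos ⟨rfl, rfl⟩] at h1
      simpa using h1
    · intro t ht htj
      have ht' := Finset.mem_range.1 ht
      rw [← nsmul_eq_mul', map_nsmul, Algebra.TensorProduct.tmul_pow, Algebra.TensorProduct.tmul_pow,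
        Algebra.TensorProduct.tmul_mul_tmul, one_pow, one_pow, mul_one, one_mul, key i t hi (by omega),
        if_neg (fun h => htj h.1), smul_zero]
  · intro n hn hni
    have hn' := Finset.mem_range.1 hn
    rw [add_pow, map_sum, Finset.sum_eq_zero, smul_zero]
    intro t ht
    have ht' := Finset.mem_range.1 ht
    rw [← nsmul_eq_mul', map_nsmul, Algebra.TensorProduct.tmul_pow, Algebra.TensorProduct.tmul_pow,
      Algebra.TensorProduct.tmul_mul_tmul, one_pow, one_pow, mul_one, one_mul,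
      key n t (by omega) (by omega), if_neg (fun h => hni h.2), smul_zero]

include hμ in
open Classical in
theorem lslice_span (φ : A →ₗ[k] k) {m : M} (hφ : ∀ n, φ (μ n) = if n = m then 1 else 0) {x : A}
    (hx : x ∈ Submodule.span k (Set.range μ)) : lslice φ (comul (R := k) x) = φ x • μ m := by
  classical
  induction hx using Submodule.span_induction with
  | mem y hy =>
    obtain ⟨n, rfl⟩ := hy
    rw [(hμ n).comul_eq_tmul_self, lslice_tmul, hφ]
    split_ifs with h
    · rw [h]
    · simp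
  | zero => simp
  | add y z _ _ hy hz => rw [map_add, map_add, map_add, add_smul, hy, hz]
  | smul c y _ hy => rw [map_smul, map_smul, map_smul, smul_assoc, hy]

include hμ in
theorem crossed_add {χ : M} {g : A} (hg : comul (R := k) g = g ⊗ₜ 1 + μ χ ⊗ₜ g) (z : k) :
    comul (R := k) (g + z • (μ χ - 1)) =
      (g + z • (μ χ - 1)) ⊗ₜ 1 + μ χ ⊗ₜ (g + z • (μ χ - 1)) := by
  rw [map_add, map_smul, map_sub, hg, (hμ χ).comul_eq_tmul_self, Bialgebra.comul_one]
  simp only [Algebra.TensorProduct.one_def, TensorProduct.add_tmul, TensorProduct.tmul_add,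
    TensorProduct.tmul_sub, TensorProduct.sub_tmul, ← TensorProduct.smul_tmul',
    TensorProduct.tmul_smul, smul_sub]
  abel

include hμ hμψ hJ in
theorem mk_μ (m : M) : π (μ m) = 1 := by
  obtain ⟨b, hb⟩ := hμψ m
  have he : counit (R := k) b = 1 := by
    rw [← CoalgHomClass.counit_comp_apply ψ b, hb]
    exact (hμ m).counit_eq_one
  rw [← hb, mk_ψ hJ, he, map_one]

include hμ in
theorem nontrivial_of_grouplike : Nontrivial A := by
  by_contra h
  rw [not_nontrivial_iff_subsingleton] at h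
  exact (hμ 1).ne_zero (Subsingleton.elim _ _)

include hμ in
theorem counit_crossed {χ : M} {g : A} (hg : comul (R := k) g = g ⊗ₜ 1 + μ χ ⊗ₜ g) :
    counit (R := k) g = 0 := by
  haveI := nontrivial_of_grouplike hμ
  have h := Coalgebra.rTensor_counit_comul (R := k) g
  rw [hg, map_add, LinearMap.rTensor_tmul, LinearMap.rTensor_tmul, (hμ χ).counit_eq_one] at h
  have h' := congrArg (TensorProduct.lid k A) h
  simp only [map_add, TensorProduct.lid_tmul, one_smul] at h'
  exact (smul_eq_zero.1 (add_right_cancel (h'.trans (zero_add g).symm))).resolve_right one_ne_zero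

include hμ hμψ hJ in
theorem mk_crossed_add (χ : M) (g : A) (z : k) : π (g + z • (μ χ - 1)) = π g := by
  rw [map_add, map_smul, map_sub, mk_μ hJ hμ hμψ, map_one, sub_self, smul_zero, add_zero]

include hμ hμψ hJ in
theorem left_crossed {χ : M} {g : A} (hg : comul (R := k) g = g ⊗ₜ 1 + μ χ ⊗ₜ g) :
    Φ (comul (R := k) g) = π g ⊗ₜ 1 + 1 ⊗ₜ g := by
  rw [hg, map_add, Algebra.TensorProduct.map_tmul, Algebra.TensorProduct.map_tmul, mk_μ hJ hμ hμψ,
    map_one]
  rfl

include hJ hμ hli hspan hμψ in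
/-- The least relation satisfied by a crossed homomorphism is additive. -/
theorem exists_relation {χ : M} {g : A} (hg : comul (R := k) g = g ⊗ₜ 1 + μ χ ⊗ₜ g)
    (hall : ¬ ∀ d, LinearIndependent k (fun i : Fin d => π g ^ (i : ℕ))) :
    ∃ (d : ℕ) (p : ℕ → k) (a : k), d ≠ 0 ∧ LinearIndependent k (fun i : Fin d => π g ^ (i : ℕ)) ∧
      p d = 1 ∧ p 0 = 0 ∧ ∑ i ∈ Finset.range (d + 1), p i • π g ^ i = 0 ∧
      (∀ i ≤ d, ∀ j, 0 < j → j < i → p i * (i.choose j : k) = 0) ∧
      (∀ i ≤ d, p i • μ χ ^ i = p i • μ χ ^ d) ∧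
      ∑ i ∈ Finset.range (d + 1), p i • g ^ i = a • (μ χ ^ d - 1) := by
  classical
  haveI := nontrivial_of_grouplike hμ
  have hπμ := mk_μ hJ hμ hμψ
  have hεg := counit_crossed hμ hg
  have hg0 := left_crossed hJ hμ hμψ hg
  obtain ⟨d, hd, hnd⟩ : ∃ d, LinearIndependent k (fun i : Fin d => π g ^ (i : ℕ)) ∧
      ¬ LinearIndependent k (fun i : Fin (d + 1) => π g ^ (i : ℕ)) := by
    have hex := not_forall.1 hall
    have h0 : Nat.find hex ≠ 0 := fun h => by
      have := Nat.find_spec hex
      rw [h] at this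
      exact this linearIndependent_empty_type
    obtain ⟨d, hd⟩ := Nat.exists_eq_succ_of_ne_zero h0
    refine ⟨d, not_not.1 (Nat.find_min hex (by omega)), ?_⟩
    have := Nat.find_spec hex
    rwa [hd] at this
  have hd0 : d ≠ 0 := by
    rintro rfl
    refine hnd (linearIndependent_finSucc'.2 ⟨linearIndependent_empty_type, fun h => ?_⟩)
    rw [Set.range_eq_empty, Submodule.span_empty, Submodule.mem_bot] at h
    have := congrArg (counitQ hJ) h
    simp at this
  obtain ⟨p, hpd, hp⟩ : ∃ p : ℕ → k, p d = 1 ∧ ∑ i ∈ Finset.range (d + 1), p i • π g ^ i = 0 := by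
    have hmem : π g ^ d ∈ Submodule.span k (Set.range fun i : Fin d => π g ^ (i : ℕ)) := by
      by_contra h
      exact hnd (linearIndependent_finSucc'.2 ⟨hd, h⟩)
    obtain ⟨c, hc⟩ := (Submodule.mem_span_range_iff_exists_fun k).1 hmem
    refine ⟨fun i => if h : i < d then - c ⟨i, h⟩ else 1, by simp, ?_⟩
    rw [Finset.sum_range_succ, Finset.sum_range]
    simp only [Fin.is_lt, ↓reduceDIte, lt_irrefl, one_smul, ← hc, ← Finset.sum_add_distrib]
    exact Finset.sum_eq_zero fun i _ => by simp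
  have hεQ : counitQ hJ (π g) = 0 := hεg
  have hp0 : p 0 = 0 := by
    have h := congrArg (counitQ hJ) hp
    rw [map_zero, map_sum, Finset.sum_eq_single_of_mem 0 (by simp) fun i _ hi => by
      rw [map_smul, map_pow, hεQ, zero_pow hi, smul_zero]] at h
    simpa using h
  have hδ : deltaQ hJ (π g) = π g ⊗ₜ 1 + 1 ⊗ₜ π g := by
    change Algebra.TensorProduct.map π π (comul (R := k) g) = _
    rw [hg, map_add, Algebra.TensorProduct.map_tmul, Algebra.TensorProduct.map_tmul, hπμ, map_one]
  have hadd := additive hJ hδ p hd hp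
  have hterm : ∀ {S : Type u} [CommRing S] [Algebra k S] (i : ℕ), i ≤ d → ∀ x y : S,
      p i • (x + y) ^ i = p i • x ^ i + p i • y ^ i := fun i hi x y =>
    smul_add_pow (fun h => h ▸ hp0) (hadd i hi) x y
  have hPadd : ∀ {S : Type u} [CommRing S] [Algebra k S] (x y : S),
      ∑ i ∈ Finset.range (d + 1), p i • (x + y) ^ i =
        (∑ i ∈ Finset.range (d + 1), p i • x ^ i) + ∑ i ∈ Finset.range (d + 1), p i • y ^ i := by
    intro S _ _ x y
    rw [← Finset.sum_add_distrib]
    exact Finset.sum_congr rfl fun i hi => hterm i (Nat.lt_succ_iff.1 (Finset.mem_range.1 hi)) x y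
  set c := ∑ i ∈ Finset.range (d + 1), p i • g ^ i with hc
  obtain ⟨bc, hbc⟩ : ∃ b, ψ b = c := by
    refine mem_range_of_tmul ψ fun T _ _ i₁ i₂ h12 => eq_of_coinv_left hJ i₁ i₂ h12 ?_
    change Φ (Bialgebra.comulAlgHom k A c) = _
    simp only [hc, map_sum, map_smul, map_pow]
    rw [show Φ (Bialgebra.comulAlgHom k A g) = π g ⊗ₜ[k] (1 : A) + (1 : A ⧸ J) ⊗ₜ[k] g from hg0, hPadd]
    have e1 : ∀ i : ℕ, p i • ((π g ⊗ₜ[k] (1 : A)) ^ i) = (p i • π g ^ i) ⊗ₜ 1 := fun i => by
      rw [Algebra.TensorProduct.tmul_pow, one_pow, TensorProduct.smul_tmul']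
    have e2 : ∀ i : ℕ, p i • (((1 : A ⧸ J) ⊗ₜ[k] g) ^ i) = (1 : A ⧸ J) ⊗ₜ (p i • g ^ i) := fun i => by
      rw [Algebra.TensorProduct.tmul_pow, one_pow, TensorProduct.tmul_smul]
    simp only [e1, e2, ← TensorProduct.sum_tmul, ← TensorProduct.tmul_sum, hp, TensorProduct.zero_tmul,
      zero_add]
  have hcsp : c ∈ Submodule.span k (Set.range μ) := hbc ▸ hspan bc
  let u : ℕ → A := fun i => p i • (μ χ ^ i - μ χ ^ d)
  have hΔc : comul (R := k) c = c ⊗ₜ 1 + (μ χ ^ d) ⊗ₜ[k] c + ∑ i ∈ Finset.range (d + 1), u i ⊗ₜ[k] (g ^ i) := by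
    change Bialgebra.comulAlgHom k A c = _
    simp only [hc, map_sum, map_smul, map_pow]
    rw [show Bialgebra.comulAlgHom k A g = g ⊗ₜ[k] (1 : A) + μ χ ⊗ₜ[k] g from hg, hPadd]
    simp only [u, Algebra.TensorProduct.tmul_pow, one_pow, TensorProduct.sum_tmul, TensorProduct.tmul_sum,
      ← TensorProduct.smul_tmul', TensorProduct.tmul_smul, TensorProduct.sub_tmul, smul_sub,
      Finset.sum_sub_distrib]
    abel
  have hu : ∀ i, i < d → u i = 0 := by
    intro i hi
    rcases Nat.eq_zero_or_pos i with rfl | hi0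
    · simp [u, hp0]
    refine (Module.forall_dual_apply_eq_zero_iff k _).1 fun φ => ?_
    obtain ⟨b', hb'⟩ : ∃ b', ψ b' = lslice φ (comul (R := k) c) := by
      rw [← hbc, ← CoalgHomClass.map_comp_comul_apply ψ bc]
      refine ⟨lslice (φ ∘ₗ (ψ : B →ₗ[k] A)) (comul (R := k) bc), ?_⟩
      generalize comul (R := k) bc = w
      induction w using TensorProduct.induction_on with
      | zero => simp
      | add x y hx hy => simp only [map_add, hx, hy]
      | tmul x y => simp
    obtain ⟨bχ, hbχ⟩ := hμψ χ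
    rw [hΔc] at hb'
    simp only [map_add, map_sum, lslice_tmul] at hb'
    let bs : ℕ → B := fun t => if t = 0 then φ c • 1 + φ (μ χ ^ d) • bc - b' else φ (u t) • 1
    have hsum : ∑ t ∈ Finset.range d, ψ (bs t) * g ^ t = 0 := by
      have hud : u d = 0 := by simp [u]
      have hu0 : u 0 = 0 := by simp [u, hp0]
      obtain ⟨d', rfl⟩ := Nat.exists_eq_succ_of_ne_zero hd0
      rw [Finset.sum_range_succ, Finset.sum_range_succ', hu0, hud] at hb'
      rw [Finset.sum_range_succ']
      simp [bs, map_smul, hbc, hb'] at hb' ⊢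
    have := indep hJ hg0 d hd bs hsum i hi
    simpa [bs, hi0.ne', map_smul] using this
  have hΔc' : comul (R := k) c = c ⊗ₜ 1 + (μ χ ^ d) ⊗ₜ[k] c := by
    rw [hΔc, Finset.sum_eq_zero fun i hi => ?_, add_zero]
    rcases lt_or_eq_of_le (Nat.lt_succ_iff.1 (Finset.mem_range.1 hi)) with h | rfl
    · rw [hu i h, TensorProduct.zero_tmul]
    · simp [u]
  obtain ⟨φ, hφ⟩ := exists_dual hli (χ ^ d)
  set a := φ c with ha
  have hca : c = a • (μ χ ^ d - 1) := by
    have h := lslice_span hμ φ hφ hcsp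
    rw [hΔc', map_add, lslice_tmul, lslice_tmul, ← map_pow, hφ, if_pos rfl, one_smul] at h
    rw [smul_sub, ← map_pow]
    exact eq_sub_of_add_eq ((add_comm _ _).trans h)
  refine ⟨d, p, a, hd0, hd, hpd, hp0, hp, hadd, fun i hi => ?_, hc ▸ hca⟩
  rcases lt_or_eq_of_le hi with hlt | rfl
  · exact sub_eq_zero.1 ((smul_sub _ _ _).symm.trans (hu i hlt))
  · rfl

include hJ hμ hli hspan hμψ in
/-- A crossed homomorphism can be changed by a coboundary so that its zero locus surjects. -/
theorem exists_coboundary [IsAlgClosed k] (χ : M) (g : A)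
    (hg : comul (R := k) g = g ⊗ₜ 1 + μ χ ⊗ₜ g) :
    ∃ z : k, ∀ b : B, ψ b ∈ Ideal.span {g + z • (μ χ - 1)} → ψ b = 0 := by
  classical
  haveI := nontrivial_of_grouplike hμ
  have hg0 := left_crossed hJ hμ hμψ hg
  by_cases hall : ∀ d, LinearIndependent k (fun i : Fin d => π g ^ (i : ℕ))
  · refine ⟨0, fun b hb => ?_⟩
    rw [zero_smul, add_zero] at hb
    let C : Subalgebra k A := Algebra.adjoin k (Set.range μ ∪ {g})
    have hgC : g ∈ C := Algebra.subset_adjoin (Or.inr rfl)
    have hμC : ∀ m, μ m ∈ C := fun m => Algebra.subset_adjoin (Or.inl ⟨m, rfl⟩)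
    haveI : Module.FaithfullyFlat C A := by
      refine SubHopfFlat.faithfullyFlat C (fun y hy => ?_) (fun y hy => ?_)
      · have hle : C ≤ (Algebra.TensorProduct.map C.val C.val).range.comap
            (Bialgebra.comulAlgHom k A) := by
          refine Algebra.adjoin_le ?_
          rintro y (⟨m, rfl⟩ | rfl)
          · exact ⟨(⟨μ m, hμC m⟩ : C) ⊗ₜ ⟨μ m, hμC m⟩, (hμ m).comul_eq_tmul_self.symm⟩
          · exact ⟨(⟨y, hgC⟩ : C) ⊗ₜ 1 + (⟨μ χ, hμC χ⟩ : C) ⊗ₜ ⟨y, hgC⟩, by
              change _ = comul (R := k) y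
              rw [hg, map_add]
              rfl⟩
        exact hle hy
      · have hle : C ≤ C.comap (HopfAlgebra.antipodeAlgHom k A) := by
          refine Algebra.adjoin_le ?_
          rintro y (⟨m, rfl⟩ | rfl)
          · have : HopfAlgebra.antipode k (μ m) = μ m⁻¹ := by
              refine left_inv_eq_right_inv (hμ m).antipode_mul_cancel ?_
              rw [← map_mul, mul_inv_cancel, map_one]
            change HopfAlgebra.antipode k (μ m) ∈ C
            exact this ▸ hμC _
          · change HopfAlgebra.antipode k y ∈ C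
            have h := HopfAlgebra.mul_antipode_rTensor_comul_apply (R := k) y
            rw [hg, map_add, map_add, LinearMap.rTensor_tmul, LinearMap.rTensor_tmul,
              LinearMap.mul'_apply, LinearMap.mul'_apply, mul_one, counit_crossed hμ hg, map_zero] at h
            rw [eq_neg_of_add_eq_zero_left h]
            refine neg_mem (mul_mem ?_ hgC)
            have : HopfAlgebra.antipode k (μ χ) = μ χ⁻¹ := by
              refine left_inv_eq_right_inv (hμ χ).antipode_mul_cancel ?_
              rw [← map_mul, mul_inv_cancel, map_one]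
            exact this ▸ hμC _
        exact hle hy
    have hψC : ψ b ∈ C := (Submodule.span_le.2 (by rintro _ ⟨m, rfl⟩; exact hμC m) :
      Submodule.span k (Set.range μ) ≤ Subalgebra.toSubmodule C) (hspan b)
    have hmem : (⟨ψ b, hψC⟩ : C) ∈ Ideal.span {(⟨g, hgC⟩ : C)} := by
      rw [← Ideal.comap_map_eq_self_of_faithfullyFlat (B := A) (Ideal.span {(⟨g, hgC⟩ : C)}),
        Ideal.mem_comap, Ideal.map_span, Set.image_singleton]
      exact hb
    obtain ⟨y, hy⟩ := Ideal.mem_span_singleton'.1 hmem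
    obtain ⟨f, hf⟩ : ∃ f : Polynomial B, Polynomial.eval₂ (ψ : B →+* A) g f = (y : A) := by
      have hy2 := y.2
      generalize (y : A) = y' at hy2
      induction hy2 using Algebra.adjoin_induction with
      | mem x hx =>
        rcases hx with ⟨m, rfl⟩ | rfl
        · obtain ⟨c, hc⟩ := hμψ m
          exact ⟨Polynomial.C c, by rw [Polynomial.eval₂_C]; exact hc⟩
        · exact ⟨Polynomial.X, Polynomial.eval₂_X _ _⟩
      | algebraMap r => exact ⟨Polynomial.C (algebraMap k B r), by simp [AlgHomClass.commutes]⟩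
      | add x x' _ _ hx hx' =>
        obtain ⟨f, rfl⟩ := hx; obtain ⟨f', rfl⟩ := hx'
        exact ⟨f + f', Polynomial.eval₂_add _ _⟩
      | mul x x' _ _ hx hx' =>
        obtain ⟨f, rfl⟩ := hx; obtain ⟨f', rfl⟩ := hx'
        exact ⟨f * f', Polynomial.eval₂_mul _ _⟩
    let F : Polynomial B := f * Polynomial.X - Polynomial.C b
    have hF : ∑ i ∈ Finset.range (F.natDegree + 1), ψ (F.coeff i) * g ^ i = 0 := by
      have h0 : Polynomial.eval₂ (ψ : B →+* A) g F = 0 := by
        simp [F, hf]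
        exact sub_eq_zero.2 (congrArg Subtype.val hy)
      rw [Polynomial.eval₂_eq_sum_range] at h0
      exact h0
    have h0 := indep hJ hg0 _ (hall _) F.coeff hF 0 (by omega)
    simpa [F] using h0
  · obtain ⟨d, p, a, hd0, hd, hpd, hp0, hp, hadd, hpow, hca⟩ :=
      exists_relation hJ hμ hli hspan hμψ hg hall
    have hterm : ∀ (i : ℕ), i ≤ d → ∀ x y : A, p i • (x + y) ^ i = p i • x ^ i + p i • y ^ i :=
      fun i hi x y => smul_add_pow (fun h => h ▸ hp0) (hadd i hi) x y
    have hPadd : ∀ x y : A, ∑ i ∈ Finset.range (d + 1), p i • (x + y) ^ i =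
        (∑ i ∈ Finset.range (d + 1), p i • x ^ i) + ∑ i ∈ Finset.range (d + 1), p i • y ^ i := by
      intro x y
      rw [← Finset.sum_add_distrib]
      exact Finset.sum_congr rfl fun i hi => hterm i (Nat.lt_succ_iff.1 (Finset.mem_range.1 hi)) x y
    obtain ⟨z, hz⟩ : ∃ z : k, a + ∑ i ∈ Finset.range (d + 1), p i * z ^ i = 0 := by
      let q : Polynomial k :=
        Polynomial.C a + ∑ i ∈ Finset.range (d + 1), Polynomial.C (p i) * Polynomial.X ^ i
      have hq : q.coeff d = 1 := by
        simp [q, Polynomial.coeff_C_ne_zero hd0, Polynomial.finset_sum_coeff, Polynomial.coeff_X_pow, hpd]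
      have hdeg : q.degree ≠ 0 := fun h => by
        rw [Polynomial.eq_C_of_degree_eq_zero h, Polynomial.coeff_C_ne_zero hd0] at hq
        exact zero_ne_one hq
      obtain ⟨z, hz⟩ := IsAlgClosed.exists_root q hdeg
      exact ⟨z, by simpa [q, Polynomial.eval_finset_sum] using hz⟩
    refine ⟨z, fun b hb => ?_⟩
    set g' := g + z • (μ χ - 1) with hg'
    have hPg' : ∑ i ∈ Finset.range (d + 1), p i • g' ^ i = 0 := by
      have hsm : ∀ i ∈ Finset.range (d + 1),
          p i • (z • (μ χ - 1)) ^ i = (p i * z ^ i) • (μ χ ^ d - 1) := by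
        intro i hi
        have hid := Nat.lt_succ_iff.1 (Finset.mem_range.1 hi)
        rcases Nat.eq_zero_or_pos i with rfl | hi0
        · simp [hp0]
        have h2 : p i • (μ χ - 1) ^ i = p i • (μ χ ^ d - 1) := by
          have h := hterm i hid (μ χ - 1) (1 : A)
          rw [sub_add_cancel, one_pow] at h
          have h3 : p i • μ χ ^ i = p i • μ χ ^ d := hpow i hid
          rw [smul_sub, ← h3, h, add_sub_cancel_right]
        rw [smul_pow, smul_comm, h2, smul_smul, mul_comm]
      rw [hPadd, Finset.sum_congr rfl hsm, ← Finset.sum_smul, hca, ← add_smul, hz, zero_smul]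
    obtain ⟨x, hx⟩ := Ideal.mem_span_singleton'.1 hb
    let bs : ℕ → B := fun t => p (t + 1) • b
    have hsum : ∑ t ∈ Finset.range d, ψ (bs t) * g' ^ t = 0 := by
      have hq : g' * ∑ t ∈ Finset.range d, p (t + 1) • g' ^ t = 0 := by
        rw [Finset.mul_sum, ← hPg', Finset.sum_range_succ', hp0, zero_smul, add_zero]
        exact Finset.sum_congr rfl fun t _ => by rw [mul_smul_comm, pow_succ']
      calc ∑ t ∈ Finset.range d, ψ (bs t) * g' ^ t
          = ψ b * ∑ t ∈ Finset.range d, p (t + 1) • g' ^ t := by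
            rw [Finset.mul_sum]
            exact Finset.sum_congr rfl fun t _ => by
              simp [bs, map_smul]
        _ = 0 := by rw [← hx, mul_assoc, hq, mul_zero]
    have hπg' : π g' = π g := mk_crossed_add hJ hμ hμψ χ g z
    have hg'c : comul (R := k) g' = g' ⊗ₜ 1 + μ χ ⊗ₜ g' := crossed_add hμ hg z
    have := indep hJ (left_crossed hJ hμ hμψ hg'c) d (by rw [hπg']; exact hd) bs hsum (d - 1) (by omega)
    simpa [bs, Nat.sub_add_cancel (Nat.pos_of_ne_zero hd0), hpd] using this

end Crossed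

section Split

variable {A B : Type u} [CommRing A] [HopfAlgebra k A] [CommRing B] [HopfAlgebra k B]
  {ψ : B →ₐc[k] A} {J : Ideal A} [J.IsHopfIdeal k]
  (hJ : J = Ideal.map (ψ : B →+* A) (RingHom.ker (Bialgebra.counitAlgHom k B)))
  {M : Type u} [CommGroup M] {μ : M →* A} (hμ : ∀ m, IsGroupLikeElem k (μ m))
  (hli : LinearIndependent k μ) (hspan : ∀ b, ψ b ∈ Submodule.span k (Set.range μ))
  (hμψ : ∀ m, ∃ b, ψ b = μ m)

include hJ hμ hli hspan hμψ in
/-- A nonzero representation contains a character of the quotient. -/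
theorem exists_eigen (hU : HopfRep.IsUnipotent k (A ⧸ J)) (V : Type u) [AddCommGroup V] [Module k V]
    [HopfRep.Comod k A V] [Module.Finite k V] [Nontrivial V] :
    ∃ (m : M) (v : V), v ≠ 0 ∧ HopfRep.Comod.coact (k := k) (A := A) v = v ⊗ₜ μ m := by
  classical
  let i : A →ₐc[k] A ⧸ J := Bialgebra.Quotient.mkBialgHom J
  let cQ : HopfRep.Comod k (A ⧸ J) V :=
    ComodLib.pushComod (i : A →ₗc[k] A ⧸ J) (inferInstance : HopfRep.Comod k A V)
  obtain ⟨w, hw, hw0⟩ :=
    (Submodule.ne_bot_iff _).1 (@hU V _ _ cQ ‹_› ‹_›)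
  set ρ := HopfRep.Comod.coact (k := k) (A := A) (V := V) with hρ
  have hwfix : (Ideal.Quotient.mkₐ k J).toLinearMap.lTensor V (ρ w) = w ⊗ₜ 1 := hw
  have hcoinv : ∀ α : V →ₗ[k] k, lslice α (ρ w) ∈ Submodule.span k (Set.range μ) := by
    intro α
    have hx : Algebra.TensorProduct.map (AlgHom.id k A) (Ideal.Quotient.mkₐ k J)
        (comul (R := k) (lslice α (ρ w))) = lslice α (ρ w) ⊗ₜ 1 := by
      let πl : A →ₗ[k] A ⧸ J := (Ideal.Quotient.mkₐ k J).toLinearMap
      have h1 : ∀ z : V ⊗[k] A, LinearMap.lTensor A πl (comul (R := k) (lslice α z)) =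
          lslice α (LinearMap.lTensor V (LinearMap.lTensor A πl)
            (LinearMap.lTensor V (comul (R := k) (A := A)) z)) := by
        intro z
        rw [lslice_lTensor, lslice_lTensor]
      have h2 : ∀ z : V ⊗[k] A, LinearMap.lTensor V (LinearMap.lTensor A πl)
          (TensorProduct.assoc k V A A (LinearMap.rTensor A ρ z)) =
          TensorProduct.assoc k V A (A ⧸ J)
            (LinearMap.rTensor (A ⧸ J) ρ (LinearMap.lTensor V πl z)) := by
        intro z
        induction z using TensorProduct.induction_on with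
        | zero => simp
        | add x y hx hy => simp only [map_add, hx, hy]
        | tmul v a =>
          simp only [LinearMap.rTensor_tmul, LinearMap.lTensor_tmul]
          generalize ρ v = r
          induction r using TensorProduct.induction_on with
          | zero => simp
          | add x y hx hy => simp only [TensorProduct.add_tmul, map_add, hx, hy]
          | tmul x y => simp
      have hco := LinearMap.congr_fun (HopfRep.Comod.coassoc (k := k) (A := A) (V := V)) w
      simp only [LinearMap.comp_apply, LinearEquiv.coe_coe, ← hρ] at hco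
      change LinearMap.lTensor A πl (comul (R := k) (lslice α (ρ w))) = _
      rw [h1, ← hco, h2, hwfix, LinearMap.rTensor_tmul]
      generalize ρ w = r
      induction r using TensorProduct.induction_on with
      | zero => simp
      | add x y hx hy => simp only [TensorProduct.add_tmul, map_add, hx, hy]
      | tmul x y => simp [TensorProduct.smul_tmul']
    obtain ⟨b, hb⟩ := mem_range_of_tmul ψ fun T _ _ i₁ i₂ h => eq_of_coinv_right hJ i₁ i₂ h hx
    exact hb ▸ hspan b
  obtain ⟨y, hy⟩ := (ComodLib.mem_range_lTensor_iff (Submodule.span k (Set.range μ)) (ρ w)).2 hcoinv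
  obtain ⟨v, hv⟩ : ∃ v : M →₀ V, v.sum (fun m x => x ⊗ₜ μ m) = ρ w := by
    rw [← hy]
    clear hy
    induction y using TensorProduct.induction_on with
    | zero => exact ⟨0, by simp⟩
    | add x y hx hy =>
      obtain ⟨v, hv⟩ := hx; obtain ⟨v', hv'⟩ := hy
      refine ⟨v + v', ?_⟩
      rw [Finsupp.sum_add_index' (h := fun m x => x ⊗ₜ[k] μ m) (fun _ => TensorProduct.zero_tmul _ _) (fun _ _ _ => TensorProduct.add_tmul _ _ _),
        hv, hv', map_add]
    | tmul x a =>
      refine ⟨(hli.repr a).mapRange (fun c => c • x) (zero_smul _ _), ?_⟩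
      rw [Finsupp.sum_mapRange_index (h := fun m y => y ⊗ₜ[k] μ m) fun _ => TensorProduct.zero_tmul _ _, LinearMap.lTensor_tmul]
      simp only [Finsupp.sum, TensorProduct.smul_tmul, ← TensorProduct.tmul_sum]
      congr 1
      have h := hli.linearCombination_repr a
      rw [Finsupp.linearCombination_apply, Finsupp.sum] at h
      exact h
  have heig : ∀ m, ρ (v m) = v m ⊗ₜ μ m := by
    intro m
    obtain ⟨φ, hφ⟩ := exists_dual hli m
    have hco := LinearMap.congr_fun (HopfRep.Comod.coassoc (k := k) (A := A) (V := V)) w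
    simp only [LinearMap.comp_apply, LinearEquiv.coe_coe, ← hρ, ← hv, map_finsuppSum,
      LinearMap.rTensor_tmul, LinearMap.lTensor_tmul] at hco
    have h := congrArg (fun z => slice φ ((TensorProduct.assoc k V A A).symm z)) hco
    simp only [LinearEquiv.symm_apply_apply, map_finsuppSum, map_sum, fun n => (hμ n).comul_eq_tmul_self,
      TensorProduct.assoc_symm_tmul, slice_tmul, hφ, Finsupp.sum, ite_smul, one_smul, zero_smul,
      Finset.sum_ite_eq'] at h
    split_ifs at h with hm
    · exact h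
    · simp [Finsupp.notMem_support_iff.1 hm]
  by_contra! hcon
  refine hw0 ?_
  have hv0 : v = 0 := Finsupp.ext fun m => by
    by_contra h
    exact hcon m (v m) h (heig m)
  have h := Groth.ComodLib.op_counit (k := k) (A := A) w
  rw [op_apply, ← hρ, ← hv, hv0, Finsupp.sum_zero_index, map_zero] at h
  exact h.symm

include hJ hμ hli hspan hμψ in
/-- Modulo a Hopf ideal, either the quotient is everything or a crossed homomorphism exists. -/
theorem exists_crossed (hU : HopfRep.IsUnipotent k (A ⧸ J)) (I : Ideal A) [I.IsHopfIdeal k]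
    (hI : Function.Injective (Ideal.Quotient.mk I ∘ ψ)) (a : A)
    (ha : ∀ b, Ideal.Quotient.mk I (ψ b) ≠ Ideal.Quotient.mk I a) :
    ∃ (χ : M) (g : A ⧸ I), comul (R := k) g = g ⊗ₜ 1 + Ideal.Quotient.mk I (μ χ) ⊗ₜ g ∧
      ∀ b, Ideal.Quotient.mk I (ψ b) ≠ g := by
  classical
  let q : A →ₐc[k] A ⧸ I := Bialgebra.Quotient.mkBialgHom I
  let ql : A →ₗ[k] A ⧸ I := (q : A →ₐ[k] A ⧸ I).toLinearMap
  let Sμ : Submodule k (A ⧸ I) := Submodule.span k (Set.range fun m => q (μ m))
  have hliq : LinearIndependent k (fun m => q (μ m)) := by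
    choose b hb using hμψ
    have hlb : LinearIndependent k b := by
      refine LinearIndependent.of_comp ((ψ : B →ₐ[k] A).toLinearMap) ?_
      rwa [show ((ψ : B →ₐ[k] A).toLinearMap ∘ b) = μ from funext hb]
    have := hlb.map' ((q : A →ₐ[k] A ⧸ I).toLinearMap ∘ₗ (ψ : B →ₐ[k] A).toLinearMap)
      (LinearMap.ker_eq_bot.2 hI)
    rwa [show (fun m => q (μ m)) = ((q : A →ₐ[k] A ⧸ I).toLinearMap ∘ₗ (ψ : B →ₐ[k] A).toLinearMap) ∘ b
      from funext fun m => (congrArg q (hb m)).symm]
  have hqμ : ∀ m, IsGroupLikeElem k (q (μ m)) := fun m => (hμ m).map q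
  have hrange : ∀ x ∈ Sμ, ∃ b, Ideal.Quotient.mk I (ψ b) = x := by
    intro x hx
    induction hx using Submodule.span_induction with
    | mem y hy =>
      obtain ⟨m, rfl⟩ := hy
      obtain ⟨b, hb⟩ := hμψ m
      exact ⟨b, by rw [hb]; rfl⟩
    | zero => exact ⟨0, by simp⟩
    | add y z _ _ hy hz =>
      obtain ⟨b, rfl⟩ := hy; obtain ⟨b', rfl⟩ := hz
      exact ⟨b + b', by simp⟩
    | smul c y _ hy =>
      obtain ⟨b, rfl⟩ := hy
      exact ⟨c • b, by rw [map_smul]; rfl⟩
  obtain ⟨W, hWfin, haW, hW⟩ :=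
    Groth.ComodLib.exists_finite_subcomod_span (k := k) (A := A) (V := A) (Set.finite_singleton a)
  letI cW := ComodSub.Comod.restr (inferInstance : HopfRep.Comod k A A) W hW
  have hsubW : Hoch.IsComodHom A W.subtype :=
    ComodSub.isComodHom_subtype (inferInstance : HopfRep.Comod k A A) W hW
  let P : Submodule k W := (Sμ.comap ql).comap W.subtype
  obtain ⟨U, ⟨hU', hUP⟩, hmax⟩ := set_has_maximal_iff_noetherian.2 (inferInstance : IsNoetherian k W)
    {U : Submodule k W | HopfRep.IsSubcomod (k := k) (A := A) U ∧ U ≤ P}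
    ⟨⊥, ComodLib.isSubcomod_bot, bot_le⟩
  letI cV := ComodSub.Comod.quot (inferInstance : HopfRep.Comod k A W) U hU'
  have hmkQ : Hoch.IsComodHom A U.mkQ :=
    ComodSub.isComodHom_mkQ (inferInstance : HopfRep.Comod k A W) U hU'
  haveI : Nontrivial (W ⧸ U) := by
    refine Submodule.Quotient.nontrivial_iff.2 fun htop => ?_
    have : (⟨a, haW rfl⟩ : W) ∈ P := hUP (htop ▸ Submodule.mem_top)
    obtain ⟨b, hb⟩ := hrange _ this
    exact ha b hb
  obtain ⟨m, v, hv0, hv⟩ := exists_eigen hJ hμ hli hspan hμψ hU (W ⧸ U)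
  obtain ⟨w, rfl⟩ := U.mkQ_surjective v
  have hopU : ∀ φ : A →ₗ[k] k, op φ w - φ (μ m) • w ∈ U := by
    intro φ
    rw [← Submodule.Quotient.mk_eq_zero, ← Submodule.mkQ_apply, map_sub, map_smul,
      ComodLib.isComodHom_op hmkQ, op_apply, hv, slice_tmul, sub_self]
  have hwS : ql (w : A) ∉ Sμ := by
    intro h
    refine hmax (U ⊔ Submodule.span k {w}) ⟨?_, sup_le hUP ?_⟩ (lt_of_le_of_ne le_sup_left fun hUw => ?_)
    · rw [ComodLib.isSubcomod_iff]
      intro φ x hx
      obtain ⟨u, hu, y, hy, rfl⟩ := Submodule.mem_sup.1 hx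
      obtain ⟨c, rfl⟩ := Submodule.mem_span_singleton.1 hy
      rw [map_add, map_smul]
      refine add_mem (Submodule.mem_sup_left ((ComodLib.isSubcomod_iff U).1 hU' φ u hu))
        (Submodule.smul_mem _ c ?_)
      rw [show op φ w = (op φ w - φ (μ m) • w) + φ (μ m) • w by abel]
      exact add_mem (Submodule.mem_sup_left (hopU φ))
        (Submodule.smul_mem _ _ (Submodule.mem_sup_right (Submodule.mem_span_singleton_self w)))
    · rw [Submodule.span_le, Set.singleton_subset_iff]
      exact h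
    · exact hv0 ((Submodule.Quotient.mk_eq_zero U).2
        (hUw ▸ Submodule.mem_sup_right (Submodule.mem_span_singleton_self w)))
  -- the coaction modulo `I` and the span of the characters
  have hL : comul (R := k) (q (w : A)) - q (w : A) ⊗ₜ q (μ m) ∈
      LinearMap.range (Sμ.subtype.rTensor (A ⧸ I)) := by
    rw [ComodLib.mem_range_rTensor_iff]
    intro φ
    have h1 : ql (W.subtype (op (φ ∘ₗ ql) w - (φ ∘ₗ ql) (μ m) • w)) ∈ Sμ := hUP (hopU (φ ∘ₗ ql))
    rw [map_sub, ComodLib.isComodHom_op hsubW, map_smul, map_sub, map_smul, op_apply] at h1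
    rw [map_sub, slice_tmul]
    have e1 : comul (R := k) (q (w : A)) = TensorProduct.map ql ql (comul (R := k) (w : A)) :=
      (CoalgHomClass.map_comp_comul_apply q (w : A)).symm
    have e2 : ∀ z : A ⊗[k] A, slice φ (TensorProduct.map ql ql z) = ql (slice (φ ∘ₗ ql) z) := by
      intro z
      induction z using TensorProduct.induction_on with
      | zero => simp
      | add x y hx hy => simp only [map_add, hx, hy]
      | tmul x y => simp
    rw [e1, e2]
    exact h1
  obtain ⟨y, hy⟩ := hL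
  obtain ⟨an, han⟩ : ∃ an : M →₀ (A ⧸ I), an.sum (fun n x => q (μ n) ⊗ₜ[k] x) = Sμ.subtype.rTensor _ y := by
    clear hy
    induction y using TensorProduct.induction_on with
    | zero => exact ⟨0, by simp⟩
    | add x y hx hy =>
      obtain ⟨v, hv⟩ := hx; obtain ⟨v', hv'⟩ := hy
      refine ⟨v + v', ?_⟩
      rw [Finsupp.sum_add_index' (h := fun n x => q (μ n) ⊗ₜ[k] x) (fun _ => TensorProduct.tmul_zero _ _) (fun _ _ _ => TensorProduct.tmul_add _ _ _),
        hv, hv', map_add]
    | tmul x z =>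
      refine ⟨(hliq.repr x).mapRange (fun c => c • z) (zero_smul _ _), ?_⟩
      rw [Finsupp.sum_mapRange_index (h := fun n y => q (μ n) ⊗ₜ[k] y) fun _ => TensorProduct.tmul_zero _ _, LinearMap.rTensor_tmul]
      simp only [Finsupp.sum, TensorProduct.tmul_smul, TensorProduct.smul_tmul', ← TensorProduct.sum_tmul]
      congr 1
      have h := hliq.linearCombination_repr x
      rw [Finsupp.linearCombination_apply, Finsupp.sum] at h
      exact h
  set W' := q (w : A) with hW'
  have hΔw : comul (R := k) W' = W' ⊗ₜ q (μ m) + an.sum (fun n x => q (μ n) ⊗ₜ[k] x) := by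
    rw [han, hy]
    abel
  have han' : ∀ n, comul (R := k) (an n) = an n ⊗ₜ q (μ m) + q (μ n) ⊗ₜ an n := by
    intro n
    obtain ⟨φ, hφ⟩ := exists_dual hliq n
    have hco := Coalgebra.coassoc_apply (R := k) W'
    rw [hΔw] at hco
    simp only [map_add, map_finsuppSum, LinearMap.rTensor_tmul, LinearMap.lTensor_tmul, hΔw,
      fun n => (hqμ n).comul_eq_tmul_self, TensorProduct.add_tmul] at hco
    have h := congrArg (lslice φ) hco
    simp only [Finsupp.sum, map_add, map_sum, TensorProduct.sum_tmul, TensorProduct.assoc_tmul,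
      lslice_tmul, hφ, ite_smul, one_smul, zero_smul, Finset.sum_ite_eq'] at h
    split_ifs at h with hn
    · rw [add_assoc] at h
      exact (add_left_cancel h).symm
    · simp [Finsupp.notMem_support_iff.1 hn]
  obtain ⟨n, hn⟩ : ∃ n, an n ∉ Sμ := by
    by_contra! hall
    refine hwS ?_
    have h := congrArg (TensorProduct.lid k (A ⧸ I)) (Coalgebra.rTensor_counit_comul (R := k) W')
    rw [hΔw, TensorProduct.lid_tmul, one_smul, map_add, map_finsuppSum] at h
    simp only [map_add, map_finsuppSum, LinearMap.rTensor_tmul, TensorProduct.lid_tmul,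
      fun n => (hqμ n).counit_eq_one, one_smul] at h
    change W' ∈ Sμ
    rw [← h]
    exact add_mem (Submodule.smul_mem _ _ (Submodule.subset_span ⟨m, rfl⟩))
      (Submodule.sum_mem _ fun n _ => hall n)
  refine ⟨n * m⁻¹, an n * q (μ m⁻¹), ?_, fun b hb => hn ?_⟩
  · rw [Bialgebra.comul_mul, han' n, (hqμ m⁻¹).comul_eq_tmul_self, add_mul,
      Algebra.TensorProduct.tmul_mul_tmul, Algebra.TensorProduct.tmul_mul_tmul, ← map_mul q (μ m),
      ← map_mul μ, mul_inv_cancel, map_one, map_one, ← map_mul q (μ n), ← map_mul μ]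
    rfl
  · have hmm : an n = Ideal.Quotient.mk I (ψ b) * q (μ m) := by
      rw [hb, mul_assoc, ← map_mul q, ← map_mul μ, inv_mul_cancel, map_one, map_one, mul_one]
    obtain ⟨bm, hbm⟩ := hμψ m
    rw [hmm, ← hbm, show q (ψ bm) = Ideal.Quotient.mk I (ψ bm) from rfl, ← map_mul, ← map_mul ψ]
    obtain h := hspan (b * bm)
    exact Submodule.span_mono (by rintro _ ⟨x, ⟨m, rfl⟩, rfl⟩; exact ⟨m, rfl⟩)
      (Submodule.apply_mem_span_image_of_mem_span ql h)

end Split

/-- The ideal of a skew primitive element is a Hopf ideal. -/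
theorem isHopfIdeal_span_skew {A : Type u} [CommRing A] [HopfAlgebra k A] {x χ : A}
    (hχ : IsGroupLikeElem k χ) (hx : comul (R := k) x = x ⊗ₜ 1 + χ ⊗ₜ x) :
    (Ideal.span {x}).IsHopfIdeal k := by
  have hε : counit (R := k) x = 0 := by
    have h := congrArg (TensorProduct.lid k A) (Coalgebra.rTensor_counit_comul (R := k) x)
    rw [hx, map_add, LinearMap.rTensor_tmul, LinearMap.rTensor_tmul, hχ.counit_eq_one, map_add,
      TensorProduct.lid_tmul, TensorProduct.lid_tmul, one_smul] at h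
    exact (smul_eq_zero.1 (add_right_cancel (h.trans (zero_add x).symm))).resolve_right fun h1 =>
      hχ.ne_zero (by rw [← one_mul χ, h1, zero_mul])
  let Q : A →ₐ[k] A ⧸ Ideal.span {x} := Ideal.Quotient.mkₐ k _
  have hQx : Q x = 0 := Ideal.Quotient.eq_zero_iff_mem.2 (Ideal.mem_span_singleton_self x)
  have hco : ((Ideal.span {x}).restrictScalars k).IsCoideal := by
    refine ⟨fun y hy => ?_, fun y hy => ?_⟩
    · obtain ⟨a, rfl⟩ := Ideal.mem_span_singleton'.1 hy
      change counit (R := k) (a * x) = 0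
      rw [Bialgebra.counit_mul, hε, mul_zero]
    · obtain ⟨a, rfl⟩ := Ideal.mem_span_singleton'.1 hy
      change Algebra.TensorProduct.map Q Q (comul (R := k) (a * x)) = 0
      rw [Bialgebra.comul_mul, map_mul, hx, map_add, Algebra.TensorProduct.map_tmul,
        Algebra.TensorProduct.map_tmul, hQx, TensorProduct.zero_tmul, TensorProduct.tmul_zero,
        add_zero, mul_zero]
  refine { hco with antipode_mem := fun y hy => ?_ }
  obtain ⟨a, rfl⟩ := Ideal.mem_span_singleton'.1 hy
  rw [HopfAlgebra.antipode_mul_distrib]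
  refine Ideal.mul_mem_left _ _ ?_
  have h := HopfAlgebra.mul_antipode_rTensor_comul_apply (R := k) x
  rw [hx, map_add, map_add, LinearMap.rTensor_tmul, LinearMap.rTensor_tmul, LinearMap.mul'_apply,
    LinearMap.mul'_apply, mul_one, hε, map_zero] at h
  rw [eq_neg_of_add_eq_zero_left h]
  exact neg_mem (Ideal.mul_mem_left _ _ (Ideal.mem_span_singleton_self x))

/-- The extension of a diagonalisable group by a unipotent group splits. -/
theorem exists_retraction [IsAlgClosed k] (A B : Type u) [CommRing A] [HopfAlgebra k A]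
    [Algebra.FiniteType k A] [CommRing B] [HopfAlgebra k B]
    (hB : SGA3b.IsDiag k B) (ψ : B →ₐc[k] A) (hψ : Function.Injective ψ)
    (J : Ideal A) [J.IsHopfIdeal k]
    (hJ : J = Ideal.map (ψ : B →+* A) (RingHom.ker (Bialgebra.counitAlgHom k B)))
    (hU : HopfRep.IsUnipotent k (A ⧸ J)) :
    ∃ r : A →ₐc[k] B, r.comp ψ = BialgHom.id k B := by
  classical
  obtain ⟨M, _, ⟨e⟩⟩ := hB
  let μ : M →* A := ((ψ : B →+* A) : B →* A).comp
    (((e.symm : MonoidAlgebra k M ≃ₐ[k] B) : MonoidAlgebra k M →* B).comp (MonoidAlgebra.of k M))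
  have hμe : ∀ m, μ m = ψ (e.symm (MonoidAlgebra.single m 1)) := fun m => rfl
  have hμ : ∀ m, IsGroupLikeElem k (μ m) := fun m =>
    ((MonoidAlgebra.isGroupLikeElem_single_one m).map (e.symm : MonoidAlgebra k M →ₐc[k] B)).map ψ
  let L : MonoidAlgebra k M →ₗ[k] A := (ψ : B →ₐ[k] A).toLinearMap ∘ₗ
    (e.symm : MonoidAlgebra k M ≃ₐ[k] B).toLinearEquiv.toLinearMap
  let bM : Module.Basis M k (MonoidAlgebra k M) :=
    Module.Basis.ofRepr (MonoidAlgebra.coeffLinearEquiv k)
  have hμL : (μ : M → A) = L ∘ bM := funext fun m => rfl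
  have hli : LinearIndependent k μ := by
    rw [hμL]
    exact bM.linearIndependent.map' L (LinearMap.ker_eq_bot.2
      (hψ.comp (e.symm : MonoidAlgebra k M ≃ₐ[k] B).injective))
  have hspan : ∀ b, ψ b ∈ Submodule.span k (Set.range μ) := by
    intro b
    rw [hμL, Set.range_comp, Submodule.span_image, bM.span_eq, Submodule.map_top]
    exact ⟨e b, congrArg ψ ((e : B ≃ₐ[k] MonoidAlgebra k M).symm_apply_apply b)⟩
  have hμψ : ∀ m, ∃ b, ψ b = μ m := fun m => ⟨_, (hμe m).symm⟩
  haveI : IsNoetherianRing A := Algebra.FiniteType.isNoetherianRing k A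
  let S : Set (Ideal A) :=
    {I | I.IsHopfIdeal k ∧ Function.Injective (Ideal.Quotient.mk I ∘ ψ)}
  have hbot : (⊥ : Ideal A) ∈ S :=
    ⟨HopfKer.isHopfIdeal_ker (BialgHom.id k A) (fun x => ⟨x, rfl⟩)
      ((RingHom.injective_iff_ker_eq_bot _).1 fun _ _ h => h),
      fun x y h => hψ (sub_eq_zero.1 (Ideal.mem_bot.1 (Ideal.Quotient.eq.1 h)))⟩
  obtain ⟨I, ⟨hIH, hIinj⟩, hmax⟩ := set_has_maximal_iff_noetherian.2 inferInstance S ⟨⊥, hbot⟩
  haveI := hIH
  by_cases hsurj : Function.Surjective (Ideal.Quotient.mk I ∘ ψ)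
  · let q : A →ₐc[k] A ⧸ I := Bialgebra.Quotient.mkBialgHom I
    let E : B ≃ₐc[k] A ⧸ I := BialgEquiv.ofBijective (q.comp ψ) ⟨hIinj, hsurj⟩
    exact ⟨(E.symm : A ⧸ I →ₐc[k] B).comp q, BialgHom.ext fun b => E.symm_apply_apply b⟩
  exfalso
  obtain ⟨y, hy⟩ := not_forall.1 hsurj
  obtain ⟨a, rfl⟩ := Ideal.Quotient.mk_surjective y
  obtain ⟨χ, g, hg, hgB⟩ := exists_crossed hJ hμ hli hspan hμψ hU I hIinj a (fun b hb => hy ⟨b, hb⟩)
  let q : A →ₐc[k] A ⧸ I := Bialgebra.Quotient.mkBialgHom I
  let μ₁ : M →* A ⧸ I := ((Ideal.Quotient.mk I : A →+* A ⧸ I) : A →* A ⧸ I).comp μ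
  have hμ₁ : ∀ m, IsGroupLikeElem k (μ₁ m) := fun m => (hμ m).map q
  have hL₁ : (μ₁ : M → A ⧸ I) = ((q : A →ₐ[k] A ⧸ I).toLinearMap ∘ₗ L) ∘ bM := funext fun m => rfl
  have hli₁ : LinearIndependent k μ₁ := by
    rw [hL₁]
    exact bM.linearIndependent.map' _ (LinearMap.ker_eq_bot.2
      (hIinj.comp (e.symm : MonoidAlgebra k M ≃ₐ[k] B).injective))
  have hspan₁ : ∀ b, (q.comp ψ) b ∈ Submodule.span k (Set.range μ₁) := by
    intro b
    rw [hL₁, Set.range_comp, Submodule.span_image, bM.span_eq, Submodule.map_top]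
    exact ⟨e b, congrArg (fun x => q (ψ x)) ((e : B ≃ₐ[k] MonoidAlgebra k M).symm_apply_apply b)⟩
  obtain ⟨z, hz⟩ := exists_coboundary (ψ := q.comp ψ) rfl hμ₁ hli₁ hspan₁
    (fun m => ⟨_, congrArg q (hμe m).symm⟩) χ g hg
  set g' := g + z • (μ₁ χ - 1) with hg'def
  have hg' : comul (R := k) g' = g' ⊗ₜ 1 + μ₁ χ ⊗ₜ g' := crossed_add hμ₁ hg z
  let K : Ideal (A ⧸ I) := Ideal.span {g'}
  haveI : K.IsHopfIdeal k := isHopfIdeal_span_skew (hμ₁ χ) hg'
  let q' : A →ₐc[k] (A ⧸ I) ⧸ K := (Bialgebra.Quotient.mkBialgHom K).comp q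
  have hq' : Function.Surjective q' := Ideal.Quotient.mk_surjective.comp Ideal.Quotient.mk_surjective
  let I' : Ideal A := RingHom.ker q'
  haveI hI'H : I'.IsHopfIdeal k := HopfKer.isHopfIdeal_ker q' hq' rfl
  have hI'S : I' ∈ S := by
    refine ⟨hI'H, fun x y h => hIinj ?_⟩
    have h1 : q' (ψ (x - y)) = 0 := by
      rw [map_sub]
      exact Ideal.Quotient.eq.1 h
    have h2 := hz (x - y) (Ideal.Quotient.eq_zero_iff_mem.1 h1)
    rw [map_sub, sub_eq_zero] at h2
    exact h2
  have hle : I ≤ I' := fun x hx => by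
    change Ideal.Quotient.mk K (Ideal.Quotient.mk I x) = 0
    rw [Ideal.Quotient.eq_zero_iff_mem.2 hx, map_zero]
  have hg0 : g' = 0 := by
    by_contra hne
    refine hmax I' hI'S (lt_of_le_of_ne hle fun hII => ?_)
    obtain ⟨a', ha'⟩ := Ideal.Quotient.mk_surjective g'
    refine hne ?_
    rw [← ha', Ideal.Quotient.eq_zero_iff_mem, hII]
    change Ideal.Quotient.mk K (Ideal.Quotient.mk I a') = 0
    rw [ha', Ideal.Quotient.eq_zero_iff_mem]
    exact Ideal.mem_span_singleton_self g'
  obtain ⟨bχ, hbχ⟩ := hμψ χ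
  refine hgB (-(z • (bχ - 1))) ?_
  rw [eq_neg_of_add_eq_zero_left hg0]
  change q (ψ _) = _
  simp [μ₁, hbχ]
  rfl

end Groth.Sga3.UnipotentExt
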