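import Groth.Agent.Sga3.SubHopfFlat
import Groth.Prelude.Def_SGA3

/-!
A Hopf subalgebra of a commutative Hopf algebra over a field, as a Hopf algebra of its own; the ideal
generated by its augmentation ideal is a Hopf ideal.
-/

universe u

open TensorProduct

namespace Groth.Sga3.SubHopfStruct

variable {k : Type u} [Field k] {A : Type u} [CommRing A] [HopfAlgebra k A] {B : Subalgebra k A}
  (hB : SGA3.IsHopfSubalgebra k A B)

/-- `B ⊗ B → A ⊗ A`. -/
noncomputable abbrev jj (B : Subalgebra k A) : B ⊗[k] B →ₐ[k] A ⊗[k] A :=
  Algebra.TensorProduct.map B.val B.val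

lemma jj_injective (B : Subalgebra k A) : Function.Injective (jj B) := by
  have h : Function.Injective (TensorProduct.map B.val.toLinearMap B.val.toLinearMap) := by
    rw [← LinearMap.rTensor_comp_lTensor, LinearMap.coe_comp]
    exact (Module.Flat.rTensor_preserves_injective_linearMap _ Subtype.val_injective).comp
      (Module.Flat.lTensor_preserves_injective_linearMap _ Subtype.val_injective)
  exact h

include hB in
lemma comul_mem_range (b : B) : Bialgebra.comulAlgHom k A b ∈ (jj B).range :=
  hB.1 b b.2

/-- The comultiplication of `B`. -/
noncomputable def comulB : B →ₐ[k] B ⊗[k] B :=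
  ((AlgEquiv.ofInjective (jj B) (jj_injective B)).symm : _ →ₐ[k] _).comp
    (((Bialgebra.comulAlgHom k A).comp B.val).codRestrict (jj B).range (comul_mem_range hB))

lemma jj_comulB (b : B) : jj B (comulB hB b) = Coalgebra.comul (R := k) (b : A) :=
  congrArg Subtype.val ((AlgEquiv.ofInjective (jj B) (jj_injective B)).apply_symm_apply
    ⟨_, comul_mem_range hB b⟩)

/-- The bialgebra structure of `B`. -/
@[reducible] noncomputable def bialgebra : Bialgebra k B :=
  Bialgebra.ofAlgHom (comulB hB) ((Bialgebra.counitAlgHom k A).comp B.val)
    (by
      refine AlgHom.ext fun b => ?_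
      have hi : Function.Injective
          (TensorProduct.map B.val.toLinearMap (jj B).toLinearMap) := by
        rw [← LinearMap.rTensor_comp_lTensor, LinearMap.coe_comp]
        exact (Module.Flat.rTensor_preserves_injective_linearMap _ Subtype.val_injective).comp
          (Module.Flat.lTensor_preserves_injective_linearMap _ (jj_injective B))
      apply hi
      have h := LinearMap.congr_fun (Coalgebra.coassoc (R := k) (A := A)) (b : A)
      simp only [LinearMap.comp_apply, LinearEquiv.coe_coe] at h
      rw [← jj_comulB hB] at h
      refine Eq.trans ?_ (h.trans ?_) <;>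
        simp only [AlgHom.comp_apply] <;>
        generalize comulB hB b = z <;>
        induction z using TensorProduct.induction_on with
        | zero => simp
        | add p q hp hq => simp only [map_add, hp, hq]
        | tmul p q => ?_
      · rw [show (jj B) (p ⊗ₜ q) = (p : A) ⊗ₜ[k] (q : A) from rfl, LinearMap.rTensor_tmul,
          ← jj_comulB hB]
        rw [Algebra.TensorProduct.map_tmul]
        generalize comulB hB p = w
        induction w using TensorProduct.induction_on with
        | zero => simp
        | tmul x y => rfl
        | add x y hx hy => simp only [map_add, TensorProduct.add_tmul, hx, hy]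
      · rw [show (jj B) (p ⊗ₜ q) = (p : A) ⊗ₜ[k] (q : A) from rfl, LinearMap.lTensor_tmul,
          ← jj_comulB hB]
        simp
        rfl)
    (by
      refine AlgHom.ext fun b => ?_
      apply (Module.Flat.lTensor_preserves_injective_linearMap (M := k) B.val.toLinearMap
        Subtype.val_injective)
      have h := Coalgebra.rTensor_counit_comul (R := k) (b : A)
      rw [← jj_comulB hB] at h
      refine Eq.trans ?_ (h.trans (by simp))
      simp only [AlgHom.comp_apply]
      generalize comulB hB b = z
      induction z using TensorProduct.induction_on with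
      | zero => simp
      | add p q hp hq => simp only [map_add, hp, hq]
      | tmul p q => rfl)
    (by
      refine AlgHom.ext fun b => ?_
      apply (Module.Flat.rTensor_preserves_injective_linearMap (M := k) B.val.toLinearMap
        Subtype.val_injective)
      have h := Coalgebra.lTensor_counit_comul (R := k) (b : A)
      rw [← jj_comulB hB] at h
      refine Eq.trans ?_ (h.trans (by simp))
      simp only [AlgHom.comp_apply]
      generalize comulB hB b = z
      induction z using TensorProduct.induction_on with
      | zero => simp
      | add p q hp hq => simp only [map_add, hp, hq]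
      | tmul p q => rfl)

/-- The antipode of `B`. -/
noncomputable def antipodeB : B →ₐ[k] B :=
  ((HopfAlgebra.antipodeAlgHom k A).comp B.val).codRestrict B fun b => hB.2 b b.2

/-- The Hopf algebra structure of `B`. -/
@[reducible] noncomputable def hopfAlgebra : HopfAlgebra k B :=
  letI := bialgebra hB
  { bialgebra hB with
    antipode := (antipodeB hB).toLinearMap
    mul_antipode_rTensor_comul := by
      refine LinearMap.ext fun b => Subtype.ext ?_
      have h := HopfAlgebra.mul_antipode_rTensor_comul_apply (R := k) (b : A)
      rw [← jj_comulB hB] at h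
      refine Eq.trans ?_ (h.trans ?_)
      · simp only [LinearMap.comp_apply]
        change ((LinearMap.mul' k B) _ : A) = _
        change ((LinearMap.mul' k B) ((antipodeB hB).toLinearMap.rTensor B (comulB hB b)) : A) = _
        generalize comulB hB b = z
        induction z using TensorProduct.induction_on with
        | zero => simp
        | add p q hp hq => simp only [map_add, AddMemClass.coe_add, hp, hq]
        | tmul p q => rfl
      · rfl
    mul_antipode_lTensor_comul := by
      refine LinearMap.ext fun b => Subtype.ext ?_
      have h := HopfAlgebra.mul_antipode_lTensor_comul_apply (R := k) (b : A)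
      rw [← jj_comulB hB] at h
      refine Eq.trans ?_ (h.trans ?_)
      · simp only [LinearMap.comp_apply]
        change ((LinearMap.mul' k B) ((antipodeB hB).toLinearMap.lTensor B (comulB hB b)) : A) = _
        generalize comulB hB b = z
        induction z using TensorProduct.induction_on with
        | zero => simp
        | add p q hp hq => simp only [map_add, AddMemClass.coe_add, hp, hq]
        | tmul p q => rfl
      · rfl }

/-- The inclusion as a bialgebra map. -/
noncomputable def incl :
    letI := hopfAlgebra hB
    B →ₐc[k] A :=
  letI := hopfAlgebra hB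
  BialgHom.ofAlgHom B.val rfl (AlgHom.ext fun b => jj_comulB hB b)

lemma incl_apply (b : B) :
    letI := hopfAlgebra hB
    incl hB b = (b : A) := rfl

lemma incl_injective :
    letI := hopfAlgebra hB
    Function.Injective (incl hB) := Subtype.val_injective

include hB in
lemma augIdealSpan_eq_map :
    letI := hopfAlgebra hB
    SGA3.augIdealSpan k A B =
      Ideal.map (incl hB : B →+* A) (RingHom.ker (Bialgebra.counitAlgHom k B)) := by
  let := hopfAlgebra hB
  rw [SGA3.augIdealSpan, Ideal.map]
  congr 1
  ext a
  constructor
  · rintro ⟨ha, hε⟩
    exact ⟨⟨a, ha⟩, (hε : Bialgebra.counitAlgHom k B ⟨a, ha⟩ = 0), rfl⟩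
  · rintro ⟨b, hb, rfl⟩
    exact ⟨b.2, (RingHom.mem_ker.mp hb : Bialgebra.counitAlgHom k B b = 0)⟩

include hB in
/-- The ideal generated by the augmentation ideal of a Hopf subalgebra is a Hopf ideal. -/
theorem isHopfIdeal_augIdealSpan : (SGA3.augIdealSpan k A B).IsHopfIdeal k := by
  set J := SGA3.augIdealSpan k A B with hJ
  have hmem : ∀ b ∈ B, b - algebraMap k A (Coalgebra.counit (R := k) b) ∈ J := fun b hb =>
    Ideal.subset_span ⟨sub_mem hb (B.algebraMap_mem _), by simp⟩
  let Q : A →ₐ[k] A ⧸ J := Ideal.Quotient.mkₐ k J
  have hQ : ∀ b ∈ B, Q b = algebraMap k (A ⧸ J) (Coalgebra.counit (R := k) b) := fun b hb => by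
    rw [← Q.commutes]
    exact Ideal.Quotient.eq.mpr (hmem b hb)
  have hQQ : J ≤ RingHom.ker ((Algebra.TensorProduct.map Q Q).comp (Bialgebra.comulAlgHom k A)) := by
    refine Ideal.span_le.mpr ?_
    rintro a ⟨ha, hε⟩
    rw [SetLike.mem_coe, RingHom.mem_ker, AlgHom.comp_apply]
    obtain ⟨z, hz⟩ := hB.1 a ha
    let c : A →ₗ[k] k := Coalgebra.counit
    have h1 : Algebra.TensorProduct.map Q Q (Bialgebra.comulAlgHom k A a) =
        algebraMap k ((A ⧸ J) ⊗[k] (A ⧸ J)) (c a) := by
      have e : c a = c (TensorProduct.lid k A ((Coalgebra.counit (R := k) (A := A)).rTensor A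
          (Coalgebra.comul (R := k) a))) := by
        rw [Coalgebra.rTensor_counit_comul]
        simp
      rw [e, Bialgebra.comulAlgHom_apply, ← hz]
      clear hz e
      induction z using TensorProduct.induction_on with
      | zero => simp
      | add p q hp hq => simp only [map_add, hp, hq]
      | tmul p q =>
        simp [c, hQ p p.2, hQ q q.2, Algebra.algebraMap_eq_smul_one, TensorProduct.smul_tmul',
          Algebra.TensorProduct.one_def, TensorProduct.tmul_smul, smul_smul, mul_comm]
    rw [h1, show c a = 0 from hε, map_zero]
  have hco : (J.restrictScalars k).IsCoideal := by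
    refine ⟨fun x hx => ?_, fun x hx => ?_⟩
    · have : J ≤ RingHom.ker (Bialgebra.counitAlgHom k A) := by
        rw [hJ, SGA3.augIdealSpan, Ideal.span_le]
        exact fun a ha => (ha.2 : Bialgebra.counitAlgHom k A a = 0)
      exact (RingHom.mem_ker.mp (this hx) : Bialgebra.counitAlgHom k A x = 0)
    · have h : (Algebra.TensorProduct.map Q Q) (Coalgebra.comul (R := k) x) = 0 :=
        RingHom.mem_ker.mp (hQQ hx)
      exact h
  refine { hco with antipode_mem := fun x hx => ?_ }
  have : J ≤ J.comap (HopfAlgebra.antipodeAlgHom k A) := by
    rw [hJ, SGA3.augIdealSpan, Ideal.span_le]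
    rintro a ⟨ha, hε⟩
    exact Ideal.subset_span ⟨hB.2 a ha,
      show Coalgebra.counit (R := k) (HopfAlgebra.antipode k a) = 0 by
        rw [HopfAlgebra.counit_antipode]; exact hε⟩
  exact this hx

end Groth.Sga3.SubHopfStruct
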