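import Groth.Agent.Sga3.MultType

/-!
Groups of multiplicative type over a field.
-/

set_option autoImplicit false

universe u

open TensorProduct Coalgebra

noncomputable section

namespace Groth.Sga3.MultType

open SGA3b

variable {k : Type u} [Field k] {A : Type u} [CommRing A] [HopfAlgebra k A]

/-- A Hopf algebra over a field spanned by its group-likes is diagonalisable. -/
theorem isDiag_of_span (h : Submodule.span k {a : A | IsGroupLikeElem k a} = ⊤) :
    SGA3b.IsDiag k A := by
  refine ⟨GroupLike k A, inferInstance, ⟨?_⟩⟩
  let f : MonoidAlgebra k (GroupLike k A) →ₐ[k] A :=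
    MonoidAlgebra.lift k A (GroupLike k A) (GroupLike.valMonoidHom k A)
  have hf : ∀ g, f (MonoidAlgebra.single g 1) = (g : A) := fun g => by simp [f]
  let F : MonoidAlgebra k (GroupLike k A) →ₐc[k] A := BialgHom.ofAlgHom f
    (MonoidAlgebra.algHom_ext (fun g => by simp [hf, g.2.counit_eq_one]) (Subsingleton.elim _ _))
    (MonoidAlgebra.algHom_ext (fun g => by simp [hf, g.2.comul_eq_tmul_self]) (Subsingleton.elim _ _))
  refine (BialgEquiv.ofBijective F ⟨?_, ?_⟩).symm
  · change Function.Injective f
    have hind : LinearIndependent k (GroupLike.val : GroupLike k A → A) :=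
      (linearIndepOn_isGroupLikeElem (R := k) (A := A)).linearIndependent.comp
        (fun g : GroupLike k A => (⟨g.val, g.2⟩ : {a : A | IsGroupLikeElem k a}))
        fun g g' h => GroupLike.val_injective (congrArg Subtype.val h)
    have heq : ∀ x, f x = Finsupp.linearCombination k (GroupLike.val : GroupLike k A → A) x.coeff := by
      intro x
      induction x using MonoidAlgebra.induction_linear with
      | zero => simp
      | add p q hp hq => simp [map_add, hp, hq]
      | single g c => simp [f, Algebra.smul_def]
    intro x y hxy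
    rw [heq, heq] at hxy
    exact MonoidAlgebra.coeff_injective (hind hxy)
  · change Function.Surjective f
    refine (LinearMap.range_eq_top (f := f.toLinearMap)).mp ?_
    rw [eq_top_iff, ← h, Submodule.span_le]
    exact fun a ha => ⟨MonoidAlgebra.single ⟨a, ha⟩ 1, hf _⟩


/-- A quotient Hopf algebra of a diagonalisable one over a field is diagonalisable. -/
theorem isDiag_of_surjective {B : Type u} [CommRing B] [HopfAlgebra k B] (φ : A →ₐc[k] B)
    (hφ : Function.Surjective φ) (h : IsDiag k A) : IsDiag k B := by
  obtain ⟨M, _, ⟨e⟩⟩ := h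
  refine isDiag_of_span (eq_top_iff.2 fun b _ => ?_)
  obtain ⟨a, rfl⟩ := hφ b
  obtain ⟨x, rfl⟩ : ∃ x, (e.symm : MonoidAlgebra k M →ₐc[k] A) x = a := e.symm.surjective a
  induction x using MonoidAlgebra.induction_linear with
  | zero => rw [map_zero, map_zero]; exact zero_mem _
  | add p q hp hq => simp only [map_add]; exact add_mem (hp trivial) (hq trivial)
  | single m r =>
    rw [show MonoidAlgebra.single m r = r • MonoidAlgebra.single m (1 : k) by simp, map_smul,
      map_smul]
    exact Submodule.smul_mem _ _ (Submodule.subset_span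
      (((MonoidAlgebra.isGroupLikeElem_single_one m).map (e.symm : MonoidAlgebra k M →ₐc[k] A)).map φ))

/-- Over a field, multiplicative type means diagonalisable over some field extension. -/
theorem exists_field_isDiag (h : IsMultType k A) :
    ∃ (K : Type u) (_ : Field K) (_ : Algebra k K), IsDiag K (K ⊗[k] A) := by
  obtain ⟨R', _, _, hff, hd⟩ := exists_isMultTypeConst_of_isLocalRing h
  have : Nontrivial R' := (RingHom.FaithfullyFlat.injective
    (RingHom.faithfullyFlat_algebraMap_iff.2 hff)).nontrivial
  obtain ⟨m, hm⟩ := Ideal.exists_maximal R'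
  letI := Ideal.Quotient.field m
  exact ⟨R' ⧸ m, inferInstance, inferInstance,
    isDiag_trans R' (R' ⧸ m) A (isDiag_baseChange (R' ⧸ m) (R' ⊗[k] A) hd)⟩

theorem isMultType_of_field_isDiag (K : Type u) [Field K] [Algebra k K] (h : IsDiag K (K ⊗[k] A)) :
    IsMultType k A :=
  isMultType_of_const ⟨K, _, _, inferInstance, h⟩

end Groth.Sga3.MultType
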