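import Groth.Agent.Sga3.CharLift
import Groth.Agent.Sga3.MultTypeField
import Mathlib.RingTheory.Flat.FaithfullyFlat.Algebra

/-!
A group of multiplicative type of finite type over a henselian local ring, diagonalisable on the
closed fibre, is diagonalisable.
-/

set_option autoImplicit false

universe u

open TensorProduct Coalgebra IsLocalRing

noncomputable section

namespace Groth.Sga3.CharLift

open SGA3b MultType GroupAlg CharFun

variable {R : Type u} [CommRing R] {A : Type u} [CommRing A] [HopfAlgebra R A]

/-- Descent of diagonalisability when all the characters are rational. -/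
theorem isDiag_of_chars {S : Type u} [CommRing S] [Algebra R S] [Module.FaithfullyFlat R S]
    {M : Type u} [CommGroup M] (e : S ⊗[R] A ≃ₐc[S] MonoidAlgebra S M)
    (h : ∀ m : M, ∃ g : A, (1 : S) ⊗ₜ[R] g = chr e m) : IsDiag R A := by
  classical
  choose g hg using h
  have hinj : Function.Injective fun a : A => (1 : S) ⊗ₜ[R] a :=
    one_tmul_injective_of_faithfullyFlat (R := R) S A
  have hgl : ∀ m, IsGroupLikeElem R (g m) := fun m =>
    isGroupLikeElem_of_tmul (S := S) (by rw [hg]; exact isGroupLikeElem_chr e m)
  let G : M →* GroupLike R A :=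
    { toFun := fun m => ⟨g m, hgl m⟩
      map_one' := GroupLike.val_injective <| hinj <| by
        change (1 : S) ⊗ₜ[R] g 1 = (1 : S) ⊗ₜ[R] (1 : A)
        rw [hg, chr, ← MonoidAlgebra.one_def]
        exact map_one e.symm
      map_mul' := fun a b => GroupLike.val_injective <| hinj <| by
        change (1 : S) ⊗ₜ[R] g (a * b) = (1 : S) ⊗ₜ[R] (g a * g b)
        rw [hg, ← one_mul (1 : S), ← Algebra.TensorProduct.tmul_mul_tmul, hg, hg, chr, chr, chr,
          ← map_mul, MonoidAlgebra.single_mul_single, one_mul] }
  let φ : MonoidAlgebra R M →ₐc[R] A :=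
    MonoidAlgebra.liftGroupLikeBialgHom.comp (MonoidAlgebra.mapDomainBialgHom R G)
  have hφ : ∀ m, φ (MonoidAlgebra.single m 1) = g m := by
    intro m; simp [φ, G, MonoidAlgebra.liftGroupLikeBialgHom]
  let φl : MonoidAlgebra R M →ₗ[R] A := (φ : MonoidAlgebra R M →ₐ[R] A).toLinearMap
  have hkey : ∀ z, φl.lTensor S z = e.symm (MonoidAlgebra.scalarTensorEquiv R S (M := M) z) := by
    intro z
    induction z using TensorProduct.induction_on with
    | zero => simp
    | add x y hx hy => simp only [map_add, hx, hy]
    | tmul s x =>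
      induction x using MonoidAlgebra.induction_linear with
      | zero => simp
      | add p q hp hq => simp only [TensorProduct.tmul_add, map_add, hp, hq]
      | single m r =>
        rw [show MonoidAlgebra.single m r = r • MonoidAlgebra.single m (1 : R) by simp,
          ← TensorProduct.smul_tmul, LinearMap.lTensor_tmul]
        change (r • s) ⊗ₜ[R] φ (MonoidAlgebra.single m 1) = _
        rw [hφ]
        generalize r • s = t
        rw [show (t ⊗ₜ[R] g m : S ⊗[R] A) = t • ((1 : S) ⊗ₜ[R] g m) by
          rw [TensorProduct.smul_tmul', smul_eq_mul, mul_one], hg, chr, ← map_smul,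
          MonoidAlgebra.scalarTensorEquiv_tmul]
        congr 1
        simp
  have hbij : Function.Bijective (φl.lTensor S) := by
    have : (φl.lTensor S : S ⊗[R] MonoidAlgebra R M → S ⊗[R] A) =
        e.symm ∘ (MonoidAlgebra.scalarTensorEquiv R S (M := M)) := funext hkey
    rw [this]
    exact e.symm.bijective.comp (MonoidAlgebra.scalarTensorEquiv R S (M := M)).bijective
  refine ⟨M, _, ⟨(BialgEquiv.ofBijective φ ⟨?_, ?_⟩).symm⟩⟩
  · exact (Module.FaithfullyFlat.lTensor_injective_iff_injective R S φl).1 hbij.1
  · exact (Module.FaithfullyFlat.lTensor_surjective_iff_surjective R S φl).1 hbij.2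

/-- over a field the group-like elements of a group algebra are the characters -/
theorem exists_eq_single {K : Type u} [Field K] {N : Type u} [CommGroup N] {x : MonoidAlgebra K N}
    (hx : IsGroupLikeElem K x) : ∃ n, x = MonoidAlgebra.single n 1 := by
  classical
  obtain ⟨n, hn, hne⟩ : ∃ n ∈ x.coeff.support, cf n x ≠ 0 := by
    by_contra hno
    push Not at hno
    exact one_ne_zero ((groupLike_coeff_sum hx).symm.trans (Finset.sum_eq_zero hno))
  have h1 : cf n x = 1 :=
    (IsIdempotentElem.iff_eq_zero_or_one.1 (groupLike_coeff_idem hx n)).resolve_left hne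
  refine ⟨n, ext_cf fun j => ?_⟩
  rw [cf_single]
  split_ifs with hj
  · rw [← hj, h1]
  · have h2 := groupLike_coeff_mul hx n j
    rwa [if_neg hj, h1, one_mul] at h2

/-- a bialgebra isomorphism of group algebras over a field comes from the groups -/
theorem exists_mulEquiv {K : Type u} [Field K] {M N : Type u} [CommGroup M] [CommGroup N]
    (E : MonoidAlgebra K M ≃ₐc[K] MonoidAlgebra K N) :
    ∃ σ : M ≃* N, ∀ m, E (MonoidAlgebra.single m 1) = MonoidAlgebra.single (σ m) 1 := by
  classical
  choose f hf using fun m : M =>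
    exists_eq_single ((MonoidAlgebra.isGroupLikeElem_single_one (R := K) m).map E)
  choose f' hf' using fun n : N =>
    exists_eq_single ((MonoidAlgebra.isGroupLikeElem_single_one (R := K) n).map E.symm)
  have hl : ∀ m, f' (f m) = m := fun m => MonoidAlgebra.single_left_injective (R := K) one_ne_zero <| by
    dsimp only
    rw [← hf', ← hf, BialgEquiv.symm_apply_apply]
  have hr : ∀ n, f (f' n) = n := fun n => MonoidAlgebra.single_left_injective (R := K) one_ne_zero <| by
    dsimp only
    rw [← hf, ← hf', BialgEquiv.apply_symm_apply]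
  refine ⟨{ toFun := f, invFun := f', left_inv := hl, right_inv := hr, map_mul' := fun a b => ?_ }, hf⟩
  refine MonoidAlgebra.single_left_injective (R := K) one_ne_zero ?_
  dsimp only
  rw [← hf, show MonoidAlgebra.single (a * b) (1 : K) =
    MonoidAlgebra.single a 1 * MonoidAlgebra.single b 1 by simp, map_mul, hf, hf]
  simp

/-- Over a henselian local ring, a group of multiplicative type of finite type with diagonalisable
closed fibre is diagonalisable. -/
theorem isDiag_of_henselian [HenselianLocalRing R] (hft : Algebra.FiniteType R A) (h : IsMultType R A)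
    (h0 : IsDiag (ResidueField R) (ResidueField R ⊗[R] A)) : IsDiag R A := by
  classical
  obtain ⟨S₀, _, _, hff, hd⟩ := exists_isMultTypeConst_of_isLocalRing h
  obtain ⟨q, hq⟩ := PrimeSpectrum.comap_surjective_of_faithfullyFlat (A := R) (B := S₀)
    ⟨maximalIdeal R, inferInstance⟩
  let S := Localization.AtPrime q.asIdeal
  have hdS : IsDiag S (S ⊗[R] A) := isDiag_trans S₀ S A (isDiag_baseChange S (S₀ ⊗[R] A) hd)
  haveI : IsLocalHom (algebraMap R S) := ⟨fun r hr => by
    by_contra hnr
    rw [IsScalarTower.algebraMap_apply R S₀ S, IsLocalization.AtPrime.isUnit_to_map_iff S q.asIdeal] at hr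
    refine hr ?_
    change r ∈ Ideal.comap (algebraMap R S₀) q.asIdeal
    rw [show Ideal.comap (algebraMap R S₀) q.asIdeal = maximalIdeal R from
      congrArg PrimeSpectrum.asIdeal hq]
    exact hnr⟩
  haveI : Module.Flat R S := Module.Flat.trans R S₀ S
  haveI : Module.FaithfullyFlat R S := Module.FaithfullyFlat.of_flat_of_isLocalHom
  obtain ⟨M, _, ⟨e⟩⟩ := hdS
  obtain ⟨M₀, _, ⟨e₀⟩⟩ := h0
  haveI : Group.FG M :=
    group_fg_of_finiteType (inferInstance : Algebra.FiniteType S (S ⊗[R] A)) e
  let k := ResidueField R
  let K := ResidueField S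
  let eK : K ⊗[R] A ≃ₐc[K] MonoidAlgebra K M :=
    ((cancelBC R S K A).symm.trans (congrBC K e)).trans (monAlgBC S K M)
  let e₀K : K ⊗[R] A ≃ₐc[K] MonoidAlgebra K M₀ :=
    ((cancelBC R k K A).symm.trans (congrBC K e₀)).trans (monAlgBC k K M₀)
  have hS : ∀ z : S ⊗[R] A, cancelBC R S K A ((1 : K) ⊗ₜ[S] z) = redS R A S z := by
    intro z
    change Algebra.TensorProduct.cancelBaseChange R S K K A _ = _
    induction z using TensorProduct.induction_on with
    | zero => simp
    | add x y hx hy => simp only [TensorProduct.tmul_add, map_add, hx, hy]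
    | tmul s a =>
      rw [Algebra.TensorProduct.cancelBaseChange_tmul, Algebra.smul_def, mul_one]
      rfl
  have hk : ∀ z : k ⊗[R] A, cancelBC R k K A ((1 : K) ⊗ₜ[k] z) = redk R A S z := by
    intro z
    change Algebra.TensorProduct.cancelBaseChange R k K K A _ = _
    induction z using TensorProduct.induction_on with
    | zero => simp
    | add x y hx hy => simp only [TensorProduct.tmul_add, map_add, hx, hy]
    | tmul s a =>
      rw [Algebra.TensorProduct.cancelBaseChange_tmul, Algebra.smul_def, mul_one]
      rfl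
  have hSe : ∀ j, eK (redS R A S (chr e j)) = MonoidAlgebra.single j 1 := by
    intro j
    change monAlgBC S K M (congrBC K e ((cancelBC R S K A).symm (redS R A S (chr e j)))) = _
    rw [← hS, BialgEquiv.symm_apply_apply]
    change MonoidAlgebra.scalarTensorEquiv S K ((1 : K) ⊗ₜ[S] e (chr e j)) = _
    rw [e_chr, MonoidAlgebra.scalarTensorEquiv_tmul]
    simp
  have hke : ∀ j, e₀K (redk R A S (e₀.symm (MonoidAlgebra.single j 1))) = MonoidAlgebra.single j 1 := by
    intro j
    change monAlgBC k K M₀ (congrBC K e₀ ((cancelBC R k K A).symm (redk R A S _))) = _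
    rw [← hk, BialgEquiv.symm_apply_apply]
    change MonoidAlgebra.scalarTensorEquiv k K ((1 : K) ⊗ₜ[k] e₀ (e₀.symm _)) = _
    rw [BialgEquiv.apply_symm_apply, MonoidAlgebra.scalarTensorEquiv_tmul]
    simp
  obtain ⟨σ, hσ⟩ := exists_mulEquiv (eK.symm.trans e₀K)
  have hcomp : ∀ j, redS R A S (chr e j) = redk R A S (e₀.symm (MonoidAlgebra.single (σ j) 1)) := by
    intro j
    apply e₀K.injective
    change e₀K _ = e₀K _
    rw [hke, ← hσ]
    change _ = e₀K (eK.symm _)
    rw [← hSe, BialgEquiv.symm_apply_apply]
  exact isDiag_of_chars e fun m => (exists_char e e₀ σ hft h hcomp m).imp fun _ hg => hg.2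

end Groth.Sga3.CharLift
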