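import Groth.Agent.Sga3.UnipotentPart
import Groth.Prelude.Def_SGA3b

/-!
Over an algebraically closed field a commutative cocommutative Hopf algebra is spanned by products of
unipotent elements and group-likes; compatibility of the unipotent part with field extensions.
-/

universe u

open TensorProduct WithConv

namespace Groth.Sga3.UnipotentPart

open Groth.ComodLib

section Decomp

variable {K : Type u} [Field K] {A : Type u} [CommRing A] [HopfAlgebra K A]
  [Coalgebra.IsCocomm K A]

omit [Coalgebra.IsCocomm K A] in
lemma slice_mul_grouplike {g : A} (hg : IsGroupLikeElem K g) (φ : A →ₗ[K] K) (y : A) :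
    slice φ (Coalgebra.comul (R := K) (y * g)) =
      slice (φ ∘ₗ LinearMap.mulRight K g) (Coalgebra.comul (R := K) y) * g := by
  rw [Bialgebra.comul_mul, hg.comul_eq_tmul_self]
  induction Coalgebra.comul (R := K) y using TensorProduct.induction_on with
  | zero => simp
  | tmul p q => simp [Algebra.TensorProduct.tmul_mul_tmul]
  | add p q hp hq => simp only [add_mul, map_add, hp, hq]

variable (K A) in
/-- Products of a unipotent element and a group-like. -/
noncomputable def mulSpan : Submodule K A :=
  Submodule.span K {x | ∃ b ∈ unip K A, ∃ g, IsGroupLikeElem K g ∧ b * g = x}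

omit [Coalgebra.IsCocomm K A] in
lemma slice_mem_mulSpan {x : A} (hx : x ∈ mulSpan K A) (φ : A →ₗ[K] K) :
    slice φ (Coalgebra.comul (R := K) x) ∈ mulSpan K A := by
  induction hx using Submodule.span_induction with
  | mem x hx =>
    obtain ⟨b, hb, g, hg, rfl⟩ := hx
    rw [slice_mul_grouplike hg]
    exact Submodule.subset_span ⟨_, slice_mem_unip hb _, g, hg, rfl⟩
  | zero => simp
  | add p q _ _ hp hq => simpa using add_mem hp hq
  | smul c p _ hp => simpa using Submodule.smul_mem _ c hp

omit [Coalgebra.IsCocomm K A] in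
lemma op_regular (φ : WithConv (A →ₗ[K] K)) (x : A) :
    op (V := A) φ.ofConv x = slice φ.ofConv (Coalgebra.comul (R := K) x) := rfl

/-- The generalised eigenvector criterion: killed by a power of the ideal of a group-like. -/
lemma mul_antipode_mem_unip {g : A} (hg : IsGroupLikeElem K g)
    (m : Ideal (WithConv (A →ₗ[K] K))) (hm : ∀ φ : A →ₗ[K] K, φ g = 0 → toConv φ ∈ m) :
    ∀ (M : ℕ) (x : A), (∀ ψ ∈ m ^ M, op (V := A) ψ.ofConv x = 0) →
      x * HopfAlgebra.antipode K g ∈ unip K A := by
  intro M
  induction M with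
  | zero =>
    intro x hx
    have h := hx 1 (by simp)
    rw [op_one] at h
    simp [h]
  | succ M ih =>
    intro x hx
    refine mem_unip_of_slices fun φ hφ => ?_
    rw [slice_mul_grouplike hg.antipode]
    let φ' := φ ∘ₗ LinearMap.mulRight K (HopfAlgebra.antipode K g)
    have hφ' : φ' g = 0 := by
      change φ (g * HopfAlgebra.antipode K g) = 0
      rw [hg.mul_antipode_cancel, hφ]
    refine ih _ fun ψ hψ => ?_
    have h := hx (ψ * toConv φ') (by rw [Submodule.pow_succ]; exact Ideal.mul_mem_mul hψ (hm φ' hφ'))
    rw [op_mul] at h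
    exact h

/-- Over an algebraically closed field everything is a combination of products of a unipotent element
and a group-like. -/
theorem mulSpan_eq_top [IsAlgClosed K] : mulSpan K A = ⊤ := by
  classical
  rw [eq_top_iff]
  intro a _
  let W := WithConv (A →ₗ[K] K)
  let a' : RatMod K A A := RatMod.equiv K A A a
  let b : Ideal W :=
    { carrier := {φ | op (V := A) φ.ofConv a ∈ mulSpan K A}
      zero_mem' := by simp [op_regular, slice]
      add_mem' := fun {φ ψ} hφ hψ => by
        simp only [Set.mem_setOf_eq, op_regular] at hφ hψ ⊢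
        rw [show (φ + ψ).ofConv = φ.ofConv + ψ.ofConv from rfl, slice_add]
        exact add_mem hφ hψ
      smul_mem' := fun φ ψ hψ => by
        simp only [Set.mem_setOf_eq, smul_eq_mul] at hψ ⊢
        rw [op_mul, op_regular]
        exact slice_mem_mulSpan hψ _ }
  by_cases hb : b = ⊤
  · have h : (1 : W) ∈ b := hb ▸ Submodule.mem_top
    change op (V := A) (1 : W).ofConv a ∈ mulSpan K A at h
    rwa [op_one] at h
  obtain ⟨m, hm, hbm⟩ := Ideal.exists_le_maximal b hb
  exfalso
  let L : W →ₗ[K] A := sliceL A (Coalgebra.comul (R := K) a) ∘ₗ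
    (WithConv.linearEquiv K (A →ₗ[K] K)).toLinearMap
  have hL : ∀ φ, L φ = op (V := A) φ.ofConv a := fun φ => rfl
  have hLfin : Module.Finite K (LinearMap.range L) := by
    obtain ⟨s, hs⟩ := range_sliceL_finite (A := A) (Coalgebra.comul (R := K) a)
    refine Module.Finite.of_fg (Submodule.FG.of_le (Submodule.fg_span s.finite_toSet) ?_)
    rintro _ ⟨φ, rfl⟩
    exact hs ⟨φ.ofConv, rfl⟩
  -- the stationary power
  let P : ℕ → Submodule W (RatMod K A A) := fun N => m ^ N • Submodule.span W {a'}
  let Q : ℕ → Submodule K A := fun N => ((P N).restrictScalars K).comap (RatMod.equiv K A A).toLinearMap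
  have hQle : ∀ N, Q N ≤ LinearMap.range L := by
    intro N x hx
    have hx' : RatMod.equiv K A A x ∈ Submodule.span W {a'} := Submodule.smul_le_right hx
    obtain ⟨φ, hφ⟩ := Submodule.mem_span_singleton.mp hx'
    exact ⟨φ, (RatMod.equiv K A A).injective hφ⟩
  have hQfin : ∀ N, Module.Finite K (Q N) := fun N => Submodule.finiteDimensional_of_le (hQle N)
  have hex : ∃ d N, Module.finrank K (Q N) = d := ⟨_, 0, rfl⟩
  obtain ⟨N, hN⟩ := Nat.find_spec hex
  have hmono : P (N + 1) ≤ P N := Submodule.smul_mono_left (Ideal.pow_le_pow_right N.le_succ)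
  have hQeq : Q (N + 1) = Q N := by
    have := hQfin N
    refine Submodule.eq_of_le_of_finrank_le (fun x hx => hmono hx) ?_
    rw [hN]
    exact Nat.find_le ⟨N + 1, rfl⟩
  have hPeq : P N ≤ m • P N := by
    intro x hx
    have h : (RatMod.equiv K A A).symm x ∈ Q (N + 1) := hQeq ▸ (show RatMod.equiv K A A ((RatMod.equiv K A A).symm x) ∈ P N by simpa using hx)
    have h' : x ∈ P (N + 1) := by simpa [Q] using h
    rw [show P (N + 1) = m • P N by simp only [P]; rw [Submodule.pow_succ, Ideal.mul_comm, Submodule.mul_smul]] at h'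
    exact h'
  have hPfg : (P N).FG := by
    obtain ⟨t, ht⟩ := Module.Finite.iff_fg.mp (hQfin N)
    refine ⟨t.image (RatMod.equiv K A A), le_antisymm (Submodule.span_le.mpr ?_) fun x hx => ?_⟩
    · intro x hx
      simp only [Finset.coe_image, Set.mem_image] at hx
      obtain ⟨y, hy, rfl⟩ := hx
      exact (ht ▸ Submodule.subset_span hy : y ∈ Q N)
    · have h : (RatMod.equiv K A A).symm x ∈ Submodule.span K (t : Set A) := by
        rw [ht]
        simpa [Q] using hx
      have h2 : (RatMod.equiv K A A) ((RatMod.equiv K A A).symm x) ∈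
          Submodule.map (RatMod.equiv K A A).toLinearMap (Submodule.span K (t : Set A)) :=
        Submodule.mem_map_of_mem h
      rw [LinearEquiv.apply_symm_apply, Submodule.map_span] at h2
      have hle := Submodule.span_le_restrictScalars K W ((RatMod.equiv K A A).toLinearMap '' (t : Set A)) h2
      rw [Finset.coe_image]
      exact hle
  obtain ⟨s, hs1, hs⟩ :=
    Submodule.exists_sub_one_mem_and_smul_eq_zero_of_fg_of_le_smul m (P N) hPfg hPeq
  have hsm : s ∉ m := fun h => hm.ne_top ((Ideal.eq_top_iff_one m).mpr (by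
    simpa using m.sub_mem h hs1))
  let x := op (V := A) s.ofConv a
  have hx : ∀ ψ ∈ m ^ N, op (V := A) ψ.ofConv x = 0 := by
    intro ψ hψ
    rw [← op_mul, mul_comm, op_mul]
    have h := hs _ (Submodule.smul_mem_smul hψ (Submodule.mem_span_singleton_self a'))
    exact (RatMod.equiv K A A).injective (h.trans (map_zero _).symm)
  -- the character
  have hker : LinearMap.ker L ≤ m.restrictScalars K := fun φ hφ => hbm (by
    change op (V := A) φ.ofConv a ∈ mulSpan K A
    rw [← hL, LinearMap.mem_ker.mp hφ]
    exact Submodule.zero_mem _)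
  have hfinq : Module.Finite K (W ⧸ m) := by
    have : Module.Finite K (W ⧸ LinearMap.ker L) := Module.Finite.equiv L.quotKerEquivRange.symm
    refine Module.Finite.of_surjective ((LinearMap.ker L).liftQ (Ideal.Quotient.mkₐ K m).toLinearMap
      (fun φ hφ => Ideal.Quotient.eq_zero_iff_mem.mpr (hker hφ))) ?_
    intro y
    obtain ⟨φ, rfl⟩ := Ideal.Quotient.mk_surjective y
    exact ⟨Submodule.Quotient.mk φ, rfl⟩
  let e : K ≃ₐ[K] W ⧸ m := AlgEquiv.ofBijective (Algebra.ofId K (W ⧸ m))
    IsAlgClosed.algebraMap_bijective_of_isIntegral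
  let χ : W →ₐ[K] K := (e.symm : (W ⧸ m) →ₐ[K] K).comp (Ideal.Quotient.mkₐ K m)
  have hχm : ∀ φ, χ φ = 0 ↔ φ ∈ m := fun φ => by
    simp [χ, Ideal.Quotient.eq_zero_iff_mem]
  obtain ⟨ξ, hξ⟩ := LinearMap.exists_extend
    ((LinearMap.ker L).liftQ χ.toLinearMap (fun φ hφ => (hχm φ).mpr (hker hφ)) ∘ₗ
      L.quotKerEquivRange.symm.toLinearMap)
  let g : A := cf (A := A) (V := A) ξ a
  have hg : ∀ φ : A →ₗ[K] K, φ g = χ (toConv φ) := by
    intro φ
    rw [apply_cf]
    have h := LinearMap.congr_fun hξ ⟨L (toConv φ), ⟨_, rfl⟩⟩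
    simp only [LinearMap.comp_apply, LinearEquiv.coe_coe] at h
    rw [show L.quotKerEquivRange.symm ⟨L (toConv φ), ⟨_, rfl⟩⟩ = Submodule.Quotient.mk (toConv φ) from
      L.quotKerEquivRange_symm_apply_image (toConv φ) ⟨_, rfl⟩] at h
    exact h
  have hgl : IsGroupLikeElem K g := by
    refine ⟨?_, ext_slice fun φ => ?_⟩
    · rw [hg]
      have : (toConv (Coalgebra.counit (R := K) (A := A)) : W) = 1 := by
        refine WithConv.ext (LinearMap.ext fun y => ?_)
        simp [LinearMap.convOne_def]
      rw [this, map_one]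
    · rw [slice_tmul]
      refine sub_eq_zero.mp ((Module.forall_dual_apply_eq_zero_iff K _).mp fun ψ => ?_)
      rw [map_sub, map_smul, hg φ, hg ψ, sub_eq_zero, smul_eq_mul, ← map_mul, mul_comm, ← hg]
      change _ = (toConv ψ * toConv φ : W) g
      rw [LinearMap.convMul_apply]
      induction Coalgebra.comul (R := K) g using TensorProduct.induction_on with
      | zero => simp
      | tmul p q => simp [mul_comm]
      | add p q hp hq => simp only [map_add, hp, hq]
  have hy := mul_antipode_mem_unip hgl m (fun φ hφ => (hχm _).mp (hg φ ▸ hφ)) N x hx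
  apply hsm
  apply hbm
  change x ∈ mulSpan K A
  exact Submodule.subset_span ⟨_, hy, g, hgl, by rw [mul_assoc, hgl.antipode_mul_cancel, mul_one]⟩

end Decomp

section BaseChange

variable {k : Type u} [Field k] {A : Type u} [CommRing A] [HopfAlgebra k A]
  {K : Type u} [Field K] [Algebra k K]

lemma U_baseChange_le (n : ℕ) :
    ∀ z ∈ U K (K ⊗[k] A) n, z ∈ LinearMap.range ((U k A n).subtype.lTensor K) := by
  induction n with
  | zero =>
    intro z hz
    exact ⟨0, by simp [(Submodule.mem_bot K).mp hz]⟩
  | succ n ih =>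
    intro z hz
    let Θ : (K ⊗[k] A) ⊗[K] (K ⊗[k] A) →ₗ[K] K ⊗[k] ((A ⧸ U k A n) ⊗[k] A) :=
      ((U k A n).mkQ.rTensor A).baseChange K ∘ₗ
        (TensorProduct.AlgebraTensorModule.distribBaseChange k K A A).symm.toLinearMap
    have hz' := hz
    rw [U, LinearMap.mem_ker, stepMap, LinearMap.comp_apply] at hz'
    obtain ⟨w, hw⟩ := ((_root_.rTensor_exact (K ⊗[k] A) (LinearMap.exact_subtype_mkQ _)
      (Submodule.mkQ_surjective _)) _).1 hz'
    have h0 : Θ (((Coalgebra.comul (R := K) (A := K ⊗[k] A)) - (TensorProduct.mk K (K ⊗[k] A) (K ⊗[k] A)).flip 1) z) = 0 := by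
      rw [← hw]
      clear hw
      induction w using TensorProduct.induction_on with
      | zero => simp
      | add p q hp hq => simp only [map_add, hp, hq, add_zero]
      | tmul p q =>
        obtain ⟨t, ht⟩ := ih p p.2
        rw [LinearMap.rTensor_tmul, Submodule.subtype_apply, ← ht]
        clear ht
        induction t using TensorProduct.induction_on with
        | zero => simp
        | add p q hp hq => simp only [map_add, TensorProduct.add_tmul, hp, hq, add_zero]
        | tmul c b =>
          induction q using TensorProduct.induction_on with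
          | zero => simp
          | add p q hp hq => simp only [TensorProduct.tmul_add, map_add, hp, hq, add_zero]
          | tmul d q =>
            simp [Θ, (Submodule.Quotient.mk_eq_zero _).mpr b.2]
    have hstep : ∀ y : K ⊗[k] A,
        Θ (((Coalgebra.comul (R := K) (A := K ⊗[k] A)) - (TensorProduct.mk K (K ⊗[k] A) (K ⊗[k] A)).flip 1) y) =
          (stepMap k A (U k A n)).lTensor K y := by
      intro y
      induction y using TensorProduct.induction_on with
      | zero => simp
      | add p q hp hq => simp only [map_add, hp, hq]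
      | tmul c b =>
        simp only [LinearMap.sub_apply, LinearMap.flip_apply, TensorProduct.mk_apply, map_sub,
          LinearMap.lTensor_tmul, stepMap, LinearMap.comp_apply, TensorProduct.tmul_sub,
          TensorProduct.comul_tmul, CommSemiring.comul_apply]
        congr 1
        · induction Coalgebra.comul (R := k) b using TensorProduct.induction_on with
          | zero => simp
          | add p q hp hq => simp only [map_add, TensorProduct.tmul_add, hp, hq]
          | tmul p q => simp [Θ]
        · simp [Θ, Algebra.TensorProduct.one_def]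
    rw [hstep] at h0
    exact ((Module.Flat.lTensor_exact K (LinearMap.exact_subtype_ker_map _)) z).1 h0

end BaseChange

end Groth.Sga3.UnipotentPart
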