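import Groth.Agent.Sga3.SubHopfStruct
import Groth.Agent.Hopf.Coeff
import Groth.Agent.Misc12.AntipodeComul

/-!
The unipotent part of a commutative cocommutative Hopf algebra over a field: the union of the
filtration `B 0 = 0`, `B (n+1) = {a | Δ a - a ⊗ 1 ∈ B n ⊗ A}`.
-/

universe u

open TensorProduct WithConv

namespace Groth.Sga3.UnipotentPart

open Groth.ComodLib

variable (k : Type u) [Field k] (A : Type u) [CommRing A] [HopfAlgebra k A]

/-- `a ↦ (q ⊗ 1) (Δ a - a ⊗ 1)`. -/
noncomputable def stepMap (N : Submodule k A) : A →ₗ[k] (A ⧸ N) ⊗[k] A :=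
  N.mkQ.rTensor A ∘ₗ (Coalgebra.comul (R := k) - (TensorProduct.mk k A A).flip 1)

/-- The filtration. -/
noncomputable def U : ℕ → Submodule k A
  | 0 => ⊥
  | n + 1 => LinearMap.ker (stepMap k A (U n))

variable {k A}

lemma mem_U_succ {n : ℕ} {a : A} : a ∈ U k A (n + 1) ↔
    ∀ φ : A →ₗ[k] k, slice φ (Coalgebra.comul (R := k) a) - φ 1 • a ∈ U k A n := by
  rw [U, LinearMap.mem_ker]
  constructor
  · intro h φ
    have h1 := congrArg (slice φ) h
    rw [stepMap, LinearMap.comp_apply, slice_rTensor, map_zero, Submodule.mkQ_apply,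
      Submodule.Quotient.mk_eq_zero] at h1
    simpa using h1
  · intro h
    refine eq_zero_of_slice fun φ => ?_
    rw [stepMap, LinearMap.comp_apply, slice_rTensor, Submodule.mkQ_apply,
      Submodule.Quotient.mk_eq_zero]
    simpa using h φ

lemma U_le_succ (n : ℕ) : U k A n ≤ U k A (n + 1) := by
  induction n with
  | zero => exact bot_le
  | succ n ih => exact fun a ha => mem_U_succ.mpr fun φ => ih (mem_U_succ.mp ha φ)

lemma U_mono : Monotone (U k A) := monotone_nat_of_le_succ U_le_succ

lemma mem_U_of_slice {n : ℕ} {a : A} (ha : a ∈ U k A n) (φ : A →ₗ[k] k) :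
    slice φ (Coalgebra.comul (R := k) a) ∈ U k A n := by
  cases n with
  | zero => simp [(Submodule.mem_bot k).mp ha]
  | succ n =>
    have h := U_le_succ n (mem_U_succ.mp ha φ)
    simpa using add_mem h (Submodule.smul_mem _ (φ 1) ha)

lemma one_mem_U : (1 : A) ∈ U k A 1 := by
  rw [mem_U_succ]
  intro φ
  simp [Algebra.TensorProduct.one_def]

lemma U_one_le : U k A 1 ≤ Submodule.span k {(1 : A)} := by
  intro a ha
  have h := mem_U_succ.mp ha (Coalgebra.counit (R := k))
  simp only [U, Submodule.mem_bot, Bialgebra.counit_one, one_smul] at h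
  have h1 : Coalgebra.comul (R := k) a = a ⊗ₜ[k] (1 : A) := ext_slice fun φ => by
    rw [slice_tmul]
    exact sub_eq_zero.mp ((Submodule.mem_bot k).mp (mem_U_succ.mp ha φ))
  have h2 := Coalgebra.rTensor_counit_comul (R := k) a
  rw [h1, LinearMap.rTensor_tmul] at h2
  have h3 := congrArg (TensorProduct.lid k A) h2
  simp only [TensorProduct.lid_tmul, one_smul] at h3
  exact Submodule.mem_span_singleton.mpr ⟨_, h3⟩

lemma mul_mem_U : ∀ (N n m : ℕ), n + m ≤ N → ∀ a ∈ U k A (n + 1), ∀ b ∈ U k A (m + 1),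
    a * b ∈ U k A (n + m + 1) := by
  intro N
  induction N with
  | zero =>
    intro n m h a ha b hb
    obtain ⟨rfl, rfl⟩ : n = 0 ∧ m = 0 := by omega
    obtain ⟨r, rfl⟩ := Submodule.mem_span_singleton.mp (U_one_le ha)
    simpa using Submodule.smul_mem _ r hb
  | succ N ih =>
    intro n m h a ha b hb
    rw [U, LinearMap.mem_ker, stepMap, LinearMap.comp_apply] at ha hb ⊢
    simp only [LinearMap.sub_apply, LinearMap.flip_apply, TensorProduct.mk_apply] at ha hb ⊢
    obtain ⟨x, hx⟩ := ((_root_.rTensor_exact A (LinearMap.exact_subtype_mkQ _)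
      (Submodule.mkQ_surjective _)) _).1 ha
    obtain ⟨y, hy⟩ := ((_root_.rTensor_exact A (LinearMap.exact_subtype_mkQ _)
      (Submodule.mkQ_surjective _)) _).1 hb
    have ha' : a ∈ U k A (n + 1) := by
      rw [U, LinearMap.mem_ker, stepMap, LinearMap.comp_apply]
      simpa using ha
    have hb' : b ∈ U k A (m + 1) := by
      rw [U, LinearMap.mem_ker, stepMap, LinearMap.comp_apply]
      simpa using hb
    have hΔ : Coalgebra.comul (R := k) (a * b) - (a * b) ⊗ₜ[k] (1 : A) =
        (a ⊗ₜ[k] (1 : A)) * (U k A m).subtype.rTensor A y +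
          (U k A n).subtype.rTensor A x * (b ⊗ₜ[k] (1 : A)) +
          (U k A n).subtype.rTensor A x * (U k A m).subtype.rTensor A y := by
      rw [hx, hy, Bialgebra.comul_mul,
        show (a * b) ⊗ₜ[k] (1 : A) = (a ⊗ₜ[k] (1 : A)) * (b ⊗ₜ[k] (1 : A)) by simp]
      ring
    rw [hΔ, map_add, map_add]
    have key : ∀ (P Q : Submodule k A), (∀ p ∈ P, ∀ q ∈ Q, p * q ∈ U k A (n + m)) →
        ∀ (s : P ⊗[k] A) (t : Q ⊗[k] A),
          (U k A (n + m)).mkQ.rTensor A (P.subtype.rTensor A s * Q.subtype.rTensor A t) = 0 := by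
      intro P Q hPQ s t
      induction s using TensorProduct.induction_on with
      | zero => simp
      | add p q hp hq => simp only [map_add, add_mul, hp, hq, add_zero]
      | tmul p c =>
        induction t using TensorProduct.induction_on with
        | zero => simp
        | add p q hp hq => simp only [map_add, mul_add, hp, hq, add_zero]
        | tmul q d =>
          simp [(Submodule.Quotient.mk_eq_zero _).mpr (hPQ p p.2 q q.2)]
    have hbot : ∀ p : A, ∀ q ∈ (⊥ : Submodule k A), p * q ∈ U k A (n + m) ∧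
        q * p ∈ U k A (n + m) := fun p q hq => by simp [(Submodule.mem_bot k).mp hq]
    have h1 : ∀ p ∈ U k A (n + 1), ∀ q ∈ U k A m, p * q ∈ U k A (n + m) := by
      intro p hp q hq
      cases m with
      | zero => exact (hbot p q hq).1
      | succ m => simpa [add_assoc] using ih n m (by omega) p hp q hq
    have h2 : ∀ p ∈ U k A n, ∀ q ∈ U k A (m + 1), p * q ∈ U k A (n + m) := by
      intro p hp q hq
      cases n with
      | zero => exact (hbot q p hp).2
      | succ n => simpa [add_right_comm] using ih n m (by omega) p hp q hq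
    have h3 : ∀ p ∈ U k A n, ∀ q ∈ U k A m, p * q ∈ U k A (n + m) := fun p hp q hq =>
      h1 p (U_le_succ n hp) q hq
    rw [key _ _ h3 x y]
    have e1 := key _ _ h1 ((⟨a, ha'⟩ : U k A (n + 1)) ⊗ₜ[k] (1 : A)) y
    have e2 := key _ _ h2 x ((⟨b, hb'⟩ : U k A (m + 1)) ⊗ₜ[k] (1 : A))
    simp only [LinearMap.rTensor_tmul, Submodule.subtype_apply] at e1 e2
    rw [e1, e2, add_zero, add_zero]

variable (k A) in
/-- The unipotent part. -/
noncomputable def unip : Subalgebra k A :=
  Submodule.toSubalgebra (⨆ n, U k A n) (Submodule.mem_iSup_of_mem 1 one_mem_U) fun a b ha hb => by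
    rw [Submodule.mem_iSup_of_directed _ U_mono.directed_le] at ha hb ⊢
    obtain ⟨n, hn⟩ := ha
    obtain ⟨m, hm⟩ := hb
    exact ⟨n + m + 1, mul_mem_U _ n m le_rfl a (U_le_succ _ hn) b (U_le_succ _ hm)⟩

lemma mem_unip {a : A} : a ∈ unip k A ↔ ∃ n, a ∈ U k A n :=
  Submodule.mem_iSup_of_directed _ U_mono.directed_le

lemma slice_mem_unip {a : A} (ha : a ∈ unip k A) (φ : A →ₗ[k] k) :
    slice φ (Coalgebra.comul (R := k) a) ∈ unip k A := by
  obtain ⟨n, hn⟩ := mem_unip.mp ha
  exact mem_unip.mpr ⟨n, mem_U_of_slice hn φ⟩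

/-- A finite-dimensional space of slices inside the unipotent part lies in one stage. -/
lemma mem_unip_of_slices {a : A}
    (h : ∀ φ : A →ₗ[k] k, φ 1 = 0 → slice φ (Coalgebra.comul (R := k) a) ∈ unip k A) :
    a ∈ unip k A := by
  classical
  let T : (A →ₗ[k] k) →ₗ[k] A :=
    sliceL A (Coalgebra.comul (R := k) a) - (LinearMap.applyₗ (1 : A)).smulRight a
  have hT : ∀ φ, T φ ∈ unip k A := by
    intro φ
    have h1 := h (φ - φ 1 • Coalgebra.counit) (by simp)
    have h2 : slice (φ - φ 1 • Coalgebra.counit) (Coalgebra.comul (R := k) a) = T φ := by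
      rw [← sliceL_apply (A := A), map_sub, map_smul]
      simp only [T, LinearMap.sub_apply, sliceL_apply]
      congr 1
      simp only [LinearMap.smulRight_apply, LinearMap.applyₗ_apply_apply]
      congr 1
      simp [slice, Coalgebra.lTensor_counit_comul]
    rwa [h2] at h1
  obtain ⟨s, hs⟩ := range_sliceL_finite (A := A) (Coalgebra.comul (R := k) a)
  have hfin : (LinearMap.range T).FG := by
    refine Submodule.FG.of_le (Submodule.fg_span (s ∪ {a}).finite_toSet) ?_
    rintro _ ⟨φ, rfl⟩
    simp only [T, LinearMap.sub_apply, LinearMap.smulRight_apply, Finset.coe_union, Finset.coe_singleton]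
    exact sub_mem (Submodule.span_mono Set.subset_union_left (hs ⟨φ, rfl⟩))
      (Submodule.smul_mem _ _ (Submodule.subset_span (Or.inr rfl)))
  obtain ⟨t, ht⟩ := hfin
  have hmem : ∀ x ∈ t, ∃ n, x ∈ U k A n := by
    intro x hx
    obtain ⟨φ, hφ⟩ : x ∈ LinearMap.range T := ht ▸ Submodule.subset_span hx
    exact mem_unip.mp (hφ ▸ hT φ)
  choose f hf using hmem
  let g : {x // x ∈ t} → ℕ := fun x => f x.1 x.2
  refine mem_unip.mpr ⟨t.attach.sup g + 1, mem_U_succ.mpr fun φ => ?_⟩
  have hle : LinearMap.range T ≤ U k A (t.attach.sup g) := by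
    rw [← ht, Submodule.span_le]
    intro x hx
    exact U_mono (Finset.le_sup (f := g) (Finset.mem_attach t ⟨x, hx⟩)) (hf x hx)
  exact hle ⟨φ, rfl⟩

variable [Coalgebra.IsCocomm k A]

lemma lslice_comul (φ : A →ₗ[k] k) (a : A) :
    lslice φ (Coalgebra.comul (R := k) a) = slice φ (Coalgebra.comul (R := k) a) := by
  conv_lhs => rw [← Coalgebra.comm_comul k a]
  rw [lslice_comm]

variable (k A) in
theorem isHopfSubalgebra_unip : SGA3.IsHopfSubalgebra k A (unip k A) := by
  refine ⟨fun b hb => ?_, fun b hb => ?_⟩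
  · exact (mem_range_map_iff (unip k A).toSubmodule (unip k A).toSubmodule _).mpr
      ⟨slice_mem_unip hb, fun ψ => by rw [lslice_comul]; exact slice_mem_unip hb ψ⟩
  · obtain ⟨n, hn⟩ := mem_unip.mp hb
    refine mem_unip.mpr ⟨n, ?_⟩
    clear hb
    induction n generalizing b with
    | zero => simp [(Submodule.mem_bot k).mp hn]
    | succ n ih =>
      rw [mem_U_succ]
      intro φ
      let S := HopfAlgebra.antipode k (A := A)
      have h1 : slice φ (Coalgebra.comul (R := k) (S b)) =
          S (slice (φ ∘ₗ S) (Coalgebra.comul (R := k) b)) := by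
        rw [Groth.Misc12.comul_antipode_eq, Coalgebra.comm_comul, ← LinearMap.rTensor_comp_lTensor,
          LinearMap.comp_apply, slice_rTensor, slice_lTensor]
      have h2 := ih _ (mem_U_succ.mp hn (φ ∘ₗ S))
      rw [h1]
      simpa [S] using h2

end Groth.Sga3.UnipotentPart
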