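import Groth.Agent.Sga3.CharDescent
import Mathlib.FieldTheory.PurelyInseparable.Basic
import Mathlib.FieldTheory.SeparableClosure

/-!
Groups of multiplicative type of finite type over fields: split by a finite separable extension.
-/

set_option autoImplicit false

universe u

open TensorProduct Coalgebra WithConv

noncomputable section

namespace Groth.Sga3.CharLift

open SGA3b MultType GroupAlg CharFun

variable {k : Type u} [Field k] {A : Type u} [CommRing A] [HopfAlgebra k A]
  {K : Type u} [Field K] [Algebra k K] {M : Type u} [CommGroup M]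
  (e : K ⊗[k] A ≃ₐc[K] MonoidAlgebra K M)

include e in
/-- functionals separate the classes -/
theorem exists_ne_of_class [IsSepClosed k] (hft : Algebra.FiniteType k A) (h : IsMultType k A)
    {n : ℕ} (hn : 0 < n) {m j : M} (hmj : j⁻¹ * m ∉ (powMonoidHom (α := M) n).range) :
    ∃ φ ∈ classFun e n, ev e φ m ≠ 0 ∧ ev e φ j = 0 := by
  classical
  let T := torsionIdeal k A n
  have hfin : Module.Finite k (A ⧸ T) := finite_quotient_torsionIdeal hft h hn
  let D := classFun e n
  have hsep : ∃ φ ∈ D, ev e φ m ≠ ev e φ j := by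
    by_contra hne
    push Not at hne
    let q : A →ₗ[k] A ⧸ T := (Ideal.Quotient.mkₐ k T).toLinearMap
    let π : K ⊗[k] A →ₗ[K] K ⊗[k] (A ⧸ T) := q.baseChange K
    have hz : π (chr e m - chr e j) = 0 := by
      let b := Module.Basis.ofVectorSpace k (A ⧸ T)
      refine (b.baseChange K).ext_elem fun i => ?_
      rw [map_zero, Finsupp.zero_apply]
      let ψ : WithConv (A →ₗ[k] k) := toConv ((b.coord i) ∘ₗ q)
      have hψ : ψ ∈ D := (kills_iff e n).2 fun t ht => by
        change b.coord i (Ideal.Quotient.mk T t) = 0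
        rw [Ideal.Quotient.eq_zero_iff_mem.2 ht, map_zero]
      have hc : ∀ z : K ⊗[k] A, (b.baseChange K).repr (π z) i = extendScalar K ψ.ofConv z := by
        intro z
        induction z using TensorProduct.induction_on with
        | zero => simp
        | add x y hx hy => simp only [map_add, Finsupp.add_apply, hx, hy]
        | tmul s a => simp [π, ψ, extendScalar_tmul]
      rw [hc, map_sub, ← ev_apply, ← ev_apply, hne ψ hψ, sub_self]
    have hmem : chr e m - chr e j ∈ torsionIdeal K (K ⊗[k] A) n := by
      rw [torsionIdeal_baseChange]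
      have h1 : (Algebra.TensorProduct.map (AlgHom.id K K) (Ideal.Quotient.mkₐ k T))
          (chr e m - chr e j) = 0 := hz
      rw [← RingHom.mem_ker, Algebra.TensorProduct.map_ker _ _ (fun x => ⟨x, rfl⟩)
        Ideal.Quotient.mk_surjective] at h1
      have hid : RingHom.ker (AlgHom.id K K) = ⊥ :=
        (RingHom.injective_iff_ker_eq_bot _).1 (fun x y hxy => hxy)
      rw [hid, Ideal.map_bot, bot_sup_eq] at h1
      rwa [show RingHom.ker (Ideal.Quotient.mkₐ k T) = T from Ideal.mk_ker] at h1
    have h2 : MonoidAlgebra.single m (1 : K) - MonoidAlgebra.single j 1 ∈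
        torsionIdeal K (MonoidAlgebra K M) n := by
      rw [← map_torsionIdeal e]
      have h3 := Ideal.mem_map_of_mem (e : K ⊗[k] A →ₐc[K] MonoidAlgebra K M) hmem
      rw [map_sub] at h3
      rwa [← e_chr e m, ← e_chr e j]
    rw [torsionIdeal_monoidAlgebra, RingHom.mem_ker, map_sub, MonoidAlgebra.mapDomainBialgHom_single,
      MonoidAlgebra.mapDomainBialgHom_single, sub_eq_zero] at h2
    exact hmj (QuotientGroup.eq.1 (MonoidAlgebra.single_left_injective one_ne_zero h2).symm)
  -- the functions are integral and purely inseparable over the base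
  let Θ : ((A ⧸ T) →ₗ[k] k) →ₗ[k] D :=
    { toFun := fun φ => ⟨toConv (φ ∘ₗ (Ideal.Quotient.mkₐ k T).toLinearMap), (kills_iff e n).2 fun t ht => by
        change φ (Ideal.Quotient.mk _ t) = 0
        rw [Ideal.Quotient.eq_zero_iff_mem.2 ht, map_zero]⟩
      map_add' := fun _ _ => rfl
      map_smul' := fun _ _ => rfl }
  have hΘ : Function.Surjective Θ := fun φ => by
    refine ⟨Submodule.liftQ (T.restrictScalars k) φ.1.ofConv
      (fun t ht => (kills_iff e n).1 φ.2 t ht), Subtype.ext (WithConv.ofConv_injective ?_)⟩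
    exact LinearMap.ext fun a => rfl
  have : Module.Finite k D := Module.Finite.of_surjective Θ hΘ
  letI : CommRing D :=
    { (inferInstance : Ring D) with
      mul_comm := fun a b => Subtype.ext (ev_injective e (by
        rw [Subalgebra.coe_mul, Subalgebra.coe_mul, map_mul, map_mul, mul_comm])) }
  have : Algebra.IsIntegral k D := Algebra.IsIntegral.of_finite k D
  let χ : M → (D →ₐ[k] K) := fun i => AlgHom.mk' ((Pi.evalRingHom (fun _ : M => K) i).comp
      ((ev e).comp D.val.toRingHom)) fun c x => by
    change ev e (c • x.1) i = c • ev e x.1 i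
    rw [ev_smul, Pi.smul_apply]
  obtain ⟨d, hd, hdne⟩ : ∃ d : D, χ j d = 0 ∧ χ m d ≠ 0 := by
    by_contra hall
    push Not at hall
    obtain ⟨φ, hφ, hφne⟩ := hsep
    let P := RingHom.ker (χ j)
    have hPp : P.IsPrime := RingHom.ker_isPrime _
    haveI : P.IsMaximal := Ideal.isMaximal_of_isIntegral_of_isMaximal_comap (R := k) P (by
      rw [(Ideal.eq_bot_or_top (P.comap (algebraMap k D))).resolve_right
        (fun htop => hPp.ne_top (Ideal.comap_eq_top_iff.1 htop))]
      exact Ideal.bot_isMaximal)
    letI := Ideal.Quotient.field P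
    have : Algebra.IsAlgebraic k (D ⧸ P) := inferInstance
    have hpi : IsPurelyInseparable k (D ⧸ P) := Algebra.IsAlgebraic.isPurelyInseparable_of_isSepClosed
    let q := ringExpChar k
    haveI : ExpChar k q := inferInstance
    obtain ⟨N, c, hc⟩ := IsPurelyInseparable.pow_mem k q (Ideal.Quotient.mk P (⟨φ, hφ⟩ : D))
    have hcP : (⟨φ, hφ⟩ : D) ^ q ^ N - algebraMap k D c ∈ P := by
      rw [← Ideal.Quotient.eq, map_pow, ← hc, ← Ideal.Quotient.algebraMap_eq,
        ← IsScalarTower.algebraMap_apply]
    have hj : χ j ((⟨φ, hφ⟩ : D) ^ q ^ N - algebraMap k D c) = 0 := hcP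
    have hm : χ m ((⟨φ, hφ⟩ : D) ^ q ^ N - algebraMap k D c) = 0 := hall _ hj
    rw [map_sub, map_pow, AlgHom.commutes, sub_eq_zero] at hj hm
    haveI : ExpChar K q := expChar_of_injective_algebraMap (algebraMap k K).injective q
    exact hφne (iterateFrobenius_inj K q N (hm.trans hj.symm))
  exact ⟨d.1, d.2, hdne, hd⟩

/-- Over a separably closed field, a group of multiplicative type of finite type is diagonalisable. -/
theorem isDiag_of_isSepClosed [IsSepClosed k] (hft : Algebra.FiniteType k A) (h : IsMultType k A) :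
    IsDiag k A := by
  classical
  obtain ⟨K, _, _, hd⟩ := exists_field_isDiag h
  obtain ⟨M, _, ⟨e⟩⟩ := hd
  haveI : Group.FG M :=
    group_fg_of_finiteType (inferInstance : Algebra.FiniteType K (K ⊗[k] A)) e
  refine isDiag_of_chars e fun m => ?_
  obtain ⟨x, hx⟩ : ∃ x : A, cf m (e ((1 : K) ⊗ₜ[k] x)) ≠ 0 := by
    by_contra hall
    push Not at hall
    have h0 : ∀ z, cf m (e z) = 0 := fun z => by
      induction z using TensorProduct.induction_on with
      | zero => simp
      | add p q hp hq => simp only [map_add, hp, hq, add_zero]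
      | tmul s a =>
        rw [show (s ⊗ₜ[k] a : K ⊗[k] A) = s • ((1 : K) ⊗ₜ[k] a) by
          rw [TensorProduct.smul_tmul', smul_eq_mul, mul_one], map_smul, map_smul, hall, smul_zero]
    have := h0 (chr e m)
    rw [e_chr, cf_single, if_pos rfl] at this
    exact one_ne_zero this
  set c := e ((1 : K) ⊗ₜ[k] x) with hc
  obtain ⟨n, hn, hsep⟩ := exists_pow_separating ((c.coeff.support.erase m).image fun j => j⁻¹ * m)
  have hne : ∀ j ∈ c.coeff.support.erase m, j⁻¹ * m ∉ (powMonoidHom (α := M) n).range := fun j hj hN =>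
    (Finset.ne_of_mem_erase hj) (inv_mul_eq_one.1 (hsep _ (Finset.mem_image_of_mem _ hj) hN))
  choose d hd hdm hdj using fun j : c.coeff.support.erase m => exists_ne_of_class e hft h hn (hne j.1 j.2)
  let φ : WithConv (A →ₗ[k] k) := (List.map d (c.coeff.support.erase m).attach.toList).prod
  have hφ : ∀ i, ev e φ i = ∏ j ∈ (c.coeff.support.erase m).attach, ev e (d j) i := by
    intro i
    change ev e φ i = _
    rw [map_list_prod, List.map_map, Pi.list_prod_apply, List.map_map, ← Finset.prod_map_toList]
    rfl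
  have hφm : ev e φ m ≠ 0 := by
    rw [hφ]
    exact Finset.prod_ne_zero_iff.2 fun j _ => hdm j
  let y := Groth.ComodLib.slice φ.ofConv (comul (R := k) x)
  have hy : e ((1 : K) ⊗ₜ[k] y) = MonoidAlgebra.single m (ev e φ m * cf m c) := by
    refine ext_cf fun j => ?_
    rw [cf_op, ← hc, cf_single]
    by_cases hj : m = j
    · rw [if_pos hj, ← hj]
    · rw [if_neg hj]
      by_cases hs : j ∈ c.coeff.support
      · rw [hφ j, Finset.prod_eq_zero (Finset.mem_attach _
          ⟨j, Finset.mem_erase.2 ⟨fun h => hj h.symm, hs⟩⟩) (hdj _), zero_mul]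
      · rw [cf_apply j c, Finsupp.notMem_support_iff.1 hs, mul_zero]
  have hε : algebraMap k K (counit (R := k) y) = ev e φ m * cf m c := by
    have h2 := congrArg (counit (R := K)) hy
    rw [CoalgHomClass.counit_comp_apply, TensorProduct.counit_tmul, CommSemiring.counit_apply,
      Algebra.smul_def, mul_one] at h2
    rw [h2, show MonoidAlgebra.single m (ev e φ m * cf m c) =
      (ev e φ m * cf m c) • MonoidAlgebra.single m (1 : K) by simp,
      map_smul, (MonoidAlgebra.isGroupLikeElem_single_one m).counit_eq_one, smul_eq_mul, mul_one]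
  have hne0 : ev e φ m * cf m c ≠ 0 := mul_ne_zero hφm hx
  refine ⟨(counit (R := k) y)⁻¹ • y, e.injective ?_⟩
  change e _ = e (chr e m)
  rw [e_chr, TensorProduct.tmul_smul, ← algebraMap_smul K, map_smul, hy, MonoidAlgebra.smul_single,
    map_inv₀, hε, smul_eq_mul, inv_mul_cancel₀ hne0]

theorem isMultTypeConst_baseChange {R : Type u} [CommRing R] {B : Type u} [CommRing B]
    [HopfAlgebra R B] (S : Type u) [CommRing S] [Algebra R S] (h : IsMultTypeConst R B) :
    IsMultTypeConst S (S ⊗[R] B) := by
  obtain ⟨R', _, _, hff, hd⟩ := h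
  let T := S ⊗[R] R'
  letI : Algebra R' T := Algebra.TensorProduct.rightAlgebra
  haveI : IsScalarTower R R' T := IsScalarTower.of_algebraMap_eq fun r => by
    change algebraMap R T r = (1 : S) ⊗ₜ[R] algebraMap R R' r
    rw [Algebra.TensorProduct.algebraMap_apply, Algebra.algebraMap_eq_smul_one,
      Algebra.algebraMap_eq_smul_one, TensorProduct.smul_tmul]
  exact ⟨T, _, _, inferInstance, isDiag_of_equiv (cancelBC R S T B).symm
    (isDiag_trans R' T B (isDiag_baseChange T (R' ⊗[R] B) hd))⟩

theorem isDiagFT_of_gens {L : Type u} [Field L] [Algebra k L] (hft : Algebra.FiniteType k A)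
    (k' : Type u) [Field k'] [Algebra k k'] [Algebra k' L] [IsScalarTower k k' L]
    {M : Type u} [CommGroup M] (e : L ⊗[k] A ≃ₐc[L] MonoidAlgebra L M) (gens : Set M)
    (hgens : Submonoid.closure gens = ⊤)
    (h : ∀ m ∈ gens, ∃ z : k' ⊗[k] A,
      LinearMap.rTensor A (IsScalarTower.toAlgHom k k' L).toLinearMap z = chr e m) :
    IsDiagFT k' (k' ⊗[k] A) := by
  let e' : L ⊗[k'] (k' ⊗[k] A) ≃ₐc[L] MonoidAlgebra L M := (cancelBC k k' L A).trans e
  have hd : IsDiag k' (k' ⊗[k] A) := by
    refine isDiag_of_chars e' fun m => ?_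
    have hm : m ∈ Submonoid.closure gens := hgens ▸ Submonoid.mem_top m
    induction hm using Submonoid.closure_induction with
    | mem m hm =>
      obtain ⟨z, hz⟩ := h m hm
      refine ⟨z, e'.injective ?_⟩
      change e' _ = e' (chr e' m)
      rw [e_chr, ← e_chr e m]
      refine congrArg e (Eq.trans ?_ hz)
      change Algebra.TensorProduct.cancelBaseChange k k' L L A _ = _
      clear hz
      induction z using TensorProduct.induction_on with
      | zero => simp
      | add p q hp hq => simp only [map_add, TensorProduct.tmul_add, hp, hq]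
      | tmul v a =>
        simp only [LinearMap.rTensor_tmul]
        rw [Algebra.TensorProduct.cancelBaseChange_tmul, Algebra.smul_def, mul_one]
        rfl
    | one =>
      refine ⟨1, e'.injective ?_⟩
      change e' _ = e' (chr e' 1)
      rw [e_chr, ← Algebra.TensorProduct.one_def, map_one, MonoidAlgebra.one_def]
    | mul a b _ _ ha hb =>
      obtain ⟨ga, hga⟩ := ha
      obtain ⟨gb, hgb⟩ := hb
      refine ⟨ga * gb, ?_⟩
      rw [← one_mul (1 : L), ← Algebra.TensorProduct.tmul_mul_tmul, hga, hgb, chr, chr, chr,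
        ← map_mul, MonoidAlgebra.single_mul_single, one_mul]
  obtain ⟨M', _, ⟨e''⟩⟩ := hd
  exact ⟨M', _, group_fg_of_finiteType (inferInstance : Algebra.FiniteType k' (k' ⊗[k] A)) e'', ⟨e''⟩⟩

/-- A group of multiplicative type of finite type over a field is split by a finite separable
extension. -/
theorem exists_finite_separable_isDiagFT (hft : Algebra.FiniteType k A) (h : IsMultType k A) :
    ∃ (k' : Type u) (_ : Field k') (_ : Algebra k k'), Module.Finite k k' ∧
      Algebra.IsSeparable k k' ∧ IsDiagFT k' (k' ⊗[k] A) := by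
  classical
  let L := SeparableClosure k
  haveI : IsSepClosed L := IsSepClosure.sep_closed k
  have hL : IsMultType L (L ⊗[k] A) :=
    isMultType_of_const (isMultTypeConst_baseChange L (exists_isMultTypeConst_of_isLocalRing h))
  obtain ⟨M, _, ⟨e⟩⟩ := isDiag_of_isSepClosed (k := L) (A := L ⊗[k] A) inferInstance hL
  haveI : Group.FG M :=
    group_fg_of_finiteType (inferInstance : Algebra.FiniteType L (L ⊗[k] A)) e
  obtain ⟨gens, hgens⟩ := Monoid.fg_iff.1 (Group.fg_iff_monoid_fg.1 (inferInstance : Group.FG M))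
  obtain ⟨V, hVfin, hV⟩ := TensorProduct.exists_finite_submodule_left_of_setFinite
    ((fun m => e.symm (MonoidAlgebra.single m 1)) '' gens) (hgens.2.image _)
  obtain ⟨t, ht⟩ := Module.Finite.iff_fg.1 hVfin
  let k' := IntermediateField.adjoin k (t : Set L)
  haveI : FiniteDimensional k k' := IntermediateField.finiteDimensional_adjoin
    fun x _ => Algebra.IsIntegral.isIntegral x
  have hVk : V ≤ Subalgebra.toSubmodule k'.toSubalgebra := by
    rw [← ht, Submodule.span_le]
    exact IntermediateField.subset_adjoin k _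
  refine ⟨k', inferInstance, inferInstance, inferInstance,
    Algebra.isSeparable_tower_bot_of_isSeparable k k' L, ?_⟩
  refine isDiagFT_of_gens hft k' e gens hgens.1 fun m hm => ?_
  obtain ⟨z, hz⟩ := hV ⟨m, hm, rfl⟩
  refine ⟨LinearMap.rTensor A ((Subalgebra.toSubmodule k'.toSubalgebra).subtype.codRestrict _
    (fun x => x.2) ∘ₗ Submodule.inclusion hVk) z, Eq.trans ?_ hz⟩
  clear hz
  induction z using TensorProduct.induction_on with
  | zero => simp
  | add p q hp hq => simp only [map_add, hp, hq]
  | tmul v a => rfl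

end Groth.Sga3.CharLift
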