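import Groth.Agent.Sga3.UnipotentByMultSplit
import Groth.Agent.Sga3.CharField
import Groth.Agent.Sga3.HopfKer
import Groth.Agent.Calg4.SmoothReduced
import Mathlib.FieldTheory.Galois.Infinite
import Mathlib.FieldTheory.IsAlgClosed.AlgebraicClosure

/-!
Galois descent for the unique retraction of an extension of a smooth connected unipotent group by a
group of multiplicative type over a perfect field (SGA 3 XVII 5.1.1).
-/

set_option autoImplicit false
set_option linter.unusedSectionVars false

universe u

open TensorProduct Coalgebra WithConv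

noncomputable section

namespace Groth.Sga3.GaloisRetraction

variable {k : Type u} [Field k] (K : Type u) [Field K] [Algebra k K]

section Fixed

variable {W : Type u} [AddCommGroup W] [Module k W]

/-- invariants of an extension of scalars -/
theorem exists_tmul_of_fixed [IsGalois k K] (z : K ⊗[k] W)
    (hz : ∀ σ : K ≃ₐ[k] K, σ.toLinearMap.rTensor W z = z) : ∃ w : W, z = 1 ⊗ₜ[k] w := by
  classical
  let b := Module.Basis.ofVectorSpace k W
  let E := TensorProduct.equivFinsuppOfBasisRight (M := K) b
  have h : ∀ (σ : K ≃ₐ[k] K) (y : K ⊗[k] W) i, E (σ.toLinearMap.rTensor W y) i = σ (E y i) := by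
    intro σ y i
    induction y using TensorProduct.induction_on with
    | zero => simp
    | add p q hp hq => simp only [map_add, Finsupp.add_apply, hp, hq]
    | tmul c w => simp [E, TensorProduct.equivFinsuppOfBasisRight_apply_tmul_apply]
  have hr : ∀ i, ∃ r : k, algebraMap k K r = E z i := fun i =>
    (InfiniteGalois.mem_range_algebraMap_iff_fixed (k := k) (E z i)).2 fun σ => by rw [← h, hz]
  choose r hr using hr
  refine ⟨∑ i ∈ (E z).support, r i • b i, E.injective (Finsupp.ext fun j => ?_)⟩
  rw [TensorProduct.tmul_sum, map_sum, Finsupp.finset_sum_apply]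
  simp only [TensorProduct.tmul_smul, map_smul, Finsupp.smul_apply, E,
    TensorProduct.equivFinsuppOfBasisRight_apply_tmul_apply, Module.Basis.repr_self,
    Finsupp.single_apply]
  rw [Finset.sum_eq_single j]
  · rw [if_pos rfl, one_smul, ← Algebra.algebraMap_eq_smul_one, hr]
  · intro i _ hij
    rw [if_neg hij, zero_smul, smul_zero]
  · intro hj
    rw [if_pos rfl, one_smul, ← Algebra.algebraMap_eq_smul_one, hr, Finsupp.notMem_support_iff.1 hj]

theorem one_tmul_injective : Function.Injective fun w : W => (1 : K) ⊗ₜ[k] w :=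
  Module.FaithfullyFlat.tensorProduct_mk_injective (A := k) (B := K) W

end Fixed

section Conj

variable {C : Type u} [CommRing C] [Algebra k C]

/-- the conjugation of an extension of scalars -/
def conj (σ : K ≃ₐ[k] K) : K ⊗[k] C →ₐ[k] K ⊗[k] C :=
  Algebra.TensorProduct.map σ.toAlgHom (AlgHom.id k C)

theorem conj_tmul (σ : K ≃ₐ[k] K) (x : K) (c : C) : conj K σ (x ⊗ₜ[k] c) = σ x ⊗ₜ c := rfl

theorem conj_conj (σ τ : K ≃ₐ[k] K) (z : K ⊗[k] C) : conj K σ (conj K τ z) = conj K (σ * τ) z := by
  induction z using TensorProduct.induction_on with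
  | zero => simp
  | add p q hp hq => simp only [map_add, hp, hq]
  | tmul p q => rfl

theorem conj_one (z : K ⊗[k] C) : conj K (1 : K ≃ₐ[k] K) z = z := by
  induction z using TensorProduct.induction_on with
  | zero => simp
  | add p q hp hq => simp only [map_add, hp, hq]
  | tmul p q => rfl

theorem conj_apply (σ : K ≃ₐ[k] K) (z : K ⊗[k] C) : σ.toLinearMap.rTensor C z = conj K σ z := by
  induction z using TensorProduct.induction_on with
  | zero => simp
  | add p q hp hq => simp only [map_add, hp, hq]
  | tmul p q => rfl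

theorem conj_smul (σ : K ≃ₐ[k] K) (x : K) (z : K ⊗[k] C) :
    conj K σ (x • z) = σ x • conj K σ z := by
  induction z using TensorProduct.induction_on with
  | zero => simp
  | add p q hp hq => simp only [map_add, smul_add, hp, hq]
  | tmul p q => rw [TensorProduct.smul_tmul', conj_tmul, conj_tmul, TensorProduct.smul_tmul',
      smul_eq_mul, smul_eq_mul, map_mul]

theorem finite_orbit [Algebra.IsAlgebraic k K] (z : K ⊗[k] C) :
    (Set.range fun σ : K ≃ₐ[k] K => conj K σ z).Finite := by
  induction z using TensorProduct.induction_on with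
  | zero =>
    refine (Set.finite_singleton 0).subset ?_
    rintro _ ⟨σ, rfl⟩
    simp
  | add p q hp hq =>
    refine (hp.image2 (· + ·) hq).subset ?_
    rintro _ ⟨σ, rfl⟩
    exact ⟨_, ⟨σ, rfl⟩, _, ⟨σ, rfl⟩, (map_add _ _ _).symm⟩
  | tmul p q =>
    refine (((minpoly k p).rootSet_finite K).image (fun x => x ⊗ₜ[k] q)).subset ?_
    rintro _ ⟨σ, rfl⟩
    refine ⟨σ p, Polynomial.mem_rootSet.2 ⟨minpoly.ne_zero (Algebra.IsIntegral.isIntegral p), ?_⟩, rfl⟩
    rw [Polynomial.aeval_algHom_apply, minpoly.aeval, map_zero]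

end Conj

section Hopf

variable {C : Type u} [CommRing C] [HopfAlgebra k C]

theorem counit_conj (σ : K ≃ₐ[k] K) (z : K ⊗[k] C) :
    counit (R := K) (conj K σ z) = σ (counit (R := K) z) := by
  induction z using TensorProduct.induction_on with
  | zero => simp
  | add p q hp hq => simp only [map_add, hp, hq]
  | tmul p q =>
    rw [conj_tmul, TensorProduct.counit_tmul, TensorProduct.counit_tmul, CommSemiring.counit_apply,
      CommSemiring.counit_apply, Algebra.smul_def, Algebra.smul_def, map_mul, AlgEquiv.commutes]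

/-- A connected group stays connected over a Galois extension. -/
theorem connected_baseChange [IsGalois k K]
    (hconn : ∀ e : C, IsIdempotentElem e → e = 0 ∨ e = 1) :
    ∀ e : K ⊗[k] C, IsIdempotentElem e → e = 0 ∨ e = 1 := by
  classical
  suffices h : ∀ e : K ⊗[k] C, IsIdempotentElem e → counit (R := K) e = 1 → e = 1 by
    intro e he
    have hε : IsIdempotentElem (counit (R := K) e) := he.map (Bialgebra.counitAlgHom K (K ⊗[k] C))
    rcases IsIdempotentElem.iff_eq_zero_or_one.1 hε with h0 | h1
    · refine Or.inl ?_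
      have := h (1 - e) he.one_sub (by rw [map_sub, h0, Bialgebra.counit_one, sub_zero])
      simpa using this
    · exact Or.inr (h e he h1)
  intro e he hε
  let O := (finite_orbit K e).toFinset
  have hO : ∀ x, x ∈ O ↔ ∃ σ : K ≃ₐ[k] K, conj K σ e = x := fun x => by simp [O]
  let P := ∏ x ∈ O, x
  have hP : ∀ σ : K ≃ₐ[k] K, conj K σ P = P := by
    intro σ
    rw [map_prod]
    refine Finset.prod_nbij' (conj K σ) (conj K σ⁻¹) ?_ ?_ ?_ ?_ fun _ _ => rfl
    · intro x hx
      obtain ⟨τ, rfl⟩ := (hO x).1 hx
      exact (hO _).2 ⟨σ * τ, (conj_conj K σ τ e).symm⟩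
    · intro x hx
      obtain ⟨τ, rfl⟩ := (hO x).1 hx
      exact (hO _).2 ⟨σ⁻¹ * τ, (conj_conj K σ⁻¹ τ e).symm⟩
    · intro x _
      rw [conj_conj, inv_mul_cancel, conj_one]
    · intro x _
      rw [conj_conj, mul_inv_cancel, conj_one]
  have hidem : IsIdempotentElem P := by
    change P * P = P
    rw [← Finset.prod_mul_distrib]
    refine Finset.prod_congr rfl fun x hx => ?_
    obtain ⟨τ, rfl⟩ := (hO x).1 hx
    exact (he.map (conj K τ)).eq
  have hεP : counit (R := K) P = 1 := by
    change Bialgebra.counitAlgHom K (K ⊗[k] C) P = 1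
    rw [map_prod]
    refine Finset.prod_eq_one fun x hx => ?_
    obtain ⟨τ, rfl⟩ := (hO x).1 hx
    change counit (R := K) (conj K τ e) = 1
    rw [counit_conj, hε, map_one]
  obtain ⟨c, hc⟩ := exists_tmul_of_fixed K P fun σ => (conj_apply K σ P).trans (hP σ)
  have hcidem : IsIdempotentElem c := one_tmul_injective (k := k) K (by
    change (1 : K) ⊗ₜ[k] (c * c) = (1 : K) ⊗ₜ[k] c
    rw [← hc, ← hidem.eq, hc, Algebra.TensorProduct.tmul_mul_tmul, one_mul])
  rcases hconn c hcidem with rfl | rfl
  · rw [hc, TensorProduct.tmul_zero, map_zero] at hεP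
    exact absurd hεP zero_ne_one
  · rw [← Algebra.TensorProduct.one_def] at hc
    have h1 : e * P = P := by
      have heO : e ∈ O := (hO e).2 ⟨1, conj_one K e⟩
      simp only [P]
      rw [← Finset.mul_prod_erase O _ heO, ← mul_assoc, he.eq]
    rwa [hc, mul_one] at h1

/-- Unipotence is stable under extension of the base field. -/
theorem isUnipotent_baseChange (hC : HopfRep.IsUnipotent k C) :
    HopfRep.IsUnipotent K (K ⊗[k] C) := by
  obtain ⟨F, hF, h0, htop, hcomul⟩ := ComodLib.coconnected_of_exhaustive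
    (Groth.Misc1.Unip.exhaustive_baseChange K (ComodLib.exists_mem_fixSeries hC))
  intro V _ _ _ _ _
  exact ComodLib.fixedPts_ne_bot_of_coconnected F hF h0 htop hcomul

/-- the conjugation on a tensor square -/
def conj₂ (σ : K ≃ₐ[k] K) : (K ⊗[k] C) ⊗[K] (K ⊗[k] C) →+ (K ⊗[k] C) ⊗[K] (K ⊗[k] C) :=
  TensorProduct.liftAddHom
    { toFun := fun p =>
        { toFun := fun q => conj K σ p ⊗ₜ[K] conj K σ q
          map_zero' := by simp
          map_add' := fun q q' => by rw [map_add, TensorProduct.tmul_add] }
      map_zero' := by ext; simp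
      map_add' := fun p p' => by ext; simp [TensorProduct.add_tmul] }
    fun x p q => by
      change conj K σ (x • p) ⊗ₜ[K] conj K σ q = conj K σ p ⊗ₜ[K] conj K σ (x • q)
      rw [conj_smul, conj_smul, TensorProduct.smul_tmul]

theorem conj₂_tmul (σ : K ≃ₐ[k] K) (p q : K ⊗[k] C) :
    conj₂ K σ (p ⊗ₜ[K] q) = conj K σ p ⊗ₜ[K] conj K σ q := rfl

theorem comul_conj (σ : K ≃ₐ[k] K) (z : K ⊗[k] C) :
    comul (R := K) (conj K σ z) = conj₂ K σ (comul (R := K) z) := by
  induction z using TensorProduct.induction_on with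
  | zero => simp
  | add p q hp hq => simp only [map_add, hp, hq]
  | tmul x c =>
    rw [conj_tmul, Groth.Misc1.Unip.smul_incl (σ x) c, Groth.Misc1.Unip.smul_incl x c, map_smul,
      map_smul, Groth.Misc1.Unip.comul_incl]
    induction comul (R := k) c using TensorProduct.induction_on with
    | zero => simp
    | add p q hp hq => simp only [map_add, smul_add, hp, hq]
    | tmul p q =>
      rw [Groth.Misc1.Unip.nat_tmul, TensorProduct.smul_tmul', TensorProduct.smul_tmul', conj₂_tmul,
        conj_smul, Groth.Misc1.Unip.incl_apply, Groth.Misc1.Unip.incl_apply, conj_tmul, conj_tmul,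
        map_one]

variable {A : Type u} [CommRing A] [HopfAlgebra k A]

/-- the conjugate of a homomorphism -/
def conjHom (σ : K ≃ₐ[k] K) (r : (K ⊗[k] A) →ₐc[K] (K ⊗[k] C)) :
    (K ⊗[k] A) →ₐc[K] (K ⊗[k] C) := by
  let g : K ⊗[k] A →ₐ[K] K ⊗[k] C :=
    Algebra.TensorProduct.lift (Algebra.ofId K (K ⊗[k] C))
      ((conj K σ).comp (((r : (K ⊗[k] A) →ₐ[K] (K ⊗[k] C)).restrictScalars k).comp
        (Algebra.TensorProduct.includeRight : A →ₐ[k] K ⊗[k] A)))
      fun _ _ => Commute.all _ _
  have hg : ∀ a : A, g ((1 : K) ⊗ₜ[k] a) = conj K σ (r ((1 : K) ⊗ₜ[k] a)) := fun a => by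
    simp [g, ← Algebra.TensorProduct.one_def]
  refine BialgHom.ofAlgHom g ?_ ?_
  · refine Algebra.TensorProduct.ext (Subsingleton.elim _ _) (AlgHom.ext fun a => ?_)
    change counit (R := K) (g ((1 : K) ⊗ₜ[k] a)) = counit (R := K) ((1 : K) ⊗ₜ[k] a)
    rw [hg, counit_conj, CoalgHomClass.counit_comp_apply, TensorProduct.counit_tmul,
      CommSemiring.counit_apply, Algebra.smul_def, mul_one, AlgEquiv.commutes]
  · refine Algebra.TensorProduct.ext (Subsingleton.elim _ _) (AlgHom.ext fun a => ?_)
    change Algebra.TensorProduct.map g g (comul (R := K) ((1 : K) ⊗ₜ[k] a)) =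
      comul (R := K) (g ((1 : K) ⊗ₜ[k] a))
    rw [hg, comul_conj, ← CoalgHomClass.map_comp_comul_apply r, ← Groth.Misc1.Unip.incl_apply,
      Groth.Misc1.Unip.comul_incl]
    induction comul (R := k) a using TensorProduct.induction_on with
    | zero => simp
    | add p q hp hq => simp only [map_add, hp, hq]
    | tmul p q =>
      rw [Groth.Misc1.Unip.nat_tmul, Algebra.TensorProduct.map_tmul, TensorProduct.map_tmul,
        conj₂_tmul, Groth.Misc1.Unip.incl_apply, Groth.Misc1.Unip.incl_apply, hg, hg]
      rfl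

theorem conjHom_tmul (σ : K ≃ₐ[k] K) (r : (K ⊗[k] A) →ₐc[K] (K ⊗[k] C)) (a : A) :
    conjHom K σ r ((1 : K) ⊗ₜ[k] a) = conj K σ (r ((1 : K) ⊗ₜ[k] a)) := by
  simp [conjHom, ← Algebra.TensorProduct.one_def]

end Hopf

section Main

variable {A C : Type u} [CommRing A] [HopfAlgebra k A] [CommRing C] [HopfAlgebra k C]

theorem map_baseChange_ker (ψ : C →ₐc[k] A) (J : Ideal A)
    (hJ : J = Ideal.map (ψ : C →+* A) (RingHom.ker (Bialgebra.counitAlgHom k C))) :
    Ideal.map (MultType.mapBC K ψ : K ⊗[k] C →+* K ⊗[k] A)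
        (RingHom.ker (Bialgebra.counitAlgHom K (K ⊗[k] C))) =
      J.map (Algebra.TensorProduct.includeRight : A →ₐ[k] K ⊗[k] A) := by
  refine le_antisymm (Ideal.map_le_iff_le_comap.2 fun z hz => ?_) ?_
  · have key : ∀ z : K ⊗[k] C,
        MultType.mapBC K ψ z - algebraMap K _ (counit (R := K) z) ∈
          J.map (Algebra.TensorProduct.includeRight : A →ₐ[k] K ⊗[k] A) := by
      intro z
      induction z using TensorProduct.induction_on with
      | zero => simp
      | add p q hp hq =>
        rw [map_add, map_add, map_add, add_sub_add_comm]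
        exact add_mem hp hq
      | tmul x c =>
        have e : MultType.mapBC K ψ (x ⊗ₜ[k] c) -
            algebraMap K (K ⊗[k] A) (counit (R := K) (x ⊗ₜ[k] c)) =
            (x ⊗ₜ[k] (1 : A)) * (Algebra.TensorProduct.includeRight : A →ₐ[k] K ⊗[k] A)
              (ψ (c - algebraMap k C (counit (R := k) c))) := by
          rw [MultType.mapBC_tmul, TensorProduct.counit_tmul, CommSemiring.counit_apply,
            Algebra.TensorProduct.includeRight_apply, Algebra.TensorProduct.tmul_mul_tmul, mul_one,
            one_mul, map_sub, AlgHomClass.commutes, TensorProduct.tmul_sub,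
            Algebra.TensorProduct.algebraMap_apply, Algebra.algebraMap_self_apply,
            Algebra.algebraMap_eq_smul_one, TensorProduct.tmul_smul, TensorProduct.smul_tmul']
        rw [e]
        refine Ideal.mul_mem_left _ _ (Ideal.mem_map_of_mem _ ?_)
        rw [hJ]
        exact Ideal.mem_map_of_mem _ (by simp [RingHom.mem_ker])
    have h := key z
    rw [show counit (R := K) z = 0 from hz, map_zero, sub_zero] at h
    exact h
  · rw [hJ, Ideal.map_le_iff_le_comap, Ideal.map_le_iff_le_comap]
    intro c hc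
    change (1 : K) ⊗ₜ[k] ψ c ∈ Ideal.map (MultType.mapBC K ψ : K ⊗[k] C →+* K ⊗[k] A) _
    rw [← MultType.mapBC_tmul]
    change (MultType.mapBC K ψ : K ⊗[k] C →+* K ⊗[k] A) ((1 : K) ⊗ₜ[k] c) ∈ _
    refine Ideal.mem_map_of_mem _ ?_
    change counit (R := K) ((1 : K) ⊗ₜ[k] c) = 0
    rw [TensorProduct.counit_tmul, CommSemiring.counit_apply,
      show counit (R := k) c = 0 from hc, zero_smul]

/-- SGA 3 XVII 5.1.1 -/
theorem existsUnique_retraction [PerfectField k] [Algebra.FiniteType k A] [Algebra.FiniteType k C]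
    [Algebra.FormallySmooth k C] (hC : HopfRep.IsUnipotent k C) (ψ : C →ₐc[k] A)
    (hψ : Function.Injective ψ) (J : Ideal A) [J.IsHopfIdeal k]
    (hJ : J = Ideal.map (ψ : C →+* A) (RingHom.ker (Bialgebra.counitAlgHom k C)))
    (hH : SGA3b.IsMultTypeConst k (A ⧸ J))
    (hU : ∀ e : C, IsIdempotentElem e → e = 0 ∨ e = 1) :
    ∃! r : A →ₐc[k] C, r.comp ψ = BialgHom.id k C := by
  classical
  let K := AlgebraicClosure k
  haveI : IsGalois k K := inferInstance
  let ψK := MultType.mapBC K ψ
  let πK := MultType.mapBC K (Bialgebra.Quotient.mkBialgHom (R := k) J)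
  have hψK : Function.Injective ψK := by
    have h : ∀ z, ψK z = (ψ : C →ₐ[k] A).toLinearMap.lTensor K z := fun z => by
      induction z using TensorProduct.induction_on with
      | zero => simp
      | add p q hp hq => simp only [map_add, hp, hq]
      | tmul p q => rw [MultType.mapBC_tmul]; rfl
    intro x y hxy
    rw [h, h] at hxy
    exact Module.Flat.lTensor_preserves_injective_linearMap (M := K) _ hψ hxy
  have hπK : Function.Surjective πK := by
    intro z
    induction z using TensorProduct.induction_on with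
    | zero => exact ⟨0, map_zero _⟩
    | add p q hp hq =>
      obtain ⟨a, rfl⟩ := hp; obtain ⟨b, rfl⟩ := hq
      exact ⟨a + b, map_add _ _ _⟩
    | tmul x q =>
      obtain ⟨a, rfl⟩ := Ideal.Quotient.mk_surjective q
      exact ⟨x ⊗ₜ a, MultType.mapBC_tmul K _ x a⟩
  let JK : Ideal (K ⊗[k] A) :=
    Ideal.map (ψK : K ⊗[k] C →+* K ⊗[k] A) (RingHom.ker (Bialgebra.counitAlgHom K (K ⊗[k] C)))
  have hker : JK = RingHom.ker πK := by
    rw [show JK = J.map (Algebra.TensorProduct.includeRight : A →ₐ[k] K ⊗[k] A) from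
      map_baseChange_ker K ψ J hJ]
    have h1 := Algebra.TensorProduct.lTensor_ker (A := K) (Ideal.Quotient.mkₐ k J)
      Ideal.Quotient.mk_surjective
    rw [show RingHom.ker (Ideal.Quotient.mkₐ k J) = J from Ideal.mk_ker] at h1
    rw [← h1]
    ext z
    have h : ∀ z, Algebra.TensorProduct.map (AlgHom.id k K) (Ideal.Quotient.mkₐ k J) z = πK z :=
      fun z => by
        induction z using TensorProduct.induction_on with
        | zero => simp
        | add p q hp hq => simp only [map_add, hp, hq]
        | tmul p q => rw [MultType.mapBC_tmul]; rfl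
    rw [RingHom.mem_ker, RingHom.mem_ker, h]
  haveI : JK.IsHopfIdeal K := HopfKer.isHopfIdeal_ker πK hπK hker.symm
  have hd : SGA3b.IsDiag K ((K ⊗[k] A) ⧸ JK) := by
    refine MultType.isDiag_of_equiv (HopfKer.quotKerEquiv πK hπK hker.symm).symm ?_
    haveI : Algebra.FiniteType k (A ⧸ J) :=
      Algebra.FiniteType.of_surjective (Ideal.Quotient.mkₐ k J) Ideal.Quotient.mk_surjective
    exact CharLift.isDiag_of_isSepClosed inferInstance
      (MultType.isMultType_of_const (CharLift.isMultTypeConst_baseChange K hH))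
  obtain ⟨M, _, ⟨e⟩⟩ := hd
  haveI : Algebra.Smooth k C :=
    ⟨inferInstance, Algebra.FinitePresentation.of_finiteType.1 inferInstance⟩
  haveI : IsReduced (K ⊗[k] C) := Groth.Calg4.isReduced_of_smooth_field K (K ⊗[k] C)
  obtain ⟨r, hr, huniq⟩ := UnipotentByMult.exists_retraction_unique (ψ := ψK) (J := JK) rfl hψK
    (connected_baseChange K hU) (isUnipotent_baseChange K hC) e
  have hψ1 : ∀ c, ψK ((1 : K) ⊗ₜ[k] c) = (1 : K) ⊗ₜ[k] ψ c := fun c => MultType.mapBC_tmul K ψ 1 c
  have hfix : ∀ a, ∃ c, r ((1 : K) ⊗ₜ[k] a) = (1 : K) ⊗ₜ[k] c := by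
    intro a
    refine exists_tmul_of_fixed K _ fun σ => ?_
    rw [conj_apply, ← conjHom_tmul]
    refine congrArg (fun f : (K ⊗[k] A) →ₐc[K] (K ⊗[k] C) => f ((1 : K) ⊗ₜ[k] a))
      (huniq _ fun z => ?_)
    induction z using TensorProduct.induction_on with
    | zero => simp
    | add p q hp hq => simp only [map_add, hp, hq]
    | tmul x c =>
      rw [show x ⊗ₜ[k] c = x • ((1 : K) ⊗ₜ[k] c) by simp [TensorProduct.smul_tmul'], map_smul,
        hψ1, map_smul, conjHom_tmul, ← hψ1, hr, conj_tmul, map_one]
  choose g hg using hfix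
  have hinj : Function.Injective fun c : C => (1 : K) ⊗ₜ[k] c := one_tmul_injective K
  let g₀ : A →ₐ[k] C :=
    { toFun := g
      map_one' := hinj (by
        dsimp only
        rw [← hg, ← Algebra.TensorProduct.one_def, map_one, ← Algebra.TensorProduct.one_def])
      map_mul' := fun a b => hinj (by
        dsimp only
        rw [← hg, ← one_mul (1 : K), ← Algebra.TensorProduct.tmul_mul_tmul,
          ← Algebra.TensorProduct.tmul_mul_tmul, map_mul, hg, hg])
      map_zero' := hinj (by
        dsimp only
        rw [← hg, TensorProduct.tmul_zero, map_zero, TensorProduct.tmul_zero])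
      map_add' := fun a b => hinj (by
        dsimp only
        rw [← hg, TensorProduct.tmul_add, TensorProduct.tmul_add, map_add, hg, hg])
      commutes' := fun x => hinj (by
        dsimp only
        rw [← hg, Algebra.algebraMap_eq_smul_one, Algebra.algebraMap_eq_smul_one,
          TensorProduct.tmul_smul, TensorProduct.tmul_smul, ← algebraMap_smul K x, map_smul,
          algebraMap_smul, ← Algebra.TensorProduct.one_def, map_one,
          ← Algebra.TensorProduct.one_def]) }
  have hgr : ∀ a, r ((1 : K) ⊗ₜ[k] a) = (1 : K) ⊗ₜ[k] g₀ a := hg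
  let g₁ : A →ₐc[k] C := BialgHom.ofAlgHom g₀
    (AlgHom.ext fun a => (algebraMap k K).injective (by
      change algebraMap k K (counit (R := k) (g₀ a)) = algebraMap k K (counit (R := k) a)
      have h := CoalgHomClass.counit_comp_apply r ((1 : K) ⊗ₜ[k] a)
      rw [hgr] at h
      simpa [TensorProduct.counit_tmul, Algebra.smul_def] using h))
    (AlgHom.ext fun a => by
      change Algebra.TensorProduct.map g₀ g₀ (comul (R := k) a) = comul (R := k) (g₀ a)
      refine one_tmul_injective (k := k) K
        ((TensorProduct.AlgebraTensorModule.distribBaseChange k K C C).injective ?_)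
      have hd : ∀ z : C ⊗[k] C, TensorProduct.AlgebraTensorModule.distribBaseChange k K C C
          ((1 : K) ⊗ₜ[k] z) = Groth.Misc1.Unip.nat k K C z := by
        intro z
        induction z using TensorProduct.induction_on with
        | zero => simp
        | add p q hp hq => simp only [TensorProduct.tmul_add, map_add, hp, hq]
        | tmul p q => simp [Groth.Misc1.Unip.nat_tmul, Groth.Misc1.Unip.incl_apply]
      rw [hd, hd, ← Groth.Misc1.Unip.comul_incl, Groth.Misc1.Unip.incl_apply, ← hgr,
        ← CoalgHomClass.map_comp_comul_apply r, ← Groth.Misc1.Unip.incl_apply,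
        Groth.Misc1.Unip.comul_incl]
      induction comul (R := k) a using TensorProduct.induction_on with
      | zero => simp
      | add p q hp hq => simp only [map_add, hp, hq]
      | tmul p q =>
        rw [Algebra.TensorProduct.map_tmul, Groth.Misc1.Unip.nat_tmul, Groth.Misc1.Unip.nat_tmul,
          TensorProduct.map_tmul, Groth.Misc1.Unip.incl_apply, Groth.Misc1.Unip.incl_apply,
          Groth.Misc1.Unip.incl_apply, Groth.Misc1.Unip.incl_apply]
        change _ = r _ ⊗ₜ[K] r _
        rw [hgr, hgr])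
  refine ⟨g₁, BialgHom.ext fun c => ?_, fun g' hg' => BialgHom.ext fun a => ?_⟩
  · refine hinj ?_
    change (1 : K) ⊗ₜ[k] g₀ (ψ c) = (1 : K) ⊗ₜ[k] c
    rw [← hgr, ← hψ1, hr]
  · have h : MultType.mapBC K g' = r := huniq _ fun z => by
      induction z using TensorProduct.induction_on with
      | zero => simp
      | add p q hp hq => simp only [map_add, hp, hq]
      | tmul x c =>
        rw [MultType.mapBC_tmul, MultType.mapBC_tmul,
          show g' (ψ c) = c from congrArg (fun f : C →ₐc[k] C => f c) hg']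
    refine hinj ?_
    change (1 : K) ⊗ₜ[k] g' a = (1 : K) ⊗ₜ[k] g₀ a
    rw [← hgr, ← h, MultType.mapBC_tmul]

end Main

end Groth.Sga3.GaloisRetraction
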