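import Groth.Agent.Sga3.Spreading
import Groth.Agent.Sga3.CharField
import Mathlib.RingTheory.Finiteness.Descent

/-!
A group of multiplicative type of finite type is quasi-isotrivial.
-/

set_option autoImplicit false

universe u

open TensorProduct Coalgebra

noncomputable section

namespace Groth.Sga3.QuasiIsotrivial

open SGA3b MultType Groth.Hensel1

variable {R : Type u} [CommRing R] {A : Type u} [CommRing A] [HopfAlgebra R A]

theorem finitePresentation_monoidAlgebra (R : Type u) [CommRing R] (M : Type u) [CommGroup M]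
    [Group.FG M] : Algebra.FinitePresentation R (MonoidAlgebra R M) := by
  have : Monoid.FG M := Group.fg_iff_monoid_fg.1 inferInstance
  have : Algebra.FinitePresentation ℤ (MonoidAlgebra ℤ M) :=
    Algebra.FinitePresentation.of_finiteType.1 inferInstance
  exact Algebra.FinitePresentation.equiv
    (MonoidAlgebra.scalarTensorEquiv ℤ R : R ⊗[ℤ] MonoidAlgebra ℤ M ≃ₐ[R] MonoidAlgebra R M)

theorem finitePresentation_of_isMultTypeConst (hft : Algebra.FiniteType R A)
    (h : IsMultTypeConst R A) : Algebra.FinitePresentation R A := by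
  rcases subsingleton_or_nontrivial R with hR | hR
  · have : Subsingleton A := (algebraMap R A).codomain_trivial
    exact Algebra.FinitePresentation.of_surjective (f := Algebra.ofId R A)
      (fun a => ⟨0, Subsingleton.elim _ _⟩)
      ⟨∅, Subsingleton.elim _ _⟩
  obtain ⟨R', _, _, hff, M, _, ⟨e⟩⟩ := h
  haveI : Nontrivial R' := (RingHom.FaithfullyFlat.injective
    (RingHom.faithfullyFlat_algebraMap_iff.2 hff)).nontrivial
  haveI : Group.FG M :=
    group_fg_of_finiteType (inferInstance : Algebra.FiniteType R' (R' ⊗[R] A)) e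
  haveI := finitePresentation_monoidAlgebra R' M
  haveI : Algebra.FinitePresentation R' (R' ⊗[R] A) :=
    Algebra.FinitePresentation.equiv (e : R' ⊗[R] A ≃ₐ[R'] MonoidAlgebra R' M).symm
  exact Algebra.FinitePresentation.of_finitePresentation_tensorProduct_of_faithfullyFlat R'

/-- Near every prime, a group of multiplicative type of finite type is diagonalised by an étale
algebra. -/
theorem exists_etale_isDiag_of_const (hft : Algebra.FiniteType R A) (h : IsMultTypeConst R A)
    (p : Ideal R) [p.IsPrime] :
    ∃ (E : Type u) (_ : CommRing E) (_ : Algebra R E), Algebra.Etale R E ∧ IsDiag E (E ⊗[R] A) ∧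
      ∃ q : Ideal E, q.IsPrime ∧ q.comap (algebraMap R E) = p := by
  let Ω := SeparableClosure p.ResidueField
  haveI : IsSepClosed Ω := IsSepClosure.sep_closed p.ResidueField
  let T := Hens R Ω
  haveI : IsSepClosed (IsLocalRing.ResidueField T) := HensPoint.isSepClosed_residueField p
  have hT : IsMultTypeConst T (T ⊗[R] A) := CharLift.isMultTypeConst_baseChange T h
  have hk : IsDiag (IsLocalRing.ResidueField T) (IsLocalRing.ResidueField T ⊗[T] (T ⊗[R] A)) :=
    CharLift.isDiag_of_isSepClosed inferInstance
      (isMultType_of_const (CharLift.isMultTypeConst_baseChange _ hT))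
  obtain ⟨M, _, ⟨e⟩⟩ := CharLift.isDiag_of_henselian (R := T) inferInstance (isMultType_of_const hT) hk
  haveI : Group.FG M :=
    group_fg_of_finiteType (inferInstance : Algebra.FiniteType T (T ⊗[R] A)) e
  haveI := finitePresentation_monoidAlgebra R M
  haveI := finitePresentation_of_isMultTypeConst hft h
  haveI : Module.Projective R A := projective_of_isMultTypeConst h
  haveI : Module.Projective R (MonoidAlgebra R M) :=
    Module.Projective.of_equiv (MonoidAlgebra.coeffLinearEquiv R).symm
  obtain ⟨S, ⟨f⟩⟩ := Spreading.exists_stage_equiv (e.trans (monAlgBC R T M).symm)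
  exact ⟨S.E, inferInstance, inferInstance, inferInstance,
    ⟨M, inferInstance, ⟨f.trans (monAlgBC R S.E M)⟩⟩, HensPoint.exists_prime_over p S⟩

/-- Near every prime, a group of multiplicative type of finite type is diagonalised by an étale
algebra. -/
theorem exists_etale_isDiag (hft : Algebra.FiniteType R A) (h : IsMultType R A)
    (p : Ideal R) [hp : p.IsPrime] :
    ∃ (E : Type u) (_ : CommRing E) (_ : Algebra R E), Algebra.Etale R E ∧ IsDiag E (E ⊗[R] A) ∧
      ∃ q : Ideal E, q.IsPrime ∧ q.comap (algebraMap R E) = p := by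
  obtain ⟨s, hs, hloc⟩ := h
  obtain ⟨f, hf, hfp⟩ : ∃ f ∈ s, f ∉ p := by
    by_contra hne
    push Not at hne
    exact hp.ne_top (top_le_iff.1 (hs ▸ Ideal.span_le.2 hne))
  let Rf := Localization.Away f
  have hdisj : Disjoint (Submonoid.powers f : Set R) (p : Set R) := by
    rw [Set.disjoint_left]
    rintro _ ⟨n, rfl⟩ hn
    exact hfp (hp.mem_of_pow_mem n hn)
  have hp' := IsLocalization.isPrime_of_isPrime_disjoint (Submonoid.powers f) Rf p hp hdisj
  have hcomap := IsLocalization.comap_map_of_isPrime_disjoint (Submonoid.powers f) Rf hp hdisj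
  obtain ⟨E, _, _, het, hd, q, hq, hqc⟩ :=
    exists_etale_isDiag_of_const (R := Rf) (A := Rf ⊗[R] A) inferInstance (hloc f hf)
      (p.map (algebraMap R Rf))
  letI : Algebra R E := ((algebraMap Rf E).comp (algebraMap R Rf)).toAlgebra
  haveI : IsScalarTower R Rf E := IsScalarTower.of_algebraMap_eq' rfl
  haveI : Algebra.Etale R Rf := Algebra.Etale.of_isLocalizationAway f
  refine ⟨E, inferInstance, inferInstance, Algebra.Etale.comp R Rf E, isDiag_trans Rf E A hd, q, hq, ?_⟩
  rw [IsScalarTower.algebraMap_eq R Rf E, ← Ideal.comap_comap, hqc]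
  exact hcomap

/-- A group of multiplicative type of finite type is quasi-isotrivial. -/
theorem isQuasiIsotrivial_of_finiteType (hft : Algebra.FiniteType R A) (h : IsMultType R A) :
    IsQuasiIsotrivial R A := by
  refine ⟨{f | IsQuasiIsotrivialConst (Localization.Away f) (Localization.Away f ⊗[R] A)}, ?_,
    fun f hf => hf⟩
  by_contra hne
  obtain ⟨m, hm, hsm⟩ := Ideal.exists_le_maximal _ hne
  obtain ⟨E, _, _, het, hd, q, hq, hqc⟩ := exists_etale_isDiag hft h m
  have hopen : IsOpenMap (PrimeSpectrum.comap (algebraMap R E)) :=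
    PrimeSpectrum.isOpenMap_comap_of_hasGoingDown_of_finitePresentation
  obtain ⟨U, ⟨f, rfl⟩, hmf, hfr⟩ := PrimeSpectrum.isTopologicalBasis_basic_opens.exists_subset_of_mem_open
    (show (⟨m, hm.isPrime⟩ : PrimeSpectrum R) ∈ Set.range (PrimeSpectrum.comap (algebraMap R E)) from
      ⟨⟨q, hq⟩, PrimeSpectrum.ext hqc⟩) hopen.isOpen_range
  refine hmf (hsm (Ideal.subset_span ?_))
  let Rf := Localization.Away f
  let Ef := Rf ⊗[R] E
  letI : Algebra E Ef := Algebra.TensorProduct.rightAlgebra
  haveI : IsScalarTower R E Ef := IsScalarTower.of_algebraMap_eq fun r => by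
    change algebraMap R Ef r = (1 : Rf) ⊗ₜ[R] algebraMap R E r
    rw [Algebra.TensorProduct.algebraMap_apply, Algebra.algebraMap_eq_smul_one,
      Algebra.algebraMap_eq_smul_one, TensorProduct.smul_tmul]
  refine ⟨Ef, inferInstance, inferInstance, inferInstance, ?_, isDiag_of_equiv (cancelBC R Rf Ef A).symm
    (isDiag_trans E Ef A (isDiag_baseChange Ef (E ⊗[R] A) hd))⟩
  refine Module.FaithfullyFlat.of_comap_surjective fun P => ?_
  have hP : PrimeSpectrum.comap (algebraMap R Rf) P ∈ (PrimeSpectrum.basicOpen f : Set (PrimeSpectrum R)) := by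
    rw [← PrimeSpectrum.localization_away_comap_range Rf f]
    exact ⟨P, rfl⟩
  obtain ⟨Q, hQ⟩ := hfr hP
  have hfQ : IsUnit (Algebra.ofId R Q.asIdeal.ResidueField f) := by
    rw [isUnit_iff_ne_zero]
    intro h0
    have h1 : algebraMap R E f ∈ Q.asIdeal := by
      rw [← Ideal.algebraMap_residueField_eq_zero, ← IsScalarTower.algebraMap_apply]
      exact h0
    have h2 : f ∈ (PrimeSpectrum.comap (algebraMap R Rf) P).asIdeal := by
      rw [← hQ]; exact h1
    exact hP h2
  let F : Ef →ₐ[R] Q.asIdeal.ResidueField :=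
    Algebra.TensorProduct.lift (IsLocalization.Away.liftAlgHom (f := Algebra.ofId R _) f hfQ)
      (IsScalarTower.toAlgHom R E Q.asIdeal.ResidueField) (fun _ _ => Commute.all _ _)
  refine ⟨⟨RingHom.ker F, RingHom.ker_isPrime _⟩,
    PrimeSpectrum.localization_comap_injective Rf (Submonoid.powers f) (Eq.trans ?_ hQ)⟩
  refine PrimeSpectrum.ext (Ideal.ext fun r => ?_)
  simp only [PrimeSpectrum.comap_asIdeal, Ideal.mem_comap, RingHom.mem_ker]
  rw [← IsScalarTower.algebraMap_apply, AlgHom.commutes,
    IsScalarTower.algebraMap_apply R E Q.asIdeal.ResidueField, Ideal.algebraMap_residueField_eq_zero]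

end Groth.Sga3.QuasiIsotrivial
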