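import Groth.Agent.Hensel1.Universal
import Mathlib.RingTheory.Polynomial.ScaleRoots
import Mathlib.FieldTheory.SeparableClosure
import Mathlib.RingTheory.LocalRing.ResidueField.Ideal
import Mathlib.RingTheory.Spectrum.Prime.Chevalley
import Mathlib.RingTheory.RingHom.FaithfullyFlat

/-!
The strictly henselian ring at a prime of an arbitrary ring, as a colimit of étale algebras over
that ring, and the descent of finitely many elements and equations to one étale algebra.
-/

set_option autoImplicit false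

universe u

open TensorProduct Polynomial IsLocalRing

noncomputable section

namespace Groth.Sga3.HensPoint

open Groth.Hensel1 Groth.Hensel1.HensIdx Groth.Hensel1.Hens

variable {R : Type u} [CommRing R] (p : Ideal R) [p.IsPrime] {Ω : Type u} [Field Ω] [Algebra R Ω]
  [Algebra p.ResidueField Ω] [IsScalarTower R p.ResidueField Ω]

theorem algebraMap_ne_zero {s : R} (hs : s ∉ p) : algebraMap R Ω s ≠ 0 := by
  rw [IsScalarTower.algebraMap_apply R p.ResidueField Ω, Ne,
    map_eq_zero_iff _ (algebraMap p.ResidueField Ω).injective, Ideal.algebraMap_residueField_eq_zero]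
  exact hs

theorem comap_ker {E : Type u} [CommRing E] [Algebra R E] (g : E →ₐ[R] Ω) :
    (RingHom.ker g).comap (algebraMap R E) = p := by
  ext r
  rw [Ideal.mem_comap, RingHom.mem_ker, AlgHom.commutes,
    IsScalarTower.algebraMap_apply R p.ResidueField Ω,
    map_eq_zero_iff _ (algebraMap p.ResidueField Ω).injective, Ideal.algebraMap_residueField_eq_zero]

/-- The point is surjective. -/
theorem pt_surjective [Algebra.IsSeparable p.ResidueField Ω] :
    Function.Surjective (Hens.pt (R := R) (Ω := Ω)) := by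
  classical
  let F := p.ResidueField
  -- it suffices to reach a multiple by a number prime to `p`
  have key : ∀ (s : R) (a : Ω), s ∉ p → (∃ x : Hens R Ω, Hens.pt x = algebraMap R Ω s * a) →
      ∃ x : Hens R Ω, Hens.pt x = a := by
    rintro s a hs ⟨x, hx⟩
    have hu : IsUnit (algebraMap R (Hens R Ω) s) := by
      rw [Hens.isUnit_iff, AlgHom.commutes]
      exact algebraMap_ne_zero p hs
    obtain ⟨v, hv⟩ := hu
    refine ⟨↑v⁻¹ * x, ?_⟩
    have h1 : Hens.pt (↑v⁻¹ : Hens R Ω) * algebraMap R Ω s = 1 := by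
      rw [← AlgHom.commutes (Hens.pt (R := R) (Ω := Ω)) s, ← hv, ← map_mul, Units.inv_mul, map_one]
    rw [map_mul, hx, ← mul_assoc, h1, one_mul]
  intro a
  set m := minpoly F a with hm
  have hmm : m.Monic := minpoly.monic (Algebra.IsSeparable.isIntegral F a)
  obtain ⟨⟨σ, hσ⟩, hint⟩ := IsLocalization.exist_integer_multiples_of_finset
    (nonZeroDivisors (R ⧸ p)) (S := F) ((Finset.range m.natDegree).image m.coeff)
  obtain ⟨s, rfl⟩ := Ideal.Quotient.mk_surjective σ
  have hs : s ∉ p := fun h => nonZeroDivisors.ne_zero hσ (Ideal.Quotient.eq_zero_iff_mem.2 h)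
  refine key s a hs ?_
  let c : F := algebraMap R F s
  have hc : c ≠ 0 := fun h => hs (Ideal.algebraMap_residueField_eq_zero.1 h)
  set b := algebraMap R Ω s * a with hb
  let g := m.scaleRoots c
  have hgm : g.Monic := (monic_scaleRoots_iff c).2 hmm
  have hgb : aeval b g = 0 := by
    have := scaleRoots_aeval_eq_zero (r := c) (minpoly.aeval F a)
    rwa [← IsScalarTower.algebraMap_apply R F Ω] at this
  have hlift : g ∈ lifts (algebraMap R F) := by
    rw [lifts_iff_coeff_lifts]
    intro i
    rw [coeff_scaleRoots]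
    rcases lt_trichotomy i m.natDegree with hi | hi | hi
    · obtain ⟨r, hr⟩ := hint _ (Finset.mem_image_of_mem m.coeff (Finset.mem_range.2 hi))
      obtain ⟨r, rfl⟩ := Ideal.Quotient.mk_surjective r
      refine ⟨r * s ^ (m.natDegree - i - 1), ?_⟩
      have h1 : algebraMap R F r = c * m.coeff i := hr.trans (Algebra.smul_def _ _)
      rw [map_mul, map_pow, h1, show m.natDegree - i = (m.natDegree - i - 1) + 1 by omega,
        pow_succ, Nat.add_sub_cancel]
      ring
    · exact ⟨1, by rw [map_one, hi, tsub_self, pow_zero, mul_one]; exact hmm.symm⟩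
    · exact ⟨0, by rw [map_zero, coeff_eq_zero_of_natDegree_lt hi, zero_mul]⟩
  have hgmin : g = minpoly F b := by
    refine minpoly.unique F b hgm hgb fun q hq hqb => ?_
    rw [degree_eq_natDegree hgm.ne_zero, degree_eq_natDegree hq.ne_zero, natDegree_scaleRoots]
    have hz : aeval a (q.scaleRoots c⁻¹) = 0 := by
      have := scaleRoots_aeval_eq_zero (r := c⁻¹) hqb
      rwa [hb, ← mul_assoc, IsScalarTower.algebraMap_apply R F Ω, ← map_mul, inv_mul_cancel₀ hc,
        map_one, one_mul] at this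
    have h2 := natDegree_le_natDegree (minpoly.min F a ((monic_scaleRoots_iff c⁻¹).2 hq) hz)
    rw [natDegree_scaleRoots] at h2
    exact_mod_cast h2
  obtain ⟨f, hf, -, hfm⟩ := lifts_and_natDegree_eq_and_monic hlift hgm
  have hev : ∀ P : R[X], aeval b P = aeval b (P.map (algebraMap R F)) := fun P =>
    (aeval_map_algebraMap F b P).symm
  let i : HensIdx R Ω := ⟨⟨f, hfm, f.derivative, 1, 0, 1, by simp⟩, b, by
    show aeval b f = 0
    rw [hev, hf, hgb], by
    show IsUnit (aeval b f.derivative)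
    rw [hev, ← derivative_map, hf, hgmin]
    exact isUnit_iff_ne_zero.mpr
      ((Algebra.IsSeparable.isSeparable F b).aeval_derivative_ne_zero (minpoly.aeval F b))⟩
  exact ⟨Hens.of i (algebraMap _ _ i.P.X), by
    rw [Hens.pt_of, ptL_algebraMap]; exact StandardEtalePair.lift_X _ _ _⟩

/-- The residue field of the strictly henselian ring is separably closed. -/
theorem isSepClosed_residueField [Algebra.IsSeparable p.ResidueField Ω] [IsSepClosed Ω] :
    IsSepClosed (ResidueField (Hens R Ω)) := by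
  have hb : Function.Bijective (Hens.residuePt (R := R) (Ω := Ω)) :=
    ⟨RingHom.injective _, fun a => by
      obtain ⟨x, hx⟩ := pt_surjective p a
      exact ⟨residue _ x, hx⟩⟩
  let e := RingEquiv.ofBijective _ hb
  refine IsSepClosed.of_exists_root _ fun q hqm hqi hqs => ?_
  obtain ⟨x, hx⟩ := IsSepClosed.exists_root (q.map (e : ResidueField (Hens R Ω) →+* Ω)) (by
    rw [degree_map]; exact ne_of_gt (degree_pos_of_irreducible hqi))
    (hqs.map)
  refine ⟨e.symm x, e.injective ?_⟩
  rw [map_zero]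
  have h2 := hx
  rw [IsRoot, eval_map] at h2
  rw [← h2, ← e.apply_symm_apply x, e.symm_apply_apply]
  exact (hom_eval₂ q (RingHom.id _) (e : ResidueField (Hens R Ω) →+* Ω) (e.symm x))

/-! ### Descent to an étale algebra -/

/-- An étale algebra with a map to the strictly henselian ring. -/
structure Stage (R : Type u) [CommRing R] (Ω : Type u) [Field Ω] [Algebra R Ω] where
  /-- the algebra -/
  E : Type u
  [ring : CommRing E]
  [alg : Algebra R E]
  [etale : Algebra.Etale R E]
  /-- the map -/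
  h : E →ₐ[R] Hens R Ω

attribute [instance] Stage.ring Stage.alg Stage.etale

omit [p.IsPrime] [Algebra p.ResidueField Ω] [IsScalarTower R p.ResidueField Ω] in
theorem exists_stage {κ : Type*} [Finite κ] (t : κ → Hens R Ω) :
    ∃ (S : Stage R Ω) (y : κ → S.E), ∀ k, S.h (y k) = t k := by
  obtain ⟨i, y, hy⟩ := Hens.exists_of_ring_fintype t
  exact ⟨⟨i.P.Ring, (Hens.of i).comp (IsScalarTower.toAlgHom R _ _)⟩, y, hy⟩

/-- A morphism of stages. -/
structure StageHom {R : Type u} [CommRing R] {Ω : Type u} [Field Ω] [Algebra R Ω] (S S' : Stage R Ω) where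
  /-- the map -/
  f : S.E →ₐ[R] S'.E
  comm : S'.h.comp f = S.h

omit [p.IsPrime] [Algebra p.ResidueField Ω] [IsScalarTower R p.ResidueField Ω] in
theorem exists_merge (S S' : Stage R Ω) :
    ∃ T : Stage R Ω, Nonempty (StageHom S T) ∧ Nonempty (StageHom S' T) := by
  haveI : Algebra.Etale R (S.E ⊗[R] S'.E) := Algebra.Etale.comp R S.E _
  let h : S.E ⊗[R] S'.E →ₐ[R] Hens R Ω :=
    Algebra.TensorProduct.lift S.h S'.h (fun _ _ => Commute.all _ _)
  refine ⟨⟨S.E ⊗[R] S'.E, h⟩,
    ⟨⟨Algebra.TensorProduct.includeLeft, AlgHom.ext fun a => ?_⟩⟩,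
    ⟨⟨Algebra.TensorProduct.includeRight, AlgHom.ext fun a => ?_⟩⟩⟩
  · simp [h]
  · simp [h]

omit [p.IsPrime] [Algebra p.ResidueField Ω] [IsScalarTower R p.ResidueField Ω] in
theorem exists_kill {κ : Type*} [Finite κ] (S : Stage R Ω) (x : κ → S.E) (hx : ∀ k, S.h (x k) = 0) :
    ∃ (T : Stage R Ω) (g : StageHom S T), ∀ k, g.f (x k) = 0 := by
  classical
  obtain ⟨i, ψ, hψ, -⟩ := exists_dominating (R := R) S.E ((Hens.pt (R := R) (Ω := Ω)).comp S.h)
  have hh : ((Hens.of i).comp (IsScalarTower.toAlgHom R _ _)).comp ψ = S.h :=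
    algHom_eq_of_residue_eq fun a => Hens.residue_eq_iff.2 (by
      simp only [AlgHom.comp_apply, Hens.pt_of]
      exact (ptL_algebraMap i (ψ a)).trans (DFunLike.congr_fun hψ a))
  have hz : ∀ k, algebraMap i.P.Ring i.Obj (ψ (x k)) = 0 := by
    intro k
    have h0 : Hens.of i (algebraMap i.P.Ring i.Obj (ψ (x k))) = Hens.of i 0 := by
      rw [map_zero, ← hx k, ← hh]; rfl
    obtain ⟨j, hij, hj⟩ := Hens.exists_tr_eq h0
    obtain ⟨k', hik, hjk, hflat⟩ := exists_ge₂_flat i j
    have h1 : tr i k' hik (algebraMap i.P.Ring i.Obj (ψ (x k))) = 0 := by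
      have h2 : tr i k' hik = (tr j k' hjk).comp (tr i j hij) :=
        tr_eq hik (by rw [← AlgHom.comp_assoc, ptL_comp_tr, ptL_comp_tr])
      rw [h2, AlgHom.comp_apply, hj, map_zero, map_zero]
    letI : Algebra i.P.Ring k'.Obj :=
      ((tr i k' hik).toRingHom.comp (algebraMap i.P.Ring i.Obj)).toAlgebra
    letI : Algebra i.Obj k'.Obj := (tr i k' hik).toRingHom.toAlgebra
    haveI : IsScalarTower i.P.Ring i.Obj k'.Obj := IsScalarTower.of_algebraMap_eq' rfl
    haveI : Module.Flat i.P.Ring k'.Obj := hflat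
    haveI : Module.Flat i.Obj k'.Obj :=
      (Module.flat_iff_of_isLocalization i.Obj i.q.primeCompl k'.Obj).2 inferInstance
    haveI : IsLocalHom (algebraMap i.Obj k'.Obj) := ⟨fun y hy => by
      rw [HensIdx.isUnit_iff] at hy ⊢
      have h3 := DFunLike.congr_fun (ptL_comp_tr hik) y
      rw [← h3]
      exact hy⟩
    haveI : Module.FaithfullyFlat i.Obj k'.Obj := Module.FaithfullyFlat.of_flat_of_isLocalHom
    exact RingHom.FaithfullyFlat.injective
      (RingHom.faithfullyFlat_algebraMap_iff.2 (inferInstance : Module.FaithfullyFlat i.Obj k'.Obj))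
      (h1.trans (map_zero _).symm)
  choose b hb hbz using fun k => (IsLocalization.map_eq_zero_iff i.q.primeCompl i.Obj (ψ (x k))).1 (hz k)
    |> fun ⟨m, hm⟩ => (⟨(m : i.P.Ring), m.2, hm⟩ : ∃ b, b ∈ i.q.primeCompl ∧ b * ψ (x k) = 0)
  cases nonempty_fintype κ
  let B := ∏ k, b k
  have hB : B ∈ i.q.primeCompl := Submonoid.prod_mem _ fun k _ => hb k
  let C := Localization.Away B
  haveI : Algebra.Etale i.P.Ring C := Algebra.Etale.of_isLocalizationAway B
  haveI : Algebra.Etale R C := Algebra.Etale.comp R i.P.Ring C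
  let hC : C →ₐ[R] Hens R Ω := IsLocalization.Away.liftAlgHom
    (f := (Hens.of i).comp (IsScalarTower.toAlgHom R i.P.Ring i.Obj)) B
    ((IsLocalization.map_units i.Obj (⟨B, hB⟩ : i.q.primeCompl)).map (Hens.of i))
  refine ⟨⟨C, hC⟩, ⟨(IsScalarTower.toAlgHom R i.P.Ring C).comp ψ, AlgHom.ext fun a => ?_⟩, fun k => ?_⟩
  · rw [← hh]
    exact IsLocalization.Away.lift_eq (S := C) B
      (g := ((Hens.of i).comp (IsScalarTower.toAlgHom R i.P.Ring i.Obj)).toRingHom)
      ((IsLocalization.map_units i.Obj (⟨B, hB⟩ : i.q.primeCompl)).map (Hens.of i)) (ψ a)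
  · change algebraMap i.P.Ring C (ψ (x k)) = 0
    rw [IsLocalization.map_eq_zero_iff (Submonoid.powers B) C]
    refine ⟨⟨B, Submonoid.mem_powers B⟩, ?_⟩
    change B * ψ (x k) = 0
    obtain ⟨r, hr⟩ : b k ∣ B := Finset.dvd_prod_of_mem b (Finset.mem_univ k)
    rw [hr, mul_right_comm, hbz k, zero_mul]

/-- The point of a stage lies over `p`. -/
theorem exists_prime_over (S : Stage R Ω) :
    ∃ q : Ideal S.E, q.IsPrime ∧ q.comap (algebraMap R S.E) = p :=
  ⟨RingHom.ker ((Hens.pt (R := R) (Ω := Ω)).comp S.h), RingHom.ker_isPrime _, comap_ker p _⟩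

end Groth.Sga3.HensPoint
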