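import Groth.Agent.Sga3.HensPoint
import Groth.Agent.Sga3.MultType
import Mathlib.RingTheory.Finiteness.Projective

/-!
An isomorphism of flat, finitely presented bialgebras over a strictly henselian ring at a
prime descends to an étale algebra.
-/

set_option autoImplicit false

universe u

open TensorProduct Coalgebra

noncomputable section

namespace Groth.Sga3.Spreading

open Groth.Hensel1 Groth.Sga3.HensPoint

variable {R : Type u} [CommRing R] {Ω : Type u} [Field Ω] [Algebra R Ω]

/-- The map of a stage on a tensor product. -/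
abbrev toT (S : Stage R Ω) (N : Type u) [AddCommGroup N] [Module R N] :
    S.E ⊗[R] N →ₗ[R] Hens R Ω ⊗[R] N :=
  S.h.toLinearMap.rTensor N

/-- The map of a morphism of stages on a tensor product. -/
abbrev move {S S' : Stage R Ω} (g : StageHom S S') (N : Type u) [AddCommGroup N] [Module R N] :
    S.E ⊗[R] N →ₗ[R] S'.E ⊗[R] N :=
  g.f.toLinearMap.rTensor N

theorem toT_move {S S' : Stage R Ω} (g : StageHom S S') {N : Type u} [AddCommGroup N] [Module R N]
    (z : S.E ⊗[R] N) : toT S' N (move g N z) = toT S N z := by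
  induction z using TensorProduct.induction_on with
  | zero => simp
  | add x y hx hy => simp only [map_add, hx, hy]
  | tmul s n =>
    simp only [LinearMap.rTensor_tmul, AlgHom.toLinearMap_apply]
    rw [← g.comm, AlgHom.comp_apply]

theorem exists_lift {N : Type u} [AddCommGroup N] [Module R N] {κ : Type u} [Finite κ]
    (z : κ → Hens R Ω ⊗[R] N) :
    ∃ (S : Stage R Ω) (y : κ → S.E ⊗[R] N), ∀ k, toT S N (y k) = z k := by
  classical
  cases nonempty_fintype κ
  choose F hF using fun k => TensorProduct.exists_finset (z k)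
  obtain ⟨S, y, hy⟩ := exists_stage (R := R) (Ω := Ω) (κ := Σ k, F k) fun q => q.2.1.1
  refine ⟨S, fun k => ∑ q : F k, y ⟨k, q⟩ ⊗ₜ[R] q.1.2, fun k => ?_⟩
  rw [map_sum, hF k, ← Finset.sum_coe_sort (F k)]
  refine Finset.sum_congr rfl fun q _ => ?_
  rw [LinearMap.rTensor_tmul, AlgHom.toLinearMap_apply, hy]

/-- the composite of morphisms of stages -/
def hcomp {S S' S'' : Stage R Ω} (g : StageHom S S') (g' : StageHom S' S'') : StageHom S S'' :=
  ⟨g'.f.comp g.f, by rw [← AlgHom.comp_assoc, g'.comm, g.comm]⟩

theorem move_move {S S' S'' : Stage R Ω} (g : StageHom S S') (g' : StageHom S' S'')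
    {N : Type u} [AddCommGroup N] [Module R N] (z : S.E ⊗[R] N) :
    move g' N (move g N z) = move (hcomp g g') N z := by
  induction z using TensorProduct.induction_on with
  | zero => simp
  | add x y hx hy => simp only [map_add, hx, hy]
  | tmul s n => rfl

theorem exists_kill_tensor {N : Type u} [AddCommGroup N] [Module R N] [Module.Flat R N]
    {κ : Type u} [Finite κ] (S : Stage R Ω) (z w : κ → S.E ⊗[R] N)
    (hzw : ∀ k, toT S N (z k) = toT S N (w k)) :
    ∃ (S' : Stage R Ω) (g : StageHom S S'), ∀ k, move g N (z k) = move g N (w k) := by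
  classical
  cases nonempty_fintype κ
  let K := LinearMap.ker S.h.toLinearMap
  have hex : Function.Exact (K.subtype.rTensor N) (S.h.toLinearMap.rTensor N) :=
    Module.Flat.rTensor_exact N (LinearMap.exact_subtype_ker_map _)
  choose u hu using fun k => (hex (z k - w k)).1 (by
    rw [map_sub]; exact sub_eq_zero.2 (hzw k))
  choose F hF using fun k => TensorProduct.exists_finset (u k)
  obtain ⟨S', g, hg⟩ := HensPoint.exists_kill S (fun q : (Σ k, F k) => ((q.2.1.1 : K) : S.E))
    fun q => q.2.1.1.2
  refine ⟨S', g, fun k => sub_eq_zero.1 ?_⟩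
  rw [← map_sub (move g N), ← hu k, hF k, map_sum, map_sum]
  refine Finset.sum_eq_zero fun q hq => ?_
  rw [LinearMap.rTensor_tmul, LinearMap.rTensor_tmul, Submodule.subtype_apply,
    AlgHom.toLinearMap_apply, hg ⟨k, ⟨q, hq⟩⟩, TensorProduct.zero_tmul]

variable {A B : Type u} [CommRing A] [HopfAlgebra R A] [CommRing B] [HopfAlgebra R B]

/-- the two inclusions of a tensor square, combined -/
def sq (E : Type u) [CommRing E] [Algebra R E] (φ : B →ₐ[R] E ⊗[R] A) :
    B ⊗[R] B →ₐ[R] E ⊗[R] (A ⊗[R] A) :=
  Algebra.TensorProduct.lift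
    ((Algebra.TensorProduct.map (AlgHom.id R E) Algebra.TensorProduct.includeLeft).comp φ)
    ((Algebra.TensorProduct.map (AlgHom.id R E) Algebra.TensorProduct.includeRight).comp φ)
    (fun _ _ => Commute.all _ _)

theorem sq_natural {E E' : Type u} [CommRing E] [Algebra R E] [CommRing E'] [Algebra R E']
    (f : E →ₐ[R] E') (φ : B →ₐ[R] E ⊗[R] A) (x : B ⊗[R] B) :
    f.toLinearMap.rTensor (A ⊗[R] A) (sq E φ x) =
      sq E' ((Algebra.TensorProduct.map f (AlgHom.id R A)).comp φ) x := by
  change (Algebra.TensorProduct.map f (AlgHom.id R (A ⊗[R] A))).comp (sq E φ) x = _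
  congr 1
  refine Algebra.TensorProduct.ext ?_ ?_
  · refine AlgHom.ext fun b => ?_
    simp only [sq, AlgHom.comp_apply, Algebra.TensorProduct.includeLeft_apply,
      Algebra.TensorProduct.lift_tmul, map_one, mul_one]
    generalize φ b = z
    induction z using TensorProduct.induction_on with
    | zero => simp
    | add p q hp hq => simp only [map_add, hp, hq]
    | tmul s a => simp
  · refine AlgHom.ext fun b => ?_
    simp only [sq, AlgHom.comp_apply, AlgHom.restrictScalars_apply, Algebra.TensorProduct.includeRight_apply,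
      Algebra.TensorProduct.lift_tmul, map_one, one_mul]
    generalize φ b = z
    induction z using TensorProduct.induction_on with
    | zero => simp
    | add p q hp hq => simp only [map_add, hp, hq]
    | tmul s a => simp

/-- the tensor square of a base change -/
def distribAlg (E : Type u) [CommRing E] [Algebra R E] :
    (E ⊗[R] A) ⊗[E] (E ⊗[R] A) →ₐ[E] E ⊗[R] (A ⊗[R] A) :=
  Algebra.TensorProduct.lift (Algebra.TensorProduct.map (AlgHom.id E E) Algebra.TensorProduct.includeLeft)
    (Algebra.TensorProduct.map (AlgHom.id E E) Algebra.TensorProduct.includeRight)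
    (fun _ _ => Commute.all _ _)

theorem distribAlg_injective (E : Type u) [CommRing E] [Algebra R E] :
    Function.Injective (distribAlg (R := R) (A := A) E) := by
  have h : (distribAlg (R := R) (A := A) E).toLinearMap =
      (TensorProduct.AlgebraTensorModule.distribBaseChange R E A A).symm.toLinearMap := by
    refine LinearMap.ext fun z => (LinearEquiv.eq_symm_apply _).2 ?_
    change TensorProduct.AlgebraTensorModule.distribBaseChange R E A A (distribAlg E z) = z
    induction z using TensorProduct.induction_on with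
    | zero => simp
    | add p q hp hq => simp only [map_add, hp, hq]
    | tmul x y =>
      induction x using TensorProduct.induction_on with
      | zero => simp
      | add p q hp hq => simp only [TensorProduct.add_tmul, map_add, hp, hq]
      | tmul s a =>
        induction y using TensorProduct.induction_on with
        | zero => simp
        | add p q hp hq => simp only [TensorProduct.tmul_add, map_add, hp, hq]
        | tmul t b =>
          simp only [distribAlg, Algebra.TensorProduct.lift_tmul, Algebra.TensorProduct.map_tmul,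
            AlgHom.id_apply, Algebra.TensorProduct.includeLeft_apply,
            Algebra.TensorProduct.includeRight_apply, Algebra.TensorProduct.tmul_mul_tmul, mul_one,
            one_mul, TensorProduct.AlgebraTensorModule.distribBaseChange_tmul]
          rw [show (t ⊗ₜ[R] b : E ⊗[R] A) = t • ((1 : E) ⊗ₜ[R] b) by
            rw [TensorProduct.smul_tmul', smul_eq_mul, mul_one], ← TensorProduct.smul_tmul,
            TensorProduct.smul_tmul', smul_eq_mul, mul_comm]
  intro x y hxy
  apply (TensorProduct.AlgebraTensorModule.distribBaseChange R E A A).symm.injective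
  change (TensorProduct.AlgebraTensorModule.distribBaseChange R E A A).symm.toLinearMap x =
    (TensorProduct.AlgebraTensorModule.distribBaseChange R E A A).symm.toLinearMap y
  rw [← h]
  exact hxy

/-- Build a bialgebra map over the stage from an algebra map compatible with the coalgebra
structure. -/
theorem exists_bialgHom_of_compat {E : Type u} [CommRing E] [Algebra R E] (φ : B →ₐ[R] E ⊗[R] A)
    (hc : ∀ b, (comul (R := R) (A := A)).lTensor E (φ b) = sq E φ (comul (R := R) b))
    (hε : ∀ b, (counit (R := R) (A := A)).lTensor E (φ b) = (1 : E) ⊗ₜ[R] counit (R := R) b) :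
    ∃ Φ : E ⊗[R] B →ₐc[E] E ⊗[R] A, ∀ b, Φ ((1 : E) ⊗ₜ[R] b) = φ b := by
  let F : E ⊗[R] B →ₐ[E] E ⊗[R] A := Algebra.TensorProduct.lift (Algebra.ofId E _) φ
    (fun _ _ => Commute.all _ _)
  have hF : ∀ b, F ((1 : E) ⊗ₜ[R] b) = φ b := fun b => by simp [F, ← Algebra.TensorProduct.one_def]
  refine ⟨BialgHom.ofAlgHom F ?_ ?_, hF⟩
  · refine Algebra.TensorProduct.ext (Subsingleton.elim _ _) (AlgHom.ext fun b => ?_)
    simp only [AlgHom.comp_apply, AlgHom.restrictScalars_apply,
      Algebra.TensorProduct.includeRight_apply, Bialgebra.counitAlgHom_apply, hF,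
      TensorProduct.counit_tmul, CommSemiring.counit_apply]
    have h1 := congrArg (TensorProduct.rid R E) (hε b)
    rw [TensorProduct.rid_tmul] at h1
    rw [← h1]
    generalize φ b = z
    induction z using TensorProduct.induction_on with
    | zero => simp
    | add p q hp hq => simp only [map_add, hp, hq]
    | tmul s a => simp [Algebra.smul_def, mul_comm]
  · refine Algebra.TensorProduct.ext (Subsingleton.elim _ _) (AlgHom.ext fun b => ?_)
    simp only [AlgHom.comp_apply, AlgHom.restrictScalars_apply,
      Algebra.TensorProduct.includeRight_apply, Bialgebra.comulAlgHom_apply, hF]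
    apply distribAlg_injective
    have hR : ∀ w : E ⊗[R] A, distribAlg E (comul (R := E) w) = (comul (R := R) (A := A)).lTensor E w := by
      intro w
      induction w using TensorProduct.induction_on with
      | zero => simp
      | add p q hp hq => simp only [map_add, hp, hq]
      | tmul s a =>
        rw [TensorProduct.comul_tmul, CommSemiring.comul_apply, LinearMap.lTensor_tmul]
        generalize comul (R := R) a = t
        induction t using TensorProduct.induction_on with
        | zero => simp
        | add p q hp hq => simp only [TensorProduct.tmul_add, map_add, hp, hq]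
        | tmul p q => simp [distribAlg]
    rw [hR, hc, TensorProduct.comul_tmul, CommSemiring.comul_apply]
    generalize comul (R := R) b = t
    induction t using TensorProduct.induction_on with
    | zero => simp
    | add p q hp hq => simp only [TensorProduct.tmul_add, map_add, hp, hq]
    | tmul p q =>
      simp only [TensorProduct.AlgebraTensorModule.tensorTensorTensorComm_tmul,
        Algebra.TensorProduct.map_tmul, hF, distribAlg, Algebra.TensorProduct.lift_tmul, sq,
        AlgHom.comp_apply]
      rfl

theorem exists_algHom_stage {Q : Type u} [CommRing Q] [Algebra R Q] [Algebra.FinitePresentation R Q]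
    {N : Type u} [CommRing N] [Algebra R N] [Module.Flat R N] (f : Q →ₐ[R] Hens R Ω ⊗[R] N) :
    ∃ (S : Stage R Ω) (φ : Q →ₐ[R] S.E ⊗[R] N), ∀ q, toT S N (φ q) = f q := by
  classical
  obtain ⟨n, π, hπ, hker⟩ := Algebra.FinitePresentation.out (R := R) (A := Q)
  obtain ⟨gens, hgens⟩ := hker
  obtain ⟨S, y, hy⟩ := exists_lift (R := R) (Ω := Ω) (N := N) (κ := ULift.{u} (Fin n))
    fun k => f (π (MvPolynomial.X k.down))
  let φ0 : MvPolynomial (Fin n) R →ₐ[R] S.E ⊗[R] N := MvPolynomial.aeval fun i => y ⟨i⟩
  let tA : ∀ S : Stage R Ω, S.E ⊗[R] N →ₐ[R] Hens R Ω ⊗[R] N :=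
    fun S => Algebra.TensorProduct.map S.h (AlgHom.id R N)
  have htA : ∀ (S : Stage R Ω) (z : S.E ⊗[R] N), tA S z = toT S N z := fun _ _ => rfl
  have h0 : ∀ p, toT S N (φ0 p) = f (π p) := by
    intro p
    rw [← htA]
    refine congrArg (fun g : MvPolynomial (Fin n) R →ₐ[R] Hens R Ω ⊗[R] N => g p)
      (show (tA S).comp φ0 = f.comp π from MvPolynomial.algHom_ext fun i => ?_)
    simp only [AlgHom.comp_apply, φ0, MvPolynomial.aeval_X]
    exact hy ⟨i⟩
  obtain ⟨S', g, hg⟩ := exists_kill_tensor S (fun p : gens => φ0 p.1) (fun _ => 0) fun p => by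
    rw [h0, map_zero, show π p.1 = 0 from hgens.le (Ideal.subset_span p.2), map_zero]
  let φ1 : MvPolynomial (Fin n) R →ₐ[R] S'.E ⊗[R] N :=
    (Algebra.TensorProduct.map g.f (AlgHom.id R N)).comp φ0
  have hle : RingHom.ker π ≤ RingHom.ker φ1 := by
    change RingHom.ker π.toRingHom ≤ _
    rw [← hgens, Ideal.span_le]
    intro p hp
    exact (hg ⟨p, hp⟩).trans (map_zero _)
  refine ⟨S', AlgHom.liftOfSurjective π hπ φ1 hle, fun q => ?_⟩
  obtain ⟨p, rfl⟩ := hπ q
  rw [AlgHom.liftOfSurjective_apply, ← h0 p]
  exact toT_move g (φ0 p)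

/-- An isomorphism over the strictly henselian ring descends to an étale algebra. -/
theorem exists_stage_equiv [Algebra.FinitePresentation R A] [Algebra.FinitePresentation R B]
    [Module.Flat R A] [Module.Flat R B]
    (e : Hens R Ω ⊗[R] A ≃ₐc[Hens R Ω] Hens R Ω ⊗[R] B) :
    ∃ S : Stage R Ω, Nonempty (S.E ⊗[R] A ≃ₐc[S.E] S.E ⊗[R] B) := by
  classical
  let T := Hens R Ω
  let eA : T ⊗[R] A →ₐ[R] T ⊗[R] B := (e : T ⊗[R] A →ₐ[T] T ⊗[R] B).restrictScalars R
  let eB : T ⊗[R] B →ₐ[R] T ⊗[R] A := (e.symm : T ⊗[R] B →ₐ[T] T ⊗[R] A).restrictScalars R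
  obtain ⟨S₁, φ₁, hφ₁⟩ := exists_algHom_stage (eB.comp Algebra.TensorProduct.includeRight)
  obtain ⟨S₂, ψ₂, hψ₂⟩ := exists_algHom_stage (eA.comp Algebra.TensorProduct.includeRight)
  obtain ⟨S, ⟨g₁⟩, ⟨g₂⟩⟩ := exists_merge S₁ S₂
  let φ : B →ₐ[R] S.E ⊗[R] A := (Algebra.TensorProduct.map g₁.f (AlgHom.id R A)).comp φ₁
  let ψ : A →ₐ[R] S.E ⊗[R] B := (Algebra.TensorProduct.map g₂.f (AlgHom.id R B)).comp ψ₂
  have hφ : ∀ b, toT S A (φ b) = e.symm ((1 : T) ⊗ₜ[R] b) := fun b =>
    (toT_move g₁ (φ₁ b)).trans (hφ₁ b)
  have hψ : ∀ a, toT S B (ψ a) = e ((1 : T) ⊗ₜ[R] a) := fun a =>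
    (toT_move g₂ (ψ₂ a)).trans (hψ₂ a)
  -- the scalar extensions
  let ext : ∀ {E : Type u} [CommRing E] [Algebra R E] {P Q : Type u} [CommRing P] [Algebra R P]
      [CommRing Q] [Algebra R Q] (f : P →ₐ[R] E ⊗[R] Q), E ⊗[R] P →ₐ[E] E ⊗[R] Q :=
    fun f => Algebra.TensorProduct.lift (Algebra.ofId _ _) f (fun _ _ => Commute.all _ _)
  have hext : ∀ {E E' : Type u} [CommRing E] [Algebra R E] [CommRing E'] [Algebra R E'] {P Q : Type u}
      [CommRing P] [Algebra R P] [CommRing Q] [Algebra R Q] (r : E →ₐ[R] E') (f : P →ₐ[R] E ⊗[R] Q)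
      (x : E ⊗[R] P), r.toLinearMap.rTensor Q (ext f x) =
        ext ((Algebra.TensorProduct.map r (AlgHom.id R Q)).comp f) (r.toLinearMap.rTensor P x) := by
    intro E E' _ _ _ _ P Q _ _ _ _ r f x
    induction x using TensorProduct.induction_on with
    | zero => simp
    | add p q hp hq => simp only [map_add, hp, hq]
    | tmul s a =>
      simp only [ext, Algebra.TensorProduct.lift_tmul, LinearMap.rTensor_tmul, AlgHom.toLinearMap_apply,
        AlgHom.comp_apply]
      change Algebra.TensorProduct.map r (AlgHom.id R Q) (_ * _) = _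
      rw [map_mul]
      congr 1
  have hψT : (Algebra.TensorProduct.map S.h (AlgHom.id R B)).comp ψ =
      eA.comp Algebra.TensorProduct.includeRight := AlgHom.ext hψ
  have hφT : (Algebra.TensorProduct.map S.h (AlgHom.id R A)).comp φ =
      eB.comp Algebra.TensorProduct.includeRight := AlgHom.ext hφ
  have hextT : ∀ {P Q : Type u} [CommRing P] [Algebra R P] [CommRing Q] [Algebra R Q]
      (E : T ⊗[R] P →ₐ[T] T ⊗[R] Q),
      ext ((E.restrictScalars R).comp Algebra.TensorProduct.includeRight) = E := by
    intro P Q _ _ _ _ E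
    refine Algebra.TensorProduct.ext (Subsingleton.elim _ _) (AlgHom.ext fun x => ?_)
    simp [ext]
  obtain ⟨nA, πA, hπA, -⟩ := Algebra.FinitePresentation.out (R := R) (A := A)
  obtain ⟨nB, πB, hπB, -⟩ := Algebra.FinitePresentation.out (R := R) (A := B)
  -- the inverse equations
  obtain ⟨S₃, g₃, h₃⟩ := exists_kill_tensor S
    (fun k : ULift.{u} (Fin nA) => ext φ (ψ (πA (MvPolynomial.X k.down))))
    (fun k => (1 : S.E) ⊗ₜ[R] πA (MvPolynomial.X k.down)) fun k => by
      rw [show toT S A (ext φ (ψ (πA (MvPolynomial.X k.down)))) = _ from hext S.h φ _, hφT, hextT]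
      rw [show S.h.toLinearMap.rTensor B (ψ (πA (MvPolynomial.X k.down))) = _ from hψ _,
        LinearMap.rTensor_tmul, AlgHom.toLinearMap_apply, map_one]
      exact e.symm_apply_apply _
  obtain ⟨S₄, g₄, h₄⟩ := exists_kill_tensor S₃
    (fun k : ULift.{u} (Fin nB) => move g₃ B (ext ψ (φ (πB (MvPolynomial.X k.down)))))
    (fun k => (1 : S₃.E) ⊗ₜ[R] πB (MvPolynomial.X k.down)) fun k => by
      rw [toT_move, show toT S B (ext ψ (φ (πB (MvPolynomial.X k.down)))) = _ from hext S.h ψ _, hψT,
        hextT, show S.h.toLinearMap.rTensor A (φ (πB (MvPolynomial.X k.down))) = _ from hφ _,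
        LinearMap.rTensor_tmul, AlgHom.toLinearMap_apply, map_one]
      exact e.apply_symm_apply _
  -- the coalgebra equations
  let g₄' := hcomp g₃ g₄
  have hsqT : ∀ x : B ⊗[R] B, toT S (A ⊗[R] A) (sq S.E φ x) =
      sq T (eB.comp Algebra.TensorProduct.includeRight) x := fun x => by
    rw [show toT S (A ⊗[R] A) (sq S.E φ x) = _ from sq_natural S.h φ x, hφT]
  obtain ⟨S₅, g₅, h₅⟩ := exists_kill_tensor S₄
    (fun k : ULift.{u} (Fin nB) => move g₄' (A ⊗[R] A)
      ((comul (R := R) (A := A)).lTensor S.E (φ (πB (MvPolynomial.X k.down)))))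
    (fun k => move g₄' (A ⊗[R] A) (sq S.E φ (comul (R := R) (πB (MvPolynomial.X k.down))))) fun k => by
      rw [toT_move, toT_move, hsqT]
      generalize πB (MvPolynomial.X k.down) = b
      have h1 : toT S (A ⊗[R] A) ((comul (R := R) (A := A)).lTensor S.E (φ b)) =
          (comul (R := R) (A := A)).lTensor T (e.symm ((1 : T) ⊗ₜ[R] b)) := by
        rw [← hφ]
        generalize φ b = z
        induction z using TensorProduct.induction_on with
        | zero => simp
        | add p q hp hq => simp only [map_add, hp, hq]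
        | tmul s a => simp
      rw [h1]
      have hR : ∀ w : T ⊗[R] A, distribAlg T (comul (R := T) w) =
          (comul (R := R) (A := A)).lTensor T w := by
        intro w
        induction w using TensorProduct.induction_on with
        | zero => simp
        | add p q hp hq => simp only [map_add, hp, hq]
        | tmul s a =>
          rw [TensorProduct.comul_tmul, CommSemiring.comul_apply, LinearMap.lTensor_tmul]
          generalize comul (R := R) a = t
          induction t using TensorProduct.induction_on with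
          | zero => simp
          | add p q hp hq => simp only [TensorProduct.tmul_add, map_add, hp, hq]
          | tmul p q => simp [distribAlg]
      rw [← hR, ← CoalgHomClass.map_comp_comul_apply e.symm, TensorProduct.comul_tmul,
        CommSemiring.comul_apply]
      generalize comul (R := R) b = t
      induction t using TensorProduct.induction_on with
      | zero => simp
      | add p q hp hq => simp only [TensorProduct.tmul_add, map_add, hp, hq]
      | tmul p q => simp [distribAlg, sq, eB]; rfl
  let g₅' := hcomp g₄' g₅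
  obtain ⟨S₆, g₆, h₆⟩ := exists_kill_tensor S₅
    (fun k : ULift.{u} (Fin nB) => move g₅' R
      ((counit (R := R) (A := A)).lTensor S.E (φ (πB (MvPolynomial.X k.down)))))
    (fun k => move g₅' R ((1 : S.E) ⊗ₜ[R] counit (R := R) (πB (MvPolynomial.X k.down)))) fun k => by
      rw [toT_move, toT_move]
      generalize πB (MvPolynomial.X k.down) = b
      have h1 : toT S R ((counit (R := R) (A := A)).lTensor S.E (φ b)) =
          (counit (R := R) (A := A)).lTensor T (e.symm ((1 : T) ⊗ₜ[R] b)) := by
        rw [← hφ]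
        generalize φ b = z
        induction z using TensorProduct.induction_on with
        | zero => simp
        | add p q hp hq => simp only [map_add, hp, hq]
        | tmul s a => simp
      rw [h1, LinearMap.rTensor_tmul, AlgHom.toLinearMap_apply, map_one]
      apply (TensorProduct.rid R T).injective
      have h2 : ∀ w : T ⊗[R] A, TensorProduct.rid R T ((counit (R := R) (A := A)).lTensor T w) =
          counit (R := T) w := by
        intro w
        induction w using TensorProduct.induction_on with
        | zero => simp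
        | add p q hp hq => simp only [map_add, hp, hq]
        | tmul s a => simp
      rw [h2, CoalgHomClass.counit_comp_apply, TensorProduct.rid_tmul]
      simp
  -- assembly at the last stage
  let G := hcomp g₅' g₆
  let Φ₀ : B →ₐ[R] S₆.E ⊗[R] A := (Algebra.TensorProduct.map G.f (AlgHom.id R A)).comp φ
  let Ψ₀ : A →ₐ[R] S₆.E ⊗[R] B := (Algebra.TensorProduct.map G.f (AlgHom.id R B)).comp ψ
  have hc : ∀ b, (comul (R := R) (A := A)).lTensor S₆.E (Φ₀ b) = sq S₆.E Φ₀ (comul (R := R) b) := by
    let L : B →ₐ[R] S₆.E ⊗[R] (A ⊗[R] A) :=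
      (Algebra.TensorProduct.map (AlgHom.id R S₆.E) (Bialgebra.comulAlgHom R A)).comp Φ₀
    have : L = (sq S₆.E Φ₀).comp (Bialgebra.comulAlgHom R B) := by
      refine AlgHom.cancel_right hπB |>.1 (MvPolynomial.algHom_ext fun i => ?_)
      simp only [L, AlgHom.comp_apply, Bialgebra.comulAlgHom_apply]
      have h7 := congrArg (move g₆ (A ⊗[R] A)) (h₅ ⟨i⟩)
      rw [move_move, move_move, move_move, move_move] at h7
      have hG : hcomp (hcomp g₄' g₅) g₆ = G := rfl
      rw [show move (hcomp g₄' (hcomp g₅ g₆)) (A ⊗[R] A)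
          (sq S.E φ (comul (R := R) (πB (MvPolynomial.X i)))) = _ from sq_natural G.f φ _] at h7
      refine Eq.trans ?_ h7
      change Algebra.TensorProduct.map (AlgHom.id R S₆.E) (Bialgebra.comulAlgHom R A)
        (G.f.toLinearMap.rTensor A (φ (πB (MvPolynomial.X i)))) = _
      generalize φ (πB (MvPolynomial.X i)) = z
      induction z using TensorProduct.induction_on with
      | zero => simp
      | add p q hp hq => simp only [map_add, hp, hq]
      | tmul s a => rfl
    exact fun b => DFunLike.congr_fun this b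
  have hε : ∀ b, (counit (R := R) (A := A)).lTensor S₆.E (Φ₀ b) =
      (1 : S₆.E) ⊗ₜ[R] counit (R := R) b := by
    let L : B →ₐ[R] S₆.E ⊗[R] R :=
      (Algebra.TensorProduct.map (AlgHom.id R S₆.E) (Bialgebra.counitAlgHom R A)).comp Φ₀
    have : L = (Algebra.TensorProduct.includeRight).comp (Bialgebra.counitAlgHom R B) := by
      refine AlgHom.cancel_right hπB |>.1 (MvPolynomial.algHom_ext fun i => ?_)
      simp only [L, AlgHom.comp_apply]
      have h7 := h₆ ⟨i⟩
      rw [move_move, move_move, LinearMap.rTensor_tmul, AlgHom.toLinearMap_apply, map_one] at h7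
      refine Eq.trans ?_ h7
      change Algebra.TensorProduct.map (AlgHom.id R S₆.E) (Bialgebra.counitAlgHom R A)
        (G.f.toLinearMap.rTensor A (φ (πB (MvPolynomial.X i)))) = _
      generalize φ (πB (MvPolynomial.X i)) = z
      induction z using TensorProduct.induction_on with
      | zero => simp
      | add p q hp hq => simp only [map_add, hp, hq]
      | tmul s a => rfl
    exact fun b => DFunLike.congr_fun this b
  obtain ⟨Φ, hΦ⟩ := exists_bialgHom_of_compat Φ₀ hc hε
  let Ψ := ext Ψ₀
  let g' := hcomp g₅ g₆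
  have hΦext : (Φ : S₆.E ⊗[R] B →ₐ[S₆.E] S₆.E ⊗[R] A) = ext Φ₀ := by
    refine Algebra.TensorProduct.ext (Subsingleton.elim _ _) (AlgHom.ext fun x => ?_)
    simp only [AlgHom.comp_apply, AlgHom.restrictScalars_apply, Algebra.TensorProduct.includeRight_apply]
    exact (hΦ x).trans (by simp [ext, ← Algebra.TensorProduct.one_def])
  have hleft : ∀ x, Ψ (Φ x) = x := by
    have : Ψ.comp (Φ : S₆.E ⊗[R] B →ₐ[S₆.E] S₆.E ⊗[R] A) = AlgHom.id S₆.E _ := by
      refine Algebra.TensorProduct.ext (Subsingleton.elim _ _)
        (AlgHom.cancel_right hπB |>.1 (MvPolynomial.algHom_ext fun i => ?_))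
      simp only [AlgHom.comp_apply, AlgHom.restrictScalars_apply,
        Algebra.TensorProduct.includeRight_apply, AlgHom.id_apply]
      rw [show (Φ : S₆.E ⊗[R] B →ₐ[S₆.E] S₆.E ⊗[R] A) ((1 : S₆.E) ⊗ₜ[R] πB (MvPolynomial.X i)) = _
        from hΦ _]
      have h7 := congrArg (move g' B) (h₄ ⟨i⟩)
      rw [move_move, move_move, move_move, LinearMap.rTensor_tmul, AlgHom.toLinearMap_apply,
        map_one] at h7
      refine Eq.trans ?_ h7
      exact (hext G.f ψ (φ (πB (MvPolynomial.X i)))).symm
    exact fun x => DFunLike.congr_fun this x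
  have hright : ∀ x, Φ (Ψ x) = x := by
    have : (Φ : S₆.E ⊗[R] B →ₐ[S₆.E] S₆.E ⊗[R] A).comp Ψ = AlgHom.id S₆.E _ := by
      rw [hΦext]
      refine Algebra.TensorProduct.ext (Subsingleton.elim _ _)
        (AlgHom.cancel_right hπA |>.1 (MvPolynomial.algHom_ext fun i => ?_))
      simp only [AlgHom.comp_apply, AlgHom.restrictScalars_apply,
        Algebra.TensorProduct.includeRight_apply, AlgHom.id_apply]
      rw [show Ψ ((1 : S₆.E) ⊗ₜ[R] πA (MvPolynomial.X i)) = Ψ₀ (πA (MvPolynomial.X i)) by simp [Ψ, ext, ← Algebra.TensorProduct.one_def]]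
      have h7 := congrArg (move (hcomp g₄ g') A) (h₃ ⟨i⟩)
      rw [move_move, move_move, LinearMap.rTensor_tmul, AlgHom.toLinearMap_apply, map_one] at h7
      refine Eq.trans ?_ h7
      exact (hext G.f φ (ψ (πA (MvPolynomial.X i)))).symm
    exact fun x => DFunLike.congr_fun this x
  exact ⟨S₆, ⟨(BialgEquiv.ofBijective Φ ⟨Function.LeftInverse.injective hleft,
    Function.RightInverse.surjective hright⟩).symm⟩⟩

end Groth.Sga3.Spreading
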