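import Groth.Agent.Sga3.HopfFiniteGroup

/-!
# Finite Hopf algebras over arbitrary fields
-/

universe u

open TensorProduct WithConv

namespace Groth.Sga3.HopfFin

section BaseChange

variable {R : Type u} [CommRing R] (S : Type u) [CommRing S] [Algebra R S]
  (A : Type u) [CommRing A] [HopfAlgebra R A]
  (B : Type u) [CommRing B] [Algebra R B] [Algebra S B] [IsScalarTower R S B]

/-- Restriction of points of the base change. -/
noncomputable def restrictPoint : WithConv (S ⊗[R] A →ₐ[S] B) →* WithConv (A →ₐ[R] B) where
  toFun f := toConv ((f.ofConv.restrictScalars R).comp Algebra.TensorProduct.includeRight)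
  map_one' := by
    apply WithConv.ofConv_injective
    ext a
    show (1 : WithConv (S ⊗[R] A →ₐ[S] B)) ((1 : S) ⊗ₜ a) = _
    simp [Algebra.smul_def, ← IsScalarTower.algebraMap_apply]
  map_mul' f g := by
    apply WithConv.ofConv_injective
    ext a
    show (f * g) ((1 : S) ⊗ₜ a) = (_ * _ : WithConv (A →ₐ[R] B)) a
    rw [AlgHom.convMul_apply, AlgHom.convMul_apply, TensorProduct.comul_tmul, CommSemiring.comul_apply]
    generalize Coalgebra.comul (R := R) a = z
    induction z with
    | zero => simp
    | add x y hx hy => simp only [TensorProduct.tmul_add, map_add, hx, hy]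
    | tmul x y => simp

end BaseChange

variable (k : Type u) [Field k] (A : Type u) [CommRing A] [HopfAlgebra k A] [Module.Finite k A]

/-- A finite group scheme over a field is killed by its rank. -/
theorem convPow_finrank_eq_one' : toConv (AlgHom.id k A) ^ Module.finrank k A = 1 := by
  let K := AlgebraicClosure k
  let ι : A →ₐ[k] K ⊗[k] A := Algebra.TensorProduct.includeRight
  have h : toConv (AlgHom.id K (K ⊗[k] A)) ^ Module.finrank k A = 1 := by
    rw [← Module.finrank_baseChange (R := K) (S := k) (M' := A)]
    exact convPow_finrank_eq_one K (K ⊗[k] A)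
  have h2 := congrArg (restrictPoint K A (K ⊗[k] A)) h
  rw [map_pow, map_one, show restrictPoint K A (K ⊗[k] A) (toConv (AlgHom.id K (K ⊗[k] A))) =
    postComp ι (toConv (AlgHom.id k A)) from rfl, ← map_pow] at h2
  apply WithConv.ofConv_injective
  refine AlgHom.ext fun a => ?_
  have hι : Function.Injective ι :=
    Algebra.TensorProduct.includeRight_injective (algebraMap k K).injective
  refine hι ?_
  have h3 := congrArg (fun f : WithConv (A →ₐ[k] K ⊗[k] A) => f a) h2
  simp only [postComp_apply] at h3
  rw [h3, AlgHom.convOne_apply, AlgHom.convOne_apply, AlgHom.commutes]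

theorem etale_of_isReduced_of_isAlgClosed (K B : Type u) [Field K] [IsAlgClosed K] [CommRing B]
    [Algebra K B] [Module.Finite K B] [IsReduced B] : Algebra.Etale K B := by
  have : IsArtinianRing B := IsArtinianRing.of_finite K B
  let φ : B →ₐ[K] ∀ m : MaximalSpectrum B, B ⧸ m.asIdeal :=
    AlgHom.pi fun m => Ideal.Quotient.mkₐ K m.asIdeal
  have hφ : Function.Bijective φ := (IsArtinianRing.equivPi B).bijective
  let _ : ∀ m : MaximalSpectrum B, Field (B ⧸ m.asIdeal) := fun m => Ideal.Quotient.field m.asIdeal
  refine (Algebra.Etale.iff_exists_algEquiv_prod K B).2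
    ⟨MaximalSpectrum B, inferInstance, fun m => B ⧸ m.asIdeal, inferInstance, inferInstance,
      AlgEquiv.ofBijective φ hφ, fun m => ⟨inferInstance, inferInstance⟩⟩

/-- A finite group scheme of invertible rank is etale. -/
theorem etale_of_rank_ne_zero (h : (Module.finrank k A : k) ≠ 0) : Algebra.Etale k A := by
  let K := AlgebraicClosure k
  have hr : (Module.finrank K (K ⊗[k] A) : K) ≠ 0 := by
    rw [Module.finrank_baseChange, ← map_natCast (algebraMap k K)]
    exact fun e => h ((algebraMap k K).injective (e.trans (map_zero _).symm))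
  have := isReduced_of_rank_ne_zero K (K ⊗[k] A) hr
  have := etale_of_isReduced_of_isAlgClosed K (K ⊗[k] A)
  exact Algebra.Etale.of_etale_tensorProduct_of_faithfullyFlat (R := k) (T := K)

end Groth.Sga3.HopfFin
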