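import Groth.Agent.Sga3.HopfDerivRank

/-!
# Convolution powers on a finite commutative Hopf algebra: local structure

The augmentation fibre `A ⧸ I ^ N` of a finite commutative Hopf algebra over a field, and the power maps
modulo high powers of the augmentation ideal.
-/

set_option linter.unusedSimpArgs false

universe u

open TensorProduct WithConv

namespace Groth.Sga3.HopfFin

open Groth.Sga3.HopfDeriv

section Points

variable {R : Type*} [CommRing R] {A B C : Type*} [CommRing A] [Bialgebra R A] [CommRing B] [Algebra R B]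
  [CommRing C] [Algebra R C]

/-- Post-composition of points. -/
noncomputable def postComp (h : B →ₐ[R] C) : WithConv (A →ₐ[R] B) →* WithConv (A →ₐ[R] C) where
  toFun f := toConv (h.comp f.ofConv)
  map_one' := by ext a; simp
  map_mul' f g := by apply WithConv.ofConv_injective; simp [AlgHom.comp_convMul_distrib]

@[simp] theorem postComp_apply (h : B →ₐ[R] C) (f : WithConv (A →ₐ[R] B)) (a : A) :
    (postComp h f) a = h (f a) := rfl

/-- The power map `[n]` on coordinate rings. -/
noncomputable def powMap (R A : Type*) [CommRing R] [CommRing A] [Bialgebra R A] (n : ℕ) : A →ₐ[R] A :=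
  ((toConv (AlgHom.id R A)) ^ n).ofConv

theorem postComp_powMap (f : A →ₐ[R] B) (n : ℕ) (a : A) : f (powMap R A n a) = (toConv f ^ n) a := by
  have h : postComp f (toConv (AlgHom.id R A) ^ n) = toConv f ^ n := by
    rw [map_pow]; rfl
  rw [← h]; rfl

theorem powMap_powMap (m n : ℕ) (a : A) : powMap R A m (powMap R A n a) = powMap R A (m * n) a := by
  rw [postComp_powMap (powMap R A m) n a]
  show (((toConv (AlgHom.id R A)) ^ m) ^ n) a = _
  rw [← pow_mul]; rfl

theorem powMap_one (a : A) : powMap R A 1 a = a := by simp [powMap]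

/-- The augmentation ideal. -/
def aug (R A : Type*) [CommRing R] [CommRing A] [Bialgebra R A] : Ideal A :=
  RingHom.ker (Bialgebra.counitAlgHom R A)

theorem sub_counit_mem_aug (a : A) : a - algebraMap R A (Coalgebra.counit a) ∈ aug R A := by
  simp [aug, RingHom.mem_ker]

/-- The linear map `a ↦ a - ε a`, in the convolution ring. -/
noncomputable def augProj (R A : Type*) [CommRing R] [CommRing A] [Bialgebra R A] :
    WithConv (A →ₗ[R] A) :=
  toConv LinearMap.id - 1

theorem augProj_pow_mem (n : ℕ) (a : A) : (augProj R A ^ n) a ∈ aug R A ^ n := by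
  induction n generalizing a with
  | zero => simp
  | succ n ih =>
    rw [pow_succ (augProj R A), LinearMap.convMul_apply]
    generalize Coalgebra.comul (R := R) a = z
    induction z with
    | zero => simp
    | add x y hx hy => rw [map_add, map_add]; exact Ideal.add_mem _ hx hy
    | tmul x y =>
      simp only [TensorProduct.map_tmul, LinearMap.mul'_apply]
      rw [pow_succ]
      exact Ideal.mul_mem_mul (ih x) (sub_counit_mem_aug y)

theorem powMap_char_mem (p : ℕ) [Fact p.Prime] [CharP R p] (a : A) (ha : a ∈ aug R A) :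
    powMap R A p a ∈ aug R A ^ p := by
  have h2 : (toConv LinearMap.id : WithConv (A →ₗ[R] A)) ^ p = augProj R A ^ p + 1 := by
    have hp : (p : WithConv (A →ₗ[R] A)) = 0 := by
      rw [← map_natCast (algebraMap R (WithConv (A →ₗ[R] A))), CharP.cast_eq_zero, map_zero]
    have he : (toConv LinearMap.id : WithConv (A →ₗ[R] A)) = augProj R A + 1 := (sub_add_cancel _ _).symm
    obtain ⟨r, hr⟩ := Commute.exists_add_pow_prime_eq (Fact.out : p.Prime)
      (Commute.one_right (augProj R A))
    rw [he, hr, one_pow, hp, zero_mul, zero_mul, zero_mul, add_zero]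
  have h3 : powMap R A p a = ((toConv LinearMap.id : WithConv (A →ₗ[R] A)) ^ p) a := by
    have := AlgHom.toLinearMap_convPow (toConv (AlgHom.id R A)) p
    exact LinearMap.congr_fun (congrArg WithConv.ofConv this) a
  have h4 : algebraMap R A (Coalgebra.counit a) = 0 := by
    rw [aug, RingHom.mem_ker, Bialgebra.counitAlgHom_apply] at ha
    rw [ha, map_zero]
  rw [h3, h2]
  simpa [h4] using augProj_pow_mem p a

theorem powMap_char_pow_mem (p : ℕ) [Fact p.Prime] [CharP R p] (h : ℕ) (a : A) (ha : a ∈ aug R A) :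
    powMap R A (p ^ h) a ∈ aug R A ^ (p ^ h) := by
  induction h generalizing a with
  | zero => simpa [powMap_one] using ha
  | succ h ih =>
    rw [pow_succ', ← powMap_powMap]
    have : Ideal.map (powMap R A p) (aug R A ^ (p ^ h)) ≤ aug R A ^ (p * p ^ h) := by
      rw [Ideal.map_pow, pow_mul]
      exact Ideal.pow_right_mono (Ideal.map_le_iff_le_comap.2 fun b hb => powMap_char_mem p b hb) _
    exact this (Ideal.mem_map_of_mem _ (ih a ha))

end Points

variable (k : Type u) [Field k] (A : Type u) [CommRing A] [HopfAlgebra k A]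

theorem comul_mem_sup (a : A) (ha : a ∈ aug k A) :
    Coalgebra.comul a ∈
      (aug k A).map (Algebra.TensorProduct.includeLeft : A →ₐ[k] A ⊗[k] A) ⊔
      (aug k A).map (Algebra.TensorProduct.includeRight : A →ₐ[k] A ⊗[k] A) := by
  set P := (aug k A).map (Algebra.TensorProduct.includeLeft : A →ₐ[k] A ⊗[k] A) ⊔
      (aug k A).map (Algebra.TensorProduct.includeRight : A →ₐ[k] A ⊗[k] A)
  have key : ∀ z : A ⊗[k] A, z - algebraMap k (A ⊗[k] A)
      (LinearMap.mul' k k (TensorProduct.map Coalgebra.counit Coalgebra.counit z)) ∈ P := by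
    intro z
    induction z with
    | zero => simp
    | add x y hx hy =>
      simp only [map_add]
      rw [add_sub_add_comm]
      exact P.add_mem hx hy
    | tmul x y =>
      have e : x ⊗ₜ[k] y - algebraMap k (A ⊗[k] A) (Coalgebra.counit x * Coalgebra.counit y) =
          ((x - algebraMap k A (Coalgebra.counit x)) ⊗ₜ[k] (1 : A)) * ((1 : A) ⊗ₜ y) +
          algebraMap k (A ⊗[k] A) (Coalgebra.counit x) * ((1 : A) ⊗ₜ[k] (y - algebraMap k A (Coalgebra.counit y))) := by
        have h1 : (x - algebraMap k A (Coalgebra.counit x)) ⊗ₜ[k] (1 : A) =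
            x ⊗ₜ[k] (1 : A) - algebraMap k (A ⊗[k] A) (Coalgebra.counit x) := by
          rw [TensorProduct.sub_tmul, Algebra.TensorProduct.algebraMap_apply]
        have h2 : (1 : A) ⊗ₜ[k] (y - algebraMap k A (Coalgebra.counit y)) =
            (1 : A) ⊗ₜ[k] y - algebraMap k (A ⊗[k] A) (Coalgebra.counit y) := by
          rw [TensorProduct.tmul_sub, Algebra.TensorProduct.algebraMap_apply']
        have h3 : x ⊗ₜ[k] y = (x ⊗ₜ[k] (1 : A)) * ((1 : A) ⊗ₜ y) := by simp
        rw [h1, h2, h3, map_mul]
        ring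
      simp only [TensorProduct.map_tmul, LinearMap.mul'_apply]
      rw [e]
      exact P.add_mem (P.mul_mem_right _ (Submodule.mem_sup_left (Ideal.mem_map_of_mem _ (sub_counit_mem_aug x))))
        (P.mul_mem_left _ (Submodule.mem_sup_right (Ideal.mem_map_of_mem _ (sub_counit_mem_aug y))))
  have h := key (Coalgebra.comul a)
  have h1 : TensorProduct.map (Coalgebra.counit : A →ₗ[k] k) Coalgebra.counit (Coalgebra.comul a) =
      1 ⊗ₜ Coalgebra.counit a := by
    rw [← LinearMap.lTensor_comp_rTensor, LinearMap.comp_apply, Coalgebra.rTensor_counit_comul,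
      LinearMap.lTensor_tmul]
  have h2 : Coalgebra.counit (R := k) a = 0 := ha
  rw [h1, h2] at h
  simpa using h

variable [Module.Finite k A]

theorem exists_stable : ∃ N, 0 < N ∧ ∀ j, N ≤ j → aug k A ^ j = aug k A ^ N := by
  have : IsArtinianRing A := IsArtinianRing.of_finite k A
  obtain ⟨n, hn⟩ := IsArtinian.monotone_stabilizes (R := A)
    ⟨fun j => OrderDual.toDual (aug k A ^ j), fun i j h => Ideal.pow_le_pow_right h⟩
  exact ⟨n + 1, n.succ_pos, fun j hj => (hn j (by omega)).symm.trans (hn (n + 1) (by omega))⟩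

variable {k A}

/-- The fibre at the augmentation, as a counital local algebra. -/
noncomputable def fibre {N : ℕ} (hN0 : 0 < N) (hN : ∀ j, N ≤ j → aug k A ^ j = aug k A ^ N) :
    CounitalLocal k (A ⧸ aug k A ^ N) :=
  let J := aug k A ^ N
  let q := Ideal.Quotient.mkₐ k J
  let ε : (A ⧸ J) →ₐ[k] k := Ideal.Quotient.liftₐ J (Bialgebra.counitAlgHom k A)
    (fun a ha => (Ideal.pow_le_self hN0.ne' ha : a ∈ aug k A))
  let Δ : (A ⧸ J) →ₐ[k] (A ⧸ J) ⊗[k] (A ⧸ J) := Ideal.Quotient.liftₐ J
    ((Algebra.TensorProduct.map q q).comp (Bialgebra.comulAlgHom k A))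
    (fun a ha => by
      have h1 : J ≤ ((aug k A).map (Algebra.TensorProduct.includeLeft : A →ₐ[k] A ⊗[k] A) ⊔
          (aug k A).map (Algebra.TensorProduct.includeRight : A →ₐ[k] A ⊗[k] A)).comap
          (Bialgebra.comulAlgHom k A) ^ (N + N) := by
        show aug k A ^ N ≤ _
        rw [← hN (N + N) (Nat.le_add_left _ _)]
        exact Ideal.pow_right_mono (fun b hb => comul_mem_sup k A b hb) _
      have h2 := Ideal.le_comap_pow _ _ (h1 ha)
      have h3 := Ideal.sup_pow_add_le_pow_sup_pow (Ideal.mem_comap.1 h2)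
      rw [← Ideal.map_pow, ← Ideal.map_pow] at h3
      refine (show _ ≤ RingHom.ker (Algebra.TensorProduct.map q q) from sup_le ?_ ?_) h3
      · rw [Ideal.map_le_iff_le_comap]
        intro b hb
        simp [q, J, RingHom.mem_ker, Ideal.Quotient.eq_zero_iff_mem.2 hb]
      · rw [Ideal.map_le_iff_le_comap]
        intro b hb
        simp [q, J, RingHom.mem_ker, Ideal.Quotient.eq_zero_iff_mem.2 hb])
  { ε := ε
    Δ := Δ
    hr := fun a => by
      obtain ⟨b, rfl⟩ := Ideal.Quotient.mkₐ_surjective k J a
      have key : ∀ z : A ⊗[k] A, TensorProduct.rid k (A ⧸ J) (LinearMap.lTensor (A ⧸ J) ε.toLinearMap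
          (Algebra.TensorProduct.map q q z)) = q (TensorProduct.rid k A (LinearMap.lTensor A Coalgebra.counit z)) := by
        intro z
        induction z with
        | zero => simp
        | add x y hx hy => simp only [map_add, hx, hy]
        | tmul x y =>
          simp only [Algebra.TensorProduct.map_tmul, LinearMap.lTensor_tmul, LinearMap.rTensor_tmul,
            AlgHom.toLinearMap_apply, TensorProduct.rid_tmul, TensorProduct.lid_tmul, map_smul]
          rfl
      show TensorProduct.rid k (A ⧸ J) (LinearMap.lTensor (A ⧸ J) ε.toLinearMap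
          (Algebra.TensorProduct.map q q (Coalgebra.comul b))) = q b
      rw [key, Coalgebra.lTensor_counit_comul]
      simp
    hl := fun a => by
      obtain ⟨b, rfl⟩ := Ideal.Quotient.mkₐ_surjective k J a
      have key : ∀ z : A ⊗[k] A, TensorProduct.lid k (A ⧸ J) (LinearMap.rTensor (A ⧸ J) ε.toLinearMap
          (Algebra.TensorProduct.map q q z)) = q (TensorProduct.lid k A (LinearMap.rTensor A Coalgebra.counit z)) := by
        intro z
        induction z with
        | zero => simp
        | add x y hx hy => simp only [map_add, hx, hy]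
        | tmul x y =>
          simp only [Algebra.TensorProduct.map_tmul, LinearMap.lTensor_tmul, LinearMap.rTensor_tmul,
            AlgHom.toLinearMap_apply, TensorProduct.rid_tmul, TensorProduct.lid_tmul, map_smul]
          rfl
      show TensorProduct.lid k (A ⧸ J) (LinearMap.rTensor (A ⧸ J) ε.toLinearMap
          (Algebra.TensorProduct.map q q (Coalgebra.comul b))) = q b
      rw [key, Coalgebra.rTensor_counit_comul]
      simp
    nil := fun a ha => by
      obtain ⟨b, rfl⟩ := Ideal.Quotient.mkₐ_surjective k J a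
      exact ⟨N, Ideal.Quotient.eq_zero_iff_mem.2 (Ideal.pow_mem_pow (show b ∈ aug k A from ha) N)⟩ }

theorem fibre_m {N : ℕ} (hN0 : 0 < N) (hN : ∀ j, N ≤ j → aug k A ^ j = aug k A ^ N) :
    (fibre hN0 hN).m = (aug k A).map (Ideal.Quotient.mk (aug k A ^ N)) := by
  refine le_antisymm (fun a ha => ?_) (Ideal.map_le_iff_le_comap.2 fun b hb => hb)
  obtain ⟨b, rfl⟩ := Ideal.Quotient.mk_surjective a
  exact Ideal.mem_map_of_mem _ (show b ∈ aug k A from ha)

theorem aug_pow_finrank_le {N : ℕ} (hN0 : 0 < N) (hN : ∀ j, N ≤ j → aug k A ^ j = aug k A ^ N) :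
    aug k A ^ Module.finrank k (A ⧸ aug k A ^ N) ≤ aug k A ^ N := by
  have h := (fibre hN0 hN).m_pow_finrank
  rw [fibre_m, ← Ideal.map_pow, Ideal.map_eq_bot_iff_le_ker, Ideal.mk_ker] at h
  exact h

/-- With `r = dim (A ⧸ I ^ N)` the power map `[r]` sends `I` into `I ^ N`. -/
theorem powMap_fibre_rank [PerfectField k] {N : ℕ} (hN0 : 0 < N) (hN : ∀ j, N ≤ j → aug k A ^ j = aug k A ^ N) (a : A)
    (ha : a ∈ aug k A) :
    powMap k A (Module.finrank k (A ⧸ aug k A ^ N)) a ∈ aug k A ^ N := by
  obtain ⟨p, hp⟩ := CharP.exists k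
  rcases CharP.char_is_prime_or_zero k p with h | h
  · have : Fact p.Prime := ⟨h⟩
    obtain ⟨m, hm⟩ := (fibre hN0 hN).exists_finrank_eq_pow p
    have := powMap_char_pow_mem p m a ha
    rw [← hm] at this
    exact aug_pow_finrank_le hN0 hN this
  · subst h
    have : CharZero k := CharP.charP_to_charZero k
    rw [(fibre hN0 hN).finrank_eq_one ((fibre hN0 hN).m_eq_bot_of_charZero), powMap_one]
    have h1 := aug_pow_finrank_le hN0 hN
    rw [(fibre hN0 hN).finrank_eq_one ((fibre hN0 hN).m_eq_bot_of_charZero), pow_one] at h1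
    exact h1 ha

/-- If the fibre rank is invertible in `k`, the augmentation ideal is idempotent. -/
theorem fibre_rank_eq_one [PerfectField k] {N : ℕ} (hN0 : 0 < N) (hN : ∀ j, N ≤ j → aug k A ^ j = aug k A ^ N)
    (h : (Module.finrank k (A ⧸ aug k A ^ N) : k) ≠ 0) : Module.finrank k (A ⧸ aug k A ^ N) = 1 := by
  obtain ⟨p, hp⟩ := CharP.exists k
  rcases CharP.char_is_prime_or_zero k p with hp' | hp'
  · have : Fact p.Prime := ⟨hp'⟩
    obtain ⟨m, hm⟩ := (fibre hN0 hN).exists_finrank_eq_pow p
    rcases Nat.eq_zero_or_pos m with rfl | hm0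
    · simpa using hm
    · exact absurd (by rw [hm, Nat.cast_pow, CharP.cast_eq_zero, zero_pow hm0.ne']) h
  · subst hp'
    have : CharZero k := CharP.charP_to_charZero k
    exact (fibre hN0 hN).finrank_eq_one ((fibre hN0 hN).m_eq_bot_of_charZero)

end Groth.Sga3.HopfFin
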