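import Groth.Prelude.Def_LieHopf
import Groth.Prelude.Def_Dyn
import Mathlib.RingTheory.HopfAlgebra.Convolution

/-!
Points of an affine group scheme inside the convolution algebra of linear maps `A → R`.
-/

universe u

open TensorProduct WithConv

namespace Groth.Sga3.ConvPoints

variable {k : Type u} [CommRing k] {A : Type u} [CommRing A] [HopfAlgebra k A]
  {R : Type u} [CommRing R] [Algebra k R]

/-- A point, seen in the convolution algebra of linear maps. -/
def lin (f : A →ₐ[k] R) : WithConv (A →ₗ[k] R) := toConv f.toLinearMap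

@[simp] lemma lin_apply (f : A →ₐ[k] R) (a : A) : lin f a = f a := rfl

lemma lin_mul (f g : A →ₐ[k] R) : lin (toConv f * toConv g).ofConv = lin f * lin g :=
  AlgHom.toLinearMap_convMul _ _

lemma lin_unit : lin ((Algebra.ofId k R).comp (Bialgebra.counitAlgHom k A)) = 1 := rfl

lemma conv3_eq (f g h : A →ₐ[k] R) :
    Dyn.conv3 k A f g h = (toConv f * toConv g * toConv h).ofConv := by
  rw [Dyn.conv3, AlgHom.convMul_def, AlgHom.convMul_def]
  congr 1
  rw [← AlgHom.comp_assoc, ← Algebra.TensorProduct.map_comp]
  simp [AlgHom.comp_assoc]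

lemma lin_conv3 (f g h : A →ₐ[k] R) :
    lin (Dyn.conv3 k A f g h) = lin f * lin g * lin h := by
  rw [conv3_eq, ← lin_mul, ← lin_mul]

lemma lin_mul_antipode (f : A →ₐ[k] R) :
    lin f * lin (f.comp (HopfAlgebra.antipodeAlgHom k A)) = 1 := by
  have h := LinearMap.algHom_comp_convMul_distrib f
    (toConv LinearMap.id : WithConv (A →ₗ[k] A)) (toConv (HopfAlgebra.antipode k (A := A)))
  rw [LinearMap.id_mul_antipode] at h
  apply WithConv.ofConv_injective
  refine h.symm.trans (LinearMap.ext fun a => ?_)
  simp

/-- The linear map `a ↦ D a • r`. -/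
def scal (r : R) (D : A →ₗ[k] k) : WithConv (A →ₗ[k] R) :=
  toConv (LinearMap.toSpanSingleton k R r ∘ₗ D)

@[simp] lemma scal_apply (r : R) (D : A →ₗ[k] k) (a : A) : scal r D a = D a • r := rfl

lemma scal_zero (D : A →ₗ[k] k) : scal (0 : R) D = 0 := by
  ext a
  simp

lemma scal_mul_scal (r s : R) (D E : A →ₗ[k] k) :
    scal r D * scal s E = scal (r * s) (LieHopf.conv D E) := by
  ext a
  rw [LinearMap.convMul_apply, scal_apply]
  change _ = (LinearMap.mul' k k) (TensorProduct.map D E (CoalgebraStruct.comul a)) • (r * s)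
  generalize CoalgebraStruct.comul (R := k) a = t
  induction t using TensorProduct.induction_on with
  | zero => simp
  | tmul b c => simp [scal, smul_smul, mul_comm]
  | add b c hb hc => simp only [map_add, hb, hc, add_smul]

end Groth.Sga3.ConvPoints
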