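import Groth.Agent.Sga3.MultType
import Groth.Agent.Calg1.ProjDescent
import Groth.Agent.FlatmorThree.ProjLocal

/-!
Module-theoretic properties of Hopf algebras of groups of multiplicative type.
-/

set_option autoImplicit false

universe u

open TensorProduct

noncomputable section

namespace Groth.Sga3.MultType

open SGA3b

variable {R : Type u} [CommRing R] {A : Type u} [CommRing A] [HopfAlgebra R A]

theorem projective_of_isDiag (h : IsDiag R A) : Module.Projective R A := by
  obtain ⟨M, _, ⟨e⟩⟩ := h
  have : Module.Free R (MonoidAlgebra R M) :=
    Module.Free.of_basis (Module.Basis.ofRepr (MonoidAlgebra.coeffLinearEquiv R))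
  exact Module.Projective.of_equiv (e : A ≃ₐ[R] MonoidAlgebra R M).toLinearEquiv.symm

theorem projective_of_isMultTypeConst (h : IsMultTypeConst R A) : Module.Projective R A := by
  obtain ⟨R', _, _, _, hd⟩ := h
  have := projective_of_isDiag hd
  exact Groth.Calg1.projective_descent (S := R') A

theorem isMultTypeConst_of_isIsotrivial (h : IsIsotrivial R A) : IsMultTypeConst R A := by
  obtain ⟨R', _, _, _, _, hff, hd⟩ := h
  exact ⟨R', _, _, hff, hd⟩

theorem eq_zero_of_forall_dual {N : Type u} [AddCommGroup N] [Module R N] [Module.Projective R N]
    {x : N} (h : ∀ f : N →ₗ[R] R, f x = 0) : x = 0 :=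
  (Module.forall_dual_apply_eq_zero_iff R x).1 h

/-- finiteness may be tested after diagonalising base changes -/
theorem finite_of_forall (h : IsMultType R A) {N : Type u} [AddCommGroup N] [Module R N]
    (hN : ∀ (S : Type u) [CommRing S] [Algebra R S], IsDiag S (S ⊗[R] A) →
      Module.Finite S (S ⊗[R] N)) : Module.Finite R N := by
  obtain ⟨s, hs, hloc⟩ := h
  refine Module.Finite.of_localizationSpan' (Rₚ := fun g : s => Localization.Away g.1)
    (Mₚ := fun g : s => Localization.Away g.1 ⊗[R] N) s hs
    (fun g => TensorProduct.mk R (Localization.Away g.1) N 1) fun g => ?_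
  obtain ⟨R', _, _, hff, hdiag⟩ := hloc g.1 g.2
  letI : Algebra R R' := ((algebraMap (Localization.Away g.1) R').comp
    (algebraMap R (Localization.Away g.1))).toAlgebra
  haveI : IsScalarTower R (Localization.Away g.1) R' := IsScalarTower.of_algebraMap_eq' rfl
  have := hN R' (isDiag_trans (Localization.Away g.1) R' A hdiag)
  have : Module.Finite R' (R' ⊗[Localization.Away g.1] (Localization.Away g.1 ⊗[R] N)) :=
    Module.Finite.equiv (TensorProduct.AlgebraTensorModule.cancelBaseChange R (Localization.Away g.1)
      R' R' N).symm
  exact Module.Finite.of_finite_tensorProduct_of_faithfullyFlat R'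

/-- the Hopf algebra of a group of multiplicative type is projective -/
theorem projective_of_isMultType (h : IsMultType R A) : Module.Projective R A := by
  obtain ⟨s, hs, hloc⟩ := h
  refine Groth.FlatmorThree.projective_of_localized_span A s hs fun g => ?_
  have := projective_of_isMultTypeConst (hloc g.1 g.2)
  exact Module.Projective.of_equiv (LocalizedModule.equivTensorProduct (Submonoid.powers g.1) A).symm

end Groth.Sga3.MultType
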