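import Groth.Agent.Sga3.DescendLift

/-!
Isotrivial groups of multiplicative type extend over an adically complete Noetherian ring.
-/

set_option autoImplicit false

universe u

open TensorProduct

noncomputable section

namespace Groth.Sga3.Descend

open SGA3b MultType

variable {R : Type u} [CommRing R] (I : Ideal R)

theorem faithfullyFlat_of_mod (hI : I ≤ (⊥ : Ideal R).jacobson) {S : Type u} [CommRing S] [Algebra R S]
    [Module.Flat R S] {C : Type u} [CommRing C] [Algebra (R ⧸ I) C] [Module.FaithfullyFlat (R ⧸ I) C]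
    (π : S →+* C) (hπR : ∀ r : R, π (algebraMap R S r) = algebraMap (R ⧸ I) C (Ideal.Quotient.mk I r))
    (hπ : Function.Surjective π) :
    Module.FaithfullyFlat R S := by
  refine ⟨fun m hm htop => ?_⟩
  have hIm : I ≤ m := hI.trans (sInf_le ⟨bot_le, hm⟩)
  haveI : (m.map (Ideal.Quotient.mk I)).IsMaximal :=
    Ideal.IsMaximal.map_of_surjective_of_ker_le Ideal.Quotient.mk_surjective (by rwa [Ideal.mk_ker])
  refine Module.FaithfullyFlat.submodule_ne_top (R := R ⧸ I) (M := C)
    (m := m.map (Ideal.Quotient.mk I)) inferInstance ?_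
  rw [eq_top_iff]
  intro c _
  obtain ⟨y, rfl⟩ := hπ c
  have hy : y ∈ m • (⊤ : Submodule R S) := by rw [htop]; exact trivial
  refine Submodule.smul_induction_on hy (fun r hr z _ => ?_) fun p q hp hq => by
    rw [map_add]; exact add_mem hp hq
  rw [show r • z = algebraMap R S r * z from Algebra.smul_def r z, map_mul, hπR, ← Algebra.smul_def]
  exact Submodule.smul_mem_smul (Ideal.mem_map_of_mem _ hr) Submodule.mem_top

theorem exists_isotrivial_lift [IsNoetherianRing R] [IsAdicComplete I R] (A₀ : Type u) [CommRing A₀]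
    [HopfAlgebra (R ⧸ I) A₀] (h0 : IsIsotrivial (R ⧸ I) A₀) :
    ∃ (A : Type u) (_ : CommRing A) (_ : HopfAlgebra R A), IsIsotrivial R A ∧
      Nonempty (((R ⧸ I) ⊗[R] A) ≃ₐc[R ⧸ I] A₀) := by
  obtain ⟨C, _, _, het, hfin, hffC, M, _, ⟨e⟩⟩ := h0
  haveI : HenselianRing R I := inferInstance
  obtain ⟨B, _, _, hfinB, hetB, ⟨ε⟩⟩ := Groth.Hensel1.exists_finite_etale_lift I C
  let J : Ideal B := I.map (algebraMap R B)
  let E : (B ⧸ J) ≃ₐ[R] (R ⧸ I) ⊗[R] B :=
    ((Algebra.TensorProduct.quotIdealMapEquivTensorQuot B I).restrictScalars R).trans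
      (Algebra.TensorProduct.comm R B (R ⧸ I))
  let E' : (B ⧸ J) ≃+* C := E.toRingEquiv.trans ε.toRingEquiv
  let π : B →+* C := E'.toRingHom.comp (Ideal.Quotient.mk J)
  have hπ : Function.Surjective π := E'.surjective.comp Ideal.Quotient.mk_surjective
  have hπR : ∀ r : R, π (algebraMap R B r) = algebraMap (R ⧸ I) C (Ideal.Quotient.mk I r) := by
    intro r
    change ε (E (algebraMap R (B ⧸ J) r)) = _
    rw [E.commutes, IsScalarTower.algebraMap_apply R (R ⧸ I) ((R ⧸ I) ⊗[R] B), ε.commutes]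
    rfl
  have hker : RingHom.ker π ≤ J := fun x hx => by
    rw [← Ideal.Quotient.eq_zero_iff_mem]
    exact E'.injective (by rw [map_zero]; exact hx)
  haveI : Module.Flat R B := inferInstance
  haveI := faithfullyFlat_of_mod I (IsAdicComplete.le_jacobson_bot I) π hπR hπ
  obtain ⟨A, _, _, hd, hiso⟩ := exists_lift I π hπ hπR hker e (liftProp_of_adic I B)
    (liftProp_of_adic I _) (liftProp_of_adic I _)
  exact ⟨A, _, _, ⟨B, _, _, hetB, hfinB, inferInstance, hd⟩, hiso⟩

end Groth.Sga3.Descend
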