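import Groth.Agent.Sga3.NilDiag
import Groth.Agent.Sga3.CharField
import Groth.Agent.AlgStBasic.SmoothDescent
import Mathlib.RingTheory.Etale.Basic

/-!
Isotrivial and quasi-isotrivial groups lift along nil ideals.
-/

set_option autoImplicit false

universe u

open TensorProduct

noncomputable section

namespace Groth.Sga3.MultType

open SGA3b

variable {R : Type u} [CommRing R] {A : Type u} [CommRing A] [HopfAlgebra R A]

theorem isMultTypeConst_of_equiv {B : Type u} [CommRing B] [HopfAlgebra R B] (e : A ≃ₐc[R] B)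
    (h : IsMultTypeConst R A) : IsMultTypeConst R B := by
  obtain ⟨R', _, _, hff, hd⟩ := h
  exact ⟨R', _, _, hff, isDiag_of_equiv (congrBC R' e) hd⟩

/-- Base change of a group of multiplicative type. -/
theorem isMultType_baseChange (S : Type u) [CommRing S] [Algebra R S] (h : IsMultType R A) :
    IsMultType S (S ⊗[R] A) := by
  obtain ⟨s, hs, hloc⟩ := h
  refine ⟨algebraMap R S '' s, by rw [← Ideal.map_span, hs, Ideal.map_top], ?_⟩
  rintro _ ⟨f, hf, rfl⟩
  let Rf := Localization.Away f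
  let Sf := Localization.Away (algebraMap R S f)
  let : Algebra Rf Sf := (IsLocalization.Away.lift f (g := algebraMap R Sf)
    (by rw [IsScalarTower.algebraMap_apply R S Sf]
        exact IsLocalization.Away.algebraMap_isUnit _)).toAlgebra
  haveI : IsScalarTower R Rf Sf := IsScalarTower.of_algebraMap_eq fun r =>
    (IsLocalization.Away.lift_eq f _ r).symm
  exact isMultTypeConst_of_equiv ((cancelBC R Rf Sf A).trans (cancelBC R S Sf A).symm)
    (Groth.Sga3.CharLift.isMultTypeConst_baseChange Sf (hloc f hf))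

/-- An etale covering which splits the group modulo a nil ideal lifts. -/
theorem exists_etale_splitting (h : IsMultType R A) {B C : Type u} [CommRing B] [CommRing C]
    [Algebra R B] [Algebra B C] [Algebra R C] [IsScalarTower R B C]
    (hπ : Function.Surjective (algebraMap R B))
    (hnil : ∀ x ∈ RingHom.ker (algebraMap R B), IsNilpotent x)
    [Algebra.Etale B C] [Module.FaithfullyFlat B C] (hd : IsDiag C (C ⊗[R] A)) :
    ∃ (Q : Type u) (_ : CommRing Q) (_ : Algebra R Q), Algebra.Etale R Q ∧ Module.FaithfullyFlat R Q ∧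
      IsDiag Q (Q ⊗[R] A) ∧ (Module.Finite B C → Module.Finite R Q) := by
  obtain ⟨Q, _, _, π, het, hπs, hker⟩ :=
    Groth.AlgStBasic.SmoothDescent.exists_etale_lift (C := C) hπ
  let J : Ideal Q := RingHom.ker π.toRingHom
  have hJnil : ∀ x ∈ J, IsNilpotent x := by
    intro x hx
    exact map_nil hnil Q x (hker ▸ hx)
  let e : (Q ⧸ J) ≃ₐ[R] C := Ideal.quotientKerAlgEquivOfSurjective hπs
  let : Algebra C (Q ⧸ J) := (e.symm : C →+* Q ⧸ J).toAlgebra
  haveI : IsScalarTower R C (Q ⧸ J) := IsScalarTower.of_algebraMap_eq fun r => (e.symm.commutes r).symm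
  have h1 : IsDiag (Q ⧸ J) ((Q ⧸ J) ⊗[R] A) :=
    isDiag_trans C (Q ⧸ J) A (isDiag_baseChange (Q ⧸ J) (C ⊗[R] A) hd)
  have h2 : IsDiag Q (Q ⊗[R] A) := isDiag_of_nil (isMultType_baseChange Q h) hJnil
    (isDiag_of_equiv (cancelBC R Q (Q ⧸ J) A).symm h1)
  haveI : Module.Flat R Q := inferInstance
  refine ⟨Q, _, _, het, Module.FaithfullyFlat.of_comap_surjective fun p => ?_, h2, fun hfin => ?_⟩
  · obtain ⟨q, hq⟩ : p ∈ Set.range (PrimeSpectrum.comap (algebraMap R B)) := by
      rw [range_comap_of_surjective B (algebraMap R B) hπ]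
      intro x hx
      obtain ⟨n, hn⟩ := hnil x hx
      exact p.2.mem_of_pow_mem n (hn ▸ p.asIdeal.zero_mem)
    obtain ⟨P, hP⟩ := PrimeSpectrum.comap_surjective_of_faithfullyFlat (A := B) (B := C) q
    refine ⟨PrimeSpectrum.comap π.toRingHom P, ?_⟩
    rw [← hq, ← hP, ← PrimeSpectrum.comap_comp_apply, ← PrimeSpectrum.comap_comp_apply]
    rw [show π.toRingHom.comp (algebraMap R Q) = (algebraMap B C).comp (algebraMap R B) from
      π.comp_algebraMap.trans (IsScalarTower.algebraMap_eq R B C)]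
  · haveI : Algebra.IsIntegral R Q := ⟨fun x => by
      obtain ⟨g, hg, hgx⟩ := IsIntegral.of_finite B (π x)
      obtain ⟨f, hf, -, hfm⟩ := Polynomial.lifts_and_natDegree_eq_and_monic
        (Polynomial.mem_lifts g |>.2 (Polynomial.map_surjective _ hπ g)) hg
      have h0 : Polynomial.aeval x f ∈ J := by
        change π (Polynomial.aeval x f) = 0
        rw [← Polynomial.aeval_algHom_apply, ← Polynomial.aeval_map_algebraMap B (π x) f, hf]
        exact hgx
      obtain ⟨n, hn⟩ := hJnil _ h0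
      exact ⟨f ^ n, hfm.pow n, by rw [← Polynomial.aeval_def, map_pow, hn]⟩⟩
    exact Algebra.IsIntegral.finite

theorem isIsotrivial_of_nil (h : IsMultType R A) {I : Ideal R} (hI : ∀ x ∈ I, IsNilpotent x)
    (h0 : IsIsotrivial (R ⧸ I) ((R ⧸ I) ⊗[R] A)) : IsIsotrivial R A := by
  obtain ⟨C, _, _, het, hfin, hff, hd⟩ := h0
  let : Algebra R C := ((algebraMap (R ⧸ I) C).comp (algebraMap R (R ⧸ I))).toAlgebra
  haveI : IsScalarTower R (R ⧸ I) C := IsScalarTower.of_algebraMap_eq' rfl
  obtain ⟨Q, _, _, h1, h2, h3, h4⟩ := exists_etale_splitting (B := R ⧸ I) (C := C) h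
    Ideal.Quotient.mk_surjective (by simpa [Ideal.Quotient.algebraMap_eq] using hI)
    (isDiag_trans (R ⧸ I) C A hd)
  exact ⟨Q, _, _, h1, h4 hfin, h2, h3⟩

theorem isQuasiIsotrivial_of_nil (h : IsMultType R A) {I : Ideal R} (hI : ∀ x ∈ I, IsNilpotent x)
    (h0 : IsQuasiIsotrivial (R ⧸ I) ((R ⧸ I) ⊗[R] A)) : IsQuasiIsotrivial R A := by
  obtain ⟨s₀, hs₀, hloc⟩ := h0
  refine ⟨Ideal.Quotient.mk I ⁻¹' s₀, ?_, fun f hf => ?_⟩
  · by_contra hne
    obtain ⟨m, hm, hsm⟩ := Ideal.exists_le_maximal _ hne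
    have hIm : I ≤ m := fun x hx => by
      obtain ⟨n, hn⟩ := hI x hx
      exact hm.isPrime.mem_of_pow_mem n (hn ▸ m.zero_mem)
    refine hm.ne_top (eq_top_iff.2 ?_)
    have h1 : (⊤ : Ideal (R ⧸ I)) ≤ m.map (Ideal.Quotient.mk I) := by
      rw [← hs₀, Ideal.span_le]
      intro y hy
      obtain ⟨x, rfl⟩ := Ideal.Quotient.mk_surjective y
      exact Ideal.mem_map_of_mem _ (hsm (Ideal.subset_span hy))
    have h2 := Ideal.comap_mono (f := Ideal.Quotient.mk I) h1
    rwa [Ideal.comap_top, Ideal.comap_map_mk hIm] at h2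
  let f₀ := Ideal.Quotient.mk I f
  let Rf := Localization.Away f
  let Bf := Localization.Away f₀
  obtain ⟨C, _, _, het, hff, hd⟩ := hloc f₀ hf
  let π : Rf →+* Bf := IsLocalization.Away.lift f (g := algebraMap R Bf)
    (IsLocalization.Away.algebraMap_isUnit f₀)
  let : Algebra Rf Bf := π.toAlgebra
  haveI : IsScalarTower R Rf Bf := IsScalarTower.of_algebraMap_eq fun r =>
    (IsLocalization.Away.lift_eq f _ r).symm
  have hπf : ∀ r, π (algebraMap R Rf r) = algebraMap (R ⧸ I) Bf (Ideal.Quotient.mk I r) := fun r =>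
    IsLocalization.Away.lift_eq f _ r
  have hsurj : Function.Surjective (algebraMap Rf Bf) := by
    intro y
    obtain ⟨n, a, ha⟩ := IsLocalization.Away.surj f₀ y
    obtain ⟨r, rfl⟩ := Ideal.Quotient.mk_surjective a
    obtain ⟨u, hu⟩ := (IsLocalization.Away.algebraMap_isUnit (S := Rf) f).pow n
    refine ⟨algebraMap R Rf r * (↑u⁻¹ : Rf), ?_⟩
    refine ((IsLocalization.Away.algebraMap_isUnit (S := Bf) f₀).pow n).mul_right_cancel ?_
    rw [ha, ← hπf f, ← map_pow, ← hu]
    change π _ * π _ = _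
    rw [← map_mul, Units.inv_mul_cancel_right, hπf]
  have hnil : ∀ x ∈ RingHom.ker (algebraMap Rf Bf), IsNilpotent x := by
    intro x hx
    obtain ⟨n, r, hr⟩ := IsLocalization.Away.surj f x
    have h1 : algebraMap (R ⧸ I) Bf (Ideal.Quotient.mk I r) = 0 := by
      rw [← hπf, ← hr, map_mul, show π x = 0 from hx, zero_mul]
    obtain ⟨⟨_, k, rfl⟩, hk⟩ := (IsLocalization.map_eq_zero_iff (Submonoid.powers f₀) Bf _).1 h1
    have h2 : IsNilpotent (algebraMap R Rf (f ^ k * r)) := by
      refine (hI _ (Ideal.Quotient.eq_zero_iff_mem.1 ?_)).map _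
      rw [map_mul, map_pow]
      exact hk
    rw [map_mul, ← hr, map_pow, ← mul_assoc, mul_comm (_ ^ k) x, mul_assoc] at h2
    obtain ⟨v, hv⟩ := isUnit_iff_exists_inv.1 (((IsLocalization.Away.algebraMap_isUnit (S := Rf) f).pow k).mul
      ((IsLocalization.Away.algebraMap_isUnit (S := Rf) f).pow n))
    have h3 := (Commute.all _ v).isNilpotent_mul_right h2
    rwa [mul_assoc, hv, mul_one] at h3
  let : Algebra (R ⧸ I) C := ((algebraMap Bf C).comp (algebraMap (R ⧸ I) Bf)).toAlgebra
  haveI : IsScalarTower (R ⧸ I) Bf C := IsScalarTower.of_algebraMap_eq' rfl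
  let : Algebra R C := ((algebraMap Bf C).comp (algebraMap R Bf)).toAlgebra
  haveI : IsScalarTower R Bf C := IsScalarTower.of_algebraMap_eq' rfl
  haveI : IsScalarTower R (R ⧸ I) C := IsScalarTower.of_algebraMap_eq' rfl
  let : Algebra Rf C := ((algebraMap Bf C).comp (algebraMap Rf Bf)).toAlgebra
  haveI : IsScalarTower Rf Bf C := IsScalarTower.of_algebraMap_eq' rfl
  haveI : IsScalarTower R Rf C := IsScalarTower.of_algebraMap_eq fun r =>
    congrArg (algebraMap Bf C) (IsScalarTower.algebraMap_apply R Rf Bf r)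
  have h1 : IsDiag C (C ⊗[R] A) := isDiag_trans (R ⧸ I) C A (isDiag_trans Bf C _ hd)
  obtain ⟨Q, _, _, e1, e2, e3, -⟩ := exists_etale_splitting (B := Bf) (C := C)
    (isMultType_baseChange Rf h) hsurj hnil (isDiag_of_equiv (cancelBC R Rf C A).symm h1)
  exact ⟨Q, _, _, e1, e2, e3⟩

end Groth.Sga3.MultType
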