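import Groth.Agent.Sga3.TypeSplit
import Groth.Agent.Sga3.DescendIsotrivial
import Groth.Agent.Sga3.NilIsotrivial

/-!
Quasi-isotrivial groups of multiplicative type lift along nil ideals.
-/

set_option autoImplicit false

universe u

open TensorProduct

noncomputable section

namespace Groth.Sga3.Descend

open SGA3b MultType

theorem le_jacobson_of_nil {R : Type u} [CommRing R] {I : Ideal R} (hI : ∀ x ∈ I, IsNilpotent x) :
    I ≤ (⊥ : Ideal R).jacobson := fun x hx => by
  rw [Ideal.jacobson_bot]; exact nilradical_le_jacobson R (hI x hx)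

/-- the case of constant type -/
theorem exists_const_lift {R : Type u} [CommRing R] (I : Ideal R) (hI : ∀ x ∈ I, IsNilpotent x)
    (A₀ : Type u) [CommRing A₀] [HopfAlgebra (R ⧸ I) A₀] (h0 : IsQuasiIsotrivialConst (R ⧸ I) A₀) :
    ∃ (A : Type u) (_ : CommRing A) (_ : HopfAlgebra R A), IsQuasiIsotrivialConst R A ∧
      Nonempty (((R ⧸ I) ⊗[R] A) ≃ₐc[R ⧸ I] A₀) := by
  obtain ⟨C, _, _, het, hffC, M, _, ⟨e⟩⟩ := h0
  let : Algebra R C := ((algebraMap (R ⧸ I) C).comp (algebraMap R (R ⧸ I))).toAlgebra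
  haveI : IsScalarTower R (R ⧸ I) C := IsScalarTower.of_algebraMap_eq' rfl
  obtain ⟨S, _, _, π, hetS, hπ, hker⟩ := Groth.AlgStBasic.SmoothDescent.exists_etale_lift (C := C)
    (show Function.Surjective (algebraMap R (R ⧸ I)) from Ideal.Quotient.mk_surjective)
  haveI : Module.Flat R S := inferInstance
  have hπR : ∀ r : R, π.toRingHom (algebraMap R S r) = algebraMap (R ⧸ I) C (Ideal.Quotient.mk I r) :=
    fun r => π.commutes r
  haveI := faithfullyFlat_of_mod I (le_jacobson_of_nil hI) π.toRingHom hπR hπ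
  have hker' : RingHom.ker π.toRingHom ≤ I.map (algebraMap R S) := by
    rw [hker, Ideal.Quotient.algebraMap_eq, Ideal.mk_ker]
  obtain ⟨A, _, _, hd, hiso⟩ := exists_lift I π.toRingHom hπ hπR hker' e (liftProp_of_nil hI S)
    (liftProp_of_nil hI _) (liftProp_of_nil hI _)
  exact ⟨A, _, _, ⟨S, _, _, hetS, inferInstance, hd⟩, hiso⟩

/-- the general case -/
theorem exists_quasi_lift {R : Type u} [CommRing R] (I : Ideal R) (hI : ∀ x ∈ I, IsNilpotent x)
    (A₀ : Type u) [CommRing A₀] [HopfAlgebra (R ⧸ I) A₀] (h0 : IsQuasiIsotrivial (R ⧸ I) A₀) :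
    ∃ (A : Type u) (_ : CommRing A) (_ : HopfAlgebra R A), IsQuasiIsotrivial R A ∧
      Nonempty (((R ⧸ I) ⊗[R] A) ≃ₐc[R ⧸ I] A₀) := by
  classical
  obtain ⟨ι, _, ε, hε, hsplit⟩ := TypeSplit.exists_split h0
  obtain ⟨e, he, hee⟩ := CompleteOrthogonalIdempotents.lift_of_isNilpotent_ker (Ideal.Quotient.mk I)
    (fun x hx => hI x (by rwa [Ideal.mk_ker] at hx)) hε (fun c => Ideal.Quotient.mk_surjective (ε c))
  let J : ι → Ideal R := fun c => Ideal.span {1 - e c}
  let Rc : ι → Type u := fun c => R ⧸ J c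
  let Ic : ∀ c, Ideal (R ⧸ J c) := fun c => I.map (Ideal.Quotient.mk (J c))
  let Qc : ι → Type u := fun c => (R ⧸ J c) ⧸ Ic c
  let q : ∀ c, R ⧸ I →+* (R ⧸ J c) ⧸ Ic c := fun c =>
    Ideal.quotientMap (Ic c) (Ideal.Quotient.mk (J c)) Ideal.le_comap_map
  let : ∀ c, Algebra (R ⧸ I) (Qc c) := fun c => (q c).toAlgebra
  haveI : ∀ c, IsScalarTower R (R ⧸ I) (Qc c) := fun c =>
    IsScalarTower.of_algebraMap_eq fun r => (Ideal.quotientMap_mk ..).symm
  haveI hP : ProductGlue.Pieces e Rc :=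
    ⟨he, fun c => Ideal.Quotient.mk_surjective,
      fun c => le_of_eq Ideal.mk_ker,
      fun c => Eq.symm (by
        rw [← map_one (algebraMap R (Rc c))]
        exact Ideal.Quotient.eq.2 (Ideal.mem_span_singleton_self _))⟩
  have hqs : ∀ c, Function.Surjective (algebraMap (R ⧸ I) (Qc c)) := fun c =>
    Ideal.quotientMap_surjective Ideal.Quotient.mk_surjective
  have hqk : ∀ c, RingHom.ker (algebraMap (R ⧸ I) (Qc c)) = Ideal.span {1 - ε c} := by
    intro c
    refine le_antisymm (fun x hx => ?_) ((Ideal.span_singleton_le_iff_mem _).2 ?_)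
    · obtain ⟨r, rfl⟩ := Ideal.Quotient.mk_surjective x
      change q c (Ideal.Quotient.mk I r) = 0 at hx
      rw [Ideal.quotientMap_mk, Ideal.Quotient.eq_zero_iff_mem,
        Ideal.mem_map_iff_of_surjective _ Ideal.Quotient.mk_surjective] at hx
      obtain ⟨i, hi, hir⟩ := hx
      rw [Ideal.Quotient.eq, Ideal.mem_span_singleton] at hir
      obtain ⟨y, hy⟩ := hir
      refine Ideal.mem_span_singleton.2 ⟨-Ideal.Quotient.mk I y, ?_⟩
      rw [← congrFun hee c, show r = i - (1 - e c) * y by rw [← hy]; ring, map_sub, map_mul, map_sub,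
        map_one, Ideal.Quotient.eq_zero_iff_mem.2 hi, Function.comp_apply]
      ring
    · rw [RingHom.mem_ker, ← congrFun hee c, Function.comp_apply, ← map_one (Ideal.Quotient.mk I),
        ← map_sub]
      change q c (Ideal.Quotient.mk I _) = 0
      rw [Ideal.quotientMap_mk, Ideal.Quotient.eq_zero_iff_mem.2 (Ideal.mem_span_singleton_self _),
        map_zero]
  haveI hP0 : ProductGlue.Pieces ε Qc :=
    ⟨hε, hqs, fun c => (hqk c).le, fun c => Eq.symm (by
      rw [← sub_eq_zero, ← map_one (algebraMap (R ⧸ I) (Qc c)), ← map_sub]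
      exact RingHom.mem_ker.1 ((hqk c).symm ▸ Ideal.mem_span_singleton_self _))⟩
  have hnil : ∀ c, ∀ x ∈ Ic c, IsNilpotent x := fun c x hx => by
    obtain ⟨i, hi, rfl⟩ := (Ideal.mem_map_iff_of_surjective _ Ideal.Quotient.mk_surjective).1 hx
    exact (hI i hi).map _
  choose A cA hA hquasi hiso using fun c =>
    exists_const_lift (Ic c) (hnil c) (Qc c ⊗[R ⧸ I] A₀) (hsplit c (Qc c) (hqs c) (hqk c))
  let : ∀ c, Algebra R (A c) := fun c =>
    ((algebraMap (Rc c) (A c)).comp (algebraMap R (Rc c))).toAlgebra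
  haveI : ∀ c, IsScalarTower R (Rc c) (A c) := fun c => IsScalarTower.of_algebraMap_eq' rfl
  obtain ⟨B, _, _, hB⟩ := hP.exists_hopf A
  refine ⟨B, inferInstance, inferInstance, ⟨Set.range e, ?_, ?_⟩, ?_⟩
  · rw [eq_top_iff, ← Ideal.span_singleton_one, Ideal.span_le, Set.singleton_subset_iff, SetLike.mem_coe,
      ← he.complete]
    exact Ideal.sum_mem _ fun c _ => Ideal.subset_span ⟨c, rfl⟩
  · rintro _ ⟨c, rfl⟩
    obtain ⟨S, _, _, hetS, hffS, hdS⟩ := hquasi c
    let Rf := Localization.Away (e c)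
    haveI : IsLocalization.Away (e c) (Rc c) :=
      IsLocalization.away_of_isIdempotentElem (he.idem c) Ideal.mk_ker Ideal.Quotient.mk_surjective
    let ψ : Rf ≃ₐ[R] Rc c := IsLocalization.algEquiv (Submonoid.powers (e c)) Rf (Rc c)
    let : Algebra R S := ((algebraMap (Rc c) S).comp (algebraMap R (Rc c))).toAlgebra
    haveI : IsScalarTower R (Rc c) S := IsScalarTower.of_algebraMap_eq' rfl
    let : Algebra Rf S := ((algebraMap (Rc c) S).comp (ψ : Rf →+* Rc c)).toAlgebra
    haveI : IsScalarTower R Rf S := IsScalarTower.of_algebraMap_eq fun r =>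
      (congrArg (algebraMap (Rc c) S) (ψ.commutes r)).symm
    haveI : Algebra.Etale R (Rc c) := Algebra.Etale.of_isLocalizationAway (e c)
    haveI : Algebra.Etale R Rf := Algebra.Etale.of_isLocalizationAway (e c)
    haveI : Algebra.Etale R S := Algebra.Etale.comp R (Rc c) S
    haveI : Algebra.Etale Rf S := Algebra.Etale.of_restrictScalars R Rf S
    have hff : Module.FaithfullyFlat Rf S := RingHom.faithfullyFlat_algebraMap_iff.1
      (RingHom.FaithfullyFlat.stableUnderComposition (ψ : Rf →+* Rc c) (algebraMap (Rc c) S)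
        (RingHom.FaithfullyFlat.of_bijective (f := (ψ : Rf →+* Rc c)) ψ.bijective)
        (RingHom.faithfullyFlat_algebraMap_iff.2 hffS))
    refine ⟨S, inferInstance, inferInstance, inferInstance, hff, ?_⟩
    exact isDiag_of_equiv ((((congrBC S (hB c).some).symm.trans (cancelBC R (Rc c) S B))).trans
      (cancelBC R Rf S B).symm) hdS
  · refine hP0.nonempty_bialgEquiv fun c => ?_
    exact (((cancelBC R (R ⧸ I) (Qc c) B).trans (cancelBC R (Rc c) (Qc c) B).symm).trans
      (congrBC (Qc c) (hB c).some)).trans (hiso c).some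

end Groth.Sga3.Descend
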