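import Groth.Agent.Sga3.AdicIsotrivial
import Groth.Agent.FlatMor2.Deform

/-!
Flat deformations of diagonalisable groups along nilpotent ideals are diagonalisable.
-/

set_option autoImplicit false

universe u

open TensorProduct Coalgebra WithConv MonoidAlgebra

noncomputable section

namespace Groth.Sga3.FlatDeform

open SGA3b MultType GroupAlg

variable {R : Type u} [CommRing R]

theorem tmul_eq_zero_of_mem {I : Ideal R} {X : Type u} [AddCommGroup X] [Module R X] {x : X}
    (hx : x ∈ I • (⊤ : Submodule R X)) : (1 : R ⧸ I) ⊗ₜ[R] x = 0 := by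
  refine Submodule.smul_induction_on hx (fun r hr y _ => ?_) fun p q hp hq => by
    rw [TensorProduct.tmul_add, hp, hq, add_zero]
  rw [← TensorProduct.smul_tmul, Algebra.smul_def, Ideal.Quotient.algebraMap_eq,
    Ideal.Quotient.eq_zero_iff_mem.2 hr, zero_mul, TensorProduct.zero_tmul]

/-- A map into a flat module which is bijective modulo a nilpotent ideal is bijective. -/
theorem bijective_of_mod {J : Ideal R} (hJ : IsNilpotent J) {N N' : Type u} [AddCommGroup N]
    [Module R N] [AddCommGroup N'] [Module R N'] [Module.Flat R N'] (f : N →ₗ[R] N')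
    (hf : Function.Bijective (f.lTensor (R ⧸ J))) : Function.Bijective f := by
  have hs : (⊤ : Submodule R N') ≤ LinearMap.range f ⊔ J • ⊤ := by
    intro y _
    obtain ⟨z, hz⟩ := hf.2 ((1 : R ⧸ J) ⊗ₜ y)
    obtain ⟨x, rfl⟩ := TensorProduct.mk_surjective R N (R ⧸ J) Ideal.Quotient.mk_surjective z
    have h1 := sub_mem_smul_of_tmul_eq J hz
    exact Submodule.mem_sup.2 ⟨f x, ⟨x, rfl⟩, y - f x, by simpa using neg_mem h1, by abel⟩
  have hsurj : Function.Surjective f := fun y =>
    Groth.FlatMor2.le_of_le_sup_smul_of_isNilpotent hJ hs (Submodule.mem_top (x := y))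
  refine ⟨LinearMap.ker_eq_bot.1 (eq_bot_iff.2 ?_), hsurj⟩
  refine Groth.FlatMor2.le_of_le_sup_smul_of_isNilpotent hJ (fun x hx => Submodule.mem_sup_right ?_)
  refine Groth.FlatMor2.inf_smul_top_le_smul_of_flat f hsurj J ⟨hx, ?_⟩
  have h1 : (1 : R ⧸ J) ⊗ₜ[R] x = (1 : R ⧸ J) ⊗ₜ[R] (0 : N) := hf.1 (by
    rw [LinearMap.lTensor_tmul, LinearMap.lTensor_tmul, show f x = 0 from hx, map_zero])
  simpa using sub_mem_smul_of_tmul_eq J h1

theorem mem_of_smul_top {X : Type u} [AddCommGroup X] [Module R X] {J : Ideal R} (f : X →ₗ[R] R)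
    {t : X} (ht : t ∈ J • (⊤ : Submodule R X)) : f t ∈ J := by
  refine Submodule.smul_induction_on ht (fun r hr y _ => ?_) fun p q hp hq => by
    rw [map_add]; exact add_mem hp hq
  rw [map_smul, smul_eq_mul]
  exact Ideal.mul_mem_right _ _ hr

variable {X : Type u} [CommRing X] [HopfAlgebra R X]

theorem comul_sub_mem {J : Ideal R} {a : X} (ha : IsGroupLikeElem (R ⧸ J) ((1 : R ⧸ J) ⊗ₜ[R] a)) :
    comul (R := R) a - a ⊗ₜ[R] a ∈ J • (⊤ : Submodule R (X ⊗[R] X)) :=
  sub_mem_smul_of_tmul_eq J (AdicIso.comul_one_tmul (R ⧸ J) ha)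

/-- products of functionals at an approximately group-like element -/
theorem mul_apply_sub_mem {J : Ideal R} {a : X}
    (ha : IsGroupLikeElem (R ⧸ J) ((1 : R ⧸ J) ⊗ₜ[R] a)) (u v : WithConv (X →ₗ[R] R)) :
    (u * v) a - u a * v a ∈ J := by
  have h1 := mem_of_smul_top ((LinearMap.mul' R R) ∘ₗ TensorProduct.map u.ofConv v.ofConv)
    (comul_sub_mem ha)
  rw [map_sub, LinearMap.comp_apply, LinearMap.comp_apply, TensorProduct.map_tmul,
    LinearMap.mul'_apply] at h1
  rw [LinearMap.convMul_apply]
  exact h1

/-- exact value of a product when the first factor lies in a square-zero ideal -/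
theorem mul_apply_eq {J : Ideal R} (hJ : J ^ 2 = ⊥) {a : X}
    (ha : IsGroupLikeElem (R ⧸ J) ((1 : R ⧸ J) ⊗ₜ[R] a)) (u v : WithConv (X →ₗ[R] R))
    (hu : ∀ x, u x ∈ J) : (u * v) a = u a * v a := by
  have key : ∀ t ∈ J • (⊤ : Submodule R (X ⊗[R] X)),
      LinearMap.mul' R R (TensorProduct.map u.ofConv v.ofConv t) = 0 := by
    intro t ht
    refine Submodule.smul_induction_on ht (fun r hr y hy => ?_) fun p q hp hq => by
      rw [map_add, map_add, hp, hq, add_zero]
    clear hy
    induction y using TensorProduct.induction_on with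
    | zero => simp
    | add p q hp hq => rw [smul_add, map_add, map_add, hp, hq, add_zero]
    | tmul p q =>
      rw [map_smul, map_smul, TensorProduct.map_tmul, LinearMap.mul'_apply, smul_eq_mul, ← mul_assoc]
      have : r * u.ofConv p ∈ J ^ 2 := by rw [pow_two]; exact Ideal.mul_mem_mul hr (hu p)
      rw [hJ, Ideal.mem_bot] at this
      rw [this, zero_mul]
  have h1 := key _ (comul_sub_mem ha)
  rw [map_sub, map_sub, TensorProduct.map_tmul, LinearMap.mul'_apply, sub_eq_zero] at h1
  rw [LinearMap.convMul_apply]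
  exact h1

theorem counit_sub_mem {J : Ideal R} {a : X} (ha : IsGroupLikeElem (R ⧸ J) ((1 : R ⧸ J) ⊗ₜ[R] a)) :
    counit (R := R) a - 1 ∈ J := by
  have h1 := ha.counit_eq_one
  rw [TensorProduct.counit_tmul, CommSemiring.counit_apply, Algebra.smul_def, mul_one,
    ← map_one (Ideal.Quotient.mk J), Ideal.Quotient.algebraMap_eq, Ideal.Quotient.eq] at h1
  exact h1

/-- Square-zero case. -/
theorem isDiag_of_sqzero [Module.Flat R X] {J : Ideal R} (hJ : J ^ 2 = ⊥)
    (h0 : IsDiag (R ⧸ J) ((R ⧸ J) ⊗[R] X)) : IsDiag R X := by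
  classical
  obtain ⟨M, _, ⟨e₀⟩⟩ := h0
  have hnil : IsNilpotent J := ⟨2, by rw [hJ]; rfl⟩
  choose a ha using fun m : M =>
    TensorProduct.mk_surjective R X (R ⧸ J) Ideal.Quotient.mk_surjective (e₀.symm (single m 1))
  simp only [TensorProduct.mk_apply] at ha
  have hgl : ∀ m, IsGroupLikeElem (R ⧸ J) ((1 : R ⧸ J) ⊗ₜ[R] a m) := fun m => by
    rw [ha]; exact (MonoidAlgebra.isGroupLikeElem_single_one m).map e₀.symm
  -- lifts of the basis give a basis
  have hbij : ∀ b : M → X, (∀ m, (1 : R ⧸ J) ⊗ₜ[R] b m = e₀.symm (single m 1)) →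
      Function.Bijective (Finsupp.linearCombination R b ∘ₗ
        (MonoidAlgebra.coeffLinearEquiv R (M := M)).toLinearMap) := by
    intro b hb
    refine bijective_of_mod hnil _ ?_
    let E := (monAlgBC R (R ⧸ J) M).trans e₀.symm
    have h1 : ∀ z, (Finsupp.linearCombination R b ∘ₗ
        (MonoidAlgebra.coeffLinearEquiv R (M := M)).toLinearMap).lTensor (R ⧸ J) z = E z := by
      intro z
      obtain ⟨x, rfl⟩ := TensorProduct.mk_surjective R (MonoidAlgebra R M) (R ⧸ J)
        Ideal.Quotient.mk_surjective z
      induction x using MonoidAlgebra.induction_linear with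
      | zero => simp
      | add p q hp hq => simp only [map_add] at *; rw [hp, hq]
      | single m r =>
        rw [show single m r = r • single m (1 : R) by simp, map_smul, map_smul,
          ← algebraMap_smul (R ⧸ J) r, ← algebraMap_smul (R ⧸ J) r, map_smul]
        congr 1
        simp only [TensorProduct.mk_apply, LinearMap.lTensor_tmul]
        change _ = e₀.symm (MonoidAlgebra.scalarTensorEquiv R (R ⧸ J) _)
        simp [MonoidAlgebra.scalarTensorEquiv_tmul, hb]
    rw [show ⇑((Finsupp.linearCombination R b ∘ₗ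
        (MonoidAlgebra.coeffLinearEquiv R (M := M)).toLinearMap).lTensor (R ⧸ J)) = E from funext h1]
    exact E.bijective
  let L := LinearEquiv.ofBijective _ (hbij a ha)
  have hL : ∀ m, L (single m 1) = a m := fun m => by simp [L]
  have hext : ∀ (P : Submodule R R) (f : X →ₗ[R] R), (∀ p, f (a p) ∈ P) → ∀ x, f x ∈ P := by
    intro P f hf x
    obtain ⟨y, rfl⟩ := L.surjective x
    induction y using MonoidAlgebra.induction_linear with
    | zero => simp
    | add p q hp hq => rw [map_add, map_add]; exact add_mem hp hq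
    | single m r =>
      rw [show single m r = r • single m (1 : R) by simp, map_smul, map_smul, hL]
      exact P.smul_mem r (hf m)
  let lam : M → WithConv (X →ₗ[R] R) := fun m => toConv ((cf m) ∘ₗ L.symm.toLinearMap)
  have hlam : ∀ m p, lam m (a p) = if p = m then 1 else 0 := by
    intro m p
    change cf m (L.symm (a p)) = _
    rw [← hL, LinearEquiv.symm_apply_apply, cf_single]
  have hnegl : ∀ m x, (lam m * lam m - lam m) x ∈ J := fun m =>
    hext J (lam m * lam m - lam m).ofConv fun p => by
      change (lam m * lam m) (a p) - lam m (a p) ∈ J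
      have h1 := mul_apply_sub_mem (hgl p) (lam m) (lam m)
      rw [hlam] at h1 ⊢
      split_ifs at h1 ⊢ <;> simpa using h1
  let E : M → WithConv (X →ₗ[R] R) := fun m => 3 * (lam m * lam m) - 2 * (lam m * lam m * lam m)
  have hsq : ∀ u v : WithConv (X →ₗ[R] R), (∀ x, u x ∈ J) → (∀ x, v x ∈ J) → u * v = 0 := by
    intro u v hu hv
    refine WithConv.ofConv_injective (LinearMap.ext fun x => ?_)
    have h1 := conv_mul_mem hu hv x
    rw [← pow_two, hJ, Ideal.mem_bot] at h1
    exact h1
  have hEidem : ∀ m, IsIdempotentElem (E m) := by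
    intro m
    have hnn := hsq _ _ (hnegl m) (hnegl m)
    have h1 : E m * E m - E m = (4 * (lam m * lam m) - 4 * lam m - 3) *
        ((lam m * lam m - lam m) * (lam m * lam m - lam m)) := by
      have h2 := congrArg (Polynomial.aeval (R := ℤ) (lam m))
        (show (3 * (Polynomial.X * Polynomial.X) - 2 * (Polynomial.X * Polynomial.X * Polynomial.X)) *
            (3 * (Polynomial.X * Polynomial.X) - 2 * (Polynomial.X * Polynomial.X * Polynomial.X)) -
            (3 * (Polynomial.X * Polynomial.X) - 2 * (Polynomial.X * Polynomial.X * Polynomial.X)) =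
          (4 * (Polynomial.X * Polynomial.X) - 4 * Polynomial.X - 3) *
            ((Polynomial.X * Polynomial.X - Polynomial.X) *
              (Polynomial.X * Polynomial.X - (Polynomial.X : Polynomial ℤ))) by ring)
      simp only [map_sub, map_mul, map_ofNat, Polynomial.aeval_X] at h2
      exact h2
    rw [hnn, mul_zero, sub_eq_zero] at h1
    exact h1
  have hElam : ∀ m x, E m x - lam m x ∈ J := by
    intro m
    have h1 : E m - lam m = (lam m * lam m - lam m) * (1 - 2 * lam m) := by
      have h2 := congrArg (Polynomial.aeval (R := ℤ) (lam m))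
        (show (3 * (Polynomial.X * Polynomial.X) - 2 * (Polynomial.X * Polynomial.X * Polynomial.X)) -
            (Polynomial.X : Polynomial ℤ) =
          (Polynomial.X * Polynomial.X - Polynomial.X) * (1 - 2 * Polynomial.X) by ring)
      simp only [map_sub, map_mul, map_ofNat, map_one, Polynomial.aeval_X] at h2
      exact h2
    intro x
    change (E m - lam m) x ∈ J
    rw [h1]
    have h2 := conv_mul_mem (J := ⊤) (hnegl m) (fun c => Submodule.mem_top (x := (1 - 2 * lam m) c)) x
    rwa [Ideal.mul_top] at h2
  have hEa : ∀ m p, E m (a p) - (if p = m then 1 else 0) ∈ J := fun m p => by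
    rw [← hlam]; exact hElam m (a p)
  have hunit : ∀ m, IsUnit (E m (a m)) := by
    intro m
    have h2 := hEa m m
    rw [if_pos rfl] at h2
    have h3 : IsNilpotent (E m (a m) - 1) := ⟨2, by
      have h := Ideal.pow_mem_pow h2 2
      rwa [hJ, Ideal.mem_bot] at h⟩
    simpa using h3.isUnit_add_one
  choose Einv hEinv using fun m => isUnit_iff_exists_inv.1 (hunit m)
  -- the key identity
  let c : M → WithConv (X →ₗ[R] R) → R := fun m u => (u * E m) (a m) * Einv m
  have hkey : ∀ m u, u * E m = c m u • E m := by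
    intro m u
    let w := u * E m - c m u • E m
    have hwE : w * E m = w := by
      rw [sub_mul, smul_mul_assoc, mul_assoc, (hEidem m).eq]
    have hwa : w (a m) = 0 := by
      change (u * E m) (a m) - c m u * E m (a m) = 0
      rw [mul_assoc ((u * E m) (a m)) (Einv m), mul_comm (Einv m), hEinv, mul_one, sub_self]
    have hwJ : ∀ x, w x ∈ J := hext J w.ofConv fun p => by
      change w (a p) ∈ J
      rcases eq_or_ne p m with rfl | hp
      · rw [hwa]; exact zero_mem J
      · have h1 := mul_apply_sub_mem (hgl p) u (E m)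
        have h2 := hEa m p
        rw [if_neg hp, sub_zero] at h2
        change (u * E m) (a p) - c m u * E m (a p) ∈ J
        refine sub_mem ?_ (Ideal.mul_mem_left _ _ h2)
        simpa using add_mem h1 (Ideal.mul_mem_left J (u (a p)) h2)
    have hw0 : w = 0 := by
      refine WithConv.ofConv_injective (LinearMap.ext fun x => ?_)
      have h0 := hext ⊥ w.ofConv (fun p => by
        change w (a p) ∈ (⊥ : Submodule R R)
        rw [Submodule.mem_bot]
        rcases eq_or_ne p m with rfl | hp
        · exact hwa
        · rw [← hwE, mul_apply_eq hJ (hgl p) w (E m) hwJ]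
          have h2 := hEa m p
          rw [if_neg hp, sub_zero] at h2
          have h3 : w (a p) * E m (a p) ∈ J ^ 2 := by rw [pow_two]; exact Ideal.mul_mem_mul (hwJ _) h2
          rwa [hJ, Ideal.mem_bot] at h3) x
      rw [Submodule.mem_bot] at h0
      exact h0
    exact sub_eq_zero.1 hw0
  let g : M → X := fun m =>
    Einv m • TensorProduct.rid R X ((E m).ofConv.lTensor X (comul (R := R) (a m)))
  have hg : ∀ m (u : WithConv (X →ₗ[R] R)), u (g m) = c m u := by
    intro m u
    change u.ofConv (Einv m • _) = (u * E m) (a m) * Einv m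
    rw [map_smul, smul_eq_mul, mul_comm, LinearMap.convMul_apply]
    congr 1
    generalize comul (R := R) (a m) = t
    induction t using TensorProduct.induction_on with
    | zero => simp
    | add p q hp hq => simp only [map_add, hp, hq]
    | tmul p q => simp [mul_comm]
  have hsep : ∀ x y : X, (∀ u : WithConv (X →ₗ[R] R), u x = u y) → x = y := fun x y h =>
    L.symm.injective (ext_cf fun m => h (lam m))
  have hgm : ∀ m, IsGroupLikeElem R (g m) := by
    intro m
    refine ⟨?_, ?_⟩
    · have h1 := hg m 1
      rw [show c m 1 = 1 by simp only [c, one_mul]; exact hEinv m] at h1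
      simpa using h1
    · let b : Module.Basis M R X := Module.Basis.ofRepr (L.symm.trans (MonoidAlgebra.coeffLinearEquiv R))
      refine (b.tensorProduct b).repr.injective (Finsupp.ext fun pq => ?_)
      obtain ⟨p, q⟩ := pq
      have hrepr : ∀ t, (b.tensorProduct b).repr t (p, q) =
          LinearMap.mul' R R (TensorProduct.map (lam p).ofConv (lam q).ofConv t) := by
        intro t
        induction t using TensorProduct.induction_on with
        | zero => simp
        | add x y hx hy => simp only [map_add, Finsupp.add_apply, hx, hy]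
        | tmul x y =>
          rw [Module.Basis.tensorProduct_repr_tmul_apply]
          simp [b, lam, cf_apply, mul_comm]
      rw [hrepr, hrepr, TensorProduct.map_tmul, LinearMap.mul'_apply, ← LinearMap.convMul_apply]
      change (lam p * lam q) (g m) = lam p (g m) * lam q (g m)
      rw [hg, hg, hg]
      have h1 : lam p * lam q * E m = (c m (lam q) * c m (lam p)) • E m := by
        rw [mul_assoc, hkey m (lam q), mul_smul_comm, hkey m (lam p), smul_smul]
      change (lam p * lam q * E m) (a m) * Einv m = _
      rw [h1]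
      change c m (lam q) * c m (lam p) * E m (a m) * Einv m = _
      rw [mul_assoc, hEinv, mul_one, mul_comm]
  have hgred : ∀ m, (1 : R ⧸ J) ⊗ₜ[R] g m = e₀.symm (single m 1) := by
    intro m
    rw [← ha, ← sub_eq_zero, ← TensorProduct.tmul_sub]
    refine tmul_eq_zero_of_mem ?_
    -- membership is tested on the coordinates
    have hd : ∀ p, cf p (L.symm (g m - a m)) ∈ J := by
      intro p
      change (lam p).ofConv (g m - a m) ∈ J
      rw [map_sub]
      change lam p (g m) - lam p (a m) ∈ J
      rw [hg]
      have h1 := Ideal.mul_mem_right (Einv m) J (mul_apply_sub_mem (hgl m) (lam p) (E m))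
      rw [sub_mul, mul_assoc (lam p (a m)), hEinv, mul_one] at h1
      exact h1
    rw [← L.apply_symm_apply (g m - a m), ← MonoidAlgebra.sum_coeff_single (L.symm (g m - a m)),
      Finsupp.sum, map_sum]
    refine Submodule.sum_mem _ fun p _ => ?_
    rw [show single p ((L.symm (g m - a m)).coeff p) =
      (L.symm (g m - a m)).coeff p • single p (1 : R) by simp, map_smul]
    exact Submodule.smul_mem_smul (hd p) Submodule.mem_top
  have huniq : ∀ m (x : X), IsGroupLikeElem R x → (1 : R ⧸ J) ⊗ₜ[R] x = e₀.symm (single m 1) →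
      x = g m := by
    intro m x hx hxm
    refine hsep _ _ fun u => ?_
    rw [hg]
    have hmul : ∀ v : WithConv (X →ₗ[R] R), (v * E m) x = v x * E m x := fun v => by
      rw [LinearMap.convMul_apply, hx.comul_eq_tmul_self, TensorProduct.map_tmul, LinearMap.mul'_apply]
    have hEu : IsUnit (E m x) := by
      have h1 := mem_of_smul_top (E m).ofConv
        (sub_mem_smul_of_tmul_eq J (hxm.trans (ha m).symm))
      rw [map_sub] at h1
      have h2 : IsNilpotent (E m x - E m (a m)) := ⟨2, by
        have h := Ideal.pow_mem_pow h1 2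
        rwa [hJ, Ideal.mem_bot] at h⟩
      simpa using h2.isUnit_add_left_of_commute (hunit m) (Commute.all _ _)
    refine hEu.mul_right_cancel ?_
    have h3 := congrArg (fun f : WithConv (X →ₗ[R] R) => f x) (hkey m u)
    simp only [hmul] at h3
    exact h3.trans rfl
  let G : M →* GroupLike R X :=
    { toFun := fun m => ⟨g m, hgm m⟩
      map_one' := GroupLike.val_injective (huniq 1 1 IsGroupLikeElem.one (by
        rw [← MonoidAlgebra.one_def]
        exact (map_one e₀.symm).symm)).symm
      map_mul' := fun m n => GroupLike.val_injective (huniq (m * n) _ ((hgm m).mul (hgm n)) (by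
        rw [show (1 : R ⧸ J) ⊗ₜ[R] (g m * g n) = ((1 : R ⧸ J) ⊗ₜ[R] g m) * ((1 : R ⧸ J) ⊗ₜ[R] g n) by
          rw [Algebra.TensorProduct.tmul_mul_tmul, one_mul], hgred, hgred, ← map_mul,
          MonoidAlgebra.single_mul_single, one_mul])).symm }
  let φ : MonoidAlgebra R M →ₐc[R] X :=
    MonoidAlgebra.liftGroupLikeBialgHom.comp (MonoidAlgebra.mapDomainBialgHom R G)
  have hb : Function.Bijective φ := by
    convert hbij g hgred using 1
    funext z
    induction z using MonoidAlgebra.induction_linear with
    | zero => simp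
    | add p q hp hq => rw [map_add, map_add, hp, hq]
    | single m r => simp [φ, G, MonoidAlgebra.liftGroupLikeBialgHom]
  exact ⟨M, inferInstance, ⟨(BialgEquiv.ofBijective φ hb).symm⟩⟩

/-- A flat deformation of a diagonalisable group along a nilpotent ideal is diagonalisable. -/
theorem isDiag_of_nilpotent [Module.Flat R X] {I : Ideal R} (hI : IsNilpotent I)
    (h0 : IsDiag (R ⧸ I) ((R ⧸ I) ⊗[R] X)) : IsDiag R X := by
  obtain ⟨n, hn⟩ := hI
  induction n generalizing R X with
  | zero =>
    haveI : Subsingleton R := by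
      rw [pow_zero, Ideal.one_eq_top] at hn
      exact subsingleton_iff.2 fun a b => sub_eq_zero.1 (by
        rw [← Submodule.mem_bot (R := R)]
        have : (⊤ : Ideal R) = ⊥ := hn
        exact this ▸ Submodule.mem_top)
    refine isDiag_of_sqzero (J := I) (Subsingleton.elim _ _) h0
  | succ n ih =>
    rcases Nat.eq_zero_or_pos n with rfl | hn0
    · refine isDiag_of_sqzero (J := I) ?_ h0
      rw [pow_two, ← pow_one I]
      simp only [zero_add] at hn
      rw [hn]; simp
    let J : Ideal R := I ^ n
    have hJ : J ^ 2 = ⊥ := le_bot_iff.1 <| by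
      rw [← pow_mul]
      exact (Ideal.pow_le_pow_right (by omega)).trans hn.le
    refine isDiag_of_sqzero hJ ?_
    have hJI : J ≤ I := Ideal.pow_le_self (by omega)
    let I' : Ideal (R ⧸ J) := I.map (Ideal.Quotient.mk J)
    let Q := (R ⧸ J) ⧸ I'
    let : Algebra (R ⧸ I) Q :=
      (Ideal.quotientMap I' (Ideal.Quotient.mk J) Ideal.le_comap_map).toAlgebra
    haveI : IsScalarTower R (R ⧸ I) Q := IsScalarTower.of_algebraMap_eq fun r => (Ideal.quotientMap_mk ..).symm
    refine ih (R := R ⧸ J) (X := (R ⧸ J) ⊗[R] X) (I := I') ?_ ?_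
    · exact isDiag_of_equiv (cancelBC R (R ⧸ J) Q X).symm
        (isDiag_trans (R ⧸ I) Q X (isDiag_baseChange Q ((R ⧸ I) ⊗[R] X) h0))
    · rw [← Ideal.map_pow, Ideal.map_quotient_self]
      rfl

end Groth.Sga3.FlatDeform
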