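import Groth.Agent.Sga3.NilLift
import Groth.Agent.Sga3.NilIsotrivial
import Groth.Agent.Sga3.FlatDeform

/-!
Homomorphisms between groups of multiplicative type lift uniquely along nil ideals.
-/

set_option autoImplicit false

universe u

open TensorProduct Coalgebra

noncomputable section

namespace Groth.Sga3.HomLift

open SGA3b MultType GroupAlg

variable {R : Type u} [CommRing R]

theorem isMultType_of_quasi {A : Type u} [CommRing A] [HopfAlgebra R A] (h : IsQuasiIsotrivial R A) :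
    IsMultType R A := by
  obtain ⟨s, hs, hloc⟩ := h
  refine ⟨s, hs, fun f hf => ?_⟩
  obtain ⟨R', _, _, _, hff, hd⟩ := hloc f hf
  exact ⟨R', _, _, hff, hd⟩

theorem cancelBC_one_tmul (S T : Type u) [CommRing S] [Algebra R S] [CommRing T] [Algebra R T]
    [Algebra S T] [IsScalarTower R S T] {A : Type u} [CommRing A] [Bialgebra R A] (a : A) :
    cancelBC R S T A ((1 : T) ⊗ₜ[S] ((1 : S) ⊗ₜ[R] a)) = (1 : T) ⊗ₜ[R] a := by
  change Algebra.TensorProduct.cancelBaseChange R S T T A _ = _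
  rw [Algebra.TensorProduct.cancelBaseChange_tmul, one_smul]

theorem cancelBC_symm_one_tmul (S T : Type u) [CommRing S] [Algebra R S] [CommRing T] [Algebra R T]
    [Algebra S T] [IsScalarTower R S T] {A : Type u} [CommRing A] [Bialgebra R A] (a : A) :
    (cancelBC R S T A).symm ((1 : T) ⊗ₜ[R] a) = (1 : T) ⊗ₜ[S] ((1 : S) ⊗ₜ[R] a) := by
  rw [← cancelBC_one_tmul S T a, BialgEquiv.symm_apply_apply]

theorem tmul_eq_of_sub_mem {I : Ideal R} {A : Type u} [AddCommGroup A] [Module R A] {x y : A}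
    (h : x - y ∈ I • (⊤ : Submodule R A)) : (1 : R ⧸ I) ⊗ₜ[R] x = (1 : R ⧸ I) ⊗ₜ[R] y := by
  rw [← sub_eq_zero, ← TensorProduct.tmul_sub]
  exact FlatDeform.tmul_eq_zero_of_mem h

section Push

variable (S T : Type u) [CommRing S] [Algebra R S] [CommRing T] [Algebra R T]
  [Algebra S T] [IsScalarTower R S T] {X Y : Type u} [CommRing X] [HopfAlgebra R X] [CommRing Y]
  [HopfAlgebra R Y]

/-- push a homomorphism to an algebra over the base -/
def push (ψ : S ⊗[R] X →ₐc[S] S ⊗[R] Y) : T ⊗[R] X →ₐc[T] T ⊗[R] Y :=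
  (cancelBC R S T Y : T ⊗[S] (S ⊗[R] Y) →ₐc[T] T ⊗[R] Y).comp
    ((mapBC T ψ).comp ((cancelBC R S T X).symm : T ⊗[R] X →ₐc[T] T ⊗[S] (S ⊗[R] X)))

theorem push_one_tmul (ψ : S ⊗[R] X →ₐc[S] S ⊗[R] Y) (x : X) :
    push S T ψ ((1 : T) ⊗ₜ x) = cancelBC R S T Y ((1 : T) ⊗ₜ[S] ψ ((1 : S) ⊗ₜ x)) := by
  change cancelBC R S T Y (mapBC T ψ ((cancelBC R S T X).symm ((1 : T) ⊗ₜ x))) = _
  rw [cancelBC_symm_one_tmul, mapBC_tmul]

theorem mem_smul_top_push {I : Ideal R} {z : S ⊗[R] Y}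
    (hz : z ∈ I.map (algebraMap R S) • (⊤ : Submodule S (S ⊗[R] Y))) :
    cancelBC R S T Y ((1 : T) ⊗ₜ[S] z) ∈ I.map (algebraMap R T) • (⊤ : Submodule T (T ⊗[R] Y)) := by
  have h1 := smul_top_of_one_tmul T hz (1 : T)
  rw [Ideal.map_map, ← IsScalarTower.algebraMap_eq] at h1
  have h2 := Submodule.mem_map_of_mem
    (f := (Algebra.TensorProduct.cancelBaseChange R S T T Y).toLinearMap) h1
  rw [Submodule.map_smul''] at h2
  exact Submodule.smul_mono le_rfl le_top h2

end Push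

section Lift

variable {X Y : Type u} [CommRing X] [HopfAlgebra R X] [CommRing Y] [HopfAlgebra R Y] {I : Ideal R}

/-- the base change of a homomorphism defined modulo an ideal -/
theorem exists_red (φ₀ : ((R ⧸ I) ⊗[R] X) →ₐc[R ⧸ I] ((R ⧸ I) ⊗[R] Y)) (S : Type u) [CommRing S]
    [Algebra R S] :
    ∃ ψ₀ : ((S ⧸ I.map (algebraMap R S)) ⊗[S] (S ⊗[R] X)) →ₐc[S ⧸ I.map (algebraMap R S)]
        ((S ⧸ I.map (algebraMap R S)) ⊗[S] (S ⊗[R] Y)),
      ∀ (x : X) (y : Y), φ₀ ((1 : R ⧸ I) ⊗ₜ x) = (1 : R ⧸ I) ⊗ₜ y →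
        ψ₀ ((1 : S ⧸ I.map (algebraMap R S)) ⊗ₜ ((1 : S) ⊗ₜ x)) =
          (1 : S ⧸ I.map (algebraMap R S)) ⊗ₜ ((1 : S) ⊗ₜ y) := by
  let T := S ⧸ I.map (algebraMap R S)
  letI : Algebra (R ⧸ I) T := (Ideal.quotientMap (I.map (algebraMap R S)) (algebraMap R S)
    Ideal.le_comap_map).toAlgebra
  haveI : IsScalarTower R (R ⧸ I) T := IsScalarTower.of_algebraMap_eq fun r => by
    rw [RingHom.algebraMap_toAlgebra, Ideal.Quotient.algebraMap_eq, Ideal.quotientMap_mk]
    rfl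
  refine ⟨((cancelBC R S T Y).symm : T ⊗[R] Y →ₐc[T] T ⊗[S] (S ⊗[R] Y)).comp
    ((push (R ⧸ I) T φ₀).comp (cancelBC R S T X : T ⊗[S] (S ⊗[R] X) →ₐc[T] T ⊗[R] X)),
    fun x y h => ?_⟩
  change (cancelBC R S T Y).symm (push (R ⧸ I) T φ₀ (cancelBC R S T X ((1 : T) ⊗ₜ[S] ((1 : S) ⊗ₜ[R] x)))) = _
  rw [cancelBC_one_tmul, push_one_tmul, h, cancelBC_one_tmul, cancelBC_symm_one_tmul]

/-- A homomorphism from a diagonalisable group algebra lifts. -/
theorem exists_lift_diag (hX : IsDiag R X) (hY : IsMultType R Y) (hI : ∀ x ∈ I, IsNilpotent x)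
    (φ₀ : ((R ⧸ I) ⊗[R] X) →ₐc[R ⧸ I] ((R ⧸ I) ⊗[R] Y)) :
    ∃ φ : X →ₐc[R] Y, ∀ x, φ₀ ((1 : R ⧸ I) ⊗ₜ x) = (1 : R ⧸ I) ⊗ₜ φ x := by
  obtain ⟨N, _, ⟨e⟩⟩ := hX
  let c : N → X := fun n => e.symm (MonoidAlgebra.single n 1)
  have hlift : ∀ n, ∃ g : Y, IsGroupLikeElem R g ∧
      φ₀ ((1 : R ⧸ I) ⊗ₜ c n) = (1 : R ⧸ I) ⊗ₜ g := by
    intro n
    obtain ⟨a, ha⟩ := AdicAux.exists_eq_one_tmul I (φ₀ ((1 : R ⧸ I) ⊗ₜ c n))
    have ha' : IsApproxGroupLike I a := by
      rw [IsApproxGroupLike, ha]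
      exact (isGroupLikeElem_one_tmul (R ⧸ I) ((MonoidAlgebra.isGroupLikeElem_single_one n).map
        (e.symm : MonoidAlgebra R N →ₐc[R] X))).map φ₀
    obtain ⟨g, hg, hga⟩ := exists_groupLike_lift hY hI ha'
    exact ⟨g, hg, ha.symm.trans (tmul_eq_of_sub_mem hga).symm⟩
  choose g hg hgφ using hlift
  have huniq : ∀ (n : N) (h : Y), IsGroupLikeElem R h →
      φ₀ ((1 : R ⧸ I) ⊗ₜ c n) = (1 : R ⧸ I) ⊗ₜ h → g n = h := fun n h hh he =>
    groupLike_eq_of_sub_mem hY hI (hg n) hh (sub_mem_smul_of_tmul_eq I ((hgφ n).symm.trans he))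
  let G : N →* Y :=
    { toFun := g
      map_one' := huniq 1 1 IsGroupLikeElem.one (by
        rw [show c 1 = 1 by rw [show c 1 = e.symm 1 from rfl, map_one],
          ← Algebra.TensorProduct.one_def, map_one, Algebra.TensorProduct.one_def])
      map_mul' := fun a b => huniq _ _ ((hg a).mul (hg b)) (by
        rw [show c (a * b) = c a * c b by
          simp only [c]; rw [← map_mul, MonoidAlgebra.single_mul_single, mul_one],
          ← one_mul (1 : R ⧸ I), ← Algebra.TensorProduct.tmul_mul_tmul, map_mul, hgφ, hgφ,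
          Algebra.TensorProduct.tmul_mul_tmul]) }
  let u : MonoidAlgebra R N →ₐ[R] Y := MonoidAlgebra.lift R Y N G
  have hu : ∀ n, u (MonoidAlgebra.single n 1) = g n := fun n => by
    simp [u, G]
  let uc : MonoidAlgebra R N →ₐc[R] Y := BialgHom.ofAlgHom u
    (by
      ext n
      change counit (R := R) (u (MonoidAlgebra.single n 1)) = counit (R := R) (MonoidAlgebra.single n (1 : R))
      rw [hu, (hg n).counit_eq_one, (MonoidAlgebra.isGroupLikeElem_single_one n).counit_eq_one])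
    (by
      ext n
      change TensorProduct.map u.toLinearMap u.toLinearMap (comul (R := R) (MonoidAlgebra.single n (1 : R))) =
        comul (R := R) (u (MonoidAlgebra.single n 1))
      rw [(MonoidAlgebra.isGroupLikeElem_single_one n).comul_eq_tmul_self, TensorProduct.map_tmul,
        AlgHom.toLinearMap_apply, hu, (hg n).comul_eq_tmul_self])
  refine ⟨uc.comp (e : X →ₐc[R] MonoidAlgebra R N), fun x => ?_⟩
  have key : ∀ w : MonoidAlgebra R N, φ₀ ((1 : R ⧸ I) ⊗ₜ e.symm w) = (1 : R ⧸ I) ⊗ₜ u w := by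
    intro w
    induction w using MonoidAlgebra.induction_linear with
    | zero => simp
    | add p q hp hq => simp only [map_add, TensorProduct.tmul_add, hp, hq]
    | single n r =>
      rw [show MonoidAlgebra.single n r = r • MonoidAlgebra.single n (1 : R) by simp,
        map_smul, map_smul, TensorProduct.tmul_smul, TensorProduct.tmul_smul, hu,
        ← algebraMap_smul (R ⧸ I) r, ← algebraMap_smul (R ⧸ I) r, map_smul, hgφ n]
  have h1 := key (e x)
  rwa [e.symm_apply_apply] at h1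

/-- Homomorphisms of groups of multiplicative type, congruent modulo a nil ideal, are equal. -/
theorem eq_of_sub_mem (hX : IsMultType R X) (hY : IsMultType R Y) (hI : ∀ x ∈ I, IsNilpotent x)
    {φ ψ : X →ₐc[R] Y} (h : ∀ x, φ x - ψ x ∈ I • (⊤ : Submodule R Y)) : φ = ψ := by
  refine BialgHom.ext fun x => sub_eq_zero.1 (eq_zero_of_forall hX fun S _ _ hS => ?_)
  obtain ⟨N, _, ⟨e⟩⟩ := hS
  have hYS := isMultType_baseChange S hY
  have hmem : ∀ z : S ⊗[R] X, mapBC S φ z - mapBC S ψ z ∈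
      I.map (algebraMap R S) • (⊤ : Submodule S (S ⊗[R] Y)) := by
    intro z
    induction z using TensorProduct.induction_on with
    | zero => simp
    | tmul s x =>
      rw [mapBC_tmul, mapBC_tmul, ← TensorProduct.tmul_sub]
      exact smul_top_of_one_tmul S (h x) s
    | add p q hp hq => simp only [map_add]; rw [add_sub_add_comm]; exact add_mem hp hq
  have key : ∀ w : MonoidAlgebra S N, mapBC S φ (e.symm w) = mapBC S ψ (e.symm w) := by
    intro w
    induction w using MonoidAlgebra.induction_linear with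
    | zero => simp
    | add p q hp hq => simp only [map_add, hp, hq]
    | single n r =>
      rw [show MonoidAlgebra.single n r = r • MonoidAlgebra.single n (1 : S) by simp,
        map_smul, map_smul, map_smul]
      congr 1
      have hgl := (MonoidAlgebra.isGroupLikeElem_single_one (R := S) n).map
        (e.symm : MonoidAlgebra S N →ₐc[S] S ⊗[R] X)
      exact groupLike_eq_of_sub_mem hYS (map_nil hI S) (hgl.map (mapBC S φ)) (hgl.map (mapBC S ψ))
        (hmem _)
  have h1 := key (e ((1 : S) ⊗ₜ x))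
  rw [e.symm_apply_apply, mapBC_tmul, mapBC_tmul] at h1
  rw [TensorProduct.tmul_sub, h1, sub_self]

/-- `ψ` lifts `φ₀` over `S` -/
def IsLift (φ₀ : ((R ⧸ I) ⊗[R] X) →ₐc[R ⧸ I] ((R ⧸ I) ⊗[R] Y)) (S : Type u) [CommRing S]
    [Algebra R S] (ψ : S ⊗[R] X →ₐc[S] S ⊗[R] Y) : Prop :=
  ∀ (x : X) (y : Y), φ₀ ((1 : R ⧸ I) ⊗ₜ x) = (1 : R ⧸ I) ⊗ₜ y →
    ψ ((1 : S) ⊗ₜ x) - (1 : S) ⊗ₜ y ∈ I.map (algebraMap R S) • (⊤ : Submodule S (S ⊗[R] Y))

variable {φ₀ : ((R ⧸ I) ⊗[R] X) →ₐc[R ⧸ I] ((R ⧸ I) ⊗[R] Y)}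

theorem IsLift.push {S : Type u} [CommRing S] [Algebra R S] (T : Type u) [CommRing T] [Algebra R T]
    [Algebra S T] [IsScalarTower R S T] {ψ : S ⊗[R] X →ₐc[S] S ⊗[R] Y} (h : IsLift φ₀ S ψ) :
    IsLift φ₀ T (HomLift.push S T ψ) := by
  intro x y hxy
  rw [push_one_tmul, ← cancelBC_one_tmul S T y, ← map_sub, ← TensorProduct.tmul_sub]
  exact mem_smul_top_push S T (h x y hxy)

theorem IsLift.unique {S : Type u} [CommRing S] [Algebra R S] {ψ ψ' : S ⊗[R] X →ₐc[S] S ⊗[R] Y}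
    (h : IsLift φ₀ S ψ) (h' : IsLift φ₀ S ψ') (hX : IsMultType S (S ⊗[R] X))
    (hY : IsMultType S (S ⊗[R] Y)) (hI : ∀ x ∈ I.map (algebraMap R S), IsNilpotent x) : ψ = ψ' := by
  refine eq_of_sub_mem hX hY hI fun z => ?_
  induction z using TensorProduct.induction_on with
  | zero => simp
  | add p q hp hq => simp only [map_add]; rw [add_sub_add_comm]; exact add_mem hp hq
  | tmul s x =>
    obtain ⟨y, hy⟩ := AdicAux.exists_eq_one_tmul I (φ₀ ((1 : R ⧸ I) ⊗ₜ x))
    have h1 := sub_mem (h x y hy.symm) (h' x y hy.symm)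
    rw [sub_sub_sub_cancel_right] at h1
    rw [show s ⊗ₜ[R] x = s • ((1 : S) ⊗ₜ[R] x) by rw [TensorProduct.smul_tmul', smul_eq_mul, mul_one],
      map_smul, map_smul, ← smul_sub]
    exact Submodule.smul_mem _ s h1

theorem exists_isLift_of_diag {S : Type u} [CommRing S] [Algebra R S]
    (hX : IsDiag S (S ⊗[R] X)) (hY : IsMultType S (S ⊗[R] Y))
    (hI : ∀ x ∈ I.map (algebraMap R S), IsNilpotent x) : ∃ ψ, IsLift φ₀ S ψ := by
  obtain ⟨ψ₀, hψ₀⟩ := exists_red φ₀ S
  obtain ⟨ψ, hψ⟩ := exists_lift_diag hX hY hI ψ₀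
  exact ⟨ψ, fun x y hxy => sub_mem_smul_of_tmul_eq _ ((hψ _).symm.trans (hψ₀ x y hxy))⟩

/-- A linear map which is locally a homomorphism of bialgebras is one. -/
theorem exists_bialgHom_of_local {ι : Type u} [Fintype ι] (S : ι → Type u) [∀ i, CommRing (S i)]
    [∀ i, Algebra R (S i)] [Module.FaithfullyFlat R (∀ i, S i)]
    (ψ : ∀ i, S i ⊗[R] X →ₐc[S i] S i ⊗[R] Y) (f : X → Y)
    (hf : ∀ i x, (1 : S i) ⊗ₜ[R] f x = ψ i ((1 : S i) ⊗ₜ[R] x)) :
    ∃ φ : X →ₐc[R] Y, ∀ x, φ x = f x := by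
  have hinj : ∀ y y' : Y, (∀ i, (1 : S i) ⊗ₜ[R] y = (1 : S i) ⊗ₜ[R] y') → y = y' := fun y y' h =>
    sub_eq_zero.1 (eq_zero_of_cover (R := R) S fun i => by
      rw [TensorProduct.tmul_sub, h, sub_self])
  let u : X →ₐ[R] Y := AlgHom.ofLinearMap
    { toFun := f
      map_add' := fun a b => hinj _ _ fun i => by
        rw [TensorProduct.tmul_add, hf, hf, hf, TensorProduct.tmul_add, map_add]
      map_smul' := fun r a => hinj _ _ fun i => by
        rw [RingHom.id_apply, TensorProduct.tmul_smul, hf, hf, TensorProduct.tmul_smul,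
          ← algebraMap_smul (S i) r, map_smul, algebraMap_smul] }
    (hinj _ _ fun i => by
      change (1 : S i) ⊗ₜ[R] f 1 = _
      rw [hf, ← Algebra.TensorProduct.one_def, map_one, Algebra.TensorProduct.one_def])
    (fun a b => hinj _ _ fun i => by
      change (1 : S i) ⊗ₜ[R] f (a * b) = (1 : S i) ⊗ₜ[R] (f a * f b)
      rw [hf, ← one_mul (1 : S i), ← Algebra.TensorProduct.tmul_mul_tmul, map_mul,
        ← Algebra.TensorProduct.tmul_mul_tmul, hf, hf])
  refine ⟨BialgHom.ofAlgHom u (AlgHom.ext fun x => ?_) (AlgHom.ext fun x => ?_), fun x => rfl⟩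
  · change counit (R := R) (f x) = counit (R := R) x
    refine sub_eq_zero.1 (eq_zero_of_cover (R := R) S (M := R) fun i => ?_)
    have h1 := congrArg (counit (R := S i)) (hf i x)
    rw [CoalgHomClass.counit_comp_apply (ψ i), TensorProduct.counit_tmul, TensorProduct.counit_tmul,
      CommSemiring.counit_apply] at h1
    refine (TensorProduct.rid R (S i)).injective ?_
    simp only [TensorProduct.tmul_sub, map_sub, TensorProduct.rid_tmul, map_zero]
    rw [h1, sub_self]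
  · change TensorProduct.map u.toLinearMap u.toLinearMap (comul (R := R) x) = comul (R := R) (f x)
    refine sub_eq_zero.1 (eq_zero_of_cover (R := R) S (M := Y ⊗[R] Y) fun i => ?_)
    have h1 := congrArg (comul (R := S i)) (hf i x)
    rw [← CoalgHomClass.map_comp_comul_apply (ψ i)] at h1
    rw [TensorProduct.comul_tmul, TensorProduct.comul_tmul, CommSemiring.comul_apply] at h1
    refine (TensorProduct.AlgebraTensorModule.distribBaseChange R (S i) Y Y).injective ?_
    rw [TensorProduct.tmul_sub, map_sub, map_zero, sub_eq_zero]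
    have hl : ∀ t : X ⊗[R] X,
        TensorProduct.map (ψ i : S i ⊗[R] X →ₗ[S i] S i ⊗[R] Y) (ψ i : S i ⊗[R] X →ₗ[S i] S i ⊗[R] Y)
          (TensorProduct.AlgebraTensorModule.tensorTensorTensorComm R (S i) R (S i) (S i) (S i) X X
            (((1 : S i) ⊗ₜ[S i] (1 : S i)) ⊗ₜ[R] t)) =
          TensorProduct.AlgebraTensorModule.tensorTensorTensorComm R (S i) R (S i) (S i) (S i) Y Y
            (((1 : S i) ⊗ₜ[S i] (1 : S i)) ⊗ₜ[R] TensorProduct.map u.toLinearMap u.toLinearMap t) := by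
      intro t
      induction t using TensorProduct.induction_on with
      | zero => simp
      | add p q hp hq => simp only [TensorProduct.tmul_add, map_add, hp, hq]
      | tmul p q =>
        simp only [TensorProduct.AlgebraTensorModule.tensorTensorTensorComm_tmul,
          TensorProduct.map_tmul]
        exact congrArg₂ (· ⊗ₜ[S i] ·) (hf i p).symm (hf i q).symm
    have h3 : ∀ t : Y ⊗[R] Y,
        TensorProduct.AlgebraTensorModule.distribBaseChange R (S i) Y Y ((1 : S i) ⊗ₜ[R] t) =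
        TensorProduct.AlgebraTensorModule.tensorTensorTensorComm R (S i) R (S i) (S i) (S i) Y Y
            (((1 : S i) ⊗ₜ[S i] (1 : S i)) ⊗ₜ[R] t) := by
      intro t
      induction t using TensorProduct.induction_on with
      | zero => simp
      | add p q hp hq => simp only [TensorProduct.tmul_add, map_add, hp, hq]
      | tmul p q => rfl
    rw [h3, h3, ← hl]
    exact h1.symm

/-- Lifts over the members of a faithfully flat covering which agree on the overlaps descend. -/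
theorem exists_hom_of_compat [Module.Projective R Y] {ι : Type u} [Fintype ι] (S : ι → Type u)
    [∀ i, CommRing (S i)] [∀ i, Algebra R (S i)] [Module.FaithfullyFlat R (∀ i, S i)]
    (ψ : ∀ i, S i ⊗[R] X →ₐc[S i] S i ⊗[R] Y) (hψ : ∀ i, IsLift φ₀ (S i) (ψ i))
    (hc : ∀ i j (ω ω' : (S i ⊗[R] S j) ⊗[R] X →ₐc[S i ⊗[R] S j] (S i ⊗[R] S j) ⊗[R] Y),
      IsLift φ₀ (S i ⊗[R] S j) ω → IsLift φ₀ (S i ⊗[R] S j) ω' → ω = ω') :
    ∃ φ : X →ₐc[R] Y, ∀ x, φ₀ ((1 : R ⧸ I) ⊗ₜ x) = (1 : R ⧸ I) ⊗ₜ φ x := by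
  have heq : ∀ (U T : Type u) [CommRing U] [Algebra R U] [CommRing T] [Algebra R T] [Algebra U T]
      [IsScalarTower R U T] (f : U →ₐ[R] T), (∀ u, f u = algebraMap U T u) → ∀ w : U ⊗[R] Y,
      cancelBC R U T Y ((1 : T) ⊗ₜ[U] w) = TensorProduct.map f.toLinearMap LinearMap.id w := by
    intro U T _ _ _ _ _ _ f hf w
    induction w using TensorProduct.induction_on with
    | zero => simp
    | tmul s b =>
      change Algebra.TensorProduct.cancelBaseChange R U T T Y ((1 : T) ⊗ₜ[U] (s ⊗ₜ[R] b)) = _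
      rw [Algebra.TensorProduct.cancelBaseChange_tmul, Algebra.smul_def, mul_one, ← hf]
      rfl
    | add p q hp hq => simp only [TensorProduct.tmul_add, map_add, hp, hq]
  have hlim : ∀ x, ∃ y : Y, ∀ i, (1 : S i) ⊗ₜ[R] y = ψ i ((1 : S i) ⊗ₜ[R] x) := by
    refine fun x => exists_descent S _ fun i j => ?_
    let T := S i ⊗[R] S j
    letI : Algebra (S j) T := (Algebra.TensorProduct.includeRight : S j →ₐ[R] T).toRingHom.toAlgebra
    haveI : IsScalarTower R (S j) T := IsScalarTower.of_algebraMap_eq fun r =>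
      ((Algebra.TensorProduct.includeRight : S j →ₐ[R] T).commutes r).symm
    have h1 := hc i j _ _ ((hψ i).push T) ((hψ j).push T)
    have h2 := DFunLike.congr_fun h1 ((1 : T) ⊗ₜ[R] x)
    rw [push_one_tmul, push_one_tmul,
      heq (S i) T (Algebra.TensorProduct.includeLeft : S i →ₐ[R] T) fun u => rfl,
      heq (S j) T (Algebra.TensorProduct.includeRight : S j →ₐ[R] T) fun u => rfl] at h2
    exact h2
  choose f hf using hlim
  obtain ⟨φ, hφ⟩ := exists_bialgHom_of_local S ψ f fun i x => hf x i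
  refine ⟨φ, fun x => ?_⟩
  obtain ⟨y, hy⟩ := AdicAux.exists_eq_one_tmul I (φ₀ ((1 : R ⧸ I) ⊗ₜ x))
  rw [← hy]
  refine (tmul_eq_of_sub_mem ?_).symm
  rw [hφ, ← Submodule.Quotient.mk_eq_zero]
  refine eq_zero_of_cover (R := R) S fun i => ?_
  have h1 : (1 : S i) ⊗ₜ[R] (f x - y) ∈
      I.map (algebraMap R (S i)) • (⊤ : Submodule (S i) (S i ⊗[R] Y)) := by
    rw [TensorProduct.tmul_sub, hf]
    exact hψ i x y hy.symm
  have h2 : (I • (⊤ : Submodule R Y)).mkQ.baseChange (S i) ((1 : S i) ⊗ₜ[R] (f x - y)) = 0 := by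
    refine Submodule.smul_induction_on h1 (fun r hr m _ => ?_) fun p q hp hq => by
      rw [map_add, hp, hq, add_zero]
    rw [map_smul]
    refine Submodule.span_induction (p := fun s _ => s • _ = 0) ?_ (zero_smul _ _)
      (fun x y _ _ hx hy => by rw [add_smul, hx, hy, add_zero])
      (fun t x _ hx => by rw [smul_assoc, hx, smul_zero]) hr
    rintro _ ⟨r, hr, rfl⟩
    rw [algebraMap_smul, ← LinearMap.map_smul_of_tower]
    induction m using TensorProduct.induction_on with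
    | zero => simp
    | tmul s b =>
      rw [← TensorProduct.tmul_smul, LinearMap.baseChange_tmul, Submodule.mkQ_apply,
        (Submodule.Quotient.mk_eq_zero _).2 (Submodule.smul_mem_smul hr Submodule.mem_top),
        TensorProduct.tmul_zero]
    | add p q hp hq => rw [smul_add, map_add, hp trivial, hq trivial, add_zero]
  simpa using h2

/-- Homomorphisms of groups of multiplicative type lift along nil ideals. -/
theorem exists_lift (hX : IsMultType R X) (hY : IsMultType R Y) (hI : ∀ x ∈ I, IsNilpotent x)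
    (φ₀ : ((R ⧸ I) ⊗[R] X) →ₐc[R ⧸ I] ((R ⧸ I) ⊗[R] Y)) :
    ∃ φ : X →ₐc[R] Y, ∀ x, φ₀ ((1 : R ⧸ I) ⊗ₜ x) = (1 : R ⧸ I) ⊗ₜ φ x := by
  have := projective_of_isMultType hY
  obtain ⟨ι, _, S, _, _, hff, hd⟩ := exists_cover hX
  choose ψ hψ using fun i => exists_isLift_of_diag (φ₀ := φ₀) (S := S i) (hd i)
    (isMultType_baseChange (S i) hY) (map_nil hI (S i))
  exact exists_hom_of_compat S ψ hψ fun i j ω ω' h h' =>
    h.unique h' (isMultType_baseChange _ hX) (isMultType_baseChange _ hY) (map_nil hI _)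

/-- Lifting over any algebra of the base. -/
theorem exists_isLift (S : Type u) [CommRing S] [Algebra R S]
    (hX : IsMultType S (S ⊗[R] X)) (hY : IsMultType S (S ⊗[R] Y))
    (hI : ∀ x ∈ I.map (algebraMap R S), IsNilpotent x) : ∃ ψ, IsLift φ₀ S ψ := by
  obtain ⟨ψ₀, hψ₀⟩ := exists_red φ₀ S
  obtain ⟨ψ, hψ⟩ := exists_lift hX hY hI ψ₀
  exact ⟨ψ, fun x y hxy => sub_mem_smul_of_tmul_eq _ ((hψ _).symm.trans (hψ₀ x y hxy))⟩

end Lift

end Groth.Sga3.HomLift
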