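import Groth.Agent.Sga3.HopfFiniteLocal

/-!
# A finite commutative Hopf algebra over a field is killed by its rank
-/

universe u

open TensorProduct WithConv

namespace Groth.Sga3.HopfFin

open Groth.Sga3.HopfDeriv

variable (k : Type u) [Field k] (A : Type u) [CommRing A] [HopfAlgebra k A]

/-- Left translation of `A` by a rational point. -/
noncomputable def translate (g : WithConv (A →ₐ[k] k)) : A →ₐ[k] A :=
  (postComp (Algebra.ofId k A) g * toConv (AlgHom.id k A)).ofConv

theorem translate_translate (g h : WithConv (A →ₐ[k] k)) (a : A) :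
    translate k A h (translate k A g a) = translate k A (g * h) a := by
  have e : postComp (translate k A h) (postComp (Algebra.ofId k A) g * toConv (AlgHom.id k A)) =
      postComp (Algebra.ofId k A) (g * h) * toConv (AlgHom.id k A) := by
    rw [map_mul, map_mul, mul_assoc]
    congr 1
    apply WithConv.ofConv_injective
    ext a
    simp [postComp, translate]
  exact congrArg (fun f : WithConv (A →ₐ[k] A) => f a) e

theorem translate_one (a : A) : translate k A 1 a = a := by simp [translate]

theorem counit_translate (g : WithConv (A →ₐ[k] k)) (a : A) :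
    Coalgebra.counit (R := k) (translate k A g a) = g a := by
  have h1 : postComp (Bialgebra.counitAlgHom k A) (toConv (AlgHom.id k A)) = 1 := by
    apply WithConv.ofConv_injective
    ext b
    simp [postComp]
  have h2 : postComp (Bialgebra.counitAlgHom k A) (postComp (Algebra.ofId k A) g) = g := by
    apply WithConv.ofConv_injective
    ext b
    simp [postComp]
  have e : postComp (Bialgebra.counitAlgHom k A)
      (postComp (Algebra.ofId k A) g * toConv (AlgHom.id k A)) = g := by
    rw [map_mul, h1, h2, mul_one]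
  exact congrArg (fun f : WithConv (A →ₐ[k] k) => f a) e

/-- Translation by a rational point as an automorphism. -/
noncomputable def translateEquiv (g : WithConv (A →ₐ[k] k)) : A ≃ₐ[k] A :=
  AlgEquiv.ofAlgHom (translate k A g) (translate k A g⁻¹)
    (AlgHom.ext fun a => by simp [translate_translate, translate_one])
    (AlgHom.ext fun a => by simp [translate_translate, translate_one])

theorem map_ker_translateEquiv (g : WithConv (A →ₐ[k] k)) :
    (RingHom.ker g.ofConv).map (translateEquiv k A g).toRingEquiv = aug k A := by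
  ext b
  rw [Ideal.mem_map_of_equiv]
  refine ⟨?_, fun hb => ⟨(translateEquiv k A g).symm b, ?_, (translateEquiv k A g).apply_symm_apply b⟩⟩
  · rintro ⟨a, ha, rfl⟩
    show Coalgebra.counit (translate k A g a) = 0
    rw [counit_translate]; exact ha
  · show g ((translateEquiv k A g).symm b) = 0
    rw [← counit_translate]
    show Coalgebra.counit (translateEquiv k A g ((translateEquiv k A g).symm b)) = 0
    rw [AlgEquiv.apply_symm_apply]; exact hb

theorem finrank_quot_ker_pow (g : WithConv (A →ₐ[k] k)) (N : ℕ) :
    Module.finrank k (A ⧸ RingHom.ker g.ofConv ^ N) = Module.finrank k (A ⧸ aug k A ^ N) :=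
  (Ideal.quotientEquivAlg _ _ (translateEquiv k A g) (by
    rw [Ideal.map_pow]
    exact congrArg (· ^ N) (map_ker_translateEquiv k A g).symm)).toLinearEquiv.finrank_eq

variable [Module.Finite k A] [IsAlgClosed k]

theorem exists_decomp : ∃ (ι : Type u) (_ : Fintype ι) (g : ι ≃ WithConv (A →ₐ[k] k)) (N : ℕ),
    0 < N ∧ (∀ j, N ≤ j → aug k A ^ j = aug k A ^ N) ∧
    Module.finrank k A = Fintype.card ι * Module.finrank k (A ⧸ aug k A ^ N) ∧
    ∀ a : A, (∀ i, a ∈ RingHom.ker (g i).ofConv ^ N) → a = 0 := by
  classical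
  have hart : IsArtinianRing A := IsArtinianRing.of_finite k A
  have hmax : ∀ g : WithConv (A →ₐ[k] k), (RingHom.ker g.ofConv).IsMaximal := fun g =>
    RingHom.ker_isMaximal_of_surjective _ fun r => ⟨algebraMap k A r, by simp⟩
  have hinj : Function.Injective fun g : WithConv (A →ₐ[k] k) => (⟨_, hmax g⟩ : MaximalSpectrum A) := by
    intro g h e
    apply WithConv.ofConv_injective
    ext a
    have : RingHom.ker g.ofConv = RingHom.ker h.ofConv := congrArg MaximalSpectrum.asIdeal e
    have ha : a - algebraMap k A (g a) ∈ RingHom.ker h.ofConv := by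
      rw [← this, RingHom.mem_ker]; simp
    rw [RingHom.mem_ker, map_sub, AlgHom.commutes, sub_eq_zero] at ha
    exact ha.symm
  have hsurj : Function.Surjective fun g : WithConv (A →ₐ[k] k) => (⟨_, hmax g⟩ : MaximalSpectrum A) := by
    rintro ⟨m, hm⟩
    let _ := Ideal.Quotient.field m
    have hb : Function.Bijective (algebraMap k (A ⧸ m)) := IsAlgClosed.algebraMap_bijective_of_isIntegral
    refine ⟨toConv (((AlgEquiv.ofBijective (Algebra.ofId k (A ⧸ m)) hb).symm.toAlgHom).comp
      (Ideal.Quotient.mkₐ k m)), MaximalSpectrum.ext ?_⟩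
    ext a
    simp [RingHom.mem_ker, Ideal.Quotient.eq_zero_iff_mem]
  have hfin : Finite (WithConv (A →ₐ[k] k)) := Finite.of_injective _ hinj
  let _ := Fintype.ofFinite (WithConv (A →ₐ[k] k))
  obtain ⟨N, hN0, hN⟩ := exists_stable k A
  obtain ⟨M, hM⟩ : IsNilpotent (Ideal.jacobson (⊥ : Ideal A)) := IsArtinianRing.isNilpotent_jacobson_bot
  have hN' : ∀ j, N + M ≤ j → aug k A ^ j = aug k A ^ (N + M) := fun j hj => by
    rw [hN j (by omega), hN (N + M) (by omega)]
  let f : WithConv (A →ₐ[k] k) → Ideal A := fun g => RingHom.ker g.ofConv ^ (N + M)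
  have hcop : Pairwise (Function.onFun IsCoprime f) := by
    intro g h hne
    refine IsCoprime.pow ?_
    rw [Ideal.isCoprime_iff_sup_eq]
    exact (hmax g).coprime_of_ne (hmax h) fun e => hne (hinj (MaximalSpectrum.ext e))
  have hbot : ⨅ g, f g = ⊥ := by
    have h1 : ⨅ g, f g = ∏ g, f g := by
      rw [Ideal.prod_eq_iInf_of_pairwise_isCoprime fun a _ b _ h => hcop h]
      simp
    rw [h1, Finset.prod_pow]
    have h2 : ∏ g : WithConv (A →ₐ[k] k), RingHom.ker g.ofConv ≤ Ideal.jacobson ⊥ := by
      refine le_sInf ?_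
      rintro m ⟨-, hm⟩
      obtain ⟨g, hg⟩ := hsurj ⟨m, hm⟩
      refine le_trans (Ideal.prod_le_inf) (le_trans (Finset.inf_le (Finset.mem_univ g)) ?_)
      exact (congrArg MaximalSpectrum.asIdeal hg).le
    refine le_bot_iff.1 ((Ideal.pow_right_mono h2 _).trans ?_)
    rw [pow_add, hM, mul_zero]; rfl
  refine ⟨_, inferInstance, Equiv.refl _, N + M, by omega, hN', ?_, fun a ha => ?_⟩
  · let φ : A →ₗ[k] ∀ g, A ⧸ f g := LinearMap.pi fun g => (Ideal.Quotient.mkₐ k (f g)).toLinearMap
    have hφ : Function.Bijective φ := by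
      constructor
      · intro a b e
        have : a - b ∈ ⨅ g, f g := (Submodule.mem_iInf _).2 fun g => by
          rw [← Ideal.Quotient.eq]; exact congrFun e g
        rwa [hbot, Ideal.mem_bot, sub_eq_zero] at this
      · intro y
        obtain ⟨x, hx⟩ := Ideal.quotientInfToPiQuotient_surj hcop y
        obtain ⟨a, rfl⟩ := Ideal.Quotient.mk_surjective x
        exact ⟨a, hx⟩
    rw [(LinearEquiv.ofBijective φ hφ).finrank_eq, Module.finrank_pi_fintype]
    simp [f, finrank_quot_ker_pow]
  · have : a ∈ ⨅ g, f g := (Submodule.mem_iInf _).2 ha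
    rwa [hbot] at this

/-- Over an algebraically closed field a finite Hopf algebra is killed by its rank. -/
theorem convPow_finrank_eq_one :
    toConv (AlgHom.id k A) ^ Module.finrank k A = 1 := by
  obtain ⟨ι, _, g, N, hN0, hN, hrank, hzero⟩ := exists_decomp k A
  set r := Module.finrank k (A ⧸ aug k A ^ N)
  rw [hrank]
  apply WithConv.ofConv_injective
  refine AlgHom.ext fun a => ?_
  have key : ∀ i, postComp (Ideal.Quotient.mkₐ k (RingHom.ker (g i).ofConv ^ N))
      (toConv (AlgHom.id k A) ^ (Fintype.card ι * r)) = 1 := by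
    intro i
    set q := Ideal.Quotient.mkₐ k (RingHom.ker (g i).ofConv ^ N)
    rw [map_pow, pow_mul]
    set y := postComp q (toConv (AlgHom.id k A)) ^ Fintype.card ι
    let π : (A ⧸ RingHom.ker (g i).ofConv ^ N) →ₐ[k] k :=
      Ideal.Quotient.liftₐ _ (g i).ofConv fun a ha => RingHom.mem_ker.1 (Ideal.pow_le_self hN0.ne' ha)
    have hy : postComp π y = 1 := by
      have : postComp π (postComp q (toConv (AlgHom.id k A))) = g i := by
        apply WithConv.ofConv_injective; rfl
      rw [map_pow, this]
      let _ := Fintype.ofEquiv ι g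
      rw [Fintype.card_congr g, pow_card_eq_one]
    have hyI : ∀ b ∈ aug k A, y b ∈ (RingHom.ker (g i).ofConv).map (Ideal.Quotient.mk (RingHom.ker (g i).ofConv ^ N)) := by
      intro b hb
      obtain ⟨c, hc⟩ := Ideal.Quotient.mk_surjective (y b)
      rw [← hc]
      refine Ideal.mem_map_of_mem _ (RingHom.mem_ker.2 ?_)
      have : (postComp π y) b = 0 := by
        rw [hy, AlgHom.convOne_apply, show Coalgebra.counit (R := k) b = 0 from hb, map_zero]
      rw [postComp_apply, ← hc] at this
      exact this
    apply WithConv.ofConv_injective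
    refine AlgHom.ext fun b => ?_
    show (y ^ r) b = _
    rw [show y = toConv y.ofConv from rfl, ← postComp_powMap,
      ← sub_add_cancel b (algebraMap k A (Coalgebra.counit b)), map_add, AlgHom.commutes, map_add,
      AlgHom.commutes]
    have h := powMap_fibre_rank hN0 hN _ (sub_counit_mem_aug (R := k) b)
    have h' : y.ofConv (powMap k A r (b - algebraMap k A (Coalgebra.counit b))) = 0 := by
      have hm := Ideal.mem_map_of_mem y.ofConv h
      rw [Ideal.map_pow] at hm
      have hle : (aug k A).map y.ofConv ≤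
          (RingHom.ker (g i).ofConv).map (Ideal.Quotient.mk (RingHom.ker (g i).ofConv ^ N)) :=
        Ideal.map_le_iff_le_comap.2 fun c hc => hyI c hc
      have h2 := Ideal.pow_right_mono hle N hm
      rwa [← Ideal.map_pow, Ideal.map_quotient_self, Ideal.mem_bot] at h2
    rw [h', zero_add, sub_add_cancel]
    rfl
  refine sub_eq_zero.1 (hzero _ fun i => ?_)
  rw [← Ideal.Quotient.eq]
  have := congrArg (fun f => f.ofConv a) (key i)
  rw [show (postComp (Ideal.Quotient.mkₐ k (RingHom.ker (g i).ofConv ^ N))
      (toConv (AlgHom.id k A) ^ (Fintype.card ι * r))).ofConv a = _ from rfl] at this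
  exact this

/-- If the rank is invertible in `k`, a finite Hopf algebra is reduced. -/
theorem isReduced_of_rank_ne_zero (h : (Module.finrank k A : k) ≠ 0) : IsReduced A := by
  obtain ⟨ι, _, g, N, hN0, hN, hrank, hzero⟩ := exists_decomp k A
  rw [hrank, Nat.cast_mul, mul_ne_zero_iff] at h
  have h1 := fibre_rank_eq_one hN0 hN h.2
  refine ⟨fun a ⟨n, hn⟩ => hzero a fun i => ?_⟩
  have hI : aug k A ≤ aug k A ^ N := by
    intro b hb
    have hinj : Function.Injective (fibre hN0 hN).ε.toLinearMap :=
      (LinearMap.injective_iff_surjective_of_finrank_eq_finrank (by rw [h1, Module.finrank_self])).2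
        fun r => ⟨algebraMap k _ r, by simp⟩
    rw [← Ideal.Quotient.eq_zero_iff_mem]
    apply hinj
    rw [map_zero]
    exact hb
  have ha : (g i) a = 0 := by
    have := congrArg (g i).ofConv hn
    rw [map_pow, map_zero] at this
    exact eq_zero_of_pow_eq_zero this
  have hm := Ideal.mem_map_of_mem (translateEquiv k A (g i)).toRingEquiv
    (show a ∈ RingHom.ker (g i).ofConv from ha)
  rw [map_ker_translateEquiv] at hm
  have hm' := hI hm
  rw [← map_ker_translateEquiv k A (g i), ← Ideal.map_pow, Ideal.mem_map_of_equiv] at hm'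
  obtain ⟨c, hc, hca⟩ := hm'
  rwa [← (translateEquiv k A (g i)).toRingEquiv.injective hca]

end Groth.Sga3.HopfFin
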