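import Groth.Agent.Sga3.MultType
import Groth.Agent.FlatMorOne.FlatLocusModelFlat
import Mathlib.RingTheory.TensorProduct.DirectLimitFG
import Mathlib.RingTheory.Finiteness.Prod

/-!
A finitely presented Hopf algebra has a model over a ring of finite type over `ℤ`.
-/

set_option autoImplicit false

universe u v

open TensorProduct Coalgebra

noncomputable section

namespace Groth.Sga3.HopfModel

section Stages

variable {R₁ : Type u} [CommRing R₁] {R : Type u} [CommRing R] [Algebra R₁ R]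

theorem exists_stage_eq {N : Type u} [AddCommGroup N] [Module R₁ N] {A : Subalgebra R₁ R} (hA : A.FG)
    {z w : A ⊗[R₁] N} (h : A.val.toLinearMap.rTensor N z = A.val.toLinearMap.rTensor N w) :
    ∃ (B : Subalgebra R₁ R) (hAB : A ≤ B), B.FG ∧
      (Subalgebra.inclusion hAB).toLinearMap.rTensor N z = (Subalgebra.inclusion hAB).toLinearMap.rTensor N w :=
  TensorProduct.Algebra.eq_of_fg_of_subtype_eq hA h

/-- Lift a homomorphism out of a finitely presented algebra to a finitely generated stage. -/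
theorem exists_algHom_lift {P N : Type u} [CommRing P] [Algebra R₁ P] [Algebra.FinitePresentation R₁ P]
    [CommRing N] [Algebra R₁ N] (f : P →ₐ[R₁] R ⊗[R₁] N) :
    ∃ A : Subalgebra R₁ R, A.FG ∧ ∀ B : Subalgebra R₁ R, A ≤ B →
      ∃ φ : P →ₐ[R₁] B ⊗[R₁] N, ∀ p, Algebra.TensorProduct.map B.val (AlgHom.id R₁ N) (φ p) = f p := by
  classical
  obtain ⟨n, π, hπ, hker⟩ := Algebra.FinitePresentation.out (R := R₁) (A := P)
  obtain ⟨gens, hgens⟩ := hker
  choose A hA y hy using fun i : Fin n => TensorProduct.Algebra.exists_of_fg (f (π (MvPolynomial.X i)))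
  let A₀ := Finset.univ.sup A
  have hA₀ : A₀.FG := Finset.sup_induction Subalgebra.fg_bot (fun A hA B hB => hA.sup hB) fun i _ => hA i
  let tA : ∀ B : Subalgebra R₁ R, B ⊗[R₁] N →ₐ[R₁] R ⊗[R₁] N := fun B =>
    Algebra.TensorProduct.map B.val (AlgHom.id R₁ N)
  have htA : ∀ (B : Subalgebra R₁ R) z, tA B z = B.val.toLinearMap.rTensor N z := fun _ _ => rfl
  have hmove : ∀ (B B' : Subalgebra R₁ R) (h : B ≤ B') z,
      tA B' (Algebra.TensorProduct.map (Subalgebra.inclusion h) (AlgHom.id R₁ N) z) = tA B z := by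
    intro B B' h z
    induction z using TensorProduct.induction_on with
    | zero => simp
    | tmul a b => rfl
    | add p q hp hq => simp only [map_add, hp, hq]
  let φ0 : MvPolynomial (Fin n) R₁ →ₐ[R₁] A₀ ⊗[R₁] N := MvPolynomial.aeval fun i =>
    Algebra.TensorProduct.map (Subalgebra.inclusion (Finset.le_sup (Finset.mem_univ i) : A i ≤ A₀))
      (AlgHom.id R₁ N) (y i)
  have h0 : ∀ p, tA A₀ (φ0 p) = f (π p) := by
    intro p
    refine congrArg (fun g : MvPolynomial (Fin n) R₁ →ₐ[R₁] R ⊗[R₁] N => g p)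
      (show (tA A₀).comp φ0 = f.comp π from MvPolynomial.algHom_ext fun i => ?_)
    simp only [AlgHom.comp_apply, φ0, MvPolynomial.aeval_X]
    rw [hmove]
    exact hy i
  choose Bk hBk hBkfg hkill using fun p : gens => exists_stage_eq hA₀ (z := φ0 p.1) (w := 0) (by
    rw [map_zero, ← htA, h0, show π p.1 = 0 from hgens.le (Ideal.subset_span p.2), map_zero])
  refine ⟨A₀ ⊔ Finset.univ.sup Bk, hA₀.sup (Finset.sup_induction Subalgebra.fg_bot
    (fun A hA B hB => hA.sup hB) fun p _ => hBkfg p), fun B hB => ?_⟩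
  let φ1 : MvPolynomial (Fin n) R₁ →ₐ[R₁] B ⊗[R₁] N :=
    (Algebra.TensorProduct.map (Subalgebra.inclusion (le_sup_left.trans hB)) (AlgHom.id R₁ N)).comp φ0
  have hle : RingHom.ker π ≤ RingHom.ker φ1 := by
    change RingHom.ker π.toRingHom ≤ _
    rw [← hgens, Ideal.span_le]
    intro p hp
    have hB' : Bk ⟨p, hp⟩ ≤ B := ((Finset.le_sup (Finset.mem_univ _)).trans le_sup_right).trans hB
    have h1 := congrArg (Algebra.TensorProduct.map (Subalgebra.inclusion hB') (AlgHom.id R₁ N))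
      (hkill ⟨p, hp⟩)
    rw [map_zero, map_zero] at h1
    change φ1 p = 0
    rw [← h1]
    change Algebra.TensorProduct.map _ _ (φ0 p) = _
    generalize φ0 p = z
    induction z using TensorProduct.induction_on with
    | zero => simp
    | tmul a b => rfl
    | add p q hp hq => simp only [map_add, hp, hq]
  refine ⟨AlgHom.liftOfSurjective π hπ φ1 hle, fun q => ?_⟩
  obtain ⟨p, rfl⟩ := hπ q
  rw [AlgHom.liftOfSurjective_apply, ← h0 p]
  exact hmove _ _ _ _

theorem exists_kill {N : Type u} [AddCommGroup N] [Module R₁ N] {z w : N}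
    (h : (1 : R) ⊗ₜ[R₁] z = (1 : R) ⊗ₜ[R₁] w) :
    ∃ A : Subalgebra R₁ R, A.FG ∧ ∀ B : Subalgebra R₁ R, A ≤ B →
      (1 : B) ⊗ₜ[R₁] z = (1 : B) ⊗ₜ[R₁] w := by
  obtain ⟨A, _, hA, heq⟩ := exists_stage_eq (R₁ := R₁) (R := R) (Subalgebra.fg_bot)
    (z := (1 : (⊥ : Subalgebra R₁ R)) ⊗ₜ[R₁] z) (w := 1 ⊗ₜ[R₁] w) (by simpa using h)
  refine ⟨A, hA, fun B hB => ?_⟩
  have h1 := congrArg ((Subalgebra.inclusion hB).toLinearMap.rTensor N) heq
  simpa using h1

end Stages

section Pre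

/-- the structure maps of a Hopf algebra, without axioms -/
structure Pre (B : Type u) (P : Type u) [CommRing B] [CommRing P] [Algebra B P] where
  /-- comultiplication -/
  Δ : P →ₐ[B] P ⊗[B] P
  /-- counit -/
  ε : P →ₐ[B] B
  /-- antipode -/
  σ : P →ₐ[B] P

variable {B : Type u} [CommRing B] {P : Type u} [CommRing P] [Algebra B P] (S : Pre B P)

/-- left associated double comultiplication -/
def Pre.L₁ : P →ₐ[B] P ⊗[B] (P ⊗[B] P) :=
  (Algebra.TensorProduct.assoc B B B P P P).toAlgHom.comp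
    ((Algebra.TensorProduct.map S.Δ (AlgHom.id B P)).comp S.Δ)

/-- right associated double comultiplication -/
def Pre.L₂ : P →ₐ[B] P ⊗[B] (P ⊗[B] P) := (Algebra.TensorProduct.map (AlgHom.id B P) S.Δ).comp S.Δ

/-- left counit composite -/
def Pre.E₁ : P →ₐ[B] P :=
  (Algebra.TensorProduct.lid B P).toAlgHom.comp
    ((Algebra.TensorProduct.map S.ε (AlgHom.id B P)).comp S.Δ)

/-- right counit composite -/
def Pre.E₂ : P →ₐ[B] P :=
  (Algebra.TensorProduct.rid B B P).toAlgHom.comp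
    ((Algebra.TensorProduct.map (AlgHom.id B P) S.ε).comp S.Δ)

/-- left antipode composite -/
def Pre.A₁ : P →ₐ[B] P :=
  (Algebra.TensorProduct.lift S.σ (AlgHom.id B P) fun _ _ => Commute.all _ _).comp S.Δ

/-- right antipode composite -/
def Pre.A₂ : P →ₐ[B] P :=
  (Algebra.TensorProduct.lift (AlgHom.id B P) S.σ fun _ _ => .all _ _).comp S.Δ

/-- the unit composite -/
def Pre.U : P →ₐ[B] P := (Algebra.ofId B P).comp S.ε

/-- the axioms at an element -/
def Pre.HoldsAt (p : P) : Prop :=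
  S.L₁ p = S.L₂ p ∧ S.E₁ p = p ∧ S.E₂ p = p ∧ S.A₁ p = S.U p ∧ S.A₂ p = S.U p

/-- the axioms -/
def Pre.IsHopf : Prop := ∀ p, S.HoldsAt p

theorem Pre.isHopf_of_generators (s : Set P) (hs : Algebra.adjoin B s = ⊤)
    (h : ∀ p ∈ s, S.HoldsAt p) : S.IsHopf := fun p =>
  ⟨DFunLike.congr_fun (AlgHom.ext_of_adjoin_eq_top hs fun x hx => (h x hx).1) p,
    DFunLike.congr_fun (AlgHom.ext_of_adjoin_eq_top (φ₂ := AlgHom.id B P) hs fun x hx => (h x hx).2.1) p,
    DFunLike.congr_fun (AlgHom.ext_of_adjoin_eq_top (φ₂ := AlgHom.id B P) hs fun x hx => (h x hx).2.2.1) p,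
    DFunLike.congr_fun (AlgHom.ext_of_adjoin_eq_top hs fun x hx => (h x hx).2.2.2.1) p,
    DFunLike.congr_fun (AlgHom.ext_of_adjoin_eq_top hs fun x hx => (h x hx).2.2.2.2) p⟩

/-- the bialgebra of a pre-Hopf structure satisfying the axioms -/
@[reducible] def Pre.toBialgebra (h : S.IsHopf) : Bialgebra B P :=
  Bialgebra.ofAlgHom S.Δ S.ε (AlgHom.ext fun p => (h p).1)
    (AlgHom.ext fun p => by
      refine (Algebra.TensorProduct.lid B P).injective ?_
      change S.E₁ p = (Algebra.TensorProduct.lid B P) ((Algebra.TensorProduct.lid B P).symm p)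
      rw [AlgEquiv.apply_symm_apply, (h p).2.1])
    (AlgHom.ext fun p => by
      refine (Algebra.TensorProduct.rid B B P).injective ?_
      change S.E₂ p = (Algebra.TensorProduct.rid B B P) ((Algebra.TensorProduct.rid B B P).symm p)
      rw [AlgEquiv.apply_symm_apply, (h p).2.2.1])

/-- the Hopf algebra of a pre-Hopf structure satisfying the axioms -/
@[reducible] def Pre.toHopf (h : S.IsHopf) : HopfAlgebra B P :=
  letI := S.toBialgebra h
  HopfAlgebra.ofAlgHom S.σ (AlgHom.ext fun p => (h p).2.2.2.1) (AlgHom.ext fun p => (h p).2.2.2.2)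

/-- the pre-Hopf structure of a Hopf algebra -/
def ofHopf (B : Type u) (P : Type u) [CommRing B] [CommRing P] [HopfAlgebra B P] : Pre B P :=
  ⟨Bialgebra.comulAlgHom B P, Bialgebra.counitAlgHom B P, HopfAlgebra.antipodeAlgHom B P⟩

theorem isHopf_ofHopf (B : Type u) (P : Type u) [CommRing B] [CommRing P] [HopfAlgebra B P] :
    (ofHopf B P).IsHopf := by
  intro p
  refine ⟨?_, ?_, ?_, ?_, ?_⟩
  · change Algebra.TensorProduct.assoc B B B P P P
      (Algebra.TensorProduct.map (Bialgebra.comulAlgHom B P) (AlgHom.id B P) (comul (R := B) p)) =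
      Algebra.TensorProduct.map (AlgHom.id B P) (Bialgebra.comulAlgHom B P) (comul (R := B) p)
    exact Coalgebra.coassoc_apply p
  · change TensorProduct.lid B P ((counit (R := B) (A := P)).rTensor P (comul (R := B) p)) = p
    rw [Coalgebra.rTensor_counit_comul, TensorProduct.lid_tmul, one_smul]
  · change TensorProduct.rid B P ((counit (R := B) (A := P)).lTensor P (comul (R := B) p)) = p
    rw [Coalgebra.lTensor_counit_comul, TensorProduct.rid_tmul, one_smul]
  · have h1 := HopfAlgebra.mul_antipode_rTensor_comul_apply (R := B) p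
    simp only [Pre.A₁, Pre.U, ofHopf, AlgHom.comp_apply, Bialgebra.comulAlgHom_apply,
      Bialgebra.counitAlgHom_apply, Algebra.ofId_apply]
    rw [← h1]
    generalize comul (R := B) p = t
    induction t using TensorProduct.induction_on with
    | zero => simp
    | tmul a b => simp
    | add a b ha hb => simp only [map_add, ha, hb]
  · have h1 := HopfAlgebra.mul_antipode_lTensor_comul_apply (R := B) p
    simp only [Pre.A₂, Pre.U, ofHopf, AlgHom.comp_apply, Bialgebra.comulAlgHom_apply,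
      Bialgebra.counitAlgHom_apply, Algebra.ofId_apply]
    rw [← h1]
    generalize comul (R := B) p = t
    induction t using TensorProduct.induction_on with
    | zero => simp
    | tmul a b => simp
    | add a b ha hb => simp only [map_add, ha, hb]

/-- transport along an isomorphism -/
theorem Pre.isHopf_of_equiv {Q : Type u} [CommRing Q] [Algebra B Q] (S' : Pre B Q) (χ : P ≃ₐ[B] Q)
    (hΔ : ∀ p, S'.Δ (χ p) = Algebra.TensorProduct.map (χ : P →ₐ[B] Q) (χ : P →ₐ[B] Q) (S.Δ p))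
    (hε : ∀ p, S'.ε (χ p) = S.ε p) (hσ : ∀ p, S'.σ (χ p) = χ (S.σ p)) (h : S'.IsHopf) : S.IsHopf := by
  let χ3 : P ⊗[B] (P ⊗[B] P) ≃ₐ[B] Q ⊗[B] (Q ⊗[B] Q) :=
    Algebra.TensorProduct.congr χ (Algebra.TensorProduct.congr χ χ)
  intro p
  have hL₁ : S'.L₁ (χ p) = χ3 (S.L₁ p) := by
    simp only [Pre.L₁, AlgHom.comp_apply, hΔ]
    generalize S.Δ p = t
    induction t using TensorProduct.induction_on with
    | zero => simp
    | add a b ha hb => simp only [map_add, ha, hb]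
    | tmul a b =>
      simp only [Algebra.TensorProduct.map_tmul, AlgHom.id_apply, AlgEquiv.coe_toAlgHom, hΔ]
      generalize S.Δ a = t
      induction t using TensorProduct.induction_on with
      | zero => simp
      | add a b ha hb => simp only [TensorProduct.add_tmul, map_add, ha, hb]
      | tmul c d => simp [χ3]
  have hL₂ : S'.L₂ (χ p) = χ3 (S.L₂ p) := by
    simp only [Pre.L₂, AlgHom.comp_apply, hΔ]
    generalize S.Δ p = t
    induction t using TensorProduct.induction_on with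
    | zero => simp
    | add a b ha hb => simp only [map_add, ha, hb]
    | tmul a b =>
      simp only [Algebra.TensorProduct.map_tmul, AlgHom.id_apply, AlgEquiv.coe_toAlgHom, hΔ]
      generalize S.Δ b = t
      induction t using TensorProduct.induction_on with
      | zero => simp
      | add a b ha hb => simp only [TensorProduct.tmul_add, map_add, ha, hb]
      | tmul c d => simp [χ3]
  refine ⟨χ3.injective (by rw [← hL₁, ← hL₂, (h (χ p)).1]), χ.injective ?_, χ.injective ?_,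
    χ.injective ?_, χ.injective ?_⟩
  · refine Eq.trans ?_ (h (χ p)).2.1
    simp only [Pre.E₁, AlgHom.comp_apply, hΔ]
    generalize S.Δ p = t
    induction t using TensorProduct.induction_on with
    | zero => simp
    | add a b ha hb => simp only [map_add, ha, hb]
    | tmul a b => simp [hε]
  · refine Eq.trans ?_ (h (χ p)).2.2.1
    simp only [Pre.E₂, AlgHom.comp_apply, hΔ]
    generalize S.Δ p = t
    induction t using TensorProduct.induction_on with
    | zero => simp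
    | add a b ha hb => simp only [map_add, ha, hb]
    | tmul a b => simp [hε]
  · have h1 : χ (S.U p) = S'.U (χ p) := by simp [Pre.U, hε]
    rw [h1, ← (h (χ p)).2.2.2.1]
    simp only [Pre.A₁, AlgHom.comp_apply, hΔ]
    generalize S.Δ p = t
    induction t using TensorProduct.induction_on with
    | zero => simp
    | add a b ha hb => simp only [map_add, ha, hb]
    | tmul a b => simp [hσ]
  · have h1 : χ (S.U p) = S'.U (χ p) := by simp [Pre.U, hε]
    rw [h1, ← (h (χ p)).2.2.2.2]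
    simp only [Pre.A₂, AlgHom.comp_apply, hΔ]
    generalize S.Δ p = t
    induction t using TensorProduct.induction_on with
    | zero => simp
    | add a b ha hb => simp only [map_add, ha, hb]
    | tmul a b => simp [hσ]

variable (B P) (T : Type u) [CommRing T] [Algebra B T]

/-- the inclusion of a tensor square into that of a base change -/
def incl2 : P ⊗[B] P →ₐ[B] (T ⊗[B] P) ⊗[T] (T ⊗[B] P) :=
  Algebra.TensorProduct.lift
    ((Algebra.TensorProduct.includeLeft : T ⊗[B] P →ₐ[B] (T ⊗[B] P) ⊗[T] (T ⊗[B] P)).comp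
      Algebra.TensorProduct.includeRight)
    (((Algebra.TensorProduct.includeRight :
        T ⊗[B] P →ₐ[T] (T ⊗[B] P) ⊗[T] (T ⊗[B] P)).restrictScalars B).comp
      Algebra.TensorProduct.includeRight)
    fun _ _ => Commute.all _ _

theorem incl2_tmul (a b : P) :
    incl2 B P T (a ⊗ₜ b) = ((1 : T) ⊗ₜ[B] a) ⊗ₜ[T] ((1 : T) ⊗ₜ[B] b) := by
  simp [incl2, Algebra.TensorProduct.one_def]

/-- the tensor square of a base change -/
def ext2 : T ⊗[B] (P ⊗[B] P) →ₐ[T] (T ⊗[B] P) ⊗[T] (T ⊗[B] P) :=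
  Algebra.TensorProduct.lift (Algebra.ofId T _) (incl2 B P T) fun _ _ => .all _ _

theorem ext2_tmul (t : T) (z : P ⊗[B] P) : ext2 B P T (t ⊗ₜ z) = t • incl2 B P T z := by
  simp only [ext2, Algebra.TensorProduct.lift_tmul, Algebra.ofId_apply]
  exact (Algebra.smul_def t _).symm

theorem ext2_bijective : Function.Bijective (ext2 B P T) := by
  have h : ∀ z, ext2 B P T z =
      TensorProduct.AlgebraTensorModule.distribBaseChange B T P P z := by
    intro z
    induction z using TensorProduct.induction_on with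
    | zero => simp
    | add a b ha hb => simp only [map_add, ha, hb]
    | tmul t w =>
      rw [ext2_tmul, show t ⊗ₜ[B] w = t • ((1 : T) ⊗ₜ[B] w) by
        rw [TensorProduct.smul_tmul', smul_eq_mul, mul_one], map_smul]
      congr 1
      induction w using TensorProduct.induction_on with
      | zero => simp
      | add a b ha hb => simp only [TensorProduct.tmul_add, map_add, ha, hb]
      | tmul a b => rw [incl2_tmul, TensorProduct.AlgebraTensorModule.distribBaseChange_tmul]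
  exact (funext h) ▸ (TensorProduct.AlgebraTensorModule.distribBaseChange B T P P).bijective

/-- the inclusion of a tensor cube into that of a base change -/
def incl3 : P ⊗[B] (P ⊗[B] P) →ₐ[B] (T ⊗[B] P) ⊗[T] ((T ⊗[B] P) ⊗[T] (T ⊗[B] P)) :=
  Algebra.TensorProduct.lift
    ((Algebra.TensorProduct.includeLeft :
        T ⊗[B] P →ₐ[B] (T ⊗[B] P) ⊗[T] ((T ⊗[B] P) ⊗[T] (T ⊗[B] P))).comp
      Algebra.TensorProduct.includeRight)
    (((Algebra.TensorProduct.includeRight : (T ⊗[B] P) ⊗[T] (T ⊗[B] P) →ₐ[T]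
        (T ⊗[B] P) ⊗[T] ((T ⊗[B] P) ⊗[T] (T ⊗[B] P))).restrictScalars B).comp (incl2 B P T))
    fun x y => by
      letI : CommRing ((T ⊗[B] P) ⊗[T] ((T ⊗[B] P) ⊗[T] (T ⊗[B] P))) :=
        Algebra.TensorProduct.instCommRing
      exact Commute.all _ _

theorem incl3_tmul (a : P) (z : P ⊗[B] P) :
    incl3 B P T (a ⊗ₜ z) = ((1 : T) ⊗ₜ[B] a) ⊗ₜ[T] incl2 B P T z := by
  simp only [incl3, Algebra.TensorProduct.lift_tmul, AlgHom.comp_apply, AlgHom.restrictScalars_apply,
    Algebra.TensorProduct.includeRight_apply, Algebra.TensorProduct.includeLeft_apply]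
  rw [Algebra.TensorProduct.tmul_mul_tmul, mul_one, one_mul]

theorem incl3_eq {z w : P ⊗[B] (P ⊗[B] P)} (h : (1 : T) ⊗ₜ[B] z = (1 : T) ⊗ₜ[B] w) :
    incl3 B P T z = incl3 B P T w := by
  have h1 : ∀ z, incl3 B P T z = (ext2 B P T).toLinearMap.lTensor (T ⊗[B] P)
      (TensorProduct.AlgebraTensorModule.distribBaseChange B T P (P ⊗[B] P) ((1 : T) ⊗ₜ z)) := by
    intro z
    induction z using TensorProduct.induction_on with
    | zero => simp
    | add a b ha hb => simp only [TensorProduct.tmul_add, map_add, ha, hb]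
    | tmul a b =>
      rw [incl3_tmul, TensorProduct.AlgebraTensorModule.distribBaseChange_tmul, LinearMap.lTensor_tmul,
        AlgHom.toLinearMap_apply, ext2_tmul, one_smul]
  rw [h1, h1, h]

theorem incl3_injective {z w : P ⊗[B] (P ⊗[B] P)} (h : incl3 B P T z = incl3 B P T w) :
    (1 : T) ⊗ₜ[B] z = (1 : T) ⊗ₜ[B] w := by
  let e := LinearEquiv.lTensor (R := T) (T ⊗[B] P)
    (LinearEquiv.ofBijective (ext2 B P T).toLinearMap (ext2_bijective B P T))
  have h1 : ∀ z, incl3 B P T z =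
      e (TensorProduct.AlgebraTensorModule.distribBaseChange B T P (P ⊗[B] P) ((1 : T) ⊗ₜ z)) := by
    intro z
    induction z using TensorProduct.induction_on with
    | zero => simp
    | add a b ha hb => simp only [TensorProduct.tmul_add, map_add, ha, hb]
    | tmul a b =>
      rw [incl3_tmul, TensorProduct.AlgebraTensorModule.distribBaseChange_tmul]
      simp [e, ext2_tmul]
  rw [h1, h1] at h
  exact (TensorProduct.AlgebraTensorModule.distribBaseChange B T P (P ⊗[B] P)).injective (e.injective h)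

variable {B P}

/-- base change of a pre-Hopf structure -/
def Pre.bc : Pre T (T ⊗[B] P) where
  Δ := (ext2 B P T).comp (Algebra.TensorProduct.map (AlgHom.id T T) S.Δ)
  ε := (Algebra.TensorProduct.rid B T T).toAlgHom.comp (Algebra.TensorProduct.map (AlgHom.id T T) S.ε)
  σ := Algebra.TensorProduct.map (AlgHom.id T T) S.σ

theorem Pre.bc_Δ (p : P) : (S.bc T).Δ ((1 : T) ⊗ₜ[B] p) = incl2 B P T (S.Δ p) := by
  simp [Pre.bc, ext2_tmul]

theorem Pre.bc_ε (p : P) : (S.bc T).ε ((1 : T) ⊗ₜ[B] p) = algebraMap B T (S.ε p) := by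
  simp [Pre.bc, Algebra.algebraMap_eq_smul_one]

theorem Pre.bc_σ (p : P) : (S.bc T).σ ((1 : T) ⊗ₜ[B] p) = (1 : T) ⊗ₜ[B] S.σ p := by
  simp [Pre.bc]

theorem Pre.bc_composites (p : P) :
    (S.bc T).L₁ (1 ⊗ₜ p) = incl3 B P T (S.L₁ p) ∧ (S.bc T).L₂ (1 ⊗ₜ p) = incl3 B P T (S.L₂ p) ∧
      (S.bc T).E₁ (1 ⊗ₜ p) = 1 ⊗ₜ S.E₁ p ∧ (S.bc T).E₂ (1 ⊗ₜ p) = 1 ⊗ₜ S.E₂ p ∧
        (S.bc T).A₁ (1 ⊗ₜ p) = 1 ⊗ₜ S.A₁ p ∧ (S.bc T).A₂ (1 ⊗ₜ p) = 1 ⊗ₜ S.A₂ p ∧
          (S.bc T).U (1 ⊗ₜ p) = 1 ⊗ₜ S.U p := by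
  refine ⟨?_, ?_, ?_, ?_, ?_, ?_, ?_⟩
  · simp only [Pre.L₁, AlgHom.comp_apply, Pre.bc_Δ]
    generalize S.Δ p = t
    induction t using TensorProduct.induction_on with
    | zero => simp
    | add a b ha hb => simp only [map_add, ha, hb]
    | tmul a b =>
      simp only [incl2_tmul, Algebra.TensorProduct.map_tmul, AlgHom.id_apply, Pre.bc_Δ]
      generalize S.Δ a = t
      induction t using TensorProduct.induction_on with
      | zero => simp
      | add a b ha hb => simp only [TensorProduct.add_tmul, map_add, ha, hb]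
      | tmul c d => simp [incl2_tmul, incl3_tmul]
  · simp only [Pre.L₂, AlgHom.comp_apply, Pre.bc_Δ]
    generalize S.Δ p = t
    induction t using TensorProduct.induction_on with
    | zero => simp
    | add a b ha hb => simp only [map_add, ha, hb]
    | tmul a b => simp [incl2_tmul, Pre.bc_Δ, incl3_tmul]
  · simp only [Pre.E₁, AlgHom.comp_apply, Pre.bc_Δ]
    generalize S.Δ p = t
    induction t using TensorProduct.induction_on with
    | zero => simp
    | add a b ha hb => simp only [map_add, TensorProduct.tmul_add, ha, hb]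
    | tmul a b => simp [incl2_tmul, Pre.bc_ε]
  · simp only [Pre.E₂, AlgHom.comp_apply, Pre.bc_Δ]
    generalize S.Δ p = t
    induction t using TensorProduct.induction_on with
    | zero => simp
    | add a b ha hb => simp only [map_add, TensorProduct.tmul_add, ha, hb]
    | tmul a b => simp [incl2_tmul, Pre.bc_ε]
  · simp only [Pre.A₁, AlgHom.comp_apply, Pre.bc_Δ]
    generalize S.Δ p = t
    induction t using TensorProduct.induction_on with
    | zero => simp
    | add a b ha hb => simp only [map_add, TensorProduct.tmul_add, ha, hb]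
    | tmul a b => simp [incl2_tmul, Pre.bc_σ]
  · simp only [Pre.A₂, AlgHom.comp_apply, Pre.bc_Δ]
    generalize S.Δ p = t
    induction t using TensorProduct.induction_on with
    | zero => simp
    | add a b ha hb => simp only [map_add, TensorProduct.tmul_add, ha, hb]
    | tmul a b => simp [incl2_tmul, Pre.bc_σ]
  · simp only [Pre.U, AlgHom.comp_apply, Pre.bc_ε, Algebra.ofId_apply]
    rw [Algebra.TensorProduct.algebraMap_apply, Algebra.algebraMap_self, RingHom.id_apply,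
      Algebra.algebraMap_eq_smul_one, Algebra.algebraMap_eq_smul_one, TensorProduct.smul_tmul]

/-- the axioms descend to a finitely generated stage -/
theorem Pre.exists_stage_isHopf {R : Type u} [CommRing R] [Algebra B R] [Algebra.FiniteType B P]
    (h : (S.bc R).IsHopf) :
    ∃ A : Subalgebra B R, A.FG ∧ (S.bc A).IsHopf := by
  classical
  obtain ⟨s, hs⟩ := Algebra.FiniteType.out (R := B) (A := P)
  have key : ∀ p : P, ∃ A : Subalgebra B R, A.FG ∧
      ∀ A' : Subalgebra B R, A ≤ A' → (S.bc A').HoldsAt ((1 : A') ⊗ₜ p) := by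
    intro p
    obtain ⟨c1, c2, c3, c4, c5, c6, c7⟩ := S.bc_composites R p
    obtain ⟨h1, h2, h3, h4, h5⟩ := h ((1 : R) ⊗ₜ p)
    rw [c1, c2] at h1
    rw [c3] at h2; rw [c4] at h3; rw [c5, c7] at h4; rw [c6, c7] at h5
    obtain ⟨B1, g1, k1⟩ := exists_kill (incl3_injective B P R h1)
    obtain ⟨B2, g2, k2⟩ := exists_kill h2
    obtain ⟨B3, g3, k3⟩ := exists_kill h3
    obtain ⟨B4, g4, k4⟩ := exists_kill h4
    obtain ⟨B5, g5, k5⟩ := exists_kill h5
    refine ⟨B1 ⊔ B2 ⊔ B3 ⊔ B4 ⊔ B5, (((g1.sup g2).sup g3).sup g4).sup g5, fun A' hA' => ?_⟩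
    simp only [sup_le_iff] at hA'
    obtain ⟨c1, c2, c3, c4, c5, c6, c7⟩ := S.bc_composites A' p
    refine ⟨?_, ?_, ?_, ?_, ?_⟩
    · rw [c1, c2]; exact incl3_eq B P A' (k1 A' hA'.1.1.1.1)
    · rw [c3]; exact k2 A' hA'.1.1.1.2
    · rw [c4]; exact k3 A' hA'.1.1.2
    · rw [c5, c7]; exact k4 A' hA'.1.2
    · rw [c6, c7]; exact k5 A' hA'.2
  choose A hA hAk using key
  refine ⟨s.sup A, Finset.sup_induction Subalgebra.fg_bot (fun A hA B hB => hA.sup hB) fun p _ => hA p,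
    (S.bc _).isHopf_of_generators ((fun p : P => ((1 : (s.sup A : Subalgebra B R)) ⊗ₜ[B] p)) '' s) ?_ ?_⟩
  · refine Algebra.TensorProduct.adjoin_one_tmul_image_eq_top (s : Set P) hs
  · rintro _ ⟨p, hp, rfl⟩
    exact hAk p _ (Finset.le_sup hp)

end Pre

section Main

/-- linear maps out of an iterated base change agree if they do on the generators -/
theorem ext_gen {R₁ B R S₁ X : Type u} [CommRing R₁] [CommRing B] [CommRing R] [CommRing S₁]
    [Algebra R₁ B] [Algebra B R] [Algebra R₁ S₁] [AddCommGroup X] [Module R X]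
    (f g : R ⊗[B] (B ⊗[R₁] S₁) →ₗ[R] X)
    (h : ∀ s, f ((1 : R) ⊗ₜ ((1 : B) ⊗ₜ s)) = g ((1 : R) ⊗ₜ ((1 : B) ⊗ₜ s))) : f = g := by
  refine LinearMap.ext fun x => ?_
  induction x using TensorProduct.induction_on with
  | zero => simp
  | add a b ha hb => simp only [map_add, ha, hb]
  | tmul r p =>
    rw [show r ⊗ₜ[B] p = r • ((1 : R) ⊗ₜ[B] p) by rw [TensorProduct.smul_tmul', smul_eq_mul, mul_one],
      map_smul, map_smul]
    congr 1
    induction p using TensorProduct.induction_on with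
    | zero => simp
    | add a b ha hb => simp only [TensorProduct.tmul_add, map_add, ha, hb]
    | tmul b s =>
      rw [show b ⊗ₜ[R₁] s = b • ((1 : B) ⊗ₜ[R₁] s) by rw [TensorProduct.smul_tmul', smul_eq_mul, mul_one],
        TensorProduct.tmul_smul, ← algebraMap_smul R b, map_smul, map_smul, h]

variable {R₁ B R C S₁ : Type u} [CommRing R₁] [CommRing B] [CommRing R] [CommRing C] [CommRing S₁]
  [Algebra R₁ B] [Algebra B R] [Algebra R₁ R] [IsScalarTower R₁ B R] [Algebra R₁ S₁] [Algebra R C]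
  (ψ : R ⊗[R₁] S₁ ≃ₐ[R] C) (χ : R ⊗[B] (B ⊗[R₁] S₁) ≃ₐ[R] C)
  (hχ : ∀ s, χ ((1 : R) ⊗ₜ[B] ((1 : B) ⊗ₜ[R₁] s)) = ψ ((1 : R) ⊗ₜ s))

include hχ in
theorem square_eq (z : B ⊗[R₁] (S₁ ⊗[R₁] S₁)) :
    Algebra.TensorProduct.map (χ : R ⊗[B] (B ⊗[R₁] S₁) →ₐ[R] C) (χ : R ⊗[B] (B ⊗[R₁] S₁) →ₐ[R] C)
        (incl2 B (B ⊗[R₁] S₁) R (ext2 R₁ S₁ B z)) =
      Algebra.TensorProduct.congr ψ ψ (ext2 R₁ S₁ R
        (Algebra.TensorProduct.map (IsScalarTower.toAlgHom R₁ B R) (AlgHom.id R₁ _) z)) := by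
  induction z using TensorProduct.induction_on with
  | zero => simp
  | add a b ha hb => simp only [map_add, ha, hb]
  | tmul b w =>
    rw [Algebra.TensorProduct.map_tmul, AlgHom.id_apply, IsScalarTower.toAlgHom_apply, ext2_tmul,
      ext2_tmul, map_smul (incl2 B (B ⊗[R₁] S₁) R), ← algebraMap_smul R b (incl2 B (B ⊗[R₁] S₁) R _),
      map_smul, map_smul]
    congr 1
    induction w using TensorProduct.induction_on with
    | zero => simp
    | add a b ha hb => simp only [map_add, ha, hb]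
    | tmul c d => simp [incl2_tmul, hχ]

include hχ in
theorem single_eq (z : B ⊗[R₁] S₁) :
    χ ((1 : R) ⊗ₜ[B] z) =
      ψ (Algebra.TensorProduct.map (IsScalarTower.toAlgHom R₁ B R) (AlgHom.id R₁ _) z) := by
  induction z using TensorProduct.induction_on with
  | zero => simp
  | add a b ha hb => simp only [TensorProduct.tmul_add, map_add, ha, hb]
  | tmul b s =>
    rw [Algebra.TensorProduct.map_tmul, AlgHom.id_apply, IsScalarTower.toAlgHom_apply,
      show (algebraMap B R b) ⊗ₜ[R₁] s = algebraMap B R b • ((1 : R) ⊗ₜ[R₁] s) by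
        rw [TensorProduct.smul_tmul', smul_eq_mul, mul_one],
      map_smul, ← hχ, show b ⊗ₜ[R₁] s = b • ((1 : B) ⊗ₜ[R₁] s) by
        rw [TensorProduct.smul_tmul', smul_eq_mul, mul_one], TensorProduct.tmul_smul,
      ← algebraMap_smul R b, map_smul]

omit [CommRing C] [Algebra R C] in
theorem scalar_eq (z : B ⊗[R₁] R₁) :
    algebraMap B R (Algebra.TensorProduct.rid R₁ B B z) = Algebra.TensorProduct.rid R₁ R R
      (Algebra.TensorProduct.map (IsScalarTower.toAlgHom R₁ B R) (AlgHom.id R₁ _) z) := by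
  induction z using TensorProduct.induction_on with
  | zero => simp
  | add a b ha hb => simp only [map_add, ha, hb]
  | tmul b w => simp [Algebra.smul_def, ← IsScalarTower.algebraMap_apply]

end Main

section Spec

variable {R₁ B R C S₁ : Type u} [CommRing R₁] [CommRing B] [CommRing R] [CommRing C] [CommRing S₁]
  [Algebra R₁ B] [Algebra B R] [Algebra R₁ R] [IsScalarTower R₁ B R] [Algebra R₁ S₁] [HopfAlgebra R C]
  (ψ : R ⊗[R₁] S₁ ≃ₐ[R] C) (χ : R ⊗[B] (B ⊗[R₁] S₁) ≃ₐ[R] C)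
  (hχ : ∀ s, χ ((1 : R) ⊗ₜ[B] ((1 : B) ⊗ₜ[R₁] s)) = ψ ((1 : R) ⊗ₜ s))
  (S : Pre B (B ⊗[R₁] S₁))

include hχ in
theorem spec_Δ (Δ₁ : S₁ → B ⊗[R₁] (S₁ ⊗[R₁] S₁))
    (hS : ∀ s, S.Δ ((1 : B) ⊗ₜ[R₁] s) = ext2 R₁ S₁ B (Δ₁ s))
    (h : ∀ s, Algebra.TensorProduct.congr ψ ψ (ext2 R₁ S₁ R
      (Algebra.TensorProduct.map (IsScalarTower.toAlgHom R₁ B R) (AlgHom.id R₁ _) (Δ₁ s))) =
        comul (R := R) (ψ ((1 : R) ⊗ₜ s))) (x : R ⊗[B] (B ⊗[R₁] S₁)) :
    (ofHopf R C).Δ (χ x) = Algebra.TensorProduct.map (χ : R ⊗[B] (B ⊗[R₁] S₁) →ₐ[R] C)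
      (χ : R ⊗[B] (B ⊗[R₁] S₁) →ₐ[R] C) ((S.bc R).Δ x) := by
  refine LinearMap.congr_fun (ext_gen ((ofHopf R C).Δ.toLinearMap ∘ₗ χ.toLinearMap)
    ((Algebra.TensorProduct.map (χ : R ⊗[B] (B ⊗[R₁] S₁) →ₐ[R] C)
      (χ : R ⊗[B] (B ⊗[R₁] S₁) →ₐ[R] C)).toLinearMap ∘ₗ (S.bc R).Δ.toLinearMap) fun s => ?_) x
  simp only [LinearMap.comp_apply, AlgHom.toLinearMap_apply, AlgEquiv.toLinearMap_apply]
  rw [Pre.bc_Δ, hS, square_eq ψ χ hχ, hχ, h]
  rfl

include hχ in
theorem spec_ε (ε₁ : S₁ → B ⊗[R₁] R₁)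
    (hS : ∀ s, S.ε ((1 : B) ⊗ₜ[R₁] s) = Algebra.TensorProduct.rid R₁ B B (ε₁ s))
    (h : ∀ s, Algebra.TensorProduct.rid R₁ R R
      (Algebra.TensorProduct.map (IsScalarTower.toAlgHom R₁ B R) (AlgHom.id R₁ _) (ε₁ s)) =
        counit (R := R) (ψ ((1 : R) ⊗ₜ s))) (x : R ⊗[B] (B ⊗[R₁] S₁)) :
    (ofHopf R C).ε (χ x) = (S.bc R).ε x := by
  refine LinearMap.congr_fun (ext_gen ((ofHopf R C).ε.toLinearMap ∘ₗ χ.toLinearMap)
    (S.bc R).ε.toLinearMap fun s => ?_) x
  simp only [LinearMap.comp_apply, AlgHom.toLinearMap_apply, AlgEquiv.toLinearMap_apply]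
  rw [Pre.bc_ε, hS, hχ, scalar_eq, h]
  rfl

include hχ in
theorem spec_σ (σ₁ : S₁ → B ⊗[R₁] S₁) (hS : ∀ s, S.σ ((1 : B) ⊗ₜ[R₁] s) = σ₁ s)
    (h : ∀ s, ψ (Algebra.TensorProduct.map (IsScalarTower.toAlgHom R₁ B R) (AlgHom.id R₁ _) (σ₁ s)) =
        HopfAlgebra.antipode R (ψ ((1 : R) ⊗ₜ s))) (x : R ⊗[B] (B ⊗[R₁] S₁)) :
    (ofHopf R C).σ (χ x) = χ ((S.bc R).σ x) := by
  refine LinearMap.congr_fun (ext_gen ((ofHopf R C).σ.toLinearMap ∘ₗ χ.toLinearMap)
    (χ.toLinearMap ∘ₗ (S.bc R).σ.toLinearMap) fun s => ?_) x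
  simp only [LinearMap.comp_apply, AlgHom.toLinearMap_apply, AlgEquiv.toLinearMap_apply]
  rw [Pre.bc_σ, hS, hχ, single_eq ψ χ hχ, h]
  rfl

end Spec



/-- The pre-Hopf structure at a stage, and its identification. -/
theorem exists_pre (R : Type u) [CommRing R] (C : Type u) [CommRing C] [HopfAlgebra R C]
    (R₁ : Type u) [CommRing R₁] [Algebra R₁ R] (S₁ : Type u) [CommRing S₁] [Algebra R₁ S₁]
    [Algebra.FinitePresentation R₁ S₁] (ψ : R ⊗[R₁] S₁ ≃ₐ[R] C) :
    ∃ (B : Subalgebra R₁ R) (_ : B.FG) (S : Pre B (B ⊗[R₁] S₁)) (χ : R ⊗[B] (B ⊗[R₁] S₁) ≃ₐ[R] C),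
      (∀ x, (ofHopf R C).Δ (χ x) = Algebra.TensorProduct.map (χ : R ⊗[B] (B ⊗[R₁] S₁) →ₐ[R] C)
        (χ : R ⊗[B] (B ⊗[R₁] S₁) →ₐ[R] C) ((S.bc R).Δ x)) ∧
      (∀ x, (ofHopf R C).ε (χ x) = (S.bc R).ε x) ∧ ∀ x, (ofHopf R C).σ (χ x) = χ ((S.bc R).σ x) := by
  classical
  let J2 : R ⊗[R₁] (S₁ ⊗[R₁] S₁) ≃ₐ[R] C ⊗[R] C :=
    (AlgEquiv.ofBijective (ext2 R₁ S₁ R) (ext2_bijective R₁ S₁ R)).trans (Algebra.TensorProduct.congr ψ ψ)
  let fΔ : S₁ →ₐ[R₁] R ⊗[R₁] (S₁ ⊗[R₁] S₁) :=
    ((J2.symm.toAlgHom.comp ((Bialgebra.comulAlgHom R C).comp ψ.toAlgHom)).restrictScalars R₁).comp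
      Algebra.TensorProduct.includeRight
  let fε : S₁ →ₐ[R₁] R ⊗[R₁] R₁ :=
    ((Algebra.TensorProduct.rid R₁ R R).symm.toAlgHom.comp
      ((Bialgebra.counitAlgHom R C).comp ψ.toAlgHom)).restrictScalars R₁ |>.comp
      Algebra.TensorProduct.includeRight
  let fσ : S₁ →ₐ[R₁] R ⊗[R₁] S₁ :=
    ((ψ.symm.toAlgHom.comp ((HopfAlgebra.antipodeAlgHom R C).comp ψ.toAlgHom)).restrictScalars R₁).comp
      Algebra.TensorProduct.includeRight
  obtain ⟨A1, g1, k1⟩ := exists_algHom_lift fΔ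
  obtain ⟨A2, g2, k2⟩ := exists_algHom_lift fε
  obtain ⟨A3, g3, k3⟩ := exists_algHom_lift fσ
  let B : Subalgebra R₁ R := A1 ⊔ A2 ⊔ A3
  obtain ⟨Δ₁, hΔ₁⟩ := k1 B (le_sup_left.trans le_sup_left)
  obtain ⟨ε₁, hε₁⟩ := k2 B (le_sup_right.trans le_sup_left)
  obtain ⟨σ₁, hσ₁⟩ := k3 B le_sup_right
  let S : Pre B (B ⊗[R₁] S₁) :=
    ⟨(ext2 R₁ S₁ B).comp
        (Algebra.TensorProduct.lift (Algebra.ofId B _) Δ₁ fun _ _ => Commute.all _ _),
      Algebra.TensorProduct.lift (AlgHom.id B B)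
        (((Algebra.TensorProduct.rid R₁ B B).toAlgHom.restrictScalars R₁).comp ε₁)
        (fun _ _ => Commute.all _ _),
      Algebra.TensorProduct.lift Algebra.TensorProduct.includeLeft σ₁ fun _ _ => Commute.all _ _⟩
  let χ : R ⊗[B] (B ⊗[R₁] S₁) ≃ₐ[R] C := (Algebra.TensorProduct.cancelBaseChange R₁ B R R S₁).trans ψ
  have hχ : ∀ s, χ ((1 : R) ⊗ₜ[B] ((1 : B) ⊗ₜ[R₁] s)) = ψ ((1 : R) ⊗ₜ s) := fun s => by
    change ψ (Algebra.TensorProduct.cancelBaseChange R₁ B R R S₁ _) = _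
    rw [Algebra.TensorProduct.cancelBaseChange_tmul, one_smul]
  have hSΔ : ∀ s, S.Δ ((1 : B) ⊗ₜ[R₁] s) = ext2 R₁ S₁ B (Δ₁ s) := fun s => by
    simp only [S, AlgHom.comp_apply, Algebra.TensorProduct.lift_tmul, map_one, one_mul]
  have hSε : ∀ s, S.ε ((1 : B) ⊗ₜ[R₁] s) = Algebra.TensorProduct.rid R₁ B B (ε₁ s) := fun s => by
    simp [S]
  have hSσ : ∀ s, S.σ ((1 : B) ⊗ₜ[R₁] s) = σ₁ s := fun s => by
    simp [S, ← Algebra.TensorProduct.one_def]
  refine ⟨B, (g1.sup g2).sup g3, S, χ, spec_Δ ψ χ hχ S Δ₁ hSΔ fun s => ?_,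
    spec_ε ψ χ hχ S ε₁ hSε fun s => ?_, spec_σ ψ χ hχ S σ₁ hSσ fun s => ?_⟩
  · exact (congrArg J2 (hΔ₁ s)).trans (J2.apply_symm_apply _)
  · exact (congrArg (Algebra.TensorProduct.rid R₁ R R) (hε₁ s)).trans
      ((Algebra.TensorProduct.rid R₁ R R).apply_symm_apply _)
  · exact (congrArg ψ (hσ₁ s)).trans (ψ.apply_symm_apply _)

/-- The identification of a model at a finer stage. -/
theorem exists_bialgEquiv (R : Type u) [CommRing R] (C : Type u) [CommRing C] [HopfAlgebra R C]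
    (B : Type u) [CommRing B] [Algebra B R] (P : Type u) [CommRing P] [Algebra B P] (S : Pre B P)
    (χ : R ⊗[B] P ≃ₐ[R] C)
    (hΔ : ∀ x, (ofHopf R C).Δ (χ x) = Algebra.TensorProduct.map (χ : R ⊗[B] P →ₐ[R] C)
      (χ : R ⊗[B] P →ₐ[R] C) ((S.bc R).Δ x))
    (hε : ∀ x, (ofHopf R C).ε (χ x) = (S.bc R).ε x)
    (A : Type u) [CommRing A] [Algebra B A] [Algebra A R] [IsScalarTower B A R] (hA : (S.bc A).IsHopf) :
    letI := (S.bc A).toHopf hA
    Nonempty (R ⊗[A] (A ⊗[B] P) ≃ₐc[R] C) := by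
  letI := (S.bc A).toHopf hA
  let χ' : R ⊗[A] (A ⊗[B] P) ≃ₐ[R] C := (Algebra.TensorProduct.cancelBaseChange B A R R P).trans χ
  have hχ' : ∀ p, χ' ((1 : R) ⊗ₜ[A] ((1 : A) ⊗ₜ[B] p)) = χ ((1 : R) ⊗ₜ p) := fun p => by
    change χ (Algebra.TensorProduct.cancelBaseChange B A R R P _) = _
    rw [Algebra.TensorProduct.cancelBaseChange_tmul, one_smul]
  refine ⟨BialgEquiv.ofAlgEquiv χ' (AlgHom.toLinearMap_injective (ext_gen _ _ fun p => ?_))
    (AlgHom.toLinearMap_injective (ext_gen _ _ fun p => ?_))⟩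
  · simp only [AlgHom.toLinearMap_apply, AlgHom.comp_apply, AlgEquiv.coe_toAlgHom,
      Bialgebra.counitAlgHom_apply]
    rw [hχ']
    refine (hε _).trans ?_
    rw [Pre.bc_ε, TensorProduct.counit_tmul, CommSemiring.counit_apply]
    change _ = (S.bc A).ε ((1 : A) ⊗ₜ[B] p) • (1 : R)
    rw [Pre.bc_ε, Algebra.smul_def, mul_one, ← IsScalarTower.algebraMap_apply]
  · simp only [AlgHom.toLinearMap_apply, AlgHom.comp_apply, AlgEquiv.coe_toAlgHom,
      Bialgebra.comulAlgHom_apply]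
    rw [hχ']
    refine Eq.trans ?_ (hΔ _).symm
    rw [Pre.bc_Δ, TensorProduct.comul_tmul, CommSemiring.comul_apply]
    change Algebra.TensorProduct.map _ _ (TensorProduct.AlgebraTensorModule.tensorTensorTensorComm A R A R
      R R _ _ ((1 ⊗ₜ[R] 1) ⊗ₜ[A] (S.bc A).Δ ((1 : A) ⊗ₜ[B] p))) = _
    rw [Pre.bc_Δ]
    generalize S.Δ p = z
    induction z using TensorProduct.induction_on with
    | zero => simp
    | add a b ha hb => simp only [TensorProduct.tmul_add, map_add, ha, hb]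
    | tmul c d => simp [incl2_tmul, hχ']

/-- Hopf models over rings of finite type over the integers. -/
theorem exists_hopf_model (R : Type u) [CommRing R] (C : Type u) [CommRing C] [HopfAlgebra R C]
    [Algebra.FinitePresentation R C] [Module.Flat R C] :
    ∃ (R₀ : Type u) (_ : CommRing R₀) (_ : Algebra R₀ R) (C₀ : Type u) (_ : CommRing C₀)
      (_ : HopfAlgebra R₀ C₀), Algebra.FiniteType ℤ R₀ ∧ Algebra.FiniteType R₀ C₀ ∧ Module.Flat R₀ C₀ ∧
        Nonempty (R ⊗[R₀] C₀ ≃ₐc[R] C) := by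
  classical
  obtain ⟨R₁, _, _, S₁, _, _, _, _, _, _, hZ, hft, hfl, hpush⟩ :=
    Groth.FlatMorOne.exists_flat_model_algebra R C
  haveI : IsNoetherianRing R₁ := Algebra.FiniteType.isNoetherianRing ℤ R₁
  haveI : Algebra.FinitePresentation R₁ S₁ := Algebra.FinitePresentation.of_finiteType.1 hft
  obtain ⟨B, hBfg, S, χ, hΔ, hε, hσ⟩ := exists_pre R C R₁ S₁ (Algebra.IsPushout.equiv R₁ R S₁ C)
  have hR : (S.bc R).IsHopf := (S.bc R).isHopf_of_equiv (ofHopf R C) χ hΔ hε hσ (isHopf_ofHopf R C)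
  haveI : Algebra.FiniteType R₁ B := (Subalgebra.fg_iff_finiteType B).1 hBfg
  obtain ⟨A, hAfg, hA⟩ := S.exists_stage_isHopf hR
  haveI : Algebra.FiniteType B A := (Subalgebra.fg_iff_finiteType A).1 hAfg
  exact ⟨A, inferInstance, inferInstance, A ⊗[B] (B ⊗[R₁] S₁), inferInstance, (S.bc A).toHopf hA,
    ((hZ.trans inferInstance : Algebra.FiniteType ℤ B).trans inferInstance),
    inferInstance, inferInstance, exists_bialgEquiv R C B _ S χ hΔ hε A hA⟩

end Groth.Sga3.HopfModel
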