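import Groth.Agent.Sga3.FibreCore
import Groth.Agent.Sga3.HopfModel
import Groth.Agent.Sga3.QuasiIsotrivial
import Groth.Agent.Hensel1.Noetherian

/-!
Fibre criteria for groups of multiplicative type.
-/

set_option autoImplicit false

universe u

open TensorProduct Coalgebra

noncomputable section

namespace Groth.Sga3.FibreCrit

open SGA3b MultType GroupAlg
open Groth.Hensel1

theorem isMultType_of_equiv' {k X Y : Type u} [CommRing k] [CommRing X] [HopfAlgebra k X] [CommRing Y]
    [HopfAlgebra k Y] (e : X ≃ₐc[k] Y) (h : IsMultType k X) : IsMultType k Y :=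
  CoeffDescent.isMultType_equiv e h

/-- Multiplicative type descends along field extensions. -/
theorem isMultType_descend {k : Type u} [Field k] {A : Type u} [CommRing A] [HopfAlgebra k A]
    (K : Type u) [Field K] [Algebra k K] (h : IsMultType K (K ⊗[k] A)) : IsMultType k A := by
  obtain ⟨K', _, _, hd⟩ := exists_field_isDiag h
  letI : Algebra k K' := ((algebraMap K K').comp (algebraMap k K)).toAlgebra
  haveI : IsScalarTower k K K' := IsScalarTower.of_algebraMap_eq' rfl
  exact isMultType_of_field_isDiag K' (isDiag_trans K K' A hd)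

/-- Finiteness of torsion subgroups after base change. -/
theorem finite_torsion_baseChange {R : Type u} [CommRing R] (T : Type u) [CommRing T] [Algebra R T]
    (C : Type u) [CommRing C] [HopfAlgebra R C] (n : ℕ)
    [Module.Finite R (C ⧸ torsionIdeal R C n)] :
    Module.Finite T ((T ⊗[R] C) ⧸ torsionIdeal T (T ⊗[R] C) n) := by
  let J := torsionIdeal R C n
  let J' := torsionIdeal T (T ⊗[R] C) n
  let g : C ⧸ J →ₐ[R] (T ⊗[R] C) ⧸ J' := Ideal.Quotient.liftₐ J
    (((Ideal.Quotient.mkₐ T J').restrictScalars R).comp Algebra.TensorProduct.includeRight)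
    fun a ha => Ideal.Quotient.eq_zero_iff_mem.2 (by
      change _ ∈ torsionIdeal T (T ⊗[R] C) n
      rw [torsionIdeal_baseChange]
      exact Ideal.mem_map_of_mem _ ha)
  let G : T ⊗[R] (C ⧸ J) →ₐ[T] (T ⊗[R] C) ⧸ J' :=
    Algebra.TensorProduct.lift (Algebra.ofId T _) g (fun _ _ => .all _ _)
  refine Module.Finite.of_surjective G.toLinearMap fun y => ?_
  obtain ⟨x, rfl⟩ := Ideal.Quotient.mk_surjective y
  induction x using TensorProduct.induction_on with
  | zero => exact ⟨0, by simp⟩
  | add p q hp hq =>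
    obtain ⟨a, ha⟩ := hp; obtain ⟨b, hb⟩ := hq
    exact ⟨a + b, by rw [map_add, map_add, ha, hb]⟩
  | tmul t c =>
    refine ⟨t ⊗ₜ Ideal.Quotient.mk J c, ?_⟩
    change G (t ⊗ₜ Ideal.Quotient.mk J c) = _
    simp only [G, Algebra.TensorProduct.lift_tmul]
    change Ideal.Quotient.mk J' (algebraMap T (T ⊗[R] C) t) * Ideal.Quotient.mk J' ((1 : T) ⊗ₜ c) = _
    rw [← map_mul, Algebra.TensorProduct.algebraMap_apply, Algebra.TensorProduct.tmul_mul_tmul,
      mul_one, one_mul, Algebra.algebraMap_self, RingHom.id_apply]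

/-- what the idempotent of the open and closed subgroup must satisfy -/
def Crit (T : Type u) [CommRing T] [IsLocalRing T] (X : Type u) [CommRing X] [HopfAlgebra T X] : Prop :=
  ∀ e : X, IsIdempotentElem e → counit (R := T) e = 0 →
    e ∈ (IsLocalRing.maximalIdeal T).map (algebraMap T X) →
    (∃ (M : Type u) (_ : CommGroup M) (f : X →ₐc[T] MonoidAlgebra T M),
      Function.Surjective f ∧ RingHom.ker f = Ideal.span {e}) → e = 0

theorem crit_of_torsion {R : Type u} [CommRing R] {C : Type u} [CommRing C] [HopfAlgebra R C]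
    [Coalgebra.IsCocomm R C] (hft : Algebra.FiniteType R C)
    (hfin : ∀ n : ℕ, 0 < n → Module.Finite R (C ⧸ torsionIdeal R C n))
    (T : Type u) [CommRing T] [IsLocalRing T] [Algebra R T] : Crit T (T ⊗[R] C) := by
  rintro e hid - hem ⟨M, _, f, hs, he⟩
  refine FibreCore.eq_zero_of_torsion_local inferInstance (fun n hn => ?_) f hs hid he hem
  haveI := hfin n hn
  exact finite_torsion_baseChange T C n

theorem crit_of_connected {R : Type u} [CommRing R] {C : Type u} [CommRing C] [HopfAlgebra R C]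
    (hconn : ∀ (p : Ideal R) [p.IsPrime], ConnectedSpace (PrimeSpectrum (p.ResidueField ⊗[R] C)))
    (T : Type u) [CommRing T] [IsLocalRing T] [Algebra R T] : Crit T (T ⊗[R] C) :=
  fun _ hid hε _ _ => FibreCore.eq_zero_of_connected_baseChange hconn T hid hε

open IsLocalRing in
/-- Over the strictly henselian ring at a prime with fibre of multiplicative type the group is
diagonalisable. -/
theorem exists_strict_diag {R : Type u} [CommRing R] {C : Type u} [CommRing C] [HopfAlgebra R C]
    (R₀ : Type u) [CommRing R₀] [IsNoetherianRing R₀] [Algebra R₀ R] (C₀ : Type u) [CommRing C₀]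
    [HopfAlgebra R₀ C₀] [Algebra.FiniteType R₀ C₀] (Φ : R ⊗[R₀] C₀ ≃ₐc[R] C) (p : Ideal R) [p.IsPrime]
    (hfl₀ : ∀ (q : Ideal C₀) [q.IsPrime], q.comap (algebraMap R₀ C₀) = p.comap (algebraMap R₀ R) →
      Module.Flat R₀ (Localization.AtPrime q))
    (hp : IsMultType p.ResidueField (p.ResidueField ⊗[R] C))
    (Ω' : Type u) [Field Ω'] [Algebra R Ω'] [Algebra p.ResidueField Ω']
    [IsScalarTower R p.ResidueField Ω'] [IsSepClosed Ω'] [Algebra.IsSeparable p.ResidueField Ω']
    (hcrit : Crit (Hens R Ω') (Hens R Ω' ⊗[R] C)) :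
    ∃ (M : Type u) (_ : CommGroup M), Group.FG M ∧
      Nonempty (Hens R Ω' ⊗[R] C ≃ₐc[Hens R Ω'] MonoidAlgebra (Hens R Ω') M) := by
  classical
  let p₀ := p.comap (algebraMap R₀ R)
  let k₀ := p₀.ResidueField
  let k := p.ResidueField
  let R₁ := Localization.AtPrime p₀
  haveI : IsNoetherianRing R₁ := IsLocalization.isNoetherianRing p₀.primeCompl R₁ inferInstance
  let ι : k₀ →ₐ[R₀] k := Ideal.ResidueField.mapₐ p₀ p (Algebra.ofId R₀ R) rfl
  letI : Algebra k₀ k := ι.toRingHom.toAlgebra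
  haveI : IsScalarTower R₀ k₀ k := IsScalarTower.of_algebraMap_eq fun r => (ι.commutes r).symm
  have hk₀ : IsMultType k₀ (k₀ ⊗[R₀] C₀) := isMultType_descend k
    (isMultType_of_equiv' (cancelBC R₀ k₀ k C₀).symm
      (isMultType_of_equiv' ((congrBC k Φ.symm).trans (cancelBC R₀ R k C₀)) hp))
  let Ω := SeparableClosure k₀
  haveI : IsSepClosed Ω := IsSepClosure.sep_closed k₀
  haveI : Algebra.IsSeparable (ResidueField R₁) Ω := inferInstanceAs (Algebra.IsSeparable k₀ Ω)
  haveI : IsScalarTower R₀ R₁ Ω := IsScalarTower.of_algebraMap_eq fun r => by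
    rw [IsScalarTower.algebraMap_apply R₀ k₀ Ω, IsScalarTower.algebraMap_apply R₁ k₀ Ω,
      ← IsScalarTower.algebraMap_apply R₀ R₁ k₀]
  let L := Hens R₁ Ω
  haveI : IsNoetherianRing L := Hens.isNoetherianRing
  -- the closed fibre over the strictly henselian ring
  have hΩ : IsDiag Ω (Ω ⊗[R₀] C₀) := isDiag_of_equiv (cancelBC R₀ k₀ Ω C₀)
    (CharLift.isDiag_of_isSepClosed inferInstance (isMultType_baseChange Ω hk₀))
  let eL := RingEquiv.ofBijective _ (Hens.residuePt_bijective (R := R₁) (Ω := Ω))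
  letI : Algebra Ω (ResidueField L) := (eL.symm : Ω →+* ResidueField L).toAlgebra
  letI : Algebra R₀ L := ((algebraMap R₁ L).comp (algebraMap R₀ R₁)).toAlgebra
  haveI : IsScalarTower R₀ R₁ L := IsScalarTower.of_algebraMap_eq' rfl
  haveI : IsScalarTower R₀ Ω (ResidueField L) := IsScalarTower.of_algebraMap_eq fun r => by
    refine eL.injective ?_
    change eL (residue L (algebraMap R₁ L (algebraMap R₀ R₁ r))) = eL (eL.symm (algebraMap R₀ Ω r))
    rw [RingEquiv.apply_symm_apply, IsScalarTower.algebraMap_apply R₀ R₁ Ω r]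
    exact (Hens.residuePt_residue (algebraMap R₁ L (algebraMap R₀ R₁ r))).trans
      ((Hens.pt (R := R₁) (Ω := Ω)).commutes _)
  have hs : IsDiag (ResidueField L) (ResidueField L ⊗[L] (L ⊗[R₀] C₀)) :=
    isDiag_of_equiv (cancelBC R₀ L (ResidueField L) C₀).symm
      (isDiag_trans Ω (ResidueField L) C₀ (isDiag_baseChange (ResidueField L) (Ω ⊗[R₀] C₀) hΩ))
  have hm₀ : (maximalIdeal L).comap (algebraMap R₀ L) = p₀ := by
    ext r
    rw [Ideal.mem_comap, IsScalarTower.algebraMap_apply R₀ R₁ L, Hens.mem_maximalIdeal_iff,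
      AlgHom.commutes, ← IsScalarTower.algebraMap_apply, IsScalarTower.algebraMap_apply R₀ k₀ Ω,
      map_eq_zero_iff _ (algebraMap k₀ Ω).injective, Ideal.algebraMap_residueField_eq_zero]
  obtain ⟨M, _, hM, f, hsurj, e, hid, he, hem⟩ := FibreCore.exists_split_subgroup (L := L)
    (C := L ⊗[R₀] C₀) inferInstance (fun q _ hq => by
      refine FibreCore.flat_atPrime_baseChange L q (hfl₀ _ ?_)
      have h1 : (q.comap (algebraMap L (L ⊗[R₀] C₀))) = maximalIdeal L :=
        ((maximalIdeal.isMaximal L).eq_of_le (Ideal.IsPrime.ne_top inferInstance)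
          (Ideal.map_le_iff_le_comap.1 hq)).symm
      change _ = p₀
      refine Eq.trans ?_ hm₀
      rw [← h1, Ideal.comap_comap, Ideal.comap_comap, ← IsScalarTower.algebraMap_eq,
        AlgHom.toRingHom_eq_coe, AlgHom.comp_algebraMap]) hs
  -- to the strictly henselian ring of the original base
  let T := Hens R Ω'
  letI : Algebra R₀ T := ((algebraMap R T).comp (algebraMap R₀ R)).toAlgebra
  haveI : IsScalarTower R₀ R T := IsScalarTower.of_algebraMap_eq' rfl
  have hu : ∀ s : p₀.primeCompl, IsUnit (algebraMap R₀ T s) := fun s => by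
    rw [IsScalarTower.algebraMap_apply R₀ R T, Hens.isUnit_iff, AlgHom.commutes]
    exact HensPoint.algebraMap_ne_zero p fun h => s.2 h
  letI : Algebra R₁ T := (IsLocalization.lift hu : R₁ →+* T).toAlgebra
  haveI : IsScalarTower R₀ R₁ T := IsScalarTower.of_algebraMap_eq fun r =>
    (IsLocalization.lift_eq hu r).symm
  have hbT : Function.Bijective (Hens.residuePt (R := R) (Ω := Ω')) :=
    ⟨RingHom.injective _, fun a => by
      obtain ⟨x, hx⟩ := HensPoint.pt_surjective (R := R) p a
      exact ⟨residue _ x, hx⟩⟩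
  let eT := RingEquiv.ofBijective _ hbT
  letI : Algebra k₀ Ω' := ((algebraMap k Ω').comp (algebraMap k₀ k)).toAlgebra
  haveI : IsScalarTower k₀ k Ω' := IsScalarTower.of_algebraMap_eq' rfl
  let j : Ω →ₐ[k₀] Ω' := IsSepClosed.lift
  let τ : Ω →+* ResidueField T := (eT.symm : Ω' →+* ResidueField T).comp j.toRingHom
  have hτ : ∀ r, τ (algebraMap R₁ Ω r) = residue T (algebraMap R₁ T r) := by
    have h : τ.comp (algebraMap R₁ Ω) = (residue T).comp (algebraMap R₁ T) := by
      refine IsLocalization.ringHom_ext p₀.primeCompl (RingHom.ext fun r => ?_)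
      simp only [RingHom.comp_apply]
      rw [← IsScalarTower.algebraMap_apply, ← IsScalarTower.algebraMap_apply,
        IsScalarTower.algebraMap_apply R₀ k₀ Ω]
      refine eT.injective ?_
      change eT (eT.symm (j (algebraMap k₀ Ω (algebraMap R₀ k₀ r)))) = _
      rw [RingEquiv.apply_symm_apply, j.commutes,
        IsScalarTower.algebraMap_apply k₀ k Ω', ← IsScalarTower.algebraMap_apply R₀ k₀ k,
        IsScalarTower.algebraMap_apply R₀ R T]
      change _ = Hens.pt (algebraMap R T (algebraMap R₀ R r))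
      rw [AlgHom.commutes, IsScalarTower.algebraMap_apply R k Ω']
      exact congrArg (algebraMap k Ω') (IsScalarTower.algebraMap_apply R₀ R k r)
    exact fun r => RingHom.congr_fun h r
  obtain ⟨g, hg, -⟩ := Hens.existsUnique_lift (T := T) τ hτ
  letI : Algebra L T := g.toRingHom.toAlgebra
  haveI : IsScalarTower R₀ L T := IsScalarTower.of_algebraMap_eq fun r => by
    change _ = g (algebraMap R₁ L (algebraMap R₀ R₁ r))
    rw [AlgHom.commutes, ← IsScalarTower.algebraMap_apply]
  have hgm : ∀ x ∈ maximalIdeal L, algebraMap L T x ∈ maximalIdeal T := fun x hx => by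
    rw [← residue_eq_zero_iff]
    change residue T (g x) = 0
    rw [hg, Hens.mem_maximalIdeal_iff.1 hx, map_zero]
  let E : T ⊗[L] (L ⊗[R₀] C₀) ≃ₐc[T] T ⊗[R] C :=
    (cancelBC R₀ L T C₀).trans ((cancelBC R₀ R T C₀).symm.trans (congrBC T Φ))
  let f' : T ⊗[R] C →ₐc[T] MonoidAlgebra T M :=
    (FibreCore.bcHom T f).comp (E.symm : T ⊗[R] C →ₐc[T] T ⊗[L] (L ⊗[R₀] C₀))
  let e₁ := E ((1 : T) ⊗ₜ[L] e)
  have hs' : Function.Surjective f' :=
    (FibreCore.bcHom_surjective T f hsurj).comp E.symm.surjective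
  have he' : RingHom.ker f' = Ideal.span {e₁} := by
    have h1 := FibreCore.ker_bcHom T f hsurj he
    ext x
    change FibreCore.bcHom T f (E.symm x) = 0 ↔ _
    rw [← RingHom.mem_ker, h1, Ideal.mem_span_singleton, Ideal.mem_span_singleton]
    constructor
    · intro h
      have := map_dvd E h
      rwa [E.apply_symm_apply] at this
    · intro h
      have := map_dvd E.symm h
      rwa [show E.symm e₁ = _ from E.symm_apply_apply _] at this
  have hem' : e₁ ∈ (maximalIdeal T).map (algebraMap T (T ⊗[R] C)) := by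
    let h : L ⊗[R₀] C₀ →+* T ⊗[R] C := (E : T ⊗[L] (L ⊗[R₀] C₀) →+* T ⊗[R] C).comp
      (Algebra.TensorProduct.includeRight : L ⊗[R₀] C₀ →ₐ[L] T ⊗[L] (L ⊗[R₀] C₀)).toRingHom
    refine (show (maximalIdeal L).map (algebraMap L (L ⊗[R₀] C₀)) ≤
      ((maximalIdeal T).map (algebraMap T (T ⊗[R] C))).comap h from ?_) hem
    rw [Ideal.map_le_iff_le_comap]
    intro x hx
    rw [Ideal.mem_comap, Ideal.mem_comap]
    simp only [h, RingHom.comp_apply, AlgHom.toRingHom_eq_coe, RingHom.coe_coe]
    rw [AlgHom.commutes, IsScalarTower.algebraMap_apply L T (T ⊗[L] (L ⊗[R₀] C₀))]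
    rw [show E (algebraMap T (T ⊗[L] (L ⊗[R₀] C₀)) (algebraMap L T x)) =
      algebraMap T (T ⊗[R] C) (algebraMap L T x) from
      (E : T ⊗[L] (L ⊗[R₀] C₀) ≃ₐ[T] T ⊗[R] C).commutes _]
    exact Ideal.mem_map_of_mem _ (hgm x hx)
  have h0 : e₁ = 0 := hcrit e₁
    ((hid.map (Algebra.TensorProduct.includeRight : L ⊗[R₀] C₀ →ₐ[L] T ⊗[L] (L ⊗[R₀] C₀))).map E)
    (FibreCore.counit_eq_zero f' he') hem' ⟨M, inferInstance, f', hs', he'⟩
  obtain ⟨G⟩ := FibreCore.isDiag_of_eq_zero T f hsurj he
    (EquivLike.injective E (h0.trans (map_zero E).symm))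
  exact ⟨M, inferInstance, hM, ⟨E.symm.trans G⟩⟩

/-- The image of an etale algebra contains a basic neighbourhood of each of its points. -/
theorem exists_away_faithfullyFlat {R : Type u} [CommRing R] (E : Type u) [CommRing E] [Algebra R E]
    [Algebra.Etale R E] (p : Ideal R) [hp : p.IsPrime] (q : Ideal E) [hq : q.IsPrime]
    (hqc : q.comap (algebraMap R E) = p) :
    ∃ f ∉ p, Module.FaithfullyFlat (Localization.Away f) (Localization.Away f ⊗[R] E) := by
  have hopen : IsOpenMap (PrimeSpectrum.comap (algebraMap R E)) :=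
    PrimeSpectrum.isOpenMap_comap_of_hasGoingDown_of_finitePresentation
  obtain ⟨U, ⟨f, rfl⟩, hpf, hfr⟩ := PrimeSpectrum.isTopologicalBasis_basic_opens.exists_subset_of_mem_open
    (show (⟨p, hp⟩ : PrimeSpectrum R) ∈ Set.range (PrimeSpectrum.comap (algebraMap R E)) from
      ⟨⟨q, hq⟩, PrimeSpectrum.ext hqc⟩) hopen.isOpen_range
  refine ⟨f, hpf, ?_⟩
  let Rf := Localization.Away f
  refine Module.FaithfullyFlat.of_comap_surjective fun P => ?_
  have hP : PrimeSpectrum.comap (algebraMap R Rf) P ∈ (PrimeSpectrum.basicOpen f : Set (PrimeSpectrum R)) := by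
    rw [← PrimeSpectrum.localization_away_comap_range Rf f]
    exact ⟨P, rfl⟩
  obtain ⟨Q, hQ⟩ := hfr hP
  have hfQ : IsUnit (Algebra.ofId R Q.asIdeal.ResidueField f) := by
    rw [isUnit_iff_ne_zero]
    intro h0
    have h1 : algebraMap R E f ∈ Q.asIdeal := by
      rw [← Ideal.algebraMap_residueField_eq_zero, ← IsScalarTower.algebraMap_apply]
      exact h0
    have h2 : f ∈ (PrimeSpectrum.comap (algebraMap R Rf) P).asIdeal := by
      rw [← hQ]; exact h1
    exact hP h2
  let F : Rf ⊗[R] E →ₐ[R] Q.asIdeal.ResidueField :=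
    Algebra.TensorProduct.lift (IsLocalization.Away.liftAlgHom (f := Algebra.ofId R _) f hfQ)
      (IsScalarTower.toAlgHom R E Q.asIdeal.ResidueField) (fun _ _ => Commute.all _ _)
  refine ⟨⟨RingHom.ker F, RingHom.ker_isPrime _⟩,
    PrimeSpectrum.localization_comap_injective Rf (Submonoid.powers f) (Eq.trans ?_ hQ)⟩
  refine PrimeSpectrum.ext (Ideal.ext fun r => ?_)
  simp only [PrimeSpectrum.comap_asIdeal, Ideal.mem_comap, RingHom.mem_ker]
  rw [← IsScalarTower.algebraMap_apply, AlgHom.commutes,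
    IsScalarTower.algebraMap_apply R E Q.asIdeal.ResidueField, Ideal.algebraMap_residueField_eq_zero]

/-- A group diagonalisable at every strictly henselian point is locally diagonalised by etale
algebras. -/
theorem exists_nbhd {R : Type u} [CommRing R] {C : Type u} [CommRing C] [HopfAlgebra R C]
    [Module.Flat R C] [Algebra.FinitePresentation R C] (p : Ideal R) [p.IsPrime]
    {Ω : Type u} [Field Ω] [Algebra R Ω] [Algebra p.ResidueField Ω] [IsScalarTower R p.ResidueField Ω]
    {M : Type u} [CommGroup M] [Group.FG M]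
    (e : Hens R Ω ⊗[R] C ≃ₐc[Hens R Ω] MonoidAlgebra (Hens R Ω) M) :
    ∃ f ∉ p, ∃ (R' : Type u) (_ : CommRing R') (_ : Algebra (Localization.Away f) R'),
      Module.FaithfullyFlat (Localization.Away f) R' ∧
        Nonempty (R' ⊗[Localization.Away f] (Localization.Away f ⊗[R] C) ≃ₐc[R'] MonoidAlgebra R' M) := by
  haveI := QuasiIsotrivial.finitePresentation_monoidAlgebra R M
  haveI := FibreCore.projective_monoidAlgebra R M
  obtain ⟨S, ⟨e'⟩⟩ := Spreading.exists_stage_equiv (e.trans (monAlgBC R (Hens R Ω) M).symm)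
  obtain ⟨q, hq, hqc⟩ := HensPoint.exists_prime_over p S
  obtain ⟨f, hf, hff⟩ := exists_away_faithfullyFlat S.E p q hqc
  let Rf := Localization.Away f
  let Ef := Rf ⊗[R] S.E
  letI : Algebra S.E Ef := Algebra.TensorProduct.rightAlgebra
  haveI : IsScalarTower R S.E Ef := IsScalarTower.of_algebraMap_eq fun r => by
    change algebraMap R Ef r = (1 : Rf) ⊗ₜ[R] algebraMap R S.E r
    rw [Algebra.TensorProduct.algebraMap_apply, Algebra.algebraMap_eq_smul_one,
      Algebra.algebraMap_eq_smul_one, TensorProduct.smul_tmul]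
  exact ⟨f, hf, Ef, inferInstance, inferInstance, hff, ⟨(cancelBC R Rf Ef C).trans
    ((cancelBC R S.E Ef C).symm.trans ((congrBC Ef (e'.trans (monAlgBC R S.E M))).trans
      (monAlgBC S.E Ef M)))⟩⟩

theorem exists_nbhd_of_fibres {R : Type u} [CommRing R] {C : Type u} [CommRing C] [HopfAlgebra R C]
    [Module.Flat R C] [Algebra.FinitePresentation R C]
    (hfib : ∀ (p : Ideal R) [p.IsPrime], IsMultType p.ResidueField (p.ResidueField ⊗[R] C))
    (hcrit : ∀ (T : Type u) [CommRing T] [IsLocalRing T] [Algebra R T], Crit T (T ⊗[R] C))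
    (p : Ideal R) [p.IsPrime] :
    ∃ f ∉ p, ∃ (M : Type u) (_ : CommGroup M), Group.FG M ∧ ∃ (R' : Type u) (_ : CommRing R')
      (_ : Algebra (Localization.Away f) R'), Module.FaithfullyFlat (Localization.Away f) R' ∧
        Nonempty (R' ⊗[Localization.Away f] (Localization.Away f ⊗[R] C) ≃ₐc[R'] MonoidAlgebra R' M) := by
  obtain ⟨R₀, _, _, C₀, _, _, hZ, hft₀, hfl₀, ⟨Φ⟩⟩ := HopfModel.exists_hopf_model R C
  haveI : IsNoetherianRing R₀ := Algebra.FiniteType.isNoetherianRing ℤ R₀
  let Ω := SeparableClosure p.ResidueField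
  haveI : IsSepClosed Ω := IsSepClosure.sep_closed p.ResidueField
  obtain ⟨M, _, hM, ⟨e⟩⟩ := exists_strict_diag R₀ C₀ Φ p
    (fun q _ _ => Module.Flat.trans R₀ C₀ (Localization.AtPrime q)) (hfib p) Ω (hcrit _)
  obtain ⟨f, hf, R', _, _, hff, he⟩ := exists_nbhd p e
  exact ⟨f, hf, M, inferInstance, hM, R', _, _, hff, he⟩

theorem isMultType_of_fibres {R : Type u} [CommRing R] {C : Type u} [CommRing C] [HopfAlgebra R C]
    [Module.Flat R C] [Algebra.FinitePresentation R C]
    (hfib : ∀ (p : Ideal R) [p.IsPrime], IsMultType p.ResidueField (p.ResidueField ⊗[R] C))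
    (hcrit : ∀ (T : Type u) [CommRing T] [IsLocalRing T] [Algebra R T], Crit T (T ⊗[R] C)) :
    IsMultType R C := by
  refine ⟨{f | IsMultTypeConst (Localization.Away f) (Localization.Away f ⊗[R] C)}, ?_, fun f hf => hf⟩
  by_contra hne
  obtain ⟨m, hm, hsm⟩ := Ideal.exists_le_maximal _ hne
  haveI := hm.isPrime
  obtain ⟨f, hf, M, _, -, R', _, _, hff, he⟩ := exists_nbhd_of_fibres hfib hcrit m
  exact hf (hsm (Ideal.subset_span ⟨R', _, _, hff, M, _, he⟩))

/-- The local case. -/
theorem isMultType_of_local {R : Type u} [CommRing R] [IsLocalRing R] {C : Type u} [CommRing C]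
    [HopfAlgebra R C] (R₀ : Type u) [CommRing R₀] [IsNoetherianRing R₀] [Algebra R₀ R] (C₀ : Type u)
    [CommRing C₀] [HopfAlgebra R₀ C₀] [Algebra.FiniteType R₀ C₀] (Φ : R ⊗[R₀] C₀ ≃ₐc[R] C)
    (hfl₀ : ∀ (q : Ideal C₀) [q.IsPrime], q.comap (algebraMap R₀ C₀) =
      (IsLocalRing.maximalIdeal R).comap (algebraMap R₀ R) → Module.Flat R₀ (Localization.AtPrime q))
    (hs : IsMultType (IsLocalRing.ResidueField R) (IsLocalRing.ResidueField R ⊗[R] C))
    (hcrit : ∀ (T : Type u) [CommRing T] [IsLocalRing T] [Algebra R T], Crit T (T ⊗[R] C)) :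
    IsMultType R C := by
  let p := IsLocalRing.maximalIdeal R
  let k := p.ResidueField
  let ι : IsLocalRing.ResidueField R →ₐ[R] k :=
    Ideal.Quotient.liftₐ p (Algebra.ofId R k) fun a ha => Ideal.algebraMap_residueField_eq_zero.2 ha
  letI : Algebra (IsLocalRing.ResidueField R) k := ι.toRingHom.toAlgebra
  haveI : IsScalarTower R (IsLocalRing.ResidueField R) k :=
    IsScalarTower.of_algebraMap_eq fun r => (ι.commutes r).symm
  let Ω := SeparableClosure k
  haveI : IsSepClosed Ω := IsSepClosure.sep_closed k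
  obtain ⟨M, _, -, ⟨e⟩⟩ := exists_strict_diag R₀ C₀ Φ p hfl₀
    (isMultType_of_equiv' (cancelBC R (IsLocalRing.ResidueField R) k C) (isMultType_baseChange k hs))
    Ω (hcrit _)
  letI : Algebra (IsLocalRing.ResidueField R) Ω :=
    ((algebraMap k Ω).comp (algebraMap (IsLocalRing.ResidueField R) k)).toAlgebra
  haveI : IsScalarTower R (IsLocalRing.ResidueField R) Ω := IsScalarTower.of_algebraMap_eq fun r => by
    rw [IsScalarTower.algebraMap_apply R k Ω]
    exact congrArg (algebraMap k Ω) (ι.commutes r).symm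
  haveI : Module.FaithfullyFlat R (Hens R Ω) := Hens.faithfullyFlat
  exact isMultType_of_const ⟨Hens R Ω, _, _, inferInstance, M, _, ⟨e⟩⟩

end Groth.Sga3.FibreCrit
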