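import Groth.Agent.Sga3.MultType
import Groth.Agent.Sga3.MultTypeModule

/-!
A finite diagonalising cover of a group of multiplicative type, and descent of elements along it.
-/

set_option autoImplicit false

universe u

open TensorProduct

noncomputable section

namespace Groth.Sga3.MultType

open SGA3b

variable {R : Type u} [CommRing R]

/-- a diagonalising cover: finitely many algebras whose product is faithfully flat -/
theorem exists_cover {A : Type u} [CommRing A] [HopfAlgebra R A] (h : IsMultType R A) :
    ∃ (ι : Type u) (_ : Fintype ι) (S : ι → Type u) (_ : ∀ i, CommRing (S i))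
      (_ : ∀ i, Algebra R (S i)), Module.FaithfullyFlat R (∀ i, S i) ∧
      ∀ i, IsDiag (S i) (S i ⊗[R] A) := by
  classical
  obtain ⟨s, hs, hloc⟩ := h
  obtain ⟨t, hts, ht⟩ := Ideal.span_eq_top_iff_finite s |>.1 hs
  choose S c a hff hd using fun i : t => hloc i.1 (hts i.2)
  letI : ∀ i, Algebra R (S i) := fun i => ((algebraMap (Localization.Away i.1) (S i)).comp
    (algebraMap R (Localization.Away i.1))).toAlgebra
  haveI : ∀ i : t, IsScalarTower R (Localization.Away i.1) (S i) :=
    fun i => IsScalarTower.of_algebraMap_eq' rfl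
  refine ⟨t, inferInstance, S, c, inferInstance, ?_, fun i => isDiag_trans (Localization.Away i.1) (S i) A (hd i)⟩
  haveI : ∀ i, Module.Flat R (S i) := fun i =>
    Module.Flat.trans R (Localization.Away i.1) (S i)
  haveI : Module.Flat R (∀ i, S i) :=
    Module.Flat.of_linearEquiv (DFinsupp.linearEquivFunOnFintype (R := R) (M := S)).symm
  refine Module.FaithfullyFlat.of_comap_surjective fun p => ?_
  obtain ⟨i, hi⟩ : ∃ i : t, i.1 ∉ p.asIdeal := by
    by_contra hne
    push Not at hne
    refine p.2.ne_top (eq_top_iff.2 ?_)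
    rw [← ht, Ideal.span_le]
    exact fun x hx => hne ⟨x, hx⟩
  obtain ⟨q, hq⟩ : p ∈ Set.range (PrimeSpectrum.comap (algebraMap R (Localization.Away i.1))) := by
    rw [PrimeSpectrum.localization_away_comap_range (Localization.Away i.1) i.1]
    exact hi
  obtain ⟨P, hP⟩ := PrimeSpectrum.comap_surjective_of_faithfullyFlat (A := Localization.Away i.1)
    (B := S i) q
  refine ⟨PrimeSpectrum.comap (Pi.evalRingHom S i) P, ?_⟩
  rw [← PrimeSpectrum.comap_comp_apply, ← hq, ← hP, ← PrimeSpectrum.comap_comp_apply]
  rfl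

section Descend

variable {ι : Type u} [Fintype ι] (S : ι → Type u) [∀ i, CommRing (S i)] [∀ i, Algebra R (S i)]

/-- an element of the tensor square of a finite product vanishes if all its components do -/
theorem eq_zero_of_components [DecidableEq ι] {z : (∀ i, S i) ⊗[R] (∀ i, S i)}
    (h : ∀ i j, TensorProduct.map (LinearMap.proj (R := R) (φ := S) i)
      (LinearMap.proj (R := R) (φ := S) j) z = 0) : z = 0 := by
  let P := fun i => LinearMap.single R S i ∘ₗ LinearMap.proj (R := R) (φ := S) i
  have hid : (LinearMap.id : (∀ i, S i) →ₗ[R] ∀ i, S i) = ∑ i, P i := by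
    refine LinearMap.ext fun x => ?_
    simpa [P] using (Finset.univ_sum_single x).symm
  have h1 : TensorProduct.map (∑ i, P i) (∑ i, P i) z =
      ∑ i, ∑ j, TensorProduct.map (P i) (P j) z := by
    simp only [← TensorProduct.mapBilinear_apply, map_sum, LinearMap.sum_apply]
    rw [Finset.sum_comm]
  rw [← hid, TensorProduct.map_id, LinearMap.id_apply] at h1
  rw [h1]
  refine Finset.sum_eq_zero fun i _ => Finset.sum_eq_zero fun j _ => ?_
  simp only [P, TensorProduct.map_comp, LinearMap.comp_apply, h, map_zero]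

theorem exists_of_components [Module.FaithfullyFlat R (∀ i, S i)] (s : ∀ i, S i)
    (h : ∀ i j, s i ⊗ₜ[R] (1 : S j) = (1 : S i) ⊗ₜ[R] s j) :
    ∃ r : R, ∀ i, algebraMap R (S i) r = s i := by
  classical
  have heff : Algebra.IsEffective R (∀ i, S i) := Algebra.IsEffective.of_faithfullyFlat R _
  obtain ⟨r, hr⟩ := (heff s).1 (by
    rw [Algebra.TensorProduct.includeLeftSubRight_apply]
    refine eq_zero_of_components S fun i j => ?_
    simp [h i j])
  exact ⟨r, fun i => congrFun hr i⟩

theorem eq_zero_of_cover [Module.FaithfullyFlat R (∀ i, S i)] {M : Type u} [AddCommGroup M]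
    [Module R M] {x : M} (h : ∀ i, (1 : S i) ⊗ₜ[R] x = 0) : x = 0 := by
  classical
  refine one_tmul_injective_of_faithfullyFlat (R := R) (∀ i, S i) M ?_
  change (1 : ∀ i, S i) ⊗ₜ[R] x = (1 : ∀ i, S i) ⊗ₜ[R] (0 : M)
  rw [TensorProduct.tmul_zero]
  have h1 : (1 : ∀ i, S i) = ∑ i, Pi.single i (1 : S i) := (Finset.univ_sum_single _).symm
  rw [h1, TensorProduct.sum_tmul]
  refine Finset.sum_eq_zero fun i _ => ?_
  have := congrArg (LinearMap.rTensor M (LinearMap.single R S i)) (h i)
  simpa using this

/-- descent of a compatible family of elements in base changes of a projective module -/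
theorem exists_descent [Module.FaithfullyFlat R (∀ i, S i)] {A : Type u} [AddCommGroup A] [Module R A]
    [Module.Projective R A] (y : ∀ i, S i ⊗[R] A)
    (h : ∀ i j, TensorProduct.map
        ((Algebra.TensorProduct.includeLeft : S i →ₐ[R] S i ⊗[R] S j).toLinearMap) LinearMap.id (y i) =
      TensorProduct.map
        ((Algebra.TensorProduct.includeRight : S j →ₐ[R] S i ⊗[R] S j).toLinearMap) LinearMap.id (y j)) :
    ∃ x : A, ∀ i, (1 : S i) ⊗ₜ[R] x = y i := by
  classical
  obtain ⟨σ, hσ⟩ := Module.projective_def'.mp ‹Module.Projective R A›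
  let κ : ∀ (T : Type u) [CommRing T] [Algebra R T], T ⊗[R] A →ₗ[R] (A →₀ T) := fun T _ _ =>
    (TensorProduct.finsuppScalarRight R R T A).toLinearMap ∘ₗ σ.lTensor T
  have hκ : ∀ (T : Type u) [CommRing T] [Algebra R T] (t : T) (a x : A),
      κ T (t ⊗ₜ a) x = σ a x • t := by
    intro T _ _ t a x
    simp [κ]
  have hnat : ∀ (T T' : Type u) [CommRing T] [Algebra R T] [CommRing T'] [Algebra R T']
      (f : T →ₐ[R] T') (z : T ⊗[R] A) (x : A),
      κ T' (TensorProduct.map f.toLinearMap LinearMap.id z) x = f (κ T z x) := by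
    intro T T' _ _ _ _ f z x
    induction z using TensorProduct.induction_on with
    | zero => simp
    | tmul t a => simp [hκ]
    | add p q hp hq => simp [map_add, hp, hq]
  have hdesc : ∀ x : A, ∃ r : R, ∀ i, algebraMap R (S i) r = κ (S i) (y i) x := by
    refine fun x => exists_of_components S _ fun i j => ?_
    have h1 := congrArg (fun z => κ (S i ⊗[R] S j) z x) (h i j)
    simp only [hnat] at h1
    exact h1
  choose r hr using hdesc
  let supp : Finset A := Finset.univ.biUnion fun i => (κ (S i) (y i)).support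
  have hr0 : ∀ x ∉ supp, r x = 0 := by
    intro x hx
    refine eq_zero_of_cover (R := R) S fun i => ?_
    have h1 : κ (S i) (y i) x = 0 := Finsupp.notMem_support_iff.1 fun hh =>
      hx (Finset.mem_biUnion.2 ⟨i, Finset.mem_univ _, hh⟩)
    rw [← mul_one (r x), ← smul_eq_mul, ← TensorProduct.smul_tmul, Algebra.smul_def, hr x i, h1,
      zero_mul, TensorProduct.zero_tmul]
  refine ⟨∑ x ∈ supp, r x • x, fun i => ?_⟩
  have hback : ∀ z : S i ⊗[R] A,
      (κ (S i) z).sum (fun x t => t ⊗ₜ[R] x) = z := by
    intro z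
    induction z using TensorProduct.induction_on with
    | zero => simp
    | add p q hp hq =>
      rw [map_add, Finsupp.sum_add_index' (by simp) (by intro _ _ _; exact TensorProduct.add_tmul ..),
        hp, hq]
    | tmul t a =>
      have ha := LinearMap.congr_fun hσ a
      rw [LinearMap.comp_apply, Finsupp.linearCombination_apply, LinearMap.id_apply] at ha
      conv_rhs => rw [← ha]
      rw [Finsupp.sum, Finsupp.sum, TensorProduct.tmul_sum]
      refine Finset.sum_subset_zero_on_sdiff (fun x hx => ?_) (fun x hx => ?_) (fun x _ => ?_)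
      · rw [Finsupp.mem_support_iff, hκ] at hx
        exact Finsupp.mem_support_iff.2 fun h0 => hx (by rw [h0, zero_smul])
      · have h2 : κ (S i) (t ⊗ₜ[R] a) x = 0 := Finsupp.notMem_support_iff.1 (Finset.mem_sdiff.1 hx).2
        rw [hκ] at h2
        rw [id_eq, ← TensorProduct.smul_tmul, h2, TensorProduct.zero_tmul]
      · rw [hκ, id_eq, TensorProduct.smul_tmul]
  rw [← hback (y i), TensorProduct.tmul_sum, Finsupp.sum_of_support_subset _
    (s := supp) (fun x hx => Finset.mem_biUnion.2 ⟨i, Finset.mem_univ _, hx⟩) _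
    (fun x _ => TensorProduct.zero_tmul _ x)]
  refine Finset.sum_congr rfl fun x _ => ?_
  rw [← TensorProduct.smul_tmul, Algebra.smul_def, hr x i, mul_one]

end Descend

end Groth.Sga3.MultType
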