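import Groth.Agent.Sga3.GroupAlg
import Groth.Agent.Sga3.MultType

/-!
Rigidity of homomorphisms from groups of multiplicative type modulo nilpotent ideals.
-/

set_option autoImplicit false

universe u

open TensorProduct WithConv

noncomputable section

namespace Groth.Sga3.MultType

open GroupAlg SGA3b

variable {R : Type u} [CommRing R]

theorem sub_mem_smul_of_tmul_eq {A : Type u} [AddCommGroup A] [Module R A] (I : Ideal R) {x y : A}
    (h : (1 : R ⧸ I) ⊗ₜ[R] x = (1 : R ⧸ I) ⊗ₜ[R] y) : x - y ∈ I • (⊤ : Submodule R A) := by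
  have h1 := congrArg (TensorProduct.quotTensorEquivQuotSMul A I) h
  rw [← map_one (Ideal.Quotient.mk I), TensorProduct.quotTensorEquivQuotSMul_mk_tmul,
    TensorProduct.quotTensorEquivQuotSMul_mk_tmul, one_smul, one_smul, Submodule.Quotient.eq] at h1
  exact h1

theorem apply_mem_map {A : Type u} [AddCommGroup A] [Module R A] {I : Ideal R} {S : Type u}
    [CommRing S] [Algebra R S] (f : A →ₗ[R] S) {x : A} (hx : x ∈ I • (⊤ : Submodule R A)) :
    f x ∈ I.map (algebraMap R S) := by
  refine Submodule.smul_induction_on hx (fun r hr a _ => ?_) fun a b ha hb => ?_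
  · rw [map_smul, Algebra.smul_def]
    exact Ideal.mul_mem_right _ _ (Ideal.mem_map_of_mem _ hr)
  · rw [map_add]; exact add_mem ha hb

variable (S : Type u) [CommRing S] [Algebra R S]

theorem cf_sub_mem {I : Ideal R} {A : Type u} [CommRing A] [Bialgebra R A] {C : Type u} [CommRing C]
    [Bialgebra R C] (φ ψ : C →ₐc[R] A) {M : Type u} [CommGroup M]
    (e : S ⊗[R] A →ₐc[S] MonoidAlgebra S M)
    (h : ∀ c, φ c - ψ c ∈ I • (⊤ : Submodule R A)) (m : M) (c : S ⊗[R] C) :
    cf m (e (mapBC S φ c)) - cf m (e (mapBC S ψ c)) ∈ I.map (algebraMap R S) := by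
  induction c using TensorProduct.induction_on with
  | zero => simp
  | tmul s c =>
    have h1 := apply_mem_map
      (((cf m).restrictScalars R ∘ₗ ((e : S ⊗[R] A →ₐ[S] MonoidAlgebra S M).toLinearMap.restrictScalars R)) ∘ₗ
        TensorProduct.mk R S A s) (h c)
    simpa [mapBC_tmul, TensorProduct.tmul_sub] using h1
  | add x y hx hy =>
    simp only [map_add]
    rw [add_sub_add_comm]
    exact add_mem hx hy

/-- the coefficients of a homomorphism, after a base change and a map into a group algebra -/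
def coeffs {A : Type u} [CommRing A] [Bialgebra R A] {C : Type u} [CommRing C] [Bialgebra R C]
    {M : Type u} [CommGroup M] (e : S ⊗[R] A →ₐc[S] MonoidAlgebra S M) (φ : C →ₐc[R] A) (m : M) :
    WithConv (S ⊗[R] C →ₗ[S] S) :=
  comp (e.comp (mapBC S φ)).toCoalgHom m

/-- homomorphisms from a group of multiplicative type, congruent modulo a nilpotent ideal, agree
when their coefficient idempotents commute after diagonalisation -/
theorem bialgHom_eq_of_sub_mem {I : Ideal R} (hI : IsNilpotent I) {A : Type u} [CommRing A]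
    [HopfAlgebra R A] (hA : IsMultType R A) {C : Type u} [CommRing C] [Bialgebra R C]
    (φ ψ : C →ₐc[R] A) (h : ∀ c, φ c - ψ c ∈ I • (⊤ : Submodule R A))
    (hc : ∀ (S : Type u) [CommRing S] [Algebra R S] (M : Type u) [CommGroup M]
      (e : S ⊗[R] A →ₐc[S] MonoidAlgebra S M) (m : M),
      Commute (coeffs S e φ m) (coeffs S e ψ m)) :
    φ = ψ := by
  refine bialgHom_ext hA fun S _ _ hS => ?_
  obtain ⟨M, _, ⟨e⟩⟩ := hS
  obtain ⟨n, hn⟩ := hI
  have hI' : IsNilpotent (I.map (algebraMap R S)) :=
    ⟨n, by rw [← Ideal.map_pow, hn]; exact Ideal.map_bot⟩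
  have h1 := coalgHom_eq hI' ((e : S ⊗[R] A →ₐc[S] MonoidAlgebra S M).comp (mapBC S φ)).toCoalgHom
    ((e : S ⊗[R] A →ₐc[S] MonoidAlgebra S M).comp (mapBC S ψ)).toCoalgHom (hc S M _)
    fun m c => cf_sub_mem S φ ψ (e : S ⊗[R] A →ₐc[S] MonoidAlgebra S M) h m c
  ext c
  exact e.injective (DFunLike.congr_fun h1 c)

/-- the unit homomorphism -/
def unit (R : Type u) [CommRing R] (C A : Type u) [CommRing C] [Bialgebra R C] [CommRing A]
    [Bialgebra R A] : C →ₐc[R] A :=
  (Bialgebra.unitBialgHom R A).comp (Bialgebra.counitBialgHom R C)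

theorem unit_apply {A C : Type u} [CommRing A] [Bialgebra R A] [CommRing C] [Bialgebra R C] (c : C) :
    unit R C A c = algebraMap R A (Coalgebra.counit c) := rfl

theorem comp_mapBC_unit {A : Type u} [CommRing A] [Bialgebra R A] {C : Type u} [CommRing C]
    [Bialgebra R C] {M : Type u} [CommGroup M] (e : S ⊗[R] A →ₐc[S] MonoidAlgebra S M) :
    e.comp (mapBC S (unit R C A)) = GroupAlg.unitHom := by
  refine BialgHom.coe_toAlgHom_injective (Algebra.TensorProduct.ext' fun s c => ?_)
  change e (s ⊗ₜ[R] algebraMap R A (Coalgebra.counit c)) =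
    algebraMap S (MonoidAlgebra S M) (Coalgebra.counit (R := S) (s ⊗ₜ[R] c))
  rw [Algebra.algebraMap_eq_smul_one (R := R), ← TensorProduct.smul_tmul,
    TensorProduct.counit_tmul, CommSemiring.counit_apply,
    ← AlgHomClass.commutes e (Coalgebra.counit c • s)]
  simp [Algebra.TensorProduct.algebraMap_apply]

end Groth.Sga3.MultType
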