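import Groth.Agent.Sga3.GroupAlgGroupLike
import Groth.Agent.Sga3.CoverDescent
import Groth.Agent.Sga3.MultTypeRigid

/-!
Group-like elements of a group of multiplicative type lift uniquely along nil ideals, and a group
of multiplicative type diagonalisable modulo a nil ideal is diagonalisable.
-/

set_option autoImplicit false

universe u

open TensorProduct Coalgebra

noncomputable section

namespace Groth.Sga3.MultType

open SGA3b GroupAlg

variable {R : Type u} [CommRing R]

theorem map_nil {I : Ideal R} (hI : ∀ x ∈ I, IsNilpotent x) (S : Type u) [CommRing S] [Algebra R S] :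
    ∀ x ∈ I.map (algebraMap R S), IsNilpotent x := by
  intro x hx
  rw [← mem_nilradical]
  refine (Ideal.map_le_iff_le_comap.2 fun r hr => ?_) hx
  exact (hI r hr).map (algebraMap R S)

variable {A : Type u} [CommRing A] [HopfAlgebra R A]

theorem isGroupLikeElem_one_tmul (S : Type u) [CommRing S] [Algebra R S] {c : A}
    (hc : IsGroupLikeElem R c) : IsGroupLikeElem S ((1 : S) ⊗ₜ[R] c) := by
  refine ⟨?_, ?_⟩
  · rw [TensorProduct.counit_tmul, hc.counit_eq_one, CommSemiring.counit_apply, one_smul]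
  · rw [TensorProduct.comul_tmul, hc.comul_eq_tmul_self, CommSemiring.comul_apply]; rfl

/-- the coefficient of a base change as a linear map on the group -/
def coeffBC (S : Type u) [CommRing S] [Algebra R S] {N : Type u} [CommGroup N]
    (e : S ⊗[R] A ≃ₐc[S] MonoidAlgebra S N) (n : N) : A →ₗ[R] S :=
  ((cf n).restrictScalars R ∘ₗ
    ((e : S ⊗[R] A ≃ₐ[S] MonoidAlgebra S N).toLinearMap.restrictScalars R)) ∘ₗ
      TensorProduct.mk R S A 1

theorem coeffBC_apply (S : Type u) [CommRing S] [Algebra R S] {N : Type u} [CommGroup N]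
    (e : S ⊗[R] A ≃ₐc[S] MonoidAlgebra S N) (n : N) (a : A) :
    coeffBC S e n a = cf n (e ((1 : S) ⊗ₜ[R] a)) := rfl

/-- `1 ⊗ a` is group-like modulo `I` -/
def IsApproxGroupLike (I : Ideal R) (a : A) : Prop :=
  IsGroupLikeElem (R ⧸ I) ((1 : R ⧸ I) ⊗ₜ[R] a)

/-- the image of an approximately group-like element in a diagonalised base change modulo `I` -/
theorem isGroupLikeElem_mod {I : Ideal R} {a : A} (ha : IsApproxGroupLike I a) (S : Type u)
    [CommRing S] [Algebra R S] {N : Type u} [CommGroup N]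
    (e : S ⊗[R] A ≃ₐc[S] MonoidAlgebra S N) :
    IsGroupLikeElem (S ⧸ I.map (algebraMap R S))
      (MonoidAlgebra.mapRingHom N (Ideal.Quotient.mk (I.map (algebraMap R S)))
        (e ((1 : S) ⊗ₜ[R] a))) := by
  let T := S ⧸ I.map (algebraMap R S)
  letI : Algebra (R ⧸ I) T := (Ideal.quotientMap (I.map (algebraMap R S)) (algebraMap R S)
    Ideal.le_comap_map).toAlgebra
  haveI : IsScalarTower R (R ⧸ I) T := IsScalarTower.of_algebraMap_eq fun r => by
    rw [RingHom.algebraMap_toAlgebra, Ideal.Quotient.algebraMap_eq, Ideal.quotientMap_mk]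
    rfl
  have h1 : IsGroupLikeElem T ((1 : T) ⊗ₜ[R ⧸ I] ((1 : R ⧸ I) ⊗ₜ[R] a)) :=
    isGroupLikeElem_one_tmul T ha
  have h2 := h1.map (cancelBC R (R ⧸ I) T A)
  have h3 := h2.map (((cancelBC R S T A).symm.trans (congrBC T e)).trans (monAlgBC S T N))
  have h4 : (cancelBC R (R ⧸ I) T A) ((1 : T) ⊗ₜ[R ⧸ I] ((1 : R ⧸ I) ⊗ₜ[R] a)) =
      (1 : T) ⊗ₜ[R] a := by
    change Algebra.TensorProduct.cancelBaseChange R (R ⧸ I) T T A _ = _
    rw [Algebra.TensorProduct.cancelBaseChange_tmul, one_smul]
  have h5 : (cancelBC R S T A).symm ((1 : T) ⊗ₜ[R] a) = (1 : T) ⊗ₜ[S] ((1 : S) ⊗ₜ[R] a) := by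
    have h5' : cancelBC R S T A ((1 : T) ⊗ₜ[S] ((1 : S) ⊗ₜ[R] a)) = (1 : T) ⊗ₜ[R] a := by
      change Algebra.TensorProduct.cancelBaseChange R S T T A _ = _
      rw [Algebra.TensorProduct.cancelBaseChange_tmul, one_smul]
    rw [← h5']
    exact (cancelBC R S T A).symm_apply_apply _
  change IsGroupLikeElem T (monAlgBC S T N (congrBC T e ((cancelBC R S T A).symm
    (cancelBC R (R ⧸ I) T A ((1 : T) ⊗ₜ[R ⧸ I] ((1 : R ⧸ I) ⊗ₜ[R] a)))))) at h3
  rw [h4, h5] at h3
  have h6 : monAlgBC S T N ((1 : T) ⊗ₜ[S] e ((1 : S) ⊗ₜ[R] a)) =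
      MonoidAlgebra.mapRingHom N (Ideal.Quotient.mk (I.map (algebraMap R S)))
        (e ((1 : S) ⊗ₜ[R] a)) := by
    change MonoidAlgebra.scalarTensorEquiv S T ((1 : T) ⊗ₜ[S] _) = _
    rw [MonoidAlgebra.scalarTensorEquiv_tmul, one_smul]
    rfl
  rw [← h6]
  exact h3

/-- congruent group-like elements in a base change which diagonalises are equal -/
theorem groupLike_eq_bc {I : Ideal R} (hI : ∀ x ∈ I, IsNilpotent x) (S : Type u) [CommRing S]
    [Algebra R S] (hS : IsDiag S (S ⊗[R] A)) {y z : S ⊗[R] A} (hy : IsGroupLikeElem S y)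
    (hz : IsGroupLikeElem S z) (h : y - z ∈ I.map (algebraMap R S) • (⊤ : Submodule S (S ⊗[R] A))) :
    y = z := by
  obtain ⟨N, _, ⟨e⟩⟩ := hS
  refine e.injective (groupLike_eq (map_nil hI S) (hy.map (e : S ⊗[R] A →ₐc[S] MonoidAlgebra S N))
    (hz.map (e : S ⊗[R] A →ₐc[S] MonoidAlgebra S N)) fun n => ?_)
  have h1 := apply_mem_map ((cf n) ∘ₗ (e : S ⊗[R] A ≃ₐ[S] MonoidAlgebra S N).toLinearMap) h
  rw [Algebra.algebraMap_self, Ideal.map_id, map_sub] at h1
  exact h1

theorem smul_top_of_one_tmul {I : Ideal R} (S : Type u) [CommRing S] [Algebra R S] {M : Type u}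
    [AddCommGroup M] [Module R M] {x : M} (hx : x ∈ I • (⊤ : Submodule R M)) (s : S) :
    s ⊗ₜ[R] x ∈ I.map (algebraMap R S) • (⊤ : Submodule S (S ⊗[R] M)) := by
  refine Submodule.smul_induction_on hx (fun r hr m _ => ?_) fun p q hp hq => ?_
  · rw [← TensorProduct.smul_tmul,
      show (r • s) ⊗ₜ[R] m = algebraMap R S r • (s ⊗ₜ[R] m) by
        rw [TensorProduct.smul_tmul', Algebra.smul_def, smul_eq_mul]]
    exact Submodule.smul_mem_smul (Ideal.mem_map_of_mem _ hr) Submodule.mem_top
  · rw [TensorProduct.tmul_add]; exact add_mem hp hq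

/-- group-like elements lift -/
theorem exists_groupLike_lift (h : IsMultType R A) {I : Ideal R} (hI : ∀ x ∈ I, IsNilpotent x)
    {a : A} (ha : IsApproxGroupLike I a) :
    ∃ g : A, IsGroupLikeElem R g ∧ g - a ∈ I • (⊤ : Submodule R A) := by
  classical
  have := projective_of_isMultType h
  obtain ⟨ι, _, S, _, _, hff, hd⟩ := exists_cover h
  have hlift : ∀ i, ∃ y : S i ⊗[R] A, IsGroupLikeElem (S i) y ∧
      y - (1 : S i) ⊗ₜ[R] a ∈ I.map (algebraMap R (S i)) • (⊤ : Submodule (S i) (S i ⊗[R] A)) := by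
    intro i
    obtain ⟨N, _, ⟨e⟩⟩ := hd i
    obtain ⟨g, hg, hgc⟩ := exists_groupLike (map_nil hI (S i)) _ (isGroupLikeElem_mod ha (S i) e)
    let el : (S i ⊗[R] A) ≃ₗ[S i] MonoidAlgebra (S i) N :=
      (e : S i ⊗[R] A ≃ₐ[S i] MonoidAlgebra (S i) N).toLinearEquiv
    refine ⟨e.symm g, hg.map (e.symm : MonoidAlgebra (S i) N →ₐc[S i] S i ⊗[R] A), ?_⟩
    have h1 : g - el ((1 : S i) ⊗ₜ[R] a) ∈
        I.map (algebraMap R (S i)) • (⊤ : Submodule (S i) (MonoidAlgebra (S i) N)) := by
      rw [← MonoidAlgebra.sum_coeff_single (g - el ((1 : S i) ⊗ₜ[R] a)), Finsupp.sum]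
      refine Submodule.sum_mem _ fun n _ => ?_
      rw [show MonoidAlgebra.single n ((g - el ((1 : S i) ⊗ₜ[R] a)).coeff n) =
        (g - el ((1 : S i) ⊗ₜ[R] a)).coeff n • MonoidAlgebra.single n (1 : S i) by simp]
      refine Submodule.smul_mem_smul ?_ Submodule.mem_top
      change cf n (g - el ((1 : S i) ⊗ₜ[R] a)) ∈ _
      rw [map_sub]
      exact hgc n
    have h2 := Submodule.mem_map_of_mem (f := el.symm.toLinearMap) h1
    rw [Submodule.map_smul'', Submodule.map_top, LinearEquiv.range, LinearEquiv.coe_coe, map_sub,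
      el.symm_apply_apply] at h2
    exact h2
  choose y hy hya using hlift
  -- compatibility on overlaps
  have hcompat : ∀ i j, TensorProduct.map
        ((Algebra.TensorProduct.includeLeft : S i →ₐ[R] S i ⊗[R] S j).toLinearMap) LinearMap.id (y i) =
      TensorProduct.map
        ((Algebra.TensorProduct.includeRight : S j →ₐ[R] S i ⊗[R] S j).toLinearMap) LinearMap.id (y j) := by
    intro i j
    let T := S i ⊗[R] S j
    have hT : IsDiag T (T ⊗[R] A) :=
      isDiag_trans (S i) T A (isDiag_baseChange T (S i ⊗[R] A) (hd i))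
    have key : ∀ (U : Type u) [CommRing U] [Algebra R U] (f : U →ₐ[R] T) (z : U ⊗[R] A),
        IsGroupLikeElem U z →
        z - (1 : U) ⊗ₜ[R] a ∈ I.map (algebraMap R U) • (⊤ : Submodule U (U ⊗[R] A)) →
        IsGroupLikeElem T (TensorProduct.map f.toLinearMap LinearMap.id z) ∧
          TensorProduct.map f.toLinearMap LinearMap.id z - (1 : T) ⊗ₜ[R] a ∈
            I.map (algebraMap R T) • (⊤ : Submodule T (T ⊗[R] A)) := by
      intro U _ _ f z hz hza
      letI : Algebra U T := f.toRingHom.toAlgebra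
      haveI : IsScalarTower R U T := IsScalarTower.of_algebraMap_eq fun r => (f.commutes r).symm
      have heq : ∀ w : U ⊗[R] A, cancelBC R U T A ((1 : T) ⊗ₜ[U] w) =
          TensorProduct.map f.toLinearMap LinearMap.id w := by
        intro w
        induction w using TensorProduct.induction_on with
        | zero => simp
        | tmul s b =>
          change Algebra.TensorProduct.cancelBaseChange R U T T A ((1 : T) ⊗ₜ[U] (s ⊗ₜ[R] b)) = _
          rw [Algebra.TensorProduct.cancelBaseChange_tmul, Algebra.smul_def, mul_one]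
          rfl
        | add p q hp hq => simp only [TensorProduct.tmul_add, map_add, hp, hq]
      refine ⟨?_, ?_⟩
      · rw [← heq]
        exact (isGroupLikeElem_one_tmul T hz).map (cancelBC R U T A)
      · rw [show (1 : T) ⊗ₜ[R] a = TensorProduct.map f.toLinearMap LinearMap.id ((1 : U) ⊗ₜ[R] a) by
          simp, ← map_sub, ← heq]
        have h1 := smul_top_of_one_tmul T hza (1 : T)
        rw [Ideal.map_map, ← IsScalarTower.algebraMap_eq] at h1
        have h2 := Submodule.mem_map_of_mem
          (f := (Algebra.TensorProduct.cancelBaseChange R U T T A).toLinearMap) h1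
        rw [Submodule.map_smul''] at h2
        exact Submodule.smul_mono le_rfl le_top h2
    obtain ⟨h1, h1'⟩ := key (S i) Algebra.TensorProduct.includeLeft (y i) (hy i) (hya i)
    obtain ⟨h2, h2'⟩ := key (S j) Algebra.TensorProduct.includeRight (y j) (hy j) (hya j)
    refine groupLike_eq_bc hI T hT h1 h2 ?_
    have := sub_mem h1' h2'
    rwa [sub_sub_sub_cancel_right] at this
  obtain ⟨g, hg⟩ := exists_descent S y hcompat
  refine ⟨g, ⟨?_, ?_⟩, ?_⟩
  · refine sub_eq_zero.1 (eq_zero_of_cover (R := R) S (M := R) fun i => ?_)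
    have h1 := (hy i).counit_eq_one
    rw [← hg i, TensorProduct.counit_tmul, CommSemiring.counit_apply] at h1
    refine (TensorProduct.rid R (S i)).injective ?_
    simp only [TensorProduct.tmul_sub, map_sub, TensorProduct.rid_tmul, map_zero, one_smul]
    rw [h1, sub_self]
  · refine sub_eq_zero.1 (eq_zero_of_cover (R := R) S (M := A ⊗[R] A) fun i => ?_)
    have h1 := (hy i).comul_eq_tmul_self
    rw [← hg i, TensorProduct.comul_tmul, CommSemiring.comul_apply] at h1
    refine (TensorProduct.AlgebraTensorModule.distribBaseChange R (S i) A A).injective ?_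
    rw [TensorProduct.tmul_sub, map_sub, map_zero,
      TensorProduct.AlgebraTensorModule.distribBaseChange_tmul, sub_eq_zero, ← h1]
    generalize comul (R := R) g = t
    induction t using TensorProduct.induction_on with
    | zero => simp
    | tmul p q => rfl
    | add p q hp hq => simp only [TensorProduct.tmul_add, map_add, hp, hq]
  · have h0 : (I • (⊤ : Submodule R A)).mkQ (g - a) = 0 := by
      refine eq_zero_of_cover (R := R) S fun i => ?_
      have h1 : (I • (⊤ : Submodule R A)).mkQ.baseChange (S i) ((1 : S i) ⊗ₜ[R] (g - a)) = 0 := by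
        rw [TensorProduct.tmul_sub, hg i]
        refine Submodule.smul_induction_on (hya i) (fun r hr m _ => ?_) fun p q hp hq => by
          rw [map_add, hp, hq, add_zero]
        rw [map_smul]
        refine Submodule.span_induction (p := fun s _ => s • _ = 0) ?_ (zero_smul _ _)
          (fun x y _ _ hx hy => by rw [add_smul, hx, hy, add_zero])
          (fun t x _ hx => by rw [smul_assoc, hx, smul_zero]) hr
        rintro _ ⟨r, hr, rfl⟩
        rw [algebraMap_smul, ← LinearMap.map_smul_of_tower]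
        induction m using TensorProduct.induction_on with
        | zero => simp
        | tmul s b =>
          rw [← TensorProduct.tmul_smul, LinearMap.baseChange_tmul, Submodule.mkQ_apply,
            (Submodule.Quotient.mk_eq_zero _).2 (Submodule.smul_mem_smul hr Submodule.mem_top),
            TensorProduct.tmul_zero]
        | add p q hp hq => rw [smul_add, map_add, hp trivial, hq trivial, add_zero]
      simpa using h1
    exact (Submodule.Quotient.mk_eq_zero _).1 h0

/-- uniqueness of lifts -/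
theorem groupLike_eq_of_sub_mem (h : IsMultType R A) {I : Ideal R} (hI : ∀ x ∈ I, IsNilpotent x)
    {g g' : A} (hg : IsGroupLikeElem R g) (hg' : IsGroupLikeElem R g')
    (hd : g - g' ∈ I • (⊤ : Submodule R A)) : g = g' := by
  refine sub_eq_zero.1 (eq_zero_of_forall h fun S _ _ hS => ?_)
  rw [TensorProduct.tmul_sub, sub_eq_zero]
  refine groupLike_eq_bc hI S hS (isGroupLikeElem_one_tmul S hg) (isGroupLikeElem_one_tmul S hg') ?_
  rw [← TensorProduct.tmul_sub]
  exact smul_top_of_one_tmul S hd 1

end Groth.Sga3.MultType
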