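import Groth.Agent.Sga3.MultType
import Mathlib.RingTheory.Idempotents
import Mathlib.RingTheory.HopfAlgebra.Convolution

/-!
Gluing Hopf algebras along a finite decomposition of the base into open-closed pieces.
-/

set_option autoImplicit false

universe u

open TensorProduct Coalgebra

noncomputable section

namespace Groth.Sga3.ProductGlue

open SGA3b MultType

variable {R : Type u} [CommRing R] {ι : Type u} [Fintype ι]
  {Rc : ι → Type u} [∀ c, CommRing (Rc c)] [∀ c, Algebra R (Rc c)]

/-- `R` is the product of the quotients `Rc`, through the idempotents `e`. -/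
structure Pieces (e : ι → R) (Rc : ι → Type u) [∀ c, CommRing (Rc c)] [∀ c, Algebra R (Rc c)] : Prop where
  coi : CompleteOrthogonalIdempotents e
  surj : ∀ c, Function.Surjective (algebraMap R (Rc c))
  ker_le : ∀ c, RingHom.ker (algebraMap R (Rc c)) ≤ Ideal.span {1 - e c}
  map_one : ∀ c, algebraMap R (Rc c) (e c) = 1

variable {e : ι → R} (h : Pieces e Rc)

include h

theorem Pieces.map_zero {c d : ι} (hcd : c ≠ d) : algebraMap R (Rc c) (e d) = 0 := by
  have h1 := congrArg (algebraMap R (Rc c)) (h.coi.ortho hcd)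
  rw [RingHom.map_mul, h.map_one, one_mul, RingHom.map_zero] at h1
  exact h1

theorem Pieces.one_tmul_smul (c : ι) {X : Type u} [AddCommGroup X] [Module R X] (x : X) :
    (1 : Rc c) ⊗ₜ[R] (e c • x) = (1 : Rc c) ⊗ₜ[R] x := by
  rw [← TensorProduct.smul_tmul, Algebra.smul_def, h.map_one, one_mul]

theorem Pieces.injective {X : Type u} [AddCommGroup X] [Module R X] {x y : X}
    (hx : ∀ c, (1 : Rc c) ⊗ₜ[R] x = (1 : Rc c) ⊗ₜ[R] y) : x = y := by
  have key : ∀ c, e c • x = e c • y := by
    intro c
    let Q := R ⧸ Ideal.span {1 - e c}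
    let q : Rc c →ₐ[R] Q :=
      { RingHom.liftOfSurjective (algebraMap R (Rc c)) (h.surj c)
          ⟨algebraMap R Q, fun r hr => by
            rw [RingHom.mem_ker, Ideal.Quotient.algebraMap_eq, Ideal.Quotient.eq_zero_iff_mem]
            exact h.ker_le c hr⟩ with
        commutes' := fun r => RingHom.liftOfRightInverse_comp_apply _ _ _ _ _ }
    have h1 := congrArg (q.toLinearMap.rTensor X) (hx c)
    rw [LinearMap.rTensor_tmul, LinearMap.rTensor_tmul, AlgHom.toLinearMap_apply, _root_.map_one] at h1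
    have h2 := congrArg (TensorProduct.quotTensorEquivQuotSMul X (Ideal.span {1 - e c})) h1
    rw [← _root_.map_one (Ideal.Quotient.mk (Ideal.span {1 - e c})),
      TensorProduct.quotTensorEquivQuotSMul_mk_tmul, TensorProduct.quotTensorEquivQuotSMul_mk_tmul,
      one_smul, one_smul, Submodule.Quotient.eq] at h2
    rw [← sub_eq_zero, ← smul_sub]
    refine Submodule.smul_induction_on h2 (fun r hr z _ => ?_) fun p p' hp hp' => by
      rw [smul_add, hp, hp', add_zero]
    obtain ⟨s, rfl⟩ := Ideal.mem_span_singleton.1 hr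
    rw [smul_smul, ← mul_assoc, mul_sub, mul_one, (h.coi.idem c).eq, sub_self, zero_mul, zero_smul]
  rw [← one_smul R x, ← one_smul R y, ← h.coi.complete, Finset.sum_smul, Finset.sum_smul]
  exact Finset.sum_congr rfl fun c _ => key c

theorem Pieces.surjective {X : Type u} [AddCommGroup X] [Module R X] (z : ∀ c, Rc c ⊗[R] X) :
    ∃ x : X, ∀ c, (1 : Rc c) ⊗ₜ[R] x = z c := by
  classical
  choose x hx using fun c => TensorProduct.mk_surjective R X (Rc c) (h.surj c) (z c)
  refine ⟨∑ d, e d • x d, fun c => ?_⟩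
  rw [TensorProduct.tmul_sum, Finset.sum_eq_single c]
  · rw [h.one_tmul_smul]; exact hx c
  · intro d _ hd
    rw [← TensorProduct.smul_tmul, Algebra.smul_def, h.map_zero (Ne.symm hd), zero_mul,
      TensorProduct.zero_tmul]
  · simp

/-- the decomposition of an algebra -/
def Pieces.decomp (X : Type u) [CommRing X] [Algebra R X] : X ≃ₐ[R] ∀ c, Rc c ⊗[R] X :=
  AlgEquiv.ofBijective
    (AlgHom.pi fun c => (Algebra.TensorProduct.includeRight : X →ₐ[R] Rc c ⊗[R] X))
    ⟨fun _ _ hxy => h.injective fun c => congrFun hxy c, fun z =>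
      (h.surjective z).imp fun _ hx => funext hx⟩

/-- Bialgebra isomorphisms over the pieces glue. -/
theorem Pieces.nonempty_bialgEquiv {X Y : Type u} [CommRing X] [HopfAlgebra R X] [CommRing Y]
    [HopfAlgebra R Y] (f : ∀ c, Rc c ⊗[R] X ≃ₐc[Rc c] Rc c ⊗[R] Y) : Nonempty (X ≃ₐc[R] Y) := by
  let ψ : X ≃ₐ[R] Y := ((h.decomp X).trans
    (AlgEquiv.piCongrRight fun c => (f c : Rc c ⊗[R] X ≃ₐ[Rc c] Rc c ⊗[R] Y).restrictScalars R)).trans
      (h.decomp Y).symm
  have hψ : ∀ x c, (1 : Rc c) ⊗ₜ[R] ψ x = f c ((1 : Rc c) ⊗ₜ x) := fun x c =>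
    congrFun ((h.decomp Y).apply_symm_apply
      (fun c => f c ((1 : Rc c) ⊗ₜ[R] x))) c
  refine ⟨BialgEquiv.ofAlgEquiv ψ (AlgHom.ext fun x => ?_) (AlgHom.ext fun x => ?_)⟩
  · refine h.injective fun c => ?_
    change (1 : Rc c) ⊗ₜ[R] counit (R := R) (ψ x) = (1 : Rc c) ⊗ₜ[R] counit (R := R) x
    refine (Algebra.TensorProduct.rid R R (Rc c)).injective ?_
    have h1 := CoalgHomClass.counit_comp_apply (f c) ((1 : Rc c) ⊗ₜ[R] x)
    rw [← hψ, TensorProduct.counit_tmul, TensorProduct.counit_tmul, CommSemiring.counit_apply] at h1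
    rw [Algebra.TensorProduct.rid_tmul, Algebra.TensorProduct.rid_tmul]
    exact h1
  · refine h.injective fun c => ?_
    change (1 : Rc c) ⊗ₜ[R] Algebra.TensorProduct.map (ψ : X →ₐ[R] Y) (ψ : X →ₐ[R] Y) (comul (R := R) x) =
      (1 : Rc c) ⊗ₜ[R] comul (R := R) (ψ x)
    refine (TensorProduct.AlgebraTensorModule.distribBaseChange R (Rc c) Y Y).injective ?_
    have hd : ∀ (X' : Type u) [CommRing X'] [HopfAlgebra R X'] (a : X'),
        TensorProduct.AlgebraTensorModule.distribBaseChange R (Rc c) X' X'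
          ((1 : Rc c) ⊗ₜ[R] comul (R := R) a) = comul (R := Rc c) ((1 : Rc c) ⊗ₜ[R] a) := by
      intro X' _ _ a
      rw [TensorProduct.comul_tmul, CommSemiring.comul_apply]
      generalize comul (R := R) a = t
      induction t using TensorProduct.induction_on with
      | zero => simp
      | tmul p q => rfl
      | add p q hp hq => simp only [TensorProduct.tmul_add, map_add, hp, hq]
    rw [hd Y, hψ, ← CoalgHomClass.map_comp_comul_apply, ← hd X]
    generalize comul (R := R) x = t
    induction t using TensorProduct.induction_on with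
    | zero => simp
    | add p q hp hq => simp only [TensorProduct.tmul_add, map_add, hp, hq]
    | tmul p q =>
      rw [Algebra.TensorProduct.map_tmul, TensorProduct.AlgebraTensorModule.distribBaseChange_tmul,
        TensorProduct.AlgebraTensorModule.distribBaseChange_tmul, TensorProduct.map_tmul,
        show (ψ : X →ₐ[R] Y) p = ψ p from rfl, show (ψ : X →ₐ[R] Y) q = ψ q from rfl, hψ, hψ]
      rfl

/-- A group of constant type on every piece is diagonalisable. -/
theorem Pieces.isDiag {X : Type u} [CommRing X] [HopfAlgebra R X] (M : Type u) [CommGroup M]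
    (f : ∀ c, Nonempty (Rc c ⊗[R] X ≃ₐc[Rc c] MonoidAlgebra (Rc c) M)) : IsDiag R X := by
  obtain ⟨g⟩ := h.nonempty_bialgEquiv (X := X) (Y := MonoidAlgebra R M)
    fun c => (f c).some.trans (monAlgBC R (Rc c) M).symm
  exact ⟨M, _, ⟨g⟩⟩

omit h

section Construct

variable (A : ι → Type u) [∀ c, CommRing (A c)] [∀ c, Algebra R (A c)] [∀ c, HopfAlgebra (Rc c) (A c)]
  [∀ c, IsScalarTower R (Rc c) (A c)]

/-- the projection -/
def μhom (c : ι) : Rc c ⊗[R] (∀ c, A c) →ₐ[Rc c] A c :=
  Algebra.TensorProduct.lift (Algebra.ofId (Rc c) (A c)) (Pi.evalAlgHom R A c) fun _ _ => Commute.all _ _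

theorem μhom_tmul (c : ι) (r : Rc c) (a : ∀ c, A c) : μhom (R := R) A c (r ⊗ₜ a) = r • a c := by
  rw [μhom, Algebra.TensorProduct.lift_tmul, Algebra.smul_def]
  rfl

include h

theorem Pieces.bijective_μhom (c : ι) : Function.Bijective (μhom (R := R) (Rc := Rc) A c) := by
  classical
  refine ⟨(injective_iff_map_eq_zero _).2 fun z hz => ?_, fun a => ⟨1 ⊗ₜ Pi.single c a, ?_⟩⟩
  · obtain ⟨x, rfl⟩ := TensorProduct.mk_surjective R (∀ c, A c) (Rc c) (h.surj c) z
    simp only [TensorProduct.mk_apply] at hz ⊢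
    rw [μhom_tmul, one_smul] at hz
    rw [← h.one_tmul_smul c x, show e c • x = 0 from funext fun d => ?_, TensorProduct.tmul_zero]
    rw [Pi.smul_apply, Pi.zero_apply]
    rcases eq_or_ne d c with rfl | hd
    · rw [hz, smul_zero]
    · rw [← algebraMap_smul (Rc d), h.map_zero hd, zero_smul]
  · rw [μhom_tmul, one_smul, Pi.single_eq_same]

/-- each factor is the base change of the product -/
def Pieces.μ (c : ι) : Rc c ⊗[R] (∀ c, A c) ≃ₐ[Rc c] A c :=
  AlgEquiv.ofBijective (μhom A c) (h.bijective_μhom A c)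

theorem Pieces.μ_tmul (c : ι) (r : Rc c) (a : ∀ c, A c) : h.μ A c (r ⊗ₜ a) = r • a c :=
  μhom_tmul A c r a

omit h

/-- `A ⊗ A → A c ⊗ A c` -/
def p2 (c : ι) : (∀ c, A c) ⊗[R] (∀ c, A c) →ₐ[R] A c ⊗[Rc c] A c :=
  Algebra.TensorProduct.lift
    ((Algebra.TensorProduct.includeLeft : A c →ₐ[R] A c ⊗[Rc c] A c).comp (Pi.evalAlgHom R A c))
    (((Algebra.TensorProduct.includeRight : A c →ₐ[Rc c] A c ⊗[Rc c] A c).restrictScalars R).comp
      (Pi.evalAlgHom R A c))
    fun _ _ => mul_comm (G := A c ⊗[Rc c] A c) _ _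

theorem p2_tmul (c : ι) (a b : ∀ c, A c) :
    p2 (R := R) (Rc := Rc) A c (a ⊗ₜ b) = a c ⊗ₜ[Rc c] b c := by
  simp [p2]

/-- `A ⊗ A ⊗ A → A c ⊗ A c ⊗ A c` -/
def p3 (c : ι) : (∀ c, A c) ⊗[R] ((∀ c, A c) ⊗[R] (∀ c, A c)) →ₐ[R]
    A c ⊗[Rc c] (A c ⊗[Rc c] A c) :=
  Algebra.TensorProduct.lift
    ((Algebra.TensorProduct.includeLeft : A c →ₐ[R] A c ⊗[Rc c] (A c ⊗[Rc c] A c)).comp
      (Pi.evalAlgHom R A c))
    (((Algebra.TensorProduct.includeRight :
      A c ⊗[Rc c] A c →ₐ[Rc c] A c ⊗[Rc c] (A c ⊗[Rc c] A c)).restrictScalars R).comp (p2 A c))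
    fun _ _ => mul_comm (G := A c ⊗[Rc c] (A c ⊗[Rc c] A c)) _ _

theorem p3_tmul (c : ι) (a : ∀ c, A c) (z : (∀ c, A c) ⊗[R] (∀ c, A c)) :
    p3 (R := R) (Rc := Rc) A c (a ⊗ₜ z) = a c ⊗ₜ[Rc c] p2 A c z := by
  simp [p3]

include h

/-- `Rc ⊗ (A ⊗ A) = A c ⊗ A c` -/
def Pieces.E2 (c : ι) : Rc c ⊗[R] ((∀ c, A c) ⊗[R] (∀ c, A c)) ≃ₗ[Rc c] A c ⊗[Rc c] A c :=
  (TensorProduct.AlgebraTensorModule.distribBaseChange R (Rc c) (∀ c, A c) (∀ c, A c)).trans
    (TensorProduct.congr (h.μ A c).toLinearEquiv (h.μ A c).toLinearEquiv)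

theorem Pieces.E2_one (c : ι) (z : (∀ c, A c) ⊗[R] (∀ c, A c)) :
    h.E2 A c ((1 : Rc c) ⊗ₜ z) = p2 A c z := by
  induction z using TensorProduct.induction_on with
  | zero => simp
  | add a b ha hb => simp only [TensorProduct.tmul_add, map_add, ha, hb]
  | tmul a b =>
    rw [p2_tmul, Pieces.E2, LinearEquiv.trans_apply,
      TensorProduct.AlgebraTensorModule.distribBaseChange_tmul, TensorProduct.congr_tmul]
    change h.μ A c _ ⊗ₜ[Rc c] h.μ A c _ = _
    rw [h.μ_tmul, h.μ_tmul, one_smul, one_smul]

theorem Pieces.p3_injective {x y : (∀ c, A c) ⊗[R] ((∀ c, A c) ⊗[R] (∀ c, A c))}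
    (hxy : ∀ c, p3 (Rc := Rc) A c x = p3 A c y) : x = y := by
  refine h.injective fun c => ?_
  let E3 := (TensorProduct.AlgebraTensorModule.distribBaseChange R (Rc c) (∀ c, A c)
    ((∀ c, A c) ⊗[R] (∀ c, A c))).trans (TensorProduct.congr (h.μ A c).toLinearEquiv (h.E2 A c))
  have hE : ∀ z, E3 ((1 : Rc c) ⊗ₜ z) = p3 A c z := by
    intro z
    induction z using TensorProduct.induction_on with
    | zero => simp
    | add a b ha hb => simp only [TensorProduct.tmul_add, map_add, ha, hb]
    | tmul a w =>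
      rw [p3_tmul, LinearEquiv.trans_apply, TensorProduct.AlgebraTensorModule.distribBaseChange_tmul,
        TensorProduct.congr_tmul, h.E2_one]
      change h.μ A c _ ⊗ₜ[Rc c] _ = _
      rw [h.μ_tmul, one_smul]
  exact E3.injective (by rw [hE, hE, hxy c])

/-- `A ⊗ A = ∏ A c ⊗ A c` -/
def Pieces.P2 : (∀ c, A c) ⊗[R] (∀ c, A c) ≃ₐ[R] ∀ c, A c ⊗[Rc c] A c :=
  AlgEquiv.ofBijective (AlgHom.pi fun c => p2 A c)
    ⟨fun x y hxy => h.injective fun c => (h.E2 A c).injective <| by
        rw [h.E2_one, h.E2_one]; exact congrFun hxy c,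
      fun z => by
        obtain ⟨x, hx⟩ := h.surjective fun c => (h.E2 A c).symm (z c)
        refine ⟨x, funext fun c => ?_⟩
        change p2 A c x = z c
        rw [← h.E2_one, hx c, LinearEquiv.apply_symm_apply]⟩

theorem Pieces.bijective_base : Function.Bijective (AlgHom.pi fun c => Algebra.ofId R (Rc c)) := by
  refine ⟨fun x y hxy => h.injective fun c => ?_, fun z => ?_⟩
  · refine (Algebra.TensorProduct.rid R R (Rc c)).injective ?_
    rw [Algebra.TensorProduct.rid_tmul, Algebra.TensorProduct.rid_tmul,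
      ← Algebra.algebraMap_eq_smul_one, ← Algebra.algebraMap_eq_smul_one]
    exact congrFun hxy c
  · obtain ⟨r, hr⟩ := h.surjective fun c => (Algebra.TensorProduct.rid R R (Rc c)).symm (z c)
    refine ⟨r, funext fun c => ?_⟩
    have h1 := congrArg (Algebra.TensorProduct.rid R R (Rc c)) (hr c)
    rw [Algebra.TensorProduct.rid_tmul, AlgEquiv.apply_symm_apply, ← Algebra.algebraMap_eq_smul_one] at h1
    exact h1

/-- comultiplication -/
def Pieces.comulA : (∀ c, A c) →ₐ[R] (∀ c, A c) ⊗[R] (∀ c, A c) :=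
  (h.P2 A).symm.toAlgHom.comp
    (AlgHom.pi fun c => ((Bialgebra.comulAlgHom (Rc c) (A c)).restrictScalars R).comp (Pi.evalAlgHom R A c))

theorem Pieces.p2_comulA (a : ∀ c, A c) (c : ι) :
    p2 A c (h.comulA A a) = comul (R := Rc c) (a c) :=
  congrFun ((h.P2 A).apply_symm_apply (fun c => comul (R := Rc c) (a c))) c

/-- the counit -/
def Pieces.counitA : (∀ c, A c) →ₐ[R] R :=
  (AlgEquiv.ofBijective _ h.bijective_base).symm.toAlgHom.comp
    (AlgHom.pi fun c => ((Bialgebra.counitAlgHom (Rc c) (A c)).restrictScalars R).comp (Pi.evalAlgHom R A c))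

theorem Pieces.algebraMap_counitA (a : ∀ c, A c) (c : ι) :
    algebraMap R (Rc c) (h.counitA A a) = counit (R := Rc c) (a c) :=
  congrFun ((AlgEquiv.ofBijective _ h.bijective_base).apply_symm_apply
    (fun c => counit (R := Rc c) (a c))) c

omit h

/-- the antipode -/
def antipodeA : (∀ c, A c) →ₐ[R] ∀ c, A c :=
  AlgHom.pi fun c => ((HopfAlgebra.antipodeAlgHom (Rc c) (A c)).restrictScalars R).comp (Pi.evalAlgHom R A c)

include h

/-- The bialgebra structure of the product. -/
@[reducible] def Pieces.bialgebra : Bialgebra R (∀ c, A c) :=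
  Bialgebra.ofAlgHom (h.comulA A) (h.counitA A)
    (by
      refine AlgHom.ext fun a => h.p3_injective A fun i => ?_
      have hh := LinearMap.congr_fun (Coalgebra.coassoc (R := Rc i) (A := A i)) (a i)
      simp only [LinearMap.comp_apply, LinearEquiv.coe_coe] at hh
      rw [← h.p2_comulA A a i] at hh
      refine Eq.trans ?_ (hh.trans ?_) <;>
        simp only [AlgHom.comp_apply] <;>
        generalize h.comulA A a = z <;>
        induction z using TensorProduct.induction_on with
        | zero => simp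
        | add p q hp hq => simp only [map_add, hp, hq]
        | tmul p q => ?_
      · rw [p2_tmul, LinearMap.rTensor_tmul, ← h.p2_comulA A p i, Algebra.TensorProduct.map_tmul]
        generalize h.comulA A p = w
        induction w using TensorProduct.induction_on with
        | zero => simp
        | tmul x y => simp [p3_tmul, p2_tmul]
        | add x y hx hy => simp only [map_add, TensorProduct.add_tmul, hx, hy]
      · rw [p2_tmul, LinearMap.lTensor_tmul, ← h.p2_comulA A q i, Algebra.TensorProduct.map_tmul,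
          p3_tmul]
        rfl)
    (by
      refine AlgHom.ext fun a => (Algebra.TensorProduct.lid R _).injective (funext fun i => ?_)
      have hh := congrArg (TensorProduct.lid (Rc i) (A i))
        (Coalgebra.rTensor_counit_comul (R := Rc i) (a i))
      rw [← h.p2_comulA A a i] at hh
      refine Eq.trans ?_ (hh.trans ?_)
      · simp only [AlgHom.comp_apply]
        generalize h.comulA A a = z
        induction z using TensorProduct.induction_on with
        | zero => simp
        | add p q hp hq => simp only [map_add, Pi.add_apply, hp, hq]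
        | tmul p q =>
          rw [p2_tmul, LinearMap.rTensor_tmul, Algebra.TensorProduct.map_tmul,
            TensorProduct.lid_tmul, Algebra.TensorProduct.lid_tmul, ← h.algebraMap_counitA,
            algebraMap_smul]
          rfl
      · simp)
    (by
      refine AlgHom.ext fun a => (Algebra.TensorProduct.rid R R _).injective (funext fun i => ?_)
      have hh := congrArg (TensorProduct.rid (Rc i) (A i))
        (Coalgebra.lTensor_counit_comul (R := Rc i) (a i))
      rw [← h.p2_comulA A a i] at hh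
      refine Eq.trans ?_ (hh.trans ?_)
      · simp only [AlgHom.comp_apply]
        generalize h.comulA A a = z
        induction z using TensorProduct.induction_on with
        | zero => simp
        | add p q hp hq => simp only [map_add, Pi.add_apply, hp, hq]
        | tmul p q =>
          rw [p2_tmul, LinearMap.lTensor_tmul, Algebra.TensorProduct.map_tmul,
            TensorProduct.rid_tmul, Algebra.TensorProduct.rid_tmul, ← h.algebraMap_counitA,
            algebraMap_smul]
          rfl
      · simp)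

/-- The Hopf algebra structure of the product. -/
@[reducible] def Pieces.hopfAlgebra : HopfAlgebra R (∀ c, A c) :=
  letI := h.bialgebra A
  { h.bialgebra A with
    antipode := (antipodeA (R := R) (Rc := Rc) A).toLinearMap
    mul_antipode_rTensor_comul := by
      refine LinearMap.ext fun a => funext fun i => ?_
      have hh := HopfAlgebra.mul_antipode_rTensor_comul_apply (R := Rc i) (a i)
      rw [← h.p2_comulA A a i] at hh
      refine Eq.trans ?_ (hh.trans ?_)
      · change ((LinearMap.mul' R (∀ c, A c))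
          ((antipodeA (R := R) (Rc := Rc) A).toLinearMap.rTensor (∀ c, A c) (h.comulA A a))) i = _
        generalize h.comulA A a = z
        induction z using TensorProduct.induction_on with
        | zero => simp
        | add p q hp hq => simp only [map_add, Pi.add_apply, hp, hq]
        | tmul p q =>
          rw [p2_tmul, LinearMap.rTensor_tmul, LinearMap.rTensor_tmul, LinearMap.mul'_apply,
            LinearMap.mul'_apply]
          rfl
      · change _ = algebraMap R (∀ c, A c) (h.counitA A a) i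
        rw [Pi.algebraMap_apply, IsScalarTower.algebraMap_apply R (Rc i) (A i), h.algebraMap_counitA]
    mul_antipode_lTensor_comul := by
      refine LinearMap.ext fun a => funext fun i => ?_
      have hh := HopfAlgebra.mul_antipode_lTensor_comul_apply (R := Rc i) (a i)
      rw [← h.p2_comulA A a i] at hh
      refine Eq.trans ?_ (hh.trans ?_)
      · change ((LinearMap.mul' R (∀ c, A c))
          ((antipodeA (R := R) (Rc := Rc) A).toLinearMap.lTensor (∀ c, A c) (h.comulA A a))) i = _
        generalize h.comulA A a = z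
        induction z using TensorProduct.induction_on with
        | zero => simp
        | add p q hp hq => simp only [map_add, Pi.add_apply, hp, hq]
        | tmul p q =>
          rw [p2_tmul, LinearMap.lTensor_tmul, LinearMap.lTensor_tmul, LinearMap.mul'_apply,
            LinearMap.mul'_apply]
          rfl
      · change _ = algebraMap R (∀ c, A c) (h.counitA A a) i
        rw [Pi.algebraMap_apply, IsScalarTower.algebraMap_apply R (Rc i) (A i), h.algebraMap_counitA] }

/-- Hopf algebras over the pieces glue to one over the base. -/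
theorem Pieces.exists_hopf : ∃ (B : Type u) (_ : CommRing B) (_ : HopfAlgebra R B),
    ∀ c, Nonempty (Rc c ⊗[R] B ≃ₐc[Rc c] A c) := by
  letI := h.hopfAlgebra A
  refine ⟨∀ c, A c, inferInstance, h.hopfAlgebra A, fun c => ⟨BialgEquiv.ofAlgEquiv (h.μ A c)
    (Algebra.TensorProduct.ext (by ext) (AlgHom.ext fun a => ?_))
    (Algebra.TensorProduct.ext (by ext) (AlgHom.ext fun a => ?_))⟩⟩
  · change counit (R := Rc c) (h.μ A c ((1 : Rc c) ⊗ₜ a)) = counit (R := Rc c) ((1 : Rc c) ⊗ₜ[R] a)
    rw [h.μ_tmul, one_smul, TensorProduct.counit_tmul, ← h.algebraMap_counitA A a c,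
      CommSemiring.counit_apply, Algebra.smul_def, mul_one]
    rfl
  · change Algebra.TensorProduct.map (h.μ A c : Rc c ⊗[R] (∀ c, A c) →ₐ[Rc c] A c)
      (h.μ A c : Rc c ⊗[R] (∀ c, A c) →ₐ[Rc c] A c) (comul (R := Rc c) ((1 : Rc c) ⊗ₜ[R] a)) =
        comul (R := Rc c) (h.μ A c ((1 : Rc c) ⊗ₜ a))
    rw [h.μ_tmul, one_smul, ← h.p2_comulA A a c, TensorProduct.comul_tmul, CommSemiring.comul_apply,
      show comul (R := R) a = h.comulA A a from rfl]
    generalize h.comulA A a = z
    induction z using TensorProduct.induction_on with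
    | zero => simp
    | add p q hp hq => simp only [TensorProduct.tmul_add, map_add, hp, hq]
    | tmul p q => simp [p2_tmul, h.μ_tmul]

end Construct

end Groth.Sga3.ProductGlue
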