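import Groth.Agent.Sga3.MultType

/-!
The kernels of the power maps on a diagonalisable group, and their base change.
-/

set_option autoImplicit false

universe u

open TensorProduct WithConv Coalgebra

noncomputable section

namespace Groth.Sga3.MultType

open SGA3b

variable {R : Type u} [CommRing R]

theorem powConv_zero (A : Type u) [CommRing A] [HopfAlgebra R A] (a : A) :
    powConv R A 0 a = algebraMap R A (counit a) := rfl

theorem powConv_succ (A : Type u) [CommRing A] [HopfAlgebra R A] (n : ℕ) (a : A) :
    powConv R A (n + 1) a =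
      Algebra.TensorProduct.lmul' R (Algebra.TensorProduct.map (powConv R A n) (AlgHom.id R A)
        (Bialgebra.comulAlgHom R A a)) := by
  rw [powConv, pow_succ, AlgHom.convMul_def]
  rfl

theorem map_powConv {A B : Type u} [CommRing A] [HopfAlgebra R A] [CommRing B] [HopfAlgebra R B]
    (f : A →ₐc[R] B) (n : ℕ) (a : A) : f (powConv R A n a) = powConv R B n (f a) := by
  induction n generalizing a with
  | zero => rw [powConv_zero, powConv_zero, AlgHomClass.commutes, CoalgHomClass.counit_comp_apply]
  | succ n ih =>
    rw [powConv_succ, powConv_succ]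
    have h : Bialgebra.comulAlgHom R B (f a) =
        TensorProduct.map (f : A →ₗ[R] B) (f : A →ₗ[R] B) (Bialgebra.comulAlgHom R A a) :=
      (CoalgHomClass.map_comp_comul_apply f a).symm
    rw [h]
    generalize Bialgebra.comulAlgHom R A a = t
    induction t using TensorProduct.induction_on with
    | zero => simp
    | tmul x y => simp [ih]
    | add x y hx hy => simp only [map_add, hx, hy]

theorem powConv_monoidAlgebra {M : Type u} [CommGroup M] (n : ℕ) (m : M) :
    powConv R (MonoidAlgebra R M) n (MonoidAlgebra.single m 1) = MonoidAlgebra.single (m ^ n) 1 := by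
  induction n with
  | zero => simp [powConv_zero, MonoidAlgebra.one_def]
  | succ n ih =>
    rw [powConv_succ, Bialgebra.comulAlgHom_apply,
      (MonoidAlgebra.isGroupLikeElem_single_one m).comul_eq_tmul_self,
      Algebra.TensorProduct.map_tmul, Algebra.TensorProduct.lmul'_apply_tmul, ih, AlgHom.id_apply,
      MonoidAlgebra.single_mul_single, pow_succ, one_mul]

theorem map_torsionIdeal {A B : Type u} [CommRing A] [HopfAlgebra R A] [CommRing B] [HopfAlgebra R B]
    (e : A ≃ₐc[R] B) (n : ℕ) :
    (torsionIdeal R A n).map (e : A →ₐc[R] B) = torsionIdeal R B n := by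
  have hk : (RingHom.ker (Bialgebra.counitAlgHom R A)).map (e : A →ₐc[R] B) =
      RingHom.ker (Bialgebra.counitAlgHom R B) := by
    refine le_antisymm (Ideal.map_le_iff_le_comap.2 fun a ha => ?_) fun b hb => ?_
    · simp only [Ideal.mem_comap, RingHom.mem_ker, Bialgebra.counitAlgHom_apply] at ha ⊢
      rwa [CoalgHomClass.counit_comp_apply]
    · obtain ⟨a, rfl⟩ := e.surjective b
      refine Ideal.mem_map_of_mem _ ?_
      simp only [RingHom.mem_ker, Bialgebra.counitAlgHom_apply] at hb ⊢
      exact (CoalgHomClass.counit_comp_apply e a).symm.trans hb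
  rw [torsionIdeal, torsionIdeal, ← hk]
  simp only [Ideal.map, Ideal.span]
  refine le_antisymm (Ideal.span_le.2 ?_) (Ideal.span_le.2 ?_)
  · rintro _ ⟨x, hx, rfl⟩
    change _ ∈ Ideal.span _
    induction hx using Submodule.span_induction with
    | mem x hx =>
      obtain ⟨y, hy, rfl⟩ := hx
      exact Ideal.subset_span ⟨e y, Ideal.subset_span ⟨y, hy, rfl⟩,
        (map_powConv (e : A →ₐc[R] B) n y).symm⟩
    | zero => rw [map_zero]; exact zero_mem _
    | add p q _ _ hp hq => rw [map_add]; exact add_mem hp hq
    | smul c p _ hp => rw [smul_eq_mul, map_mul]; exact Ideal.mul_mem_left _ _ hp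
  · rintro _ ⟨x, hx, rfl⟩
    change _ ∈ Ideal.span _
    induction hx using Submodule.span_induction with
    | mem x hx =>
      obtain ⟨y, hy, rfl⟩ := hx
      exact Ideal.subset_span ⟨powConv R A n y, Ideal.subset_span ⟨y, hy, rfl⟩,
        map_powConv (e : A →ₐc[R] B) n y⟩
    | zero => rw [map_zero]; exact zero_mem _
    | add p q _ _ hp hq => rw [map_add]; exact add_mem hp hq
    | smul c p _ hp => rw [smul_eq_mul, map_mul]; exact Ideal.mul_mem_left _ _ hp

section BaseChange

variable (S : Type u) [CommRing S] [Algebra R S] (A : Type u) [CommRing A] [HopfAlgebra R A]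

theorem powConv_tmul (n : ℕ) (s : S) (a : A) :
    powConv S (S ⊗[R] A) n (s ⊗ₜ a) = s ⊗ₜ powConv R A n a := by
  induction n generalizing s a with
  | zero =>
    rw [powConv_zero, powConv_zero, TensorProduct.counit_tmul, CommSemiring.counit_apply,
      Algebra.algebraMap_eq_smul_one (R := R), ← TensorProduct.smul_tmul]
    simp [Algebra.TensorProduct.algebraMap_apply]
  | succ n ih =>
    rw [powConv_succ, powConv_succ, Bialgebra.comulAlgHom_apply, Bialgebra.comulAlgHom_apply,
      TensorProduct.comul_tmul, CommSemiring.comul_apply]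
    generalize comul (R := R) a = t
    induction t using TensorProduct.induction_on with
    | zero => simp
    | tmul x y => simp [ih]
    | add x y hx hy => simp only [TensorProduct.tmul_add, map_add, hx, hy]

theorem ker_counit_baseChange :
    RingHom.ker (Bialgebra.counitAlgHom S (S ⊗[R] A)) =
      (RingHom.ker (Bialgebra.counitAlgHom R A)).map
        (Algebra.TensorProduct.includeRight : A →ₐ[R] S ⊗[R] A) := by
  refine le_antisymm (fun z hz => ?_) (Ideal.map_le_iff_le_comap.2 fun a ha => ?_)
  · let I := (RingHom.ker (Bialgebra.counitAlgHom R A)).map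
      (Algebra.TensorProduct.includeRight : A →ₐ[R] S ⊗[R] A)
    have key : ∀ z : S ⊗[R] A, z - algebraMap S _ (counit z) ∈ I := by
      intro z
      induction z using TensorProduct.induction_on with
      | zero => simp
      | tmul s a =>
        have h1 : s ⊗ₜ[R] a - algebraMap S (S ⊗[R] A) (counit (s ⊗ₜ[R] a)) =
            (s ⊗ₜ[R] (1 : A)) * ((1 : S) ⊗ₜ[R] (a - algebraMap R A (counit a))) := by
          rw [Algebra.TensorProduct.tmul_mul_tmul, mul_one, one_mul, TensorProduct.tmul_sub,
            Algebra.algebraMap_eq_smul_one (R := R), ← TensorProduct.smul_tmul]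
          simp [Algebra.TensorProduct.algebraMap_apply]
        rw [h1]
        exact Ideal.mul_mem_left _ _ (Ideal.mem_map_of_mem
          (Algebra.TensorProduct.includeRight : A →ₐ[R] S ⊗[R] A) (by simp [RingHom.mem_ker]))
      | add x y hx hy =>
        rw [map_add, map_add, add_sub_add_comm]
        exact add_mem hx hy
    simp only [RingHom.mem_ker, Bialgebra.counitAlgHom_apply] at hz
    simpa [hz] using key z
  · simp only [Ideal.mem_comap, RingHom.mem_ker, Bialgebra.counitAlgHom_apply] at ha ⊢
    simp [ha]

theorem torsionIdeal_baseChange (n : ℕ) :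
    torsionIdeal S (S ⊗[R] A) n = (torsionIdeal R A n).map
      (Algebra.TensorProduct.includeRight : A →ₐ[R] S ⊗[R] A) := by
  rw [torsionIdeal, torsionIdeal, ker_counit_baseChange]
  refine le_antisymm (Ideal.map_le_iff_le_comap.2 (Ideal.map_le_iff_le_comap.2 fun a ha => ?_))
    (Ideal.map_le_iff_le_comap.2 (Ideal.map_le_iff_le_comap.2 fun a ha => ?_))
  · simp only [Ideal.mem_comap, Algebra.TensorProduct.includeRight_apply, powConv_tmul]
    exact Ideal.mem_map_of_mem (Algebra.TensorProduct.includeRight : A →ₐ[R] S ⊗[R] A)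
      (Ideal.mem_map_of_mem _ ha)
  · simp only [Ideal.mem_comap, Algebra.TensorProduct.includeRight_apply, ← powConv_tmul]
    exact Ideal.mem_map_of_mem _ (Ideal.mem_map_of_mem
      (Algebra.TensorProduct.includeRight : A →ₐ[R] S ⊗[R] A) ha)

end BaseChange

section GroupAlgebra

variable (M : Type u) [CommGroup M]

theorem ker_mapDomain (N : Subgroup M) :
    RingHom.ker (MonoidAlgebra.mapDomainBialgHom R (QuotientGroup.mk' N)) =
      Ideal.span ((fun m => MonoidAlgebra.single m (1 : R) - 1) '' (N : Set M)) := by
  classical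
  refine le_antisymm (fun x hx => ?_) (Ideal.span_le.2 ?_)
  · let σ : MonoidAlgebra R (M ⧸ N) →ₗ[R] MonoidAlgebra R M :=
      (MonoidAlgebra.coeffLinearEquiv R).symm.toLinearMap ∘ₗ Finsupp.lmapDomain R R Quotient.out ∘ₗ
        (MonoidAlgebra.coeffLinearEquiv R).toLinearMap
    have hσ : ∀ (q : M ⧸ N) (r : R),
        σ (MonoidAlgebra.single q r) = MonoidAlgebra.single q.out r := by
      intro q r; ext; simp [σ]
    have key : ∀ x, x - σ (MonoidAlgebra.mapDomainBialgHom R (QuotientGroup.mk' N) x) ∈
        Ideal.span ((fun m => MonoidAlgebra.single m (1 : R) - 1) '' (N : Set M)) := by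
      intro x
      induction x using MonoidAlgebra.induction_linear with
      | zero => simp
      | add p q hp hq => rw [map_add, map_add, add_sub_add_comm]; exact add_mem hp hq
      | single m r =>
        rw [MonoidAlgebra.mapDomainBialgHom_single, hσ]
        have h1 : MonoidAlgebra.single m r - MonoidAlgebra.single (QuotientGroup.mk' N m).out r =
            MonoidAlgebra.single (QuotientGroup.mk' N m).out r *
              (MonoidAlgebra.single ((QuotientGroup.mk' N m).out⁻¹ * m) 1 - 1) := by
          rw [mul_sub, mul_one, MonoidAlgebra.single_mul_single, mul_inv_cancel_left, mul_one]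
        rw [h1]
        exact Ideal.mul_mem_left _ _ (Ideal.subset_span ⟨_, QuotientGroup.eq.1 (by simp), rfl⟩)
    have := key x
    rwa [RingHom.mem_ker.1 hx, map_zero, sub_zero] at this
  · rintro _ ⟨m, hm, rfl⟩
    rw [SetLike.mem_coe, RingHom.mem_ker, map_sub, map_one, MonoidAlgebra.mapDomainBialgHom_single,
      QuotientGroup.mk'_apply, (QuotientGroup.eq_one_iff m).2 hm, MonoidAlgebra.one_def, sub_self]

theorem torsionIdeal_monoidAlgebra (n : ℕ) :
    torsionIdeal R (MonoidAlgebra R M) n =
      RingHom.ker (MonoidAlgebra.mapDomainBialgHom R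
        (QuotientGroup.mk' (powMonoidHom (α := M) n).range)) := by
  rw [ker_mapDomain]
  refine le_antisymm (Ideal.map_le_iff_le_comap.2 fun x hx => ?_) (Ideal.span_le.2 ?_)
  · have key : ∀ x : MonoidAlgebra R M, powConv R (MonoidAlgebra R M) n x -
        algebraMap R _ (counit x) ∈ Ideal.span ((fun m => MonoidAlgebra.single m (1 : R) - 1) ''
          ((powMonoidHom (α := M) n).range : Set M)) := by
      intro x
      induction x using MonoidAlgebra.induction_linear with
      | zero => simp
      | add p q hp hq => rw [map_add, map_add, map_add, add_sub_add_comm]; exact add_mem hp hq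
      | single m r =>
        rw [show MonoidAlgebra.single m r = r • MonoidAlgebra.single m (1 : R) by simp, map_smul,
          map_smul, powConv_monoidAlgebra,
          (MonoidAlgebra.isGroupLikeElem_single_one m).counit_eq_one, smul_eq_mul, mul_one,
          Algebra.algebraMap_eq_smul_one, ← smul_sub]
        exact Submodule.smul_of_tower_mem _ r (Ideal.subset_span ⟨m ^ n, ⟨m, rfl⟩, rfl⟩)
    have := key x
    rw [RingHom.mem_ker, Bialgebra.counitAlgHom_apply] at hx
    rw [hx, map_zero, sub_zero] at this
    exact this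
  · rintro _ ⟨_, ⟨m, rfl⟩, rfl⟩
    have h1 : powConv R (MonoidAlgebra R M) n (MonoidAlgebra.single m 1 - 1) =
        MonoidAlgebra.single (m ^ n) 1 - 1 := by rw [map_sub, map_one, powConv_monoidAlgebra]
    change MonoidAlgebra.single (m ^ n) (1 : R) - 1 ∈ torsionIdeal R (MonoidAlgebra R M) n
    rw [← h1]
    exact Ideal.mem_map_of_mem _
      (by simp [RingHom.mem_ker, (MonoidAlgebra.isGroupLikeElem_single_one m).counit_eq_one])

theorem torsionIdeal_monoidAlgebra_eq_bot_iff [Nontrivial R] (n : ℕ) :
    torsionIdeal R (MonoidAlgebra R M) n = ⊥ ↔ ∀ m : M, m ^ n = 1 := by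
  rw [torsionIdeal_monoidAlgebra, ker_mapDomain, Ideal.span_eq_bot]
  refine ⟨fun h m => ?_, ?_⟩
  · have := sub_eq_zero.1 (h _ ⟨m ^ n, ⟨m, rfl⟩, rfl⟩)
    exact MonoidAlgebra.single_left_injective one_ne_zero (this.trans MonoidAlgebra.one_def)
  · rintro h _ ⟨_, ⟨m, rfl⟩, rfl⟩
    simp [h m, MonoidAlgebra.one_def]

end GroupAlgebra

/-- A surjective image of a diagonalisable Hopf algebra with kernel the ideal of the `n`-th power
kernel is diagonalisable. -/
theorem isDiag_of_ker_eq_torsionIdeal {A B : Type u} [CommRing A] [HopfAlgebra R A] [CommRing B]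
    [HopfAlgebra R B] {M : Type u} [CommGroup M] (e : A ≃ₐc[R] MonoidAlgebra R M) (n : ℕ)
    (ψ : A →ₐc[R] B) (hψ : Function.Surjective ψ) (hker : RingHom.ker ψ = torsionIdeal R A n) :
    Nonempty (B ≃ₐc[R] MonoidAlgebra R (M ⧸ (powMonoidHom (α := M) n).range)) := by
  let N := (powMonoidHom (α := M) n).range
  let ψ' : MonoidAlgebra R M →ₐc[R] B := ψ.comp (e.symm : MonoidAlgebra R M →ₐc[R] A)
  have hker' : RingHom.ker ψ' = torsionIdeal R (MonoidAlgebra R M) n := by
    rw [← map_torsionIdeal e, ← hker]
    ext x
    rw [RingHom.mem_ker]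
    constructor
    · intro hx
      have h1 := Ideal.mem_map_of_mem (e : A →ₐc[R] MonoidAlgebra R M)
        (RingHom.mem_ker.2 hx : (e.symm : MonoidAlgebra R M →ₐc[R] A) x ∈ RingHom.ker ψ)
      rwa [show (e : A →ₐc[R] MonoidAlgebra R M) ((e.symm : MonoidAlgebra R M →ₐc[R] A) x) = x
        from e.apply_symm_apply x] at h1
    · intro hx
      induction hx using Submodule.span_induction with
      | mem z hz =>
        obtain ⟨a, ha, rfl⟩ := hz
        change ψ (e.symm (e a)) = 0
        rw [e.symm_apply_apply]
        exact ha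
      | zero => exact map_zero _
      | add p q _ _ hp hq => rw [map_add, hp, hq, add_zero]
      | smul c p _ hp => rw [smul_eq_mul, map_mul, hp, mul_zero]
  let g : M →* GroupLike R B :=
    { toFun := fun m => ⟨ψ' (MonoidAlgebra.single m 1),
        (MonoidAlgebra.isGroupLikeElem_single_one m).map ψ'⟩
      map_one' := GroupLike.val_injective <| by simp [← MonoidAlgebra.one_def]
      map_mul' := fun a b => GroupLike.val_injective <| by
        simp [← map_mul, MonoidAlgebra.single_mul_single] }
  have hN : N ≤ g.ker := by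
    intro m hm
    refine GroupLike.val_injective ?_
    change ψ' (MonoidAlgebra.single m 1) = 1
    have h1 : MonoidAlgebra.single m (1 : R) - 1 ∈ RingHom.ker ψ' := by
      rw [hker', torsionIdeal_monoidAlgebra, ker_mapDomain]
      exact Ideal.subset_span ⟨m, hm, rfl⟩
    rwa [RingHom.mem_ker, map_sub, map_one, sub_eq_zero] at h1
  let F : MonoidAlgebra R (M ⧸ N) →ₐc[R] B :=
    MonoidAlgebra.liftGroupLikeBialgHom.comp
      (MonoidAlgebra.mapDomainBialgHom R (QuotientGroup.lift N g hN))
  have hF : ∀ x, F (MonoidAlgebra.mapDomainBialgHom R (QuotientGroup.mk' N) x) = ψ' x := by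
    intro x
    induction x using MonoidAlgebra.induction_linear with
    | zero => simp
    | add p q hp hq => simp only [map_add, hp, hq]
    | single m r =>
      rw [show MonoidAlgebra.single m r = r • MonoidAlgebra.single m (1 : R) by simp, map_smul,
        map_smul, map_smul]
      simp [F, g, MonoidAlgebra.liftGroupLikeBialgHom]
  have hsurj : Function.Surjective (MonoidAlgebra.mapDomainBialgHom R (QuotientGroup.mk' N)) := by
    intro y
    induction y using MonoidAlgebra.induction_linear with
    | zero => exact ⟨0, map_zero _⟩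
    | add p q hp hq =>
      obtain ⟨a, rfl⟩ := hp; obtain ⟨b, rfl⟩ := hq
      exact ⟨a + b, map_add _ _ _⟩
    | single q r =>
      obtain ⟨m, rfl⟩ := QuotientGroup.mk'_surjective N q
      exact ⟨MonoidAlgebra.single m r, MonoidAlgebra.mapDomainBialgHom_single ..⟩
  refine ⟨(BialgEquiv.ofBijective F ⟨(injective_iff_map_eq_zero F).2 fun y hy => ?_, fun b => ?_⟩).symm⟩
  · obtain ⟨x, rfl⟩ := hsurj y
    rw [hF] at hy
    have : x ∈ RingHom.ker ψ' := hy
    rwa [hker', torsionIdeal_monoidAlgebra, RingHom.mem_ker] at this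
  · obtain ⟨a, rfl⟩ := hψ b
    exact ⟨_, (hF (e a)).trans (congrArg ψ (e.symm_apply_apply a))⟩

theorem group_fg_of_finiteType [Nontrivial R] {A : Type u} [CommRing A] [HopfAlgebra R A]
    (h : Algebra.FiniteType R A) {M : Type u} [CommGroup M] (e : A ≃ₐc[R] MonoidAlgebra R M) :
    Group.FG M :=
  MonoidAlgebra.finiteType_iff_group_fg.1
    (h.equiv (e : A ≃ₐ[R] MonoidAlgebra R M))

end Groth.Sga3.MultType
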