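import Groth.Agent.Sga3.CoverDescent
import Groth.Agent.Sga3.ProductGlue
import Groth.Agent.Sga3.NilLift
import Groth.Agent.Sga3.TorsionIdeal
import Groth.Agent.Sga3.MultTypeModule
import Groth.Agent.Hopf.CharGroup
import Mathlib.RingTheory.TotallySplit
import Mathlib.RingTheory.Etale.Descent
import Mathlib.RingTheory.Etale.Pi
import Mathlib.RingTheory.Flat.Rank
import Mathlib.RingTheory.Finiteness.Projective
import Mathlib.RingTheory.Etale.Kaehler

/-!
Finite groups of multiplicative type: their dual is étale, and over a connected base they are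
isotrivial.
-/

set_option autoImplicit false

universe u

open TensorProduct Coalgebra WithConv

noncomputable section

namespace Groth.Sga3.FiniteMultType

open SGA3b MultType
open CartDual (D)
open Groth.ComodLib (bcFun bcFun_tmul bcFun_mul bcFun_one bcFun_add bcFun_smul)

section DualBasis

/-- A finite projective module has a finite dual basis. -/
theorem exists_dualBasis (R : Type u) [CommRing R] (A : Type u) [AddCommGroup A] [Module R A]
    [Module.Finite R A] [Module.Projective R A] :
    ∃ (n : ℕ) (a : Fin n → A) (x : Fin n → A →ₗ[R] R), ∀ b : A, ∑ j, x j b • a j = b := by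
  classical
  obtain ⟨n, f, hf⟩ := Module.Finite.exists_fin' R A
  obtain ⟨g, hg⟩ := Module.projective_lifting_property f LinearMap.id hf
  refine ⟨n, fun j => f (Pi.single j 1), fun j => LinearMap.proj j ∘ₗ g, fun b => ?_⟩
  have h1 : ∑ j, (g b j) • f (Pi.single j 1) = f (g b) := by
    conv_rhs => rw [pi_eq_sum_univ' (g b)]
    rw [map_sum]
    exact Finset.sum_congr rfl fun j _ => (map_smul f _ _).symm
  exact h1.trans (LinearMap.congr_fun hg b)

end DualBasis

section DualBC

variable {R : Type u} [CommRing R] {A : Type u} [CommRing A] [HopfAlgebra R A]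
  [Coalgebra.IsCocomm R A] (S : Type u) [CommRing S] [Algebra R S]

/-- base change of functionals, as an algebra map -/
def bcHomD : D R A →ₐ[R] D S (S ⊗[R] A) :=
  AlgHom.ofLinearMap
    { toFun := fun x => bcFun S x
      map_add' := fun x y => bcFun_add S x y
      map_smul' := fun c x => bcFun_smul S c x }
    (bcFun_one S) (fun x y => bcFun_mul S x y)

omit [Coalgebra.IsCocomm R A] in
/-- scalars act on the dual of a base change through the base -/
instance instTowerDual : IsScalarTower R S (D S (S ⊗[R] A)) :=
  ⟨fun r s f => WithConv.ofConv_injective (smul_assoc r s f.ofConv)⟩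

/-- the comparison of the dual of a base change with the base change of the dual -/
def β : S ⊗[R] D R A →ₐ[S] D S (S ⊗[R] A) :=
  Algebra.TensorProduct.lift (Algebra.ofId S _) (bcHomD S) fun _ _ => mul_comm _ _

theorem β_tmul (s : S) (x : D R A) : β S (s ⊗ₜ x) = s • bcFun S x := by
  change algebraMap S (D S (S ⊗[R] A)) s * bcFun S x = _
  rw [Algebra.smul_def]

theorem β_bijective [Module.Finite R A] [Module.Projective R A] :
    Function.Bijective (β (R := R) (A := A) S) := by
  classical
  obtain ⟨n, a, x, hax⟩ := exists_dualBasis R A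
  have hz : ∀ z : S ⊗[R] A, ∑ j, (bcFun S (toConv (x j))).ofConv z • ((1 : S) ⊗ₜ[R] a j) = z := by
    intro z
    induction z using TensorProduct.induction_on with
    | zero => simp
    | add u v hu hv => simp only [map_add, add_smul, Finset.sum_add_distrib, hu, hv]
    | tmul s b =>
      conv_rhs => rw [← hax b, TensorProduct.tmul_sum]
      refine Finset.sum_congr rfl fun j _ => ?_
      rw [bcFun_tmul, TensorProduct.tmul_smul, TensorProduct.smul_tmul', smul_eq_mul, mul_one,
        TensorProduct.smul_tmul']
  have hw : ∀ w : S ⊗[R] D R A,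
      ∑ j, (β S w).ofConv ((1 : S) ⊗ₜ[R] a j) ⊗ₜ[R] toConv (x j) = w := by
    intro w
    induction w using TensorProduct.induction_on with
    | zero => simp
    | add u v hu hv =>
      conv_rhs => rw [← hu, ← hv]
      rw [← Finset.sum_add_distrib]
      refine Finset.sum_congr rfl fun j _ => ?_
      rw [← TensorProduct.add_tmul, map_add]
      rfl
    | tmul s y =>
      have hy : ∑ j, y.ofConv (a j) • toConv (x j) = y := by
        apply WithConv.ofConv_injective
        refine LinearMap.ext fun b => ?_
        conv_rhs => rw [← hax b, map_sum]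
        rw [WithConv.ofConv_sum, LinearMap.coe_sum, Finset.sum_apply]
        refine Finset.sum_congr rfl fun j _ => ?_
        simp [mul_comm]
      conv_rhs => rw [← hy, TensorProduct.tmul_sum]
      refine Finset.sum_congr rfl fun j _ => ?_
      rw [β_tmul, TensorProduct.tmul_smul, TensorProduct.smul_tmul']
      congr 1
      simp [bcFun_tmul, mul_comm, Algebra.algebraMap_eq_smul_one]
  refine ⟨fun u v huv => by rw [← hw u, ← hw v, huv], fun φ => ?_⟩
  refine ⟨∑ j, φ.ofConv ((1 : S) ⊗ₜ[R] a j) ⊗ₜ[R] toConv (x j), WithConv.ofConv_injective ?_⟩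
  refine LinearMap.ext fun z => ?_
  conv_rhs => rw [← hz z, map_sum]
  rw [map_sum, WithConv.ofConv_sum, LinearMap.coe_sum, Finset.sum_apply]
  refine Finset.sum_congr rfl fun j _ => ?_
  rw [β_tmul]
  simp [mul_comm]

/-- the dual of a base change -/
def dualBC [Module.Finite R A] [Module.Projective R A] :
    S ⊗[R] D R A ≃ₐ[S] D S (S ⊗[R] A) :=
  AlgEquiv.ofBijective (β S) (β_bijective S)

end DualBC

section Split

variable {T : Type u} [CommRing T] {A : Type u} [CommRing A] [HopfAlgebra T A]
  [Coalgebra.IsCocomm T A]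

/-- The dual of a diagonalisable finite group is split. -/
theorem etale_dual_of_isDiag [Module.Finite T A] (h : IsDiag T A) : Algebra.Etale T (D T A) := by
  classical
  obtain ⟨M, _, ⟨e⟩⟩ := h
  rcases subsingleton_or_nontrivial T with hT | hT
  · haveI : Subsingleton (D T A) := (algebraMap T (D T A)).codomain_trivial
    haveI : Algebra.IsFiniteSplit T (D T A) := Algebra.IsFiniteSplit.of_subsingleton
    infer_instance
  haveI : Module.Finite T (MonoidAlgebra T M) :=
    Module.Finite.equiv (e : A ≃ₐ[T] MonoidAlgebra T M).toLinearEquiv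
  haveI : Finite M := Module.Finite.finite_basis
    (Module.Basis.ofRepr (MonoidAlgebra.coeffLinearEquiv T) : Module.Basis M T (MonoidAlgebra T M))
  let g : M → A := fun m => e.symm (MonoidAlgebra.single m 1)
  have hg : ∀ m, IsGroupLikeElem T (g m) := fun m =>
    (MonoidAlgebra.isGroupLikeElem_single_one m).map (e.symm : MonoidAlgebra T M →ₐc[T] A)
  let Φ : D T A →ₐ[T] (M → T) := AlgHom.ofLinearMap
    { toFun := fun φ m => φ.ofConv (g m)
      map_add' := fun _ _ => rfl
      map_smul' := fun _ _ => rfl }
    (funext fun m => by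
      change (1 : WithConv (A →ₗ[T] T)) (g m) = 1
      rw [LinearMap.convOne_apply, (hg m).counit_eq_one, map_one])
    (fun φ ψ => funext fun m => by
      change (φ * ψ) (g m) = φ (g m) * ψ (g m)
      rw [LinearMap.convMul_apply, (hg m).comul_eq_tmul_self]
      simp)
  let b : Module.Basis M T A :=
    (Module.Basis.ofRepr (MonoidAlgebra.coeffLinearEquiv T) : Module.Basis M T (MonoidAlgebra T M)).map
      (e.symm : MonoidAlgebra T M ≃ₐ[T] A).toLinearEquiv
  have hb : ∀ m, b m = g m := fun m => by
    simp [b, g]
  have hΦ : Function.Bijective Φ := by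
    constructor
    · intro φ ψ h
      refine WithConv.ofConv_injective (b.ext fun m => ?_)
      rw [hb]
      exact congrFun h m
    · intro f
      refine ⟨toConv (b.constr T f), funext fun m => ?_⟩
      change b.constr T f (g m) = f m
      rw [← hb, Module.Basis.constr_basis]
  exact Algebra.Etale.of_equiv (AlgEquiv.ofBijective Φ hΦ).symm

/-- A split dual gives a diagonalisation after inverting an idempotent. -/
theorem exists_diag_of_split [Module.Finite T A] [Module.Projective T A] [Nontrivial T] {n : ℕ}
    (e : D T A ≃ₐ[T] (Fin n → T)) :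
    ∃ (T' : Type u) (_ : CommRing T') (_ : Algebra T T'), Algebra.Etale T T' ∧ Module.Finite T T' ∧
      Nontrivial T' ∧ IsDiag T' (T' ⊗[T] A) := by
  classical
  obtain ⟨N, b, y, hby⟩ := exists_dualBasis T A
  let π : Fin n → D T A →ₐ[T] T := fun i => (Pi.evalAlgHom T (fun _ : Fin n => T) i).comp e.toAlgHom
  let g : Fin n → A := fun i => ∑ j, π i (toConv (y j)) • b j
  let η : Fin n → D T A := fun i => e.symm (Pi.single i 1)
  have hφg : ∀ (φ : D T A) i, φ.ofConv (g i) = π i φ := by
    intro φ i
    have hφ : ∑ j, φ.ofConv (b j) • toConv (y j) = φ := by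
      apply WithConv.ofConv_injective
      refine LinearMap.ext fun c => ?_
      conv_rhs => rw [← hby c, map_sum]
      rw [WithConv.ofConv_sum, LinearMap.coe_sum, Finset.sum_apply]
      exact Finset.sum_congr rfl fun j _ => by simp [mul_comm]
    conv_rhs => rw [← hφ, map_sum]
    rw [map_sum]
    exact Finset.sum_congr rfl fun j _ => by rw [map_smul, map_smul, smul_eq_mul, smul_eq_mul, mul_comm]
  have hgl : ∀ i, IsGroupLikeElem T (g i) := fun i => by
    rw [ComodLib.isGroupLikeElem_iff_eval]
    exact ⟨(hφg 1 i).trans (map_one (π i)), fun φ ψ => by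
      rw [show (φ * ψ) (g i) = π i (φ * ψ) from hφg _ i, show φ (g i) = π i φ from hφg φ i,
        show ψ (g i) = π i ψ from hφg ψ i, map_mul]⟩
  have hηg : ∀ k i, (η k).ofConv (g i) = if i = k then 1 else 0 := fun k i => by
    rw [hφg]
    simp [π, η, Pi.single_apply]
  have hsum : ∀ φ : D T A, φ = ∑ i, π i φ • η i := fun φ => by
    apply e.injective
    rw [map_sum]
    funext k
    simp [π, η, Finset.sum_apply, Pi.single_apply]
  have hexp : ∀ c : A, ∑ i, (η i).ofConv c • g i = c := fun c => by
    conv_rhs => rw [← hby c]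
    have key : ∀ φ : D T A, φ.ofConv (∑ i, (η i).ofConv c • g i) = φ.ofConv c := by
      intro φ
      conv_rhs => rw [hsum φ]
      rw [WithConv.ofConv_sum, LinearMap.coe_sum, Finset.sum_apply, map_sum]
      exact Finset.sum_congr rfl fun i _ => by simp [hφg, mul_comm]
    rw [← hby (∑ i, (η i).ofConv c • g i)]
    exact Finset.sum_congr rfl fun j _ => congrArg (· • b j) (key (toConv (y j)))
  let bA : Module.Basis (Fin n) T A := Module.Basis.ofEquivFun
    { toFun := fun c i => (η i).ofConv c
      invFun := fun f => ∑ i, f i • g i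
      left_inv := hexp
      right_inv := fun f => funext fun k => by
        simp [map_sum, map_smul, hηg]
      map_add' := fun c d => funext fun i => map_add _ c d
      map_smul' := fun t c => funext fun i => map_smul _ t c }
  have hbA : ∀ i, bA i = g i := fun i => by
    simp [bA, Pi.single_apply]
  -- coefficients of products
  let c : (Option (Fin n × Fin n)) → Fin n → T := fun o l =>
    match o with
    | none => (η l).ofConv 1
    | some (i, j) => (η l).ofConv (g i * g j)
  have hidem : ∀ o l, IsIdempotentElem (c o l) ∧ (∀ l', l ≠ l' → c o l * c o l' = 0) ∧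
      ∑ l, c o l = 1 := by
    intro o l
    let u : A := match o with
      | none => 1
      | some (i, j) => g i * g j
    have hu : IsGroupLikeElem T u := by
      rcases o with _ | ⟨i, j⟩
      · exact IsGroupLikeElem.one
      · exact (hgl i).mul (hgl j)
    have hc : ∀ l, c o l = (η l).ofConv u := by
      intro l
      rcases o with _ | ⟨i, j⟩ <;> rfl
    have hmul : ∀ φ ψ : D T A, (φ * ψ).ofConv u = φ.ofConv u * ψ.ofConv u :=
      ((ComodLib.isGroupLikeElem_iff_eval u).1 hu).2
    refine ⟨?_, fun l' hl => ?_, ?_⟩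
    · rw [IsIdempotentElem, hc, ← hmul]
      congr 2
      rw [← map_mul, ← Pi.single_mul, one_mul]
    · rw [hc, hc, ← hmul, ← map_mul, show (Pi.single l (1 : T) : Fin n → T) * Pi.single l' 1 = 0 from
        funext fun k => by
          rcases eq_or_ne k l with rfl | hk
          · simp [hl]
          · simp [hk], map_zero]
      rfl
    · simp only [hc]
      rw [← LinearMap.sum_apply, ← WithConv.ofConv_sum, ← map_sum,
        show (∑ l, (Pi.single l (1 : T) : Fin n → T)) = 1 from Finset.univ_sum_single 1, map_one]
      exact ((ComodLib.isGroupLikeElem_iff_eval u).1 hu).1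
  -- a piece of the base where the products are single group-like elements
  obtain ⟨P, hP⟩ := Ideal.exists_maximal T
  have hchoose : ∀ o, ∃ l, c o l ∉ P := by
    intro o
    by_contra! hall
    rcases n with _ | n
    · have h0 : (1 : D T A) = 0 := e.injective (funext fun i => i.elim0)
      have := congrArg (fun φ : D T A => φ.ofConv 1) h0
      simp at this
    · exact hP.ne_top ((Ideal.eq_top_iff_one _).2
        ((hidem o 0).2.2 ▸ sum_mem fun l _ => hall l))
  choose L hL using hchoose
  let ε : T := ∏ o, c o (L o)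
  have hε : IsIdempotentElem ε := by
    rw [IsIdempotentElem, ← Finset.prod_mul_distrib]
    exact Finset.prod_congr rfl fun o _ => (hidem o (L o)).1
  have hεP : ε ∉ P := fun h => by
    obtain ⟨o, -, ho⟩ := (hP.isPrime.prod_mem_iff).1 h
    exact hL o ho
  let T' := T ⧸ Ideal.span {1 - ε}
  haveI : IsLocalization.Away ε T' :=
    IsLocalization.away_of_isIdempotentElem hε Ideal.mk_ker Ideal.Quotient.mk_surjective
  haveI : Algebra.Etale T T' := Algebra.Etale.of_isLocalizationAway ε
  haveI : Nontrivial T' := by
    refine Ideal.Quotient.nontrivial_iff.2 fun htop => ?_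
    obtain ⟨a, ha⟩ := Ideal.mem_span_singleton'.1 (htop ▸ Submodule.mem_top : (1 : T) ∈ Ideal.span {1 - ε})
    exact hεP (by rw [show ε = ε * 1 from (mul_one ε).symm, ← ha,
      show ε * (a * (1 - ε)) = a * (ε * (1 - ε)) by ring, hε.mul_one_sub_self, mul_zero]; exact P.zero_mem)
  refine ⟨T', inferInstance, inferInstance, inferInstance, inferInstance, inferInstance, ?_⟩
  have hfac : ∀ o l, algebraMap T T' (c o l) = if l = L o then 1 else 0 := by
    intro o l
    have h1 : algebraMap T T' (c o (L o)) = 1 := by
      have hu : IsUnit (algebraMap T T' (c o (L o))) := isUnit_of_dvd_unit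
        (map_dvd (algebraMap T T') (Finset.dvd_prod_of_mem (fun o => c o (L o)) (Finset.mem_univ o)))
        (IsLocalization.Away.algebraMap_isUnit (S := T') ε)
      exact hu.mul_left_cancel (((hidem o (L o)).1.map (algebraMap T T')).eq.trans (mul_one _).symm)
    split_ifs with hl
    · rw [hl, h1]
    · rw [← mul_one (algebraMap T T' (c o l)), ← h1, ← map_mul, (hidem o l).2.1 _ hl, map_zero]
  let A' := T' ⊗[T] A
  let G : Fin n → GroupLike T' A' := fun i => ⟨(1 : T') ⊗ₜ g i, isGroupLikeElem_one_tmul T' (hgl i)⟩
  have hG : ∀ o, (1 : T') ⊗ₜ[T] (match o with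
      | none => (1 : A)
      | some (i, j) => g i * g j) = (1 : T') ⊗ₜ[T] g (L o) := by
    intro o
    generalize hu : (match o with | none => (1 : A) | some (i, j) => g i * g j) = u
    have hc : ∀ l, c o l = (η l).ofConv u := by
      intro l
      rw [← hu]
      rcases o with _ | ⟨i, j⟩ <;> rfl
    rw [← hexp u, TensorProduct.tmul_sum, Finset.sum_eq_single (L o)]
    · rw [← TensorProduct.smul_tmul, Algebra.smul_def, ← hc, hfac, if_pos rfl, one_mul]
    · intro l _ hl
      rw [← TensorProduct.smul_tmul, Algebra.smul_def, ← hc, hfac, if_neg hl, zero_mul,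
        TensorProduct.zero_tmul]
    · simp
  let S : Submonoid (GroupLike T' A') :=
    { carrier := Set.range G
      one_mem' := ⟨L none, GroupLike.val_injective (hG none).symm⟩
      mul_mem' := by
        rintro _ _ ⟨i, rfl⟩ ⟨j, rfl⟩
        refine ⟨L (some (i, j)), GroupLike.val_injective ?_⟩
        change (1 : T') ⊗ₜ[T] g (L (some (i, j))) = ((1 : T') ⊗ₜ[T] g i) * ((1 : T') ⊗ₜ[T] g j)
        rw [Algebra.TensorProduct.tmul_mul_tmul, one_mul]
        exact (hG (some (i, j))).symm }
  have hinv : ∀ x ∈ S, x⁻¹ ∈ S := by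
    intro x hx
    haveI : Finite S := (Set.finite_range G).to_subtype
    have hf : IsOfFinOrder x := by
      refine finite_powers.1 (Set.Finite.subset (Set.finite_range G) ?_)
      rintro _ ⟨k, rfl⟩
      exact S.pow_mem hx k
    obtain ⟨k, hk, hkx⟩ := isOfFinOrder_iff_pow_eq_one.1 hf
    have hxx : x * x ^ (k - 1) = 1 :=
      (pow_succ' x (k - 1)).symm.trans (by rw [Nat.sub_add_cancel hk]; exact hkx)
    rw [show x⁻¹ = x ^ (k - 1) from left_inv_eq_right_inv (inv_mul_cancel x) hxx]
    exact S.pow_mem hx _
  let M : Subgroup (GroupLike T' A') := { S with inv_mem' := fun {x} hx => hinv x hx }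
  let f : MonoidAlgebra T' M →ₐ[T'] A' :=
    MonoidAlgebra.lift T' A' M ((GroupLike.valMonoidHom T' A').comp M.subtype)
  have hf : ∀ m : M, f (MonoidAlgebra.single m 1) = (m.1 : A') := fun m => by simp [f]
  let F : MonoidAlgebra T' M →ₐc[T'] A' := BialgHom.ofAlgHom f
    (MonoidAlgebra.algHom_ext (fun m => by simp [hf, m.1.2.counit_eq_one]) (Subsingleton.elim _ _))
    (MonoidAlgebra.algHom_ext (fun m => by simp [hf, m.1.2.comul_eq_tmul_self]) (Subsingleton.elim _ _))
  let bA' := Algebra.TensorProduct.basis T' bA
  have hbA' : ∀ i, bA' i = (1 : T') ⊗ₜ[T] g i := fun i => by simp [bA', hbA]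
  have hGinj : Function.Injective G := fun i j h => bA'.injective (by
    rw [hbA', hbA']; exact congrArg GroupLike.val h)
  have hmem : ∀ i, G i ∈ M := fun i => ⟨i, rfl⟩
  have hGbij : Function.Bijective (fun i => (⟨G i, hmem i⟩ : M)) := by
    refine ⟨fun i j h => hGinj (congrArg Subtype.val h), fun m => ?_⟩
    obtain ⟨i, hi⟩ := m.2
    exact ⟨i, Subtype.ext hi⟩
  let σ : Fin n ≃ M := Equiv.ofBijective _ hGbij
  let bM : Module.Basis M T' (MonoidAlgebra T' M) :=
    Module.Basis.ofRepr (MonoidAlgebra.coeffLinearEquiv T')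
  have hlin : f.toLinearMap = (bM.equiv bA' σ.symm).toLinearMap := by
    refine bM.ext fun m => ?_
    obtain ⟨i, rfl⟩ := σ.surjective m
    rw [LinearEquiv.coe_coe, Module.Basis.equiv_apply, Equiv.symm_apply_apply, hbA']
    change f (bM (σ i)) = _
    rw [show bM (σ i) = MonoidAlgebra.single (σ i) (1 : T') from rfl, hf]
    rfl
  have hbij : Function.Bijective f := by
    change Function.Bijective f.toLinearMap
    rw [hlin]
    exact (bM.equiv bA' σ.symm).bijective
  exact ⟨M, inferInstance, ⟨(BialgEquiv.ofBijective F hbij).symm⟩⟩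

end Split

section Main

variable {R : Type u} [CommRing R] {A : Type u} [CommRing A] [HopfAlgebra R A]

/-- A finite commutative group with étale dual over a connected base is isotrivial. -/
theorem isIsotrivial_of_etale [ConnectedSpace (PrimeSpectrum R)] [Coalgebra.IsCocomm R A]
    [Module.Finite R A] [Module.Projective R A] [Algebra.Etale R (D R A)] : IsIsotrivial R A := by
  haveI : Nontrivial R := PrimeSpectrum.nonempty_iff_nontrivial.1 inferInstance
  obtain ⟨p₀⟩ : Nonempty (PrimeSpectrum R) := inferInstance
  haveI : Module.FinitePresentation R (D R A) := Module.finitePresentation_of_projective R _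
  let r := Module.rankAtStalk (R := R) (D R A) p₀
  have hrk : Module.rankAtStalk (R := R) (D R A) = r := funext fun p =>
    (Module.isLocallyConstant_rankAtStalk (R := R) (M := D R A)).apply_eq_of_preconnectedSpace p p₀
  obtain ⟨T, _, _, hffT, hfinT, hetT, hsplit⟩ := Algebra.IsFiniteSplit.exists_tensorProduct_of_etale hrk
  haveI : Nontrivial T := (RingHom.FaithfullyFlat.injective
    (RingHom.faithfullyFlat_algebraMap_iff.2 hffT)).nontrivial
  obtain ⟨n, ⟨e⟩⟩ := hsplit.nonempty_algEquiv_fun
  obtain ⟨T', _, _, het', hfin', hnt', hd⟩ :=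
    exists_diag_of_split (T := T) (A := T ⊗[R] A) ((dualBC (R := R) (A := A) T).symm.trans e)
  letI : Algebra R T' := ((algebraMap T T').comp (algebraMap R T)).toAlgebra
  haveI : IsScalarTower R T T' := IsScalarTower.of_algebraMap_eq' rfl
  haveI : Algebra.Etale R T' := Algebra.Etale.comp R T T'
  haveI : Module.Finite R T' := Module.Finite.trans T T'
  haveI : Module.FinitePresentation R T' := Module.FinitePresentation.of_finite_of_finitePresentation R T'
  refine ⟨T', inferInstance, inferInstance, inferInstance, inferInstance, ?_, isDiag_trans T T' A hd⟩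
  refine Module.FaithfullyFlat.of_comap_surjective ?_
  rw [← PrimeSpectrum.rankAtStalk_pos_iff_comap_surjective]
  obtain ⟨q⟩ : Nonempty (PrimeSpectrum T') := inferInstance
  intro p
  rw [(Module.isLocallyConstant_rankAtStalk (R := R) (M := T')).apply_eq_of_preconnectedSpace p
    (PrimeSpectrum.comap (algebraMap R T') q), PrimeSpectrum.rankAtStalk_pos_iff_mem_range_comap]
  exact ⟨q, rfl⟩

/-- A group of multiplicative type is commutative. -/
theorem isCocomm_of_isMultType (h : IsMultType R A) : Coalgebra.IsCocomm R A := by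
  refine ⟨LinearMap.ext fun a => sub_eq_zero.1 (eq_zero_of_forall h fun S _ _ hS => ?_)⟩
  obtain ⟨M, _, ⟨e⟩⟩ := hS
  rw [TensorProduct.tmul_sub, sub_eq_zero]
  let Z : S ⊗[R] (A ⊗[R] A) →ₗ[R] (S ⊗[R] A) ⊗[S] (S ⊗[R] A) :=
    ((TensorProduct.AlgebraTensorModule.tensorTensorTensorComm R S R S S S A A).toLinearMap.restrictScalars R) ∘ₗ
      ((TensorProduct.lid S S).symm.toLinearMap.restrictScalars R).rTensor (A ⊗[R] A)
  have hZinj : Function.Injective Z := by
    intro u v huv
    have h1 := (TensorProduct.AlgebraTensorModule.tensorTensorTensorComm R S R S S S A A).injective huv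
    exact ((TensorProduct.lid S S).symm.restrictScalars R).rTensor (A ⊗[R] A) |>.injective h1
  refine hZinj ?_
  have hcomul : Z ((1 : S) ⊗ₜ[R] comul (R := R) a) = comul (R := S) ((1 : S) ⊗ₜ[R] a) := by
    rw [TensorProduct.comul_tmul, CommSemiring.comul_apply]
    simp [Z, TensorProduct.lid_symm_apply]
  have hcomm : ∀ z : A ⊗[R] A, Z ((1 : S) ⊗ₜ[R] TensorProduct.comm R A A z) =
      TensorProduct.comm S (S ⊗[R] A) (S ⊗[R] A) (Z ((1 : S) ⊗ₜ[R] z)) := by
    intro z
    induction z using TensorProduct.induction_on with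
    | zero => simp
    | add u v hu hv => simp only [map_add, TensorProduct.tmul_add, hu, hv]
    | tmul u v => simp [Z, TensorProduct.lid_symm_apply]
  change Z ((1 : S) ⊗ₜ[R] TensorProduct.comm R A A (comul (R := R) a)) = Z ((1 : S) ⊗ₜ[R] comul (R := R) a)
  rw [hcomm, hcomul]
  -- the base change is cocommutative
  let ec : S ⊗[R] A →ₗc[S] MonoidAlgebra S M := (e : S ⊗[R] A →ₗc[S] MonoidAlgebra S M)
  apply (TensorProduct.congr (e : S ⊗[R] A ≃ₐ[S] MonoidAlgebra S M).toLinearEquiv
    (e : S ⊗[R] A ≃ₐ[S] MonoidAlgebra S M).toLinearEquiv).injective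
  have h2 : ∀ z, TensorProduct.congr (e : S ⊗[R] A ≃ₐ[S] MonoidAlgebra S M).toLinearEquiv
      (e : S ⊗[R] A ≃ₐ[S] MonoidAlgebra S M).toLinearEquiv
        (TensorProduct.comm S (S ⊗[R] A) (S ⊗[R] A) z) =
      TensorProduct.comm S _ _ (TensorProduct.map ec.toLinearMap ec.toLinearMap z) := by
    intro z
    induction z using TensorProduct.induction_on with
    | zero => simp
    | add u v hu hv => simp only [map_add, hu, hv]
    | tmul u v => rfl
  rw [h2]
  change _ = TensorProduct.map ec.toLinearMap ec.toLinearMap (comul (R := S) ((1 : S) ⊗ₜ[R] a))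
  have h3 : TensorProduct.map ec.toLinearMap ec.toLinearMap (comul (R := S) ((1 : S) ⊗ₜ[R] a)) =
      comul (R := S) (ec ((1 : S) ⊗ₜ[R] a)) := CoalgHomClass.map_comp_comul_apply ec _
  rw [h3, Coalgebra.comm_comul]

end Main

section Descent

/-- Étale algebras descend along a finite faithfully flat family. -/
theorem etale_of_cover {R : Type u} [CommRing R] {E : Type u} [CommRing E] [Algebra R E]
    {ι : Type u} [Fintype ι] (S : ι → Type u) [∀ i, CommRing (S i)] [∀ i, Algebra R (S i)]
    (hff : Module.FaithfullyFlat R (∀ i, S i)) (h : ∀ i, Algebra.Etale (S i) (S i ⊗[R] E)) :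
    Algebra.Etale R E := by
  classical
  let P := ∀ i, S i
  haveI := hff
  suffices Algebra.Etale P (P ⊗[R] E) from
    Algebra.Etale.of_etale_tensorProduct_of_faithfullyFlat (R := R) (T := P)
  letI : ∀ i, Algebra P (S i) := fun i => (Pi.evalRingHom S i).toAlgebra
  haveI : ∀ i, IsScalarTower R P (S i) := fun i => IsScalarTower.of_algebraMap_eq fun _ => rfl
  have hpieces : ProductGlue.Pieces (fun i => (Pi.single i 1 : P)) S := by
    refine ⟨CompleteOrthogonalIdempotents.single S, fun i => ?_, fun i x hx => ?_, fun i => ?_⟩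
    · exact fun y => ⟨(Pi.single i y : P), Pi.single_eq_same (M := S) i y⟩
    · refine Ideal.mem_span_singleton.2 ⟨x, funext fun k => ?_⟩
      rw [Pi.mul_apply, Pi.sub_apply, Pi.one_apply]
      rcases eq_or_ne k i with rfl | hk
      · rw [Pi.single_eq_same, sub_self, zero_mul]
        exact hx
      · rw [Pi.single_eq_of_ne hk, sub_zero, one_mul]
    · exact Pi.single_eq_same i 1
  have hi : ∀ i, Algebra.Etale P (S i ⊗[P] (P ⊗[R] E)) := by
    intro i
    haveI : IsLocalization.Away (Pi.single i 1 : P) (S i) :=
      IsLocalization.away_of_isIdempotentElem (hpieces.coi.idem i)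
        (le_antisymm (hpieces.ker_le i) ((Ideal.span_singleton_le_iff_mem _).2 (by
          rw [RingHom.mem_ker, map_sub, map_one, hpieces.map_one i, sub_self])))
        (hpieces.surj i)
    haveI : Algebra.Etale P (S i) := Algebra.Etale.of_isLocalizationAway (Pi.single i 1 : P)
    haveI : Algebra.Etale (S i) (S i ⊗[R] E) := h i
    haveI : Algebra.Etale (S i) (S i ⊗[P] (P ⊗[R] E)) :=
      Algebra.Etale.of_equiv (Algebra.TensorProduct.cancelBaseChange R P (S i) (S i) (E)).symm
    exact Algebra.Etale.comp P (S i) _
  haveI : ∀ i, Algebra.Etale P (S i ⊗[P] (P ⊗[R] E)) := hi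
  exact Algebra.Etale.of_equiv (hpieces.decomp (P ⊗[R] E)).symm

end Descent

section Main

variable {R : Type u} [CommRing R] {A : Type u} [CommRing A] [HopfAlgebra R A]

/-- The dual of a finite group of multiplicative type is étale. -/
theorem etale_dual [Coalgebra.IsCocomm R A] [Module.Finite R A] [Module.Projective R A]
    (h : IsMultType R A) : Algebra.Etale R (D R A) := by
  obtain ⟨ι, _, S, _, _, hff, hd⟩ := exists_cover h
  refine etale_of_cover (E := D R A) S hff fun i => ?_
  haveI : Algebra.Etale (S i) (D (S i) (S i ⊗[R] A)) := etale_dual_of_isDiag (hd i)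
  exact Algebra.Etale.of_equiv (dualBC (S i)).symm

/-- The dual of an isotrivial group is étale. -/
theorem etale_dual_of_isIsotrivial [Coalgebra.IsCocomm R A] [Module.Finite R A] [Module.Projective R A]
    (h : IsIsotrivial R A) : Algebra.Etale R (D R A) := by
  obtain ⟨T, _, _, _, _, hff, hd⟩ := h
  haveI := hff
  haveI : Algebra.Etale T (D T (T ⊗[R] A)) := etale_dual_of_isDiag hd
  haveI : Algebra.Etale T (T ⊗[R] D R A) := Algebra.Etale.of_equiv (dualBC T).symm
  exact Algebra.Etale.of_etale_tensorProduct_of_faithfullyFlat (R := R) (T := T)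

/-- A finite group of multiplicative type over a connected base is isotrivial. -/
theorem isIsotrivial_of_isMultType [ConnectedSpace (PrimeSpectrum R)] [Module.Finite R A]
    (h : IsMultType R A) : IsIsotrivial R A := by
  haveI := isCocomm_of_isMultType h
  haveI := projective_of_isMultType h
  haveI := etale_dual h
  exact isIsotrivial_of_etale

end Main

end Groth.Sga3.FiniteMultType
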