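import Groth.Agent.Sga3.SubHopfMap
import Mathlib.LinearAlgebra.LinearPMap
import Mathlib.Order.Zorn

/-!
A Hopf subalgebra of a commutative Hopf algebra over a field is a direct summand as a module over
itself.
-/

set_option autoImplicit false

universe u v w

open TensorProduct

noncomputable section

namespace Groth.Sga3.HopfSplit

variable {k : Type u} [Field k] {A : Type v} [CommRing A] [HopfAlgebra k A] {B : Subalgebra k A}

/-- a `B`-submodule stable under the comultiplication -/
def Stable (N : Submodule B A) : Prop :=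
  ∀ n ∈ N, (N.mkQ.restrictScalars k).rTensor A (Coalgebra.comul (R := k) n) = 0

variable (hΔ : ∀ b ∈ B, CoalgebraStruct.comul (R := k) (A := A) b ∈
  LinearMap.range (TensorProduct.map B.val.toLinearMap B.val.toLinearMap))

include hΔ in
/-- the elements moved into a submodule form a submodule -/
theorem mem_smul (M : Submodule B A) (b : B) {n : A}
    (hn : (M.mkQ.restrictScalars k).rTensor A (Coalgebra.comul (R := k) n) = 0) :
    (M.mkQ.restrictScalars k).rTensor A (Coalgebra.comul (R := k) (b • n)) = 0 := by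
  obtain ⟨y, hy⟩ := hΔ b b.2
  rw [Subalgebra.smul_def, smul_eq_mul, Bialgebra.comul_mul, ← hy]
  clear hy
  induction y using TensorProduct.induction_on with
  | zero => simp
  | add p q hp hq => rw [map_add, add_mul, map_add, hp, hq, add_zero]
  | tmul p q =>
    have key : ∀ z : A ⊗[k] A,
        (M.mkQ.restrictScalars k).rTensor A (((p : A) ⊗ₜ[k] (q : A)) * z) =
          TensorProduct.map ((LinearMap.lsmul B (A ⧸ M) p).restrictScalars k) (LinearMap.mulLeft k (q : A))
            ((M.mkQ.restrictScalars k).rTensor A z) := by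
      intro z
      induction z using TensorProduct.induction_on with
      | zero => simp
      | add r s hr hs => simp only [mul_add, map_add, hr, hs]
      | tmul r s =>
        simp only [Algebra.TensorProduct.tmul_mul_tmul, LinearMap.rTensor_tmul, TensorProduct.map_tmul,
          LinearMap.restrictScalars_apply, LinearMap.lsmul_apply, LinearMap.mulLeft_apply,
          Submodule.mkQ_apply]
        rw [← Submodule.Quotient.mk_smul]
        rfl
    rw [TensorProduct.map_tmul]
    change (M.mkQ.restrictScalars k).rTensor A (((p : A) ⊗ₜ[k] (q : A)) * _) = 0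
    rw [key, hn, map_zero]

include hΔ in
theorem stable_span (s : Set A) (M : Submodule B A) (hsM : s ⊆ M)
    (hs : ∀ x ∈ s, (M.mkQ.restrictScalars k).rTensor A (Coalgebra.comul (R := k) x) = 0)
    {x : A} (hx : x ∈ Submodule.span B s) :
    (M.mkQ.restrictScalars k).rTensor A (Coalgebra.comul (R := k) x) = 0 := by
  induction hx using Submodule.span_induction with
  | mem x hx => exact hs x hx
  | zero => simp
  | add p q _ _ hp hq => rw [map_add, map_add, hp, hq, add_zero]
  | smul b p _ hp => exact mem_smul hΔ M b hp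

include hΔ in
theorem stable_one : Stable (Submodule.span B {(1 : A)}) := fun _ hx =>
  stable_span hΔ {1} _ Submodule.subset_span (fun y hy => by
    rw [Set.mem_singleton_iff.1 hy, Bialgebra.comul_one, Algebra.TensorProduct.one_def, LinearMap.rTensor_tmul,
      LinearMap.restrictScalars_apply, Submodule.mkQ_apply,
      (Submodule.Quotient.mk_eq_zero _).2 (Submodule.subset_span (Set.mem_singleton 1)), TensorProduct.zero_tmul]) hx

theorem stable_mono {N M : Submodule B A} (h : N ≤ M) {x : A}
    (hx : (N.mkQ.restrictScalars k).rTensor A (Coalgebra.comul (R := k) x) = 0) :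
    (M.mkQ.restrictScalars k).rTensor A (Coalgebra.comul (R := k) x) = 0 := by
  have e : M.mkQ.restrictScalars k = (Submodule.factor h).restrictScalars k ∘ₗ N.mkQ.restrictScalars k :=
    LinearMap.ext fun y => rfl
  rw [e, LinearMap.rTensor_comp_apply, hx, map_zero]

variable (hS : ∀ b ∈ B, HopfAlgebraStruct.antipode (R := k) (A := A) b ∈ B)

include hΔ hS in
/-- a stable partial retraction extends to any given element -/
theorem exists_extend (r : A →ₗ.[B] B) (hr : Stable r.domain) (x : A) :
    ∃ r' : A →ₗ.[B] B, r ≤ r' ∧ Stable r'.domain ∧ x ∈ r'.domain := by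
  classical
  obtain ⟨d, w, a, hx, hw, hSa⟩ := SubHopfFlat.exists_matrix (k := k) ({x} : Finset A)
  set N := r.domain with hN
  let Φ := Fintype.linearCombination B w
  let M : Submodule B A := N ⊔ LinearMap.range Φ
  have hwM : ∀ l, w l ∈ M := fun l =>
    (le_sup_right : LinearMap.range Φ ≤ M) ⟨Pi.single l 1, by simp [Φ, Fintype.linearCombination_apply_single]⟩
  have hM : Stable M := by
    intro m hm
    obtain ⟨n, hn, c, hc, rfl⟩ := Submodule.mem_sup.1 hm
    rw [map_add, map_add, stable_mono le_sup_left (hr n hn), zero_add]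
    rw [Fintype.range_linearCombination] at hc
    refine stable_span hΔ (Set.range w) M (by rintro _ ⟨l, rfl⟩; exact hwM l) ?_ hc
    rintro _ ⟨i, rfl⟩
    rw [hw, map_sum]
    refine Finset.sum_eq_zero fun l _ => ?_
    rw [LinearMap.rTensor_tmul, LinearMap.restrictScalars_apply, Submodule.mkQ_apply,
      (Submodule.Quotient.mk_eq_zero M).2 (hwM l), TensorProduct.zero_tmul]
  let K := LinearMap.ker (N.mkQ ∘ₗ Φ)
  haveI : Module.Projective B ((Fin d → B) ⧸ K) :=
    SubHopfFlat.projective_of_stable hΔ hS w a hw (fun i i' => by convert hSa i i') N hr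
  obtain ⟨σ, hσ⟩ := Module.projective_lifting_property K.mkQ LinearMap.id K.mkQ_surjective
  let e := LinearMap.quotKerEquivRange (N.mkQ ∘ₗ Φ)
  have hmem : ∀ m : M, N.mkQ (m : A) ∈ LinearMap.range (N.mkQ ∘ₗ Φ) := by
    rintro ⟨m, hm⟩
    obtain ⟨n, hn, c, ⟨v, rfl⟩, rfl⟩ := Submodule.mem_sup.1 hm
    exact ⟨v, by simp [(Submodule.Quotient.mk_eq_zero N).2 hn]⟩
  let q : M →ₗ[B] (Fin d → B) ⧸ K :=
    e.symm.toLinearMap ∘ₗ (N.mkQ ∘ₗ M.subtype).codRestrict (LinearMap.range (N.mkQ ∘ₗ Φ)) hmem
  have hg : ∀ m : M, (m : A) - Φ (σ (q m)) ∈ N := by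
    intro m
    rw [← Submodule.Quotient.eq]
    have h1 : K.mkQ (σ (q m)) = q m := LinearMap.congr_fun hσ (q m)
    have h2 := congrArg (fun t => ((e t : LinearMap.range (N.mkQ ∘ₗ Φ)) : A ⧸ N)) h1
    simp only [q, LinearMap.comp_apply, LinearEquiv.coe_coe, e.apply_symm_apply] at h2
    exact h2.symm
  let g : M →ₗ[B] N := (M.subtype - Φ ∘ₗ σ ∘ₗ q).codRestrict N hg
  refine ⟨⟨M, r.toFun ∘ₗ g⟩, ⟨le_sup_left, fun y z hyz => congrArg r.toFun (Subtype.ext ?_)⟩, hM, ?_⟩
  · change (y : A) = (z : A) - Φ (σ (q z))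
    have h0 : q z = 0 := by
      simp only [q, LinearMap.comp_apply, LinearEquiv.coe_coe]
      rw [LinearEquiv.map_eq_zero_iff]
      exact Subtype.ext ((Submodule.Quotient.mk_eq_zero N).2 (show (z : A) ∈ N from hyz ▸ (y.2 : (y : A) ∈ N)))
    rw [h0, map_zero, map_zero, sub_zero, hyz]
  · refine (le_sup_right : LinearMap.range Φ ≤ M) ?_
    rw [Fintype.range_linearCombination]
    exact (Submodule.span_le (R := k) (p := (Submodule.span B (Set.range w)).restrictScalars k)).mpr
      Submodule.subset_span (hx x (Finset.mem_singleton_self x))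

include hΔ hS in
/-- A Hopf subalgebra is a direct summand. -/
theorem exists_retraction : ∃ r : A →ₗ[B] B, r 1 = 1 := by
  classical
  let N₀ : Submodule B A := Submodule.span B {(1 : A)}
  have hinj : Function.Injective (Algebra.linearMap B A) := Subtype.val_injective
  have hN₀ : N₀ = LinearMap.range (Algebra.linearMap B A) := by
    ext y
    rw [Submodule.mem_span_singleton, LinearMap.mem_range]
    exact ⟨fun ⟨b, h⟩ => ⟨b, by rw [← h, Algebra.linearMap_apply, Algebra.algebraMap_eq_smul_one]⟩,
      fun ⟨b, h⟩ => ⟨b, by rw [← h, Algebra.linearMap_apply, Algebra.algebraMap_eq_smul_one]⟩⟩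
  let r₀ : A →ₗ.[B] B :=
    ⟨LinearMap.range (Algebra.linearMap B A), (LinearEquiv.ofInjective _ hinj).symm.toLinearMap⟩
  let S : Set (A →ₗ.[B] B) := {r | r₀ ≤ r ∧ Stable r.domain}
  have hr₀ : r₀ ∈ S := ⟨le_rfl, by
    have := stable_one hΔ
    rwa [show Submodule.span B {(1 : A)} = LinearMap.range (Algebra.linearMap B A) from hN₀] at this⟩
  obtain ⟨r, hr0, hmax⟩ := zorn_le_nonempty₀ S (fun c hc hchain y hy => by
    refine ⟨LinearPMap.sSup c hchain.directedOn, ⟨(hc hy).1.trans (LinearPMap.le_sSup _ hy), ?_⟩,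
      fun z hz => LinearPMap.le_sSup _ hz⟩
    intro n hn
    rw [LinearPMap.domain_sSup, Submodule.mem_sSup_of_directed (Set.Nonempty.image _ ⟨y, hy⟩)
      (directedOn_image.2 (hchain.directedOn.mono fun {a b} h => h.1))] at hn
    obtain ⟨_, ⟨z, hz, rfl⟩, hn⟩ := hn
    exact stable_mono (LinearPMap.le_sSup hchain.directedOn hz).1 ((hc hz).2 n hn)) r₀ hr₀
  have htop : ∀ x, x ∈ r.domain := fun x => by
    obtain ⟨r', hle, hst, hx⟩ := exists_extend hΔ hS r hmax.1.2 x
    exact (hmax.2 ⟨hr0.trans hle, hst⟩ hle).1 hx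
  refine ⟨r.toFun ∘ₗ LinearMap.id.codRestrict r.domain htop, ?_⟩
  have h1 : (1 : A) ∈ LinearMap.range (Algebra.linearMap B A) := ⟨1, map_one (algebraMap B A)⟩
  refine ((hr0).2 (x := (⟨1, h1⟩ : r₀.domain)) (y := ⟨1, htop 1⟩) rfl).symm.trans ?_
  change (LinearEquiv.ofInjective (Algebra.linearMap B A) hinj).symm ⟨1, h1⟩ = 1
  rw [LinearEquiv.symm_apply_eq]
  exact Subtype.ext (map_one (algebraMap B A)).symm


/-- The same for the image of a bialgebra map. -/
theorem exists_retraction_range {A' : Type w} [CommRing A'] [HopfAlgebra k A'] (f : A' →ₐc[k] A) :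
    ∃ r : A →ₗ[(f : A' →ₐ[k] A).range] (f : A' →ₐ[k] A).range, r 1 = 1 := by
  refine exists_retraction ?_ ?_
  · rintro _ ⟨a, rfl⟩
    refine ⟨TensorProduct.map (f : A' →ₐ[k] A).rangeRestrict.toLinearMap
      (f : A' →ₐ[k] A).rangeRestrict.toLinearMap (Coalgebra.comul (R := k) a), ?_⟩
    refine Eq.trans ?_ (CoalgHomClass.map_comp_comul_apply f a)
    generalize Coalgebra.comul (R := k) a = z
    induction z using TensorProduct.induction_on with
    | zero => simp
    | tmul p q => rfl
    | add p q hp hq => simp only [map_add, hp, hq]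
  · rintro _ ⟨a, rfl⟩
    exact ⟨HopfAlgebra.antipode k a, SubHopfFlat.map_antipode f a⟩

end Groth.Sga3.HopfSplit
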