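import Groth.Agent.Sga3.NilLift

/-!
A group of multiplicative type diagonalisable modulo a nil ideal is diagonalisable.
-/

set_option autoImplicit false

universe u

open TensorProduct Coalgebra

noncomputable section

namespace Groth.Sga3.MultType

open SGA3b GroupAlg

variable {R : Type u} [CommRing R]

/-- a homomorphism of group algebras with an inverse modulo a nil ideal is bijective -/
theorem bijective_of_mod_nil {S : Type u} [CommRing S] {M N : Type u} [CommGroup M] [CommGroup N]
    {J : Ideal S} (hJ : ∀ x ∈ J, IsNilpotent x) (φ : MonoidAlgebra S M →ₐc[S] MonoidAlgebra S N)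
    (L : MonoidAlgebra S N →ₗ[S] MonoidAlgebra S M)
    (hLφ : ∀ x m, cf m (L (φ x)) - cf m x ∈ J) (hφL : ∀ y n, cf n (φ (L y)) - cf n y ∈ J) :
    Function.Bijective φ := by
  classical
  let P : M → N → S := fun m n => cf n (φ (MonoidAlgebra.single m 1))
  have hgl : ∀ m, IsGroupLikeElem S (φ (MonoidAlgebra.single m 1)) := fun m =>
    (MonoidAlgebra.isGroupLikeElem_single_one m).map φ
  have hPP : ∀ m n n', P m n * P m n' = if n = n' then P m n else 0 := fun m n n' =>
    groupLike_coeff_mul (hgl m) n n'
  have hsmul : ∀ m n, P m n • φ (MonoidAlgebra.single m 1) = P m n • MonoidAlgebra.single n 1 := by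
    intro m n
    refine ext_cf fun n' => ?_
    rw [map_smul, map_smul, cf_single, smul_eq_mul, smul_eq_mul]
    change P m n * P m n' = _
    rw [hPP]
    split_ifs <;> simp
  -- only the trivial element meets the unit component
  have hone : ∀ m, m ≠ 1 → P m 1 = 0 := by
    intro m hm
    have h1 : P m 1 • φ (MonoidAlgebra.single m 1) = P m 1 • φ (MonoidAlgebra.single 1 1) := by
      rw [hsmul, show MonoidAlgebra.single (1 : M) (1 : S) = 1 from MonoidAlgebra.one_def.symm, map_one,
        MonoidAlgebra.one_def]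
    have h2 := congrArg (fun z => cf m (L z)) h1
    simp only [map_smul, smul_eq_mul] at h2
    have h3 : P m 1 * (1 : S) - P m 1 * 0 ∈ J := by
      have ha := Ideal.mul_mem_left J (P m 1) (hLφ (MonoidAlgebra.single m 1) m)
      have hb := Ideal.mul_mem_left J (P m 1) (hLφ (MonoidAlgebra.single 1 1) m)
      rw [cf_single, if_pos rfl, mul_sub] at ha
      rw [cf_single, if_neg hm.symm, mul_sub] at hb
      have := sub_mem hb ha
      rw [h2] at this
      simpa using this
    rw [mul_one, mul_zero, sub_zero] at h3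
    have h4 := groupLike_coeff_idem (hgl m) (1 : N)
    exact h4.eq_zero_of_isNilpotent (hJ _ h3)
  -- the components of different elements are orthogonal
  have horth : ∀ m m' n, m ≠ m' → P m n * P m' n = 0 := by
    intro m m' n hne
    have h1 : (P m n * P m' n) • φ (MonoidAlgebra.single (m⁻¹ * m') 1) =
        (P m n * P m' n) • (1 : MonoidAlgebra S N) := by
      have h0 : φ (MonoidAlgebra.single m' 1) =
          φ (MonoidAlgebra.single m 1) * φ (MonoidAlgebra.single (m⁻¹ * m') 1) := by
        rw [← map_mul, MonoidAlgebra.single_mul_single, one_mul, mul_inv_cancel_left]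
      have h5 : (P m n * P m' n) • φ (MonoidAlgebra.single m' 1) =
          (P m n * P m' n) • MonoidAlgebra.single n (1 : S) := by
        rw [mul_smul, hsmul, ← mul_smul]
      have h6 : (P m n * P m' n) • φ (MonoidAlgebra.single m 1) =
          (P m n * P m' n) • MonoidAlgebra.single n (1 : S) := by
        rw [mul_comm, mul_smul, hsmul, ← mul_smul]
      rw [h0, ← smul_mul_assoc, h6, smul_mul_assoc] at h5
      have h7 := congrArg (fun z => MonoidAlgebra.single n⁻¹ (1 : S) * z) h5
      simp only [mul_smul_comm, ← mul_assoc, MonoidAlgebra.single_mul_single, inv_mul_cancel,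
        one_mul, ← MonoidAlgebra.one_def] at h7
      exact h7
    have h2 := congrArg (cf (1 : N)) h1
    rw [map_smul, map_smul, MonoidAlgebra.one_def, cf_single, if_pos rfl, smul_eq_mul, smul_eq_mul,
      mul_one] at h2
    have hne' : m⁻¹ * m' ≠ 1 := fun h => hne (inv_mul_eq_one.1 h)
    rw [show cf (1 : N) (φ (MonoidAlgebra.single (m⁻¹ * m') 1)) = P (m⁻¹ * m') 1 from rfl,
      hone _ hne', mul_zero] at h2
    exact h2.symm
  have hφ : ∀ x n, cf n (φ x) = ∑ m ∈ x.coeff.support, x.coeff m * P m n := by
    intro x n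
    conv_lhs => rw [← MonoidAlgebra.sum_coeff_single x]
    simp only [Finsupp.sum, map_sum]
    refine Finset.sum_congr rfl fun m _ => ?_
    rw [show MonoidAlgebra.single m (x.coeff m) = x.coeff m • MonoidAlgebra.single m (1 : S) by simp,
      map_smul, map_smul, smul_eq_mul]
  refine ⟨(injective_iff_map_eq_zero φ).2 fun x hx => ext_cf fun m₀ => ?_, ?_⟩
  · rw [map_zero]
    have h1 : x.coeff m₀ • φ (MonoidAlgebra.single m₀ 1) = 0 := ext_cf fun n => by
      rw [map_smul, map_zero, smul_eq_mul]
      change x.coeff m₀ * P m₀ n = 0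
      have h2 := congrArg (· * P m₀ n) (hφ x n)
      simp only [hx, map_zero, zero_mul, Finset.sum_mul] at h2
      rw [Finset.sum_eq_single m₀] at h2
      · rw [mul_assoc, hPP, if_pos rfl] at h2; exact h2.symm
      · intro m _ hm; rw [mul_assoc, horth m m₀ n hm, mul_zero]
      · intro hm; rw [Finsupp.notMem_support_iff.1 hm, zero_mul, zero_mul]
    have h3 := congrArg (Coalgebra.counit (R := S)) h1
    rw [map_smul, (hgl m₀).counit_eq_one, map_zero, smul_eq_mul, mul_one] at h3
    exact h3
  · intro y
    induction y using MonoidAlgebra.induction_linear with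
    | zero => exact ⟨0, map_zero φ⟩
    | add p q hp hq =>
      obtain ⟨a, rfl⟩ := hp
      obtain ⟨b, rfl⟩ := hq
      exact ⟨a + b, map_add φ a b⟩
    | single n r =>
      let z := L (MonoidAlgebra.single n 1)
      let Q := ∑ m ∈ z.coeff.support, P m n
      have hQ : IsIdempotentElem Q := by
        simp only [IsIdempotentElem, Q, Finset.sum_mul, Finset.mul_sum]
        refine Finset.sum_congr rfl fun m hm => ?_
        rw [Finset.sum_eq_single m (fun m' _ h => horth m' m n h) (fun h => (h hm).elim)]
        simpa using hPP m n n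
      have hQ1 : Q = 1 := by
        have h1 : Q * cf n (φ z) = cf n (φ z) := by
          rw [hφ, Finset.mul_sum]
          refine Finset.sum_congr rfl fun m hm => ?_
          simp only [Q, Finset.sum_mul]
          rw [Finset.sum_eq_single m (fun m' _ h => by rw [mul_left_comm, horth m' m n h, mul_zero])
            (fun h => (h hm).elim), mul_left_comm]
          rw [show P m n * P m n = P m n by simpa using hPP m n n]
        have h2 : cf n (φ z) - 1 ∈ J := by
          simpa [cf_single, z] using hφL (MonoidAlgebra.single n 1) n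
        have h3 : IsUnit (cf n (φ z)) := by
          have := (hJ _ h2).isUnit_add_one
          simpa using this
        exact h3.mul_right_cancel (h1.trans (one_mul _).symm)
      refine ⟨r • ∑ m ∈ z.coeff.support, P m n • MonoidAlgebra.single m 1, ?_⟩
      simp only [map_smul, map_sum, hsmul]
      rw [← Finset.sum_smul]
      change r • Q • MonoidAlgebra.single n (1 : S) = _
      rw [hQ1, one_smul]
      simp

variable {A : Type u} [CommRing A] [HopfAlgebra R A]

/-- A group of multiplicative type which is diagonalisable modulo a nil ideal is diagonalisable. -/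
theorem isDiag_of_nil (h : IsMultType R A) {I : Ideal R} (hI : ∀ x ∈ I, IsNilpotent x)
    (h0 : IsDiag (R ⧸ I) ((R ⧸ I) ⊗[R] A)) : IsDiag R A := by
  classical
  have := projective_of_isMultType h
  obtain ⟨M, _, ⟨e₀⟩⟩ := h0
  let q : MonoidAlgebra R M →ₗ[R] MonoidAlgebra (R ⧸ I) M :=
    ((MonoidAlgebra.scalarTensorEquiv R (R ⧸ I) (M := M)).toLinearMap.restrictScalars R) ∘ₗ
      TensorProduct.mk R (R ⧸ I) (MonoidAlgebra R M) 1
  have hq : ∀ x, q x = monAlgBC R (R ⧸ I) M ((1 : R ⧸ I) ⊗ₜ[R] x) := fun x => rfl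
  have hqs : Function.Surjective q := by
    intro y
    obtain ⟨z, rfl⟩ := (MonoidAlgebra.scalarTensorEquiv R (R ⧸ I) (M := M)).surjective y
    obtain ⟨x, rfl⟩ := TensorProduct.mk_surjective R (MonoidAlgebra R M) (R ⧸ I) Ideal.Quotient.mk_surjective z
    exact ⟨x, rfl⟩
  let p : A →ₗ[R] MonoidAlgebra (R ⧸ I) M :=
    ((e₀ : (R ⧸ I) ⊗[R] A ≃ₐ[R ⧸ I] MonoidAlgebra (R ⧸ I) M).toLinearMap.restrictScalars R) ∘ₗ
      TensorProduct.mk R (R ⧸ I) A 1
  have hp : ∀ a, p a = e₀ ((1 : R ⧸ I) ⊗ₜ[R] a) := fun a => rfl
  obtain ⟨L, hL⟩ := Module.projective_lifting_property q p hqs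
  have hmk : Function.Surjective (TensorProduct.mk R (R ⧸ I) A 1) :=
    TensorProduct.mk_surjective R A (R ⧸ I) Ideal.Quotient.mk_surjective
  have hlift : ∀ m : M, ∃ g : A, IsGroupLikeElem R g ∧
      (1 : R ⧸ I) ⊗ₜ[R] g = e₀.symm (MonoidAlgebra.single m 1) := by
    intro m
    obtain ⟨a, ha⟩ := hmk (e₀.symm (MonoidAlgebra.single m 1))
    obtain ⟨g, hg, hga⟩ := exists_groupLike_lift h hI (a := a) (by
      rw [IsApproxGroupLike, show (1 : R ⧸ I) ⊗ₜ[R] a = _ from ha]
      exact (MonoidAlgebra.isGroupLikeElem_single_one m).map e₀.symm)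
    refine ⟨g, hg, ?_⟩
    rw [← ha]
    refine sub_eq_zero.1 ?_
    rw [TensorProduct.mk_apply, ← TensorProduct.tmul_sub]
    refine Submodule.smul_induction_on hga (fun r hr x _ => ?_) fun x y hx hy => by
      rw [TensorProduct.tmul_add, hx, hy, add_zero]
    rw [← TensorProduct.smul_tmul, Algebra.smul_def, Ideal.Quotient.algebraMap_eq,
      Ideal.Quotient.eq_zero_iff_mem.2 hr, zero_mul, TensorProduct.zero_tmul]
  choose g hgl hg using hlift
  have huniq : ∀ {a b : A}, IsGroupLikeElem R a → IsGroupLikeElem R b →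
      (1 : R ⧸ I) ⊗ₜ[R] a = (1 : R ⧸ I) ⊗ₜ[R] b → a = b := fun ha hb hab =>
    groupLike_eq_of_sub_mem h hI ha hb (sub_mem_smul_of_tmul_eq I hab)
  let G : M →* GroupLike R A :=
    { toFun := fun m => ⟨g m, hgl m⟩
      map_one' := GroupLike.val_injective <| huniq (hgl 1) IsGroupLikeElem.one (by
        rw [hg, ← MonoidAlgebra.one_def]
        exact map_one e₀.symm)
      map_mul' := fun a b => GroupLike.val_injective <| huniq (hgl (a * b)) ((hgl a).mul (hgl b)) (by
        have h1 : (1 : R ⧸ I) ⊗ₜ[R] (g a * g b) = ((1 : R ⧸ I) ⊗ₜ[R] g a) * ((1 : R ⧸ I) ⊗ₜ[R] g b) := by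
          rw [Algebra.TensorProduct.tmul_mul_tmul, one_mul]
        rw [hg, GroupLike.val_mul, h1, hg, hg, ← map_mul, MonoidAlgebra.single_mul_single, one_mul]) }
  let φ : MonoidAlgebra R M →ₐc[R] A :=
    MonoidAlgebra.liftGroupLikeBialgHom.comp (MonoidAlgebra.mapDomainBialgHom R G)
  have hφ : ∀ m, φ (MonoidAlgebra.single m 1) = g m := by
    intro m; simp [φ, G, MonoidAlgebra.liftGroupLikeBialgHom]
  have hφq : ∀ x, e₀ ((1 : R ⧸ I) ⊗ₜ[R] φ x) = q x := by
    suffices p ∘ₗ (φ : MonoidAlgebra R M →ₐ[R] A).toLinearMap = q from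
      fun x => LinearMap.congr_fun this x
    refine LinearMap.ext fun x => ?_
    induction x using MonoidAlgebra.induction_linear with
    | zero => simp
    | add a b ha hb => rw [map_add, map_add, ha, hb]
    | single m r =>
      rw [show MonoidAlgebra.single m r = r • MonoidAlgebra.single m (1 : R) by simp, map_smul,
        map_smul]
      congr 1
      change p (φ (MonoidAlgebra.single m 1)) = _
      rw [hp, hφ, hg, BialgEquiv.apply_symm_apply, hq]
      change _ = MonoidAlgebra.scalarTensorEquiv R (R ⧸ I) _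
      simp [MonoidAlgebra.scalarTensorEquiv_tmul]
  have hφL : ∀ a, φ (L a) - a ∈ I • (⊤ : Submodule R A) := by
    intro a
    refine sub_mem_smul_of_tmul_eq I (e₀.injective ?_)
    change e₀ _ = e₀ _
    rw [hφq]
    exact LinearMap.congr_fun hL a
  have hLφ : ∀ x, L (φ x) - x ∈ I • (⊤ : Submodule R (MonoidAlgebra R M)) := by
    intro x
    refine sub_mem_smul_of_tmul_eq I ((monAlgBC R (R ⧸ I) M).injective ?_)
    change monAlgBC R (R ⧸ I) M _ = monAlgBC R (R ⧸ I) M _
    rw [← hq, ← hq, ← hφq x]
    exact LinearMap.congr_fun hL (φ x)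
  have hbij : ∀ (S : Type u) [CommRing S] [Algebra R S], IsDiag S (S ⊗[R] A) →
      Function.Bijective (mapBC S φ) := by
    intro S _ _ hS
    obtain ⟨N, _, ⟨e⟩⟩ := hS
    let μ := monAlgBC R S M
    let φS : MonoidAlgebra S M →ₐc[S] MonoidAlgebra S N :=
      ((e : S ⊗[R] A →ₐc[S] MonoidAlgebra S N).comp (mapBC S φ)).comp
        (μ.symm : MonoidAlgebra S M →ₐc[S] S ⊗[R] MonoidAlgebra R M)
    let el := (e : S ⊗[R] A ≃ₐ[S] MonoidAlgebra S N).toLinearEquiv
    let μl := (μ : S ⊗[R] MonoidAlgebra R M ≃ₐ[S] MonoidAlgebra S M).toLinearEquiv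
    have happ : ∀ z, φS (μl z) = el (mapBC S φ z) := by
      intro z
      change e (mapBC S φ (μ.symm (μ z))) = _
      rw [μ.symm_apply_apply]
      rfl
    have hb := bijective_of_mod_nil (map_nil hI S) φS
      (μl.toLinearMap ∘ₗ L.baseChange S ∘ₗ el.symm.toLinearMap) (fun x m => ?_) (fun y n => ?_)
    · have h2 : Function.Bijective (el.symm ∘ φS ∘ μl) :=
        el.symm.bijective.comp (hb.comp μl.bijective)
      convert h2 using 1
      funext z
      simp [Function.comp_apply, happ]
    · obtain ⟨z, rfl⟩ := μl.surjective x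
      simp only [LinearMap.comp_apply, LinearEquiv.coe_coe, happ, el.symm_apply_apply]
      induction z using TensorProduct.induction_on with
      | zero => simp
      | add a b ha hb => simp only [map_add]; rw [add_sub_add_comm]; exact add_mem ha hb
      | tmul s x =>
        rw [mapBC_tmul, LinearMap.baseChange_tmul, ← map_sub, ← map_sub, ← TensorProduct.tmul_sub]
        have := apply_mem_map ((cf m).restrictScalars S ∘ₗ μl.toLinearMap)
          (smul_top_of_one_tmul S (hLφ x) s)
        rwa [Algebra.algebraMap_self, Ideal.map_id] at this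
    · obtain ⟨z, rfl⟩ := el.surjective y
      simp only [LinearMap.comp_apply, LinearEquiv.coe_coe, happ, el.symm_apply_apply]
      induction z using TensorProduct.induction_on with
      | zero => simp
      | add a b ha hb => simp only [map_add]; rw [add_sub_add_comm]; exact add_mem ha hb
      | tmul s a =>
        rw [LinearMap.baseChange_tmul, mapBC_tmul, ← map_sub, ← map_sub, ← TensorProduct.tmul_sub]
        have := apply_mem_map ((cf n).restrictScalars S ∘ₗ el.toLinearMap)
          (smul_top_of_one_tmul S (hφL a) s)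
        rwa [Algebra.algebraMap_self, Ideal.map_id] at this
  refine ⟨M, _, ⟨(BialgEquiv.ofBijective φ ⟨(injective_iff_map_eq_zero φ).2 fun x hx => ?_, fun a => ?_⟩).symm⟩⟩
  · refine eq_zero_of_forall h fun S _ _ hS => (hbij S hS).1 ?_
    rw [mapBC_tmul, hx, TensorProduct.tmul_zero, map_zero]
  · let W : Submodule R A := LinearMap.range (φ : MonoidAlgebra R M →ₐ[R] A).toLinearMap
    have h0 : W.mkQ a = 0 := by
      refine eq_zero_of_forall h fun S _ _ hS => ?_
      obtain ⟨z, hz⟩ := (hbij S hS).2 ((1 : S) ⊗ₜ[R] a)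
      have h4 : ∀ z, W.mkQ.lTensor S (mapBC S φ z) = 0 := by
        intro z
        induction z using TensorProduct.induction_on with
        | zero => simp
        | tmul s c =>
          rw [mapBC_tmul, LinearMap.lTensor_tmul, Submodule.mkQ_apply,
            (Submodule.Quotient.mk_eq_zero W).2 (⟨c, rfl⟩ : φ c ∈ W), TensorProduct.tmul_zero]
        | add u v hu hv => simp only [map_add, hu, hv, add_zero]
      have h5 := h4 z
      rwa [hz] at h5
    obtain ⟨x, hx⟩ := (Submodule.Quotient.mk_eq_zero W).1 h0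
    exact ⟨x, hx⟩

end Groth.Sga3.MultType
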