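import Mathlib

/-!
Coalgebra maps into group algebras: their coefficients are orthogonal idempotents of the
convolution algebra, and are rigid modulo ideals.
-/

set_option autoImplicit false

universe u v w

open TensorProduct WithConv Coalgebra

noncomputable section

namespace Groth.Sga3.GroupAlg

variable {R : Type u} [CommRing R]

section Coeff

variable {M : Type v}

/-- the coefficient of `m` -/
def cf (m : M) : MonoidAlgebra R M →ₗ[R] R :=
  Finsupp.lapply m ∘ₗ (MonoidAlgebra.coeffLinearEquiv R).toLinearMap

theorem cf_apply (m : M) (x : MonoidAlgebra R M) : cf m x = x.coeff m := rfl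

theorem cf_single [DecidableEq M] (m n : M) (r : R) :
    cf m (MonoidAlgebra.single n r) = if n = m then r else 0 := by
  simp [cf_apply, MonoidAlgebra.coeff_single, Finsupp.single_apply]

theorem ext_cf {x y : MonoidAlgebra R M} (h : ∀ m, cf m x = cf m y) : x = y := by
  ext m
  exact h m

theorem cf_mul_cf [DecidableEq M] (m n : M) :
    toConv (cf (R := R) m) * toConv (cf n) = if m = n then toConv (cf m) else 0 := by
  apply WithConv.ofConv_injective
  ext a
  rcases eq_or_ne m n with rfl | hmn
  · rcases eq_or_ne a m with rfl | ha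
    · simp [LinearMap.convMul_apply, cf_single]
    · simp [LinearMap.convMul_apply, cf_single, ha]
  · rcases eq_or_ne a m with rfl | ha
    · simp [LinearMap.convMul_apply, cf_single, hmn]
    · simp [LinearMap.convMul_apply, cf_single, ha, hmn]

/-- membership of an ideal after tensoring with the quotient -/
theorem sub_mem_of_tmul_eq {A : Type w} [AddCommGroup A] [Module R A] (I : Ideal R) {x y : A}
    (h : (1 : R ⧸ I) ⊗ₜ[R] x = (1 : R ⧸ I) ⊗ₜ[R] y) (f : A →ₗ[R] R) : f x - f y ∈ I := by
  have := congrArg ((TensorProduct.rid R (R ⧸ I)).toLinearMap ∘ₗ f.lTensor (R ⧸ I)) h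
  simp only [LinearMap.coe_comp, LinearEquiv.coe_coe, Function.comp_apply,
    LinearMap.lTensor_tmul, TensorProduct.rid_tmul] at this
  rw [← Ideal.Quotient.eq]
  simpa [Algebra.smul_def] using this

end Coeff

section Conv

variable {C : Type w} [AddCommGroup C] [Module R C] [Coalgebra R C]

theorem conv_mul_mem {I J : Ideal R} {f g : WithConv (C →ₗ[R] R)} (hf : ∀ c, f c ∈ I)
    (hg : ∀ c, g c ∈ J) (c : C) : (f * g) c ∈ I * J := by
  rw [LinearMap.convMul_apply]
  generalize comul (R := R) c = t
  induction t using TensorProduct.induction_on with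
  | zero => simp
  | tmul a b => simpa using Ideal.mul_mem_mul (hf a) (hg b)
  | add a b ha hb => simp only [map_add]; exact add_mem ha hb

theorem mem_pow_of_idempotent {I : Ideal R} {f : WithConv (C →ₗ[R] R)} (hi : IsIdempotentElem f)
    (hf : ∀ c, f c ∈ I) : ∀ (n : ℕ) (c : C), f c ∈ I ^ n
  | 0, c => by simp
  | n + 1, c => by
    have := conv_mul_mem (mem_pow_of_idempotent hi hf n) hf c
    rwa [hi.eq, ← pow_succ] at this

theorem eq_zero_of_idempotent {I : Ideal R} (hI : IsNilpotent I) {f : WithConv (C →ₗ[R] R)}
    (hi : IsIdempotentElem f) (hf : ∀ c, f c ∈ I) : f = 0 := by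
  obtain ⟨n, hn⟩ := hI
  ext c
  have := mem_pow_of_idempotent hi hf n c
  rw [hn] at this
  simpa using this

/-- idempotents congruent modulo a nilpotent ideal, which commute, are equal -/
theorem idempotent_eq {I : Ideal R} (hI : IsNilpotent I) {f g : WithConv (C →ₗ[R] R)}
    (hf : IsIdempotentElem f) (hg : IsIdempotentElem g) (hc : Commute f g)
    (h : ∀ c, f c - g c ∈ I) : f = g := by
  have key : ∀ {f g : WithConv (C →ₗ[R] R)}, IsIdempotentElem f → IsIdempotentElem g → Commute f g →
      (∀ c, f c - g c ∈ I) → f = f * g := by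
    intro f g hf hg hc h
    have hd : IsIdempotentElem (f * (f - g)) := by
      have hc' : Commute f (f - g) := (Commute.refl f).sub_right hc
      rw [mul_sub, hf.eq, IsIdempotentElem, sub_mul, mul_sub, mul_sub, hf.eq, ← mul_assoc f f g, hf.eq,
        mul_assoc f g f, ← hc.eq, ← mul_assoc f f g, hf.eq, mul_assoc f g (f * g), ← mul_assoc g f g,
        ← hc.eq, mul_assoc f g g, hg.eq, ← mul_assoc, hf.eq]
      abel
    have := eq_zero_of_idempotent hI hd fun c => by
      have := conv_mul_mem (I := ⊤) (f := f) (g := f - g) (fun _ => Submodule.mem_top) (fun c => h c) c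
      simpa using this
    rwa [mul_sub, hf.eq, sub_eq_zero] at this
  calc f = f * g := key hf hg hc h
    _ = g * f := hc.eq
    _ = g := (key hg hf hc.symm fun c => by simpa using neg_mem (h c)).symm

variable {M : Type v}

/-- the coefficient of a coalgebra map into a group algebra -/
def comp (φ : C →ₗc[R] MonoidAlgebra R M) (m : M) : WithConv (C →ₗ[R] R) :=
  toConv (cf m ∘ₗ φ.toLinearMap)

theorem comp_apply (φ : C →ₗc[R] MonoidAlgebra R M) (m : M) (c : C) :
    comp φ m c = cf m (φ c) := rfl

theorem comp_mul [DecidableEq M] (φ : C →ₗc[R] MonoidAlgebra R M) (m n : M) :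
    comp φ m * comp φ n = if m = n then comp φ m else 0 := by
  have h := LinearMap.convMul_comp_coalgHom_distrib (toConv (cf (R := R) m)) (toConv (cf n)) φ
  rw [cf_mul_cf] at h
  split_ifs with hmn
  · subst hmn; rw [if_pos rfl] at h; exact WithConv.ofConv_injective h.symm
  · rw [if_neg hmn] at h; exact WithConv.ofConv_injective (h.symm.trans (LinearMap.zero_comp _))

theorem isIdempotentElem_comp (φ : C →ₗc[R] MonoidAlgebra R M) (m : M) :
    IsIdempotentElem (comp φ m) := by
  classical
  simp [IsIdempotentElem, comp_mul]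

/-- two coalgebra maps into a group algebra congruent modulo a nilpotent ideal are equal, if their
coefficients commute -/
theorem coalgHom_eq {I : Ideal R} (hI : IsNilpotent I) (φ ψ : C →ₗc[R] MonoidAlgebra R M)
    (hc : ∀ m, Commute (comp φ m) (comp ψ m)) (h : ∀ m c, cf m (φ c) - cf m (ψ c) ∈ I) :
    φ = ψ := by
  ext c : 1
  refine ext_cf fun m => ?_
  have := idempotent_eq hI (isIdempotentElem_comp φ m) (isIdempotentElem_comp ψ m) (hc m) (h m)
  exact congrArg (fun f : WithConv (C →ₗ[R] R) => f c) this

end Conv

section Unit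

variable {C : Type w} [Ring C] [Bialgebra R C] {M : Type v} [CommGroup M]

/-- the unit homomorphism -/
def unitHom : C →ₐc[R] MonoidAlgebra R M :=
  (Bialgebra.unitBialgHom R (MonoidAlgebra R M)).comp (Bialgebra.counitBialgHom R C)

theorem unitHom_apply (c : C) :
    (unitHom : C →ₐc[R] MonoidAlgebra R M) c = algebraMap R _ (counit c) := rfl

theorem comp_unitHom [DecidableEq M] (m : M) :
    comp ((unitHom : C →ₐc[R] MonoidAlgebra R M) : C →ₗc[R] MonoidAlgebra R M) m =
      if m = 1 then 1 else 0 := by
  ext c
  change cf m (algebraMap R (MonoidAlgebra R M) (counit c)) = _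
  rw [show algebraMap R (MonoidAlgebra R M) (counit c) = MonoidAlgebra.single 1 (counit c) by simp,
    cf_single]
  rcases eq_or_ne m 1 with rfl | h
  · simp [LinearMap.convOne_def]
  · simp [h, h.symm]

theorem commute_comp_unitHom (φ : C →ₗc[R] MonoidAlgebra R M) (m : M) :
    Commute (comp φ m)
      (comp ((unitHom : C →ₐc[R] MonoidAlgebra R M) : C →ₗc[R] MonoidAlgebra R M) m) := by
  classical
  rw [comp_unitHom]
  split_ifs
  · exact Commute.one_right _
  · exact Commute.zero_right _

end Unit

end Groth.Sga3.GroupAlg
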