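import Groth.Agent.Sga3.MultTypeRigid
import Groth.Agent.Sga3.GroupAlg
import Mathlib.RingTheory.AdicCompletion.Basic

/-!
Auxiliary lemmas for adic limits of homomorphisms: coefficient families in flat coalgebras over a
Noetherian ring, idempotent functionals, coordinates in projective modules.
-/

set_option autoImplicit false

universe u v

open TensorProduct WithConv Coalgebra

noncomputable section

namespace Groth.Sga3.AdicAux

variable {A : Type u} [CommRing A]

/-- Every element of a flat coalgebra over a Noetherian ring lies in the span of a finite family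
stable under comultiplication. -/
theorem exists_coeff_family [IsNoetherianRing A] {C : Type u} [AddCommGroup C] [Module A C]
    [Coalgebra A C] [Module.Flat A C] (x : C) :
    ∃ (n : ℕ) (w : Fin n → C) (cm : Fin n → Fin n → C),
      x ∈ Submodule.span A (Set.range w) ∧
        ∀ i, comul (R := A) (w i) = ∑ j, w j ⊗ₜ[A] cm i j := by
  classical
  obtain ⟨S, hS⟩ := TensorProduct.exists_finset (comul (R := A) x)
  let W0 : Submodule A C := Submodule.span A ((S.image Prod.fst : Finset C) : Set C)
  let h : C →ₗ[A] (C ⧸ W0) ⊗[A] C := W0.mkQ.rTensor C ∘ₗ comul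
  let U : Submodule A C := LinearMap.ker h
  have hxU : x ∈ U := by
    change W0.mkQ.rTensor C (comul (R := A) x) = 0
    rw [hS, map_sum]
    refine Finset.sum_eq_zero fun i hi => ?_
    rw [LinearMap.rTensor_tmul, Submodule.mkQ_apply,
      (Submodule.Quotient.mk_eq_zero W0).2 (Submodule.subset_span
        (Finset.mem_coe.2 (Finset.mem_image_of_mem _ hi))), TensorProduct.zero_tmul]
  have hUW : U ≤ W0 := by
    intro u hu
    have h1 := congrArg (fun z => TensorProduct.rid A (C ⧸ W0) ((counit (R := A)).lTensor _ z))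
      (show W0.mkQ.rTensor C (comul (R := A) u) = 0 from hu)
    rw [map_zero, map_zero] at h1
    have h2 : TensorProduct.rid A (C ⧸ W0)
        ((counit (R := A)).lTensor _ (W0.mkQ.rTensor C (comul (R := A) u))) = W0.mkQ u := by
      have h3 := congrArg (fun z => TensorProduct.rid A (C ⧸ W0) (W0.mkQ.rTensor A z))
        (Coalgebra.lTensor_counit_comul (R := A) u)
      simp only [LinearMap.rTensor_tmul, TensorProduct.rid_tmul, one_smul] at h3
      refine Eq.trans ?_ h3
      generalize comul (R := A) u = t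
      induction t using TensorProduct.induction_on with
      | zero => simp
      | tmul a b => simp
      | add a b ha hb => simp only [map_add, ha, hb]
    rw [h2, Submodule.mkQ_apply, Submodule.Quotient.mk_eq_zero] at h1
    exact h1
  have hUfg : U.FG := (Submodule.fg_span (Finset.finite_toSet _)).of_le hUW
  obtain ⟨n, w, hw⟩ := Submodule.fg_iff_exists_fin_generating_family.1 hUfg
  have hcm : ∀ i, ∃ c : Fin n → C, comul (R := A) (w i) = ∑ j, w j ⊗ₜ[A] c j := by
    intro i
    have hwU : w i ∈ U := hw ▸ Submodule.subset_span ⟨i, rfl⟩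
    have hex : Function.Exact U.subtype h := LinearMap.exact_subtype_ker_map h
    have hk : h.rTensor C (comul (R := A) (w i)) = 0 := by
      have hz : W0.mkQ.rTensor C (comul (R := A) (w i)) = 0 := hwU
      have h1 : h.rTensor C (comul (R := A) (w i)) =
          (TensorProduct.assoc A (C ⧸ W0) C C).symm
            ((comul (R := A)).lTensor (C ⧸ W0) (W0.mkQ.rTensor C (comul (R := A) (w i)))) := by
        rw [show h.rTensor C (comul (R := A) (w i)) =
          (W0.mkQ.rTensor C).rTensor C ((comul (R := A)).rTensor C (comul (R := A) (w i))) by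
            simp only [h, LinearMap.rTensor_comp, LinearMap.comp_apply]]
        rw [← Coalgebra.coassoc_symm_apply]
        generalize comul (R := A) (w i) = t
        induction t using TensorProduct.induction_on with
        | zero => simp
        | add a b ha hb => simp only [map_add, ha, hb]
        | tmul a b =>
          simp only [LinearMap.lTensor_tmul, LinearMap.rTensor_tmul]
          generalize comul (R := A) b = s
          induction s using TensorProduct.induction_on with
          | zero => simp
          | tmul p q => simp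
          | add p q hp hq => simp only [TensorProduct.tmul_add, map_add, hp, hq]
      rw [h1, hz, map_zero, map_zero]
    obtain ⟨y, hy⟩ := (Module.Flat.rTensor_exact C hex _).1 hk
    have hspan : Submodule.span A (Set.range w) = LinearMap.range (Fintype.linearCombination A w) :=
      (Fintype.range_linearCombination A w).symm
    let p : (Fin n → A) →ₗ[A] U := LinearMap.codRestrict U (Fintype.linearCombination A w)
      fun f => by rw [← hw, hspan]; exact ⟨f, rfl⟩
    have hp : Function.Surjective p := fun z => by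
      have hz : (z : C) ∈ Submodule.span A (Set.range w) := by rw [hw]; exact z.2
      rw [hspan] at hz
      obtain ⟨f, hf⟩ := hz
      exact ⟨f, Subtype.ext hf⟩
    obtain ⟨y', rfl⟩ := LinearMap.rTensor_surjective C hp y
    refine ⟨fun j => ((TensorProduct.piScalarRight A A C (Fin n)) (TensorProduct.comm A _ _ y')) j,
      ?_⟩
    rw [← hy, ← LinearMap.comp_apply, ← LinearMap.rTensor_comp]
    clear hy
    induction y' using TensorProduct.induction_on with
    | zero => simp
    | tmul f c =>
      rw [LinearMap.rTensor_tmul, LinearMap.comp_apply]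
      change (Fintype.linearCombination A w f) ⊗ₜ[A] c = _
      rw [Fintype.linearCombination_apply, TensorProduct.sum_tmul]
      refine Finset.sum_congr rfl fun j _ => ?_
      rw [TensorProduct.smul_tmul]
      simp
    | add a b ha hb => simp only [map_add, Pi.add_apply, TensorProduct.tmul_add, Finset.sum_add_distrib, ha, hb]
  choose cm hcm using hcm
  exact ⟨n, w, cm, hw.symm ▸ hxU, hcm⟩

/-- An idempotent functional whose coefficient values are small is small on the family. -/
theorem mem_pow_of_coeff {T : Type u} [CommRing T] {C : Type u} [AddCommGroup C] [Module T C]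
    [Coalgebra T C] {E : WithConv (C →ₗ[T] T)} (hE : IsIdempotentElem E) {n : ℕ} (w : Fin n → C)
    (cm : Fin n → Fin n → C) (hw : ∀ i, comul (R := T) (w i) = ∑ j, w j ⊗ₜ[T] cm i j)
    {K : Ideal T} (hK : ∀ i j, E (cm i j) ∈ K) : ∀ (k : ℕ) (i : Fin n), E (w i) ∈ K ^ k
  | 0, i => by simp
  | k + 1, i => by
    rw [← hE.eq, LinearMap.convMul_apply, hw, map_sum, map_sum, pow_succ]
    refine Ideal.sum_mem _ fun j _ => ?_
    simpa using Ideal.mul_mem_mul (mem_pow_of_coeff hE w cm hw hK k j) (hK i j)

section Proj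

variable {N : Type u} [AddCommGroup N] [Module A N]

/-- coordinates of a tensor with a quotient of the base -/
def coord (K : Ideal A) {ι : Type v} (i : N →ₗ[A] ι →₀ A) (j : ι) : (A ⧸ K) ⊗[A] N →ₗ[A] A ⧸ K :=
  (TensorProduct.rid A (A ⧸ K)).toLinearMap ∘ₗ (Finsupp.lapply j ∘ₗ i).lTensor (A ⧸ K)

theorem coord_tmul (K : Ideal A) {ι : Type v} (i : N →ₗ[A] ι →₀ A) (j : ι) (r : A ⧸ K) (b : N) :
    coord K i j (r ⊗ₜ b) = i b j • r := by simp [coord]

theorem coord_one_tmul (K : Ideal A) {ι : Type v} (i : N →ₗ[A] ι →₀ A) (j : ι) (b : N) :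
    coord K i j ((1 : A ⧸ K) ⊗ₜ b) = Ideal.Quotient.mk K (i b j) := by
  rw [coord_tmul, Algebra.smul_def, mul_one, Ideal.Quotient.algebraMap_eq]

theorem exists_eq_one_tmul (K : Ideal A) (z : (A ⧸ K) ⊗[A] N) :
    ∃ b : N, (1 : A ⧸ K) ⊗ₜ[A] b = z := by
  induction z using TensorProduct.induction_on with
  | zero => exact ⟨0, TensorProduct.tmul_zero _ _⟩
  | add x y hx hy =>
    obtain ⟨a, rfl⟩ := hx; obtain ⟨b, rfl⟩ := hy
    exact ⟨a + b, TensorProduct.tmul_add _ _ _⟩
  | tmul r x =>
    obtain ⟨r, rfl⟩ := Ideal.Quotient.mk_surjective r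
    exact ⟨r • x, by rw [← TensorProduct.smul_tmul, Algebra.smul_def, mul_one,
      Ideal.Quotient.algebraMap_eq]⟩

theorem ext_coord (K : Ideal A) {ι : Type v} {i : N →ₗ[A] ι →₀ A} {q : (ι →₀ A) →ₗ[A] N}
    (hq : q ∘ₗ i = LinearMap.id) {z z' : (A ⧸ K) ⊗[A] N}
    (h : ∀ j, coord K i j z = coord K i j z') : z = z' := by
  obtain ⟨b, rfl⟩ := exists_eq_one_tmul K z
  obtain ⟨b', rfl⟩ := exists_eq_one_tmul K z'
  have hb : b - b' = q (i (b - b')) := (LinearMap.congr_fun hq (b - b')).symm
  rw [← sub_eq_zero, ← TensorProduct.tmul_sub, hb, ← Finsupp.sum_single (i (b - b')), map_finsuppSum,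
    Finsupp.sum, TensorProduct.tmul_sum]
  refine Finset.sum_eq_zero fun j _ => ?_
  have hj : i (b - b') j ∈ K := by
    rw [map_sub, Finsupp.sub_apply, ← Ideal.Quotient.eq, ← coord_one_tmul, ← coord_one_tmul, h j]
  rw [← Finsupp.smul_single_one, map_smul, ← TensorProduct.smul_tmul, Algebra.smul_def,
    Ideal.Quotient.algebraMap_eq, Ideal.Quotient.eq_zero_iff_mem.2 hj, zero_mul,
    TensorProduct.zero_tmul]

theorem eq_of_forall_tmul_eq [Module.Projective A N] (I : Ideal A) [IsHausdorff I A] {x y : N}
    (h : ∀ n : ℕ, (1 : A ⧸ I ^ (n + 1)) ⊗ₜ[A] x = (1 : A ⧸ I ^ (n + 1)) ⊗ₜ[A] y) : x = y := by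
  obtain ⟨i, hi⟩ := Module.projective_def'.mp ‹Module.Projective A N›
  have hinj : Function.Injective i := fun a b hab => by
    have := congrArg (Finsupp.linearCombination A id) hab
    rwa [← LinearMap.comp_apply, ← LinearMap.comp_apply, hi] at this
  refine hinj (Finsupp.ext fun j => ?_)
  rw [← sub_eq_zero]
  refine IsHausdorff.haus (I := I) ‹_› _ fun n => ?_
  rw [SModEq.zero, smul_eq_mul, Ideal.mul_top]
  have h1 := congrArg (coord (I ^ (n + 1)) i j) (h n)
  rw [coord_one_tmul, coord_one_tmul, Ideal.Quotient.eq] at h1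
  exact Ideal.pow_le_pow_right (Nat.le_succ n) h1

theorem exists_limit [Module.Projective A N] (I : Ideal A) [IsAdicComplete I A]
    {ι : Type v} {i : N →ₗ[A] ι →₀ A} {q : (ι →₀ A) →ₗ[A] N} (hq : q ∘ₗ i = LinearMap.id)
    (z : ∀ n : ℕ, (A ⧸ I ^ (n + 1)) ⊗[A] N)
    (hz : ∀ n, (Ideal.Quotient.factorₐ A (Ideal.pow_le_pow_right (Nat.le_succ (n + 1)))).toLinearMap.rTensor N
      (z (n + 1)) = z n)
    (s : Finset ι) (hs : ∀ n, ∀ j ∉ s, coord (I ^ (n + 1)) i j (z n) = 0) :
    ∃ b : N, ∀ n, (1 : A ⧸ I ^ (n + 1)) ⊗ₜ[A] b = z n := by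
  classical
  choose rep hrep using fun n => exists_eq_one_tmul (I ^ (n + 1)) (z n)
  have hcauchy : ∀ j, ∀ {m n : ℕ}, m ≤ n → i (rep n) j - i (rep m) j ∈ I ^ (m + 1) := by
    intro j m n hmn
    induction n, hmn using Nat.le_induction with
    | base => simp
    | succ n hmn ih =>
      have h1 := hz n
      rw [← hrep, ← hrep, LinearMap.rTensor_tmul] at h1
      simp only [AlgHom.toLinearMap_apply, map_one] at h1
      have h2 := congrArg (coord (I ^ (n + 1)) i j) h1
      rw [coord_one_tmul, coord_one_tmul, Ideal.Quotient.eq] at h2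
      have h3 := add_mem (Ideal.pow_le_pow_right (Nat.add_le_add_right hmn 1) h2) ih
      simpa using h3
  have hL : ∀ j, ∃ L : A, ∀ n, i (rep n) j - L ∈ I ^ (n + 1) := by
    intro j
    obtain ⟨L, hL⟩ := IsPrecomplete.prec (I := I) inferInstance (f := fun n => i (rep n) j) (fun {m n} hmn => by
      rw [SModEq.sub_mem, smul_eq_mul, Ideal.mul_top]
      have := neg_mem (Ideal.pow_le_pow_right (Nat.le_succ m) (hcauchy j hmn))
      simpa using this)
    refine ⟨L, fun n => ?_⟩
    have h1 := hL (n + 1)
    rw [SModEq.sub_mem, smul_eq_mul, Ideal.mul_top] at h1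
    have h2 := sub_mem h1 (hcauchy j (Nat.le_succ n))
    simpa using h2
  choose L hL using hL
  let f : ι →₀ A := ∑ j ∈ s, Finsupp.single j (L j)
  let b0 := q f
  -- coordinates of a projected vector
  refine ⟨b0, fun n => ?_⟩
  have hqi : ∀ b : N, q (i b) = b := fun b => LinearMap.congr_fun hq b
  rw [← hrep n, ← sub_eq_zero, ← TensorProduct.tmul_sub, ← hqi (rep n)]
  change (1 : A ⧸ I ^ (n + 1)) ⊗ₜ[A] (q f - q (i (rep n))) = 0
  rw [← map_sub, ← Finsupp.sum_single (f - i (rep n)), map_finsuppSum, Finsupp.sum, TensorProduct.tmul_sum]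
  refine Finset.sum_eq_zero fun j _ => ?_
  have hj : (f - i (rep n)) j ∈ I ^ (n + 1) := by
    rw [Finsupp.sub_apply, show f j = if j ∈ s then L j else 0 by
      simp [f, Finsupp.finsetSum_apply, Finsupp.single_apply]]
    split_ifs with hjs
    · simpa using neg_mem (hL j n)
    · have := hs n j hjs
      rw [← hrep, coord_one_tmul, Ideal.Quotient.eq_zero_iff_mem] at this
      simpa using neg_mem this
  rw [← Finsupp.smul_single_one, map_smul, ← TensorProduct.smul_tmul, Algebra.smul_def,
    Ideal.Quotient.algebraMap_eq, Ideal.Quotient.eq_zero_iff_mem.2 hj, zero_mul,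
    TensorProduct.zero_tmul]

end Proj

end Groth.Sga3.AdicAux
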