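import Groth.Agent.Sga3.GroupAlg

/-!
Group-like elements of a group algebra over an arbitrary ring: their coefficients are complete
orthogonal idempotents; rigidity and lifting modulo a nil ideal.
-/

set_option autoImplicit false

universe u v

open TensorProduct WithConv Coalgebra

noncomputable section

namespace Groth.Sga3.GroupAlg

variable {S : Type u} [CommRing S] {N : Type v} [CommGroup N]

theorem groupLike_coeff_mul [DecidableEq N] {h : MonoidAlgebra S N} (hh : IsGroupLikeElem S h)
    (n m : N) : cf n h * cf m h = if n = m then cf n h else 0 := by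
  have h1 := congrArg (fun f : WithConv (MonoidAlgebra S N →ₗ[S] S) => f h) (cf_mul_cf (R := S) n m)
  simp only [LinearMap.convMul_apply, hh.comul_eq_tmul_self, TensorProduct.map_tmul,
    LinearMap.mul'_apply] at h1
  refine h1.trans ?_
  split_ifs <;> simp

theorem groupLike_coeff_idem {h : MonoidAlgebra S N} (hh : IsGroupLikeElem S h) (n : N) :
    IsIdempotentElem (cf n h) := by
  classical
  simpa [IsIdempotentElem] using groupLike_coeff_mul hh n n

theorem groupLike_coeff_sum {h : MonoidAlgebra S N} (hh : IsGroupLikeElem S h) :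
    ∑ n ∈ h.coeff.support, cf n h = 1 := by
  conv_rhs => rw [← hh.counit_eq_one, ← MonoidAlgebra.sum_coeff_single h, Finsupp.sum, map_sum]
  exact Finset.sum_congr rfl fun n _ => by simp [cf_apply]

/-- group-like elements congruent modulo a nil ideal are equal -/
theorem groupLike_eq {J : Ideal S} (hJ : ∀ x ∈ J, IsNilpotent x) {g h : MonoidAlgebra S N}
    (hg : IsGroupLikeElem S g) (hh : IsGroupLikeElem S h) (hd : ∀ n, cf n g - cf n h ∈ J) : g = h :=
  ext_cf fun n => eq_of_isNilpotent_sub_of_isIdempotentElem (groupLike_coeff_idem hg n)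
    (groupLike_coeff_idem hh n) (hJ _ (hd n))

theorem isGroupLikeElem_sum {ι : Type*} [Fintype ι] (f : ι → N) {c : ι → S}
    (hc : CompleteOrthogonalIdempotents c) :
    IsGroupLikeElem S (∑ i, MonoidAlgebra.single (f i) (c i)) := by
  classical
  refine ⟨?_, ?_⟩
  · rw [map_sum, ← hc.complete]
    exact Finset.sum_congr rfl fun i _ => by simp
  · rw [map_sum, TensorProduct.sum_tmul]
    refine Finset.sum_congr rfl fun i _ => ?_
    rw [TensorProduct.tmul_sum, Finset.sum_eq_single i]
    · have h1 : ∀ (n : N) (r : S), MonoidAlgebra.single n r = r • MonoidAlgebra.single n (1 : S) := by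
        intro n r; simp
      rw [h1, map_smul, (MonoidAlgebra.isGroupLikeElem_single_one (f i)).comul_eq_tmul_self,
        TensorProduct.smul_tmul_smul, (hc.idem i).eq]
    · intro j _ hj
      have h1 : ∀ (n : N) (r : S), MonoidAlgebra.single n r = r • MonoidAlgebra.single n (1 : S) := by
        intro n r; simp
      rw [h1 (f i), h1 (f j), TensorProduct.smul_tmul_smul, hc.ortho hj.symm, zero_smul]
    · simp

/-- an element whose image modulo a nil ideal is group-like lifts to a group-like element -/
theorem exists_groupLike {J : Ideal S} (hJ : ∀ x ∈ J, IsNilpotent x) (a : MonoidAlgebra S N)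
    (h : IsGroupLikeElem (S ⧸ J) (MonoidAlgebra.mapRingHom N (Ideal.Quotient.mk J) a)) :
    ∃ g : MonoidAlgebra S N, IsGroupLikeElem S g ∧ ∀ n, cf n g - cf n a ∈ J := by
  classical
  set b := MonoidAlgebra.mapRingHom N (Ideal.Quotient.mk J) a with hb
  have hcf : ∀ n, cf n b = Ideal.Quotient.mk J (cf n a) := fun n => by
    simp [hb, cf_apply, MonoidAlgebra.coe_mapRingHom]
  let ι := {n // n ∈ b.coeff.support}
  let c : ι → S ⧸ J := fun i => cf i.1 b
  have hc : CompleteOrthogonalIdempotents c :=
    ⟨⟨fun i => groupLike_coeff_idem h i.1, fun i j hij =>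
        (groupLike_coeff_mul h i.1 j.1).trans (if_neg fun hh => hij (Subtype.ext hh))⟩,
      (Finset.sum_coe_sort b.coeff.support fun n => cf n b).trans (groupLike_coeff_sum h)⟩
  obtain ⟨c', hc', hcc⟩ := CompleteOrthogonalIdempotents.lift_of_isNilpotent_ker
    (Ideal.Quotient.mk J) (fun x hx => hJ x (by rwa [Ideal.mk_ker] at hx)) hc
    (fun i => Ideal.Quotient.mk_surjective (c i))
  refine ⟨_, isGroupLikeElem_sum (fun i : ι => i.1) hc', fun n => ?_⟩
  rw [← Ideal.Quotient.eq, ← hcf, map_sum, map_sum]
  simp only [cf_single]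
  by_cases hn : n ∈ b.coeff.support
  · rw [Finset.sum_eq_single (⟨n, hn⟩ : ι)]
    · rw [if_pos rfl]; exact congrFun hcc ⟨n, hn⟩
    · intro i _ hi
      rw [if_neg (fun hh => hi (Subtype.ext hh)), map_zero]
    · simp
  · rw [Finset.sum_eq_zero fun i _ => ?_]
    · exact (Finsupp.notMem_support_iff.1 hn).symm
    · rw [if_neg (fun (hh : i.1 = n) => hn (hh ▸ i.2)), map_zero]

end Groth.Sga3.GroupAlg
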