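import Groth.Agent.Sga3.CharFunctions
import Groth.Agent.Sga3.GroupAlgGroupLike
import Groth.Agent.Hensel1.Pairs
import Mathlib.RingTheory.TensorProduct.Quotient
import Mathlib.RingTheory.LocalRing.ResidueField.Basic
import Mathlib.RingTheory.Finiteness.Projective

/-!
Over a henselian local ring, the characters of a group of multiplicative type of finite type lift
from the closed fibre.
-/

set_option autoImplicit false

universe u

open TensorProduct Coalgebra WithConv IsLocalRing

noncomputable section

namespace Groth.Sga3.CharLift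

open SGA3b MultType GroupAlg CharFun

variable {R : Type u} [CommRing R] {A : Type u} [CommRing A] [HopfAlgebra R A]
  {S : Type u} [CommRing S] [Algebra R S] {M : Type u} [CommGroup M]
  (e : S ⊗[R] A ≃ₐc[S] MonoidAlgebra S M)

/-- the quotient by a torsion ideal is projective -/
theorem projective_quotient_torsionIdeal [Module.FaithfullyFlat R S]
    (e : S ⊗[R] A ≃ₐc[S] MonoidAlgebra S M) (n : ℕ) :
    Module.Projective R (A ⧸ torsionIdeal R A n) := by
  let N := (powMonoidHom (α := M) n).range
  let π : MonoidAlgebra S M →ₐ[S] MonoidAlgebra S (M ⧸ N) :=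
    (MonoidAlgebra.mapDomainBialgHom S (QuotientGroup.mk' N) : MonoidAlgebra S M →ₐ[S] _)
  let f : S ⊗[R] A →ₐ[S] MonoidAlgebra S (M ⧸ N) := π.comp (e : S ⊗[R] A →ₐ[S] MonoidAlgebra S M)
  have hf : Function.Surjective f := (mapDomain_mk'_surjective S N).comp e.surjective
  have hker : RingHom.ker f = (torsionIdeal R A n).map
      (Algebra.TensorProduct.includeRight : A →ₐ[R] S ⊗[R] A) := by
    rw [← torsionIdeal_baseChange]
    ext z
    constructor
    · intro hz
      have h1 : e z ∈ torsionIdeal S (MonoidAlgebra S M) n := by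
        rw [torsionIdeal_monoidAlgebra]; exact hz
      have h2 := Ideal.mem_map_of_mem (e.symm : MonoidAlgebra S M →ₐc[S] S ⊗[R] A) h1
      rw [map_torsionIdeal e.symm] at h2
      simpa using h2
    · intro hz
      have h2 := Ideal.mem_map_of_mem (e : S ⊗[R] A →ₐc[S] MonoidAlgebra S M) hz
      rw [map_torsionIdeal e, torsionIdeal_monoidAlgebra] at h2
      exact h2
  let E : S ⊗[R] (A ⧸ torsionIdeal R A n) ≃ₐ[S] MonoidAlgebra S (M ⧸ N) :=
    (Algebra.TensorProduct.tensorQuotientEquiv (R := R) S A S (torsionIdeal R A n)).trans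
      ((Ideal.quotientEquivAlgOfEq S hker.symm).trans (Ideal.quotientKerAlgEquivOfSurjective hf))
  haveI : Module.Projective S (MonoidAlgebra S (M ⧸ N)) :=
    Module.Projective.of_equiv (MonoidAlgebra.coeffLinearEquiv S).symm
  haveI : Module.Projective S (S ⊗[R] (A ⧸ torsionIdeal R A n)) :=
    Module.Projective.of_equiv E.toLinearEquiv.symm
  exact Groth.Calg1.projective_descent (R := R) (S := S) _

theorem isGroupLikeElem_of_tmul [Module.FaithfullyFlat R S] {g : A}
    (hg : IsGroupLikeElem S ((1 : S) ⊗ₜ[R] g)) : IsGroupLikeElem R g := by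
  refine ⟨?_, ?_⟩
  · have h1 := hg.counit_eq_one
    rw [TensorProduct.counit_tmul, CommSemiring.counit_apply, Algebra.smul_def, mul_one] at h1
    exact RingHom.FaithfullyFlat.injective
      (RingHom.faithfullyFlat_algebraMap_iff.2 (inferInstance : Module.FaithfullyFlat R S))
      (h1.trans (map_one _).symm)
  · refine one_tmul_injective_of_faithfullyFlat (R := R) S (A ⊗[R] A) ?_
    have h1 := hg.comul_eq_tmul_self
    rw [TensorProduct.comul_tmul, CommSemiring.comul_apply] at h1
    refine (TensorProduct.AlgebraTensorModule.distribBaseChange R S A A).injective ?_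
    change TensorProduct.AlgebraTensorModule.distribBaseChange R S A A _ =
      TensorProduct.AlgebraTensorModule.distribBaseChange R S A A _
    rw [TensorProduct.AlgebraTensorModule.distribBaseChange_tmul, ← h1]
    generalize comul (R := R) g = t
    induction t using TensorProduct.induction_on with
    | zero => simp
    | tmul p q => rfl
    | add p q hp hq => simp only [TensorProduct.tmul_add, map_add, hp, hq]

variable [IsLocalRing R] [IsLocalRing S] [IsLocalHom (algebraMap R S)]

variable (R A S) in
/-- reduction to the residue field of the splitting ring -/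
def redS : S ⊗[R] A →ₐ[R] ResidueField S ⊗[R] A :=
  Algebra.TensorProduct.map (IsScalarTower.toAlgHom R S (ResidueField S)) (AlgHom.id R A)

variable (R A S) in
/-- reduction of the closed fibre to the residue field of the splitting ring -/
def redk : ResidueField R ⊗[R] A →ₐ[R] ResidueField S ⊗[R] A :=
  Algebra.TensorProduct.map
    (IsScalarTower.toAlgHom R (ResidueField R) (ResidueField S)) (AlgHom.id R A)

/-- a residual functional seen on the residue field of the splitting ring -/
def resFun (φ : A →ₗ[R] ResidueField R) : ResidueField S ⊗[R] A →ₗ[ResidueField S] ResidueField S :=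
  TensorProduct.AlgebraTensorModule.lift
    (LinearMap.toSpanSingleton (ResidueField S) _
      ((IsScalarTower.toAlgHom R (ResidueField R) (ResidueField S)).toLinearMap ∘ₗ φ))

theorem resFun_tmul (φ : A →ₗ[R] ResidueField R) (t : ResidueField S) (a : A) :
    resFun (S := S) φ (t ⊗ₜ a) = t * algebraMap (ResidueField R) (ResidueField S) (φ a) := rfl

theorem resFun_redk (φ : ResidueField R ⊗[R] A →ₗ[ResidueField R] ResidueField R)
    (w : ResidueField R ⊗[R] A) :
    resFun (S := S) ((φ.restrictScalars R) ∘ₗ TensorProduct.mk R (ResidueField R) A 1) (redk R A S w) =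
      algebraMap (ResidueField R) (ResidueField S) (φ w) := by
  induction w using TensorProduct.induction_on with
  | zero => simp
  | add x y hx hy => simp only [map_add, hx, hy]
  | tmul t a =>
    simp only [redk, resFun_tmul, Algebra.TensorProduct.map_tmul, AlgHom.id_apply, LinearMap.comp_apply,
      LinearMap.coe_restrictScalars, TensorProduct.mk_apply, IsScalarTower.coe_toAlgHom']
    rw [← map_mul, ← smul_eq_mul, ← map_smul, TensorProduct.smul_tmul', smul_eq_mul, mul_one]

theorem residue_extendScalar (φ : A →ₗ[R] R) (z : S ⊗[R] A) :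
    residue S (extendScalar S φ z) =
      resFun (S := S) ((Algebra.linearMap R (ResidueField R)) ∘ₗ φ) (redS R A S z) := by
  induction z using TensorProduct.induction_on with
  | zero => simp
  | add x y hx hy => simp only [map_add, hx, hy]
  | tmul s a =>
    rw [extendScalar_tmul]
    simp only [redS, Algebra.TensorProduct.map_tmul, AlgHom.id_apply, resFun_tmul, LinearMap.comp_apply,
      Algebra.linearMap_apply, Algebra.smul_def, map_mul, IsScalarTower.coe_toAlgHom']
    rw [mul_comm]
    congr 1

variable {M₀ : Type u} [CommGroup M₀]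
  (e₀ : ResidueField R ⊗[R] A ≃ₐc[ResidueField R] MonoidAlgebra (ResidueField R) M₀) (σ : M ≃* M₀)

/-- the functional of a class, on the closed fibre -/
def classInd (n : ℕ) (m : M) : ResidueField R ⊗[R] A →ₗ[ResidueField R] ResidueField R :=
  (cf (QuotientGroup.mk' (powMonoidHom (α := M₀) n).range (σ m))) ∘ₗ
    (MonoidAlgebra.mapDomainBialgHom (ResidueField R)
      (QuotientGroup.mk' (powMonoidHom (α := M₀) n).range) :
        MonoidAlgebra (ResidueField R) M₀ →ₐ[ResidueField R] _).toLinearMap ∘ₗ
      (e₀ : ResidueField R ⊗[R] A ≃ₐ[ResidueField R] MonoidAlgebra (ResidueField R) M₀).toLinearMap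

theorem classInd_chr (n : ℕ) (m j : M) [DecidableEq M] [Decidable (j⁻¹ * m ∈ (powMonoidHom (α := M) n).range)] :
    classInd e₀ σ n m (e₀.symm (MonoidAlgebra.single (σ j) 1)) =
      if j⁻¹ * m ∈ (powMonoidHom (α := M) n).range then 1 else 0 := by
  classical
  change cf _ (MonoidAlgebra.mapDomainBialgHom (ResidueField R) _ (e₀ (e₀.symm _))) = _
  rw [BialgEquiv.apply_symm_apply, MonoidAlgebra.mapDomainBialgHom_single, cf_single]
  refine if_congr ?_ rfl rfl
  rw [QuotientGroup.mk'_apply, QuotientGroup.mk'_apply, QuotientGroup.eq, ← map_inv, ← map_mul]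
  constructor
  · rintro ⟨z, hz⟩
    refine ⟨σ.symm z, σ.injective ?_⟩
    rw [powMonoidHom_apply, map_pow, MulEquiv.apply_symm_apply]
    exact hz
  · rintro ⟨z, hz⟩
    exact ⟨σ z, by rw [powMonoidHom_apply, ← map_pow]; exact congrArg σ hz⟩

theorem classInd_torsion (n : ℕ) (m : M) {t : A} (ht : t ∈ torsionIdeal R A n) :
    classInd e₀ σ n m ((1 : ResidueField R) ⊗ₜ[R] t) = 0 := by
  have h : e₀ ((1 : ResidueField R) ⊗ₜ[R] t) ∈
      torsionIdeal (ResidueField R) (MonoidAlgebra (ResidueField R) M₀) n := by
    have h1 : (1 : ResidueField R) ⊗ₜ[R] t ∈ torsionIdeal (ResidueField R) (ResidueField R ⊗[R] A) n := by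
      rw [torsionIdeal_baseChange]
      exact Ideal.mem_map_of_mem
        (Algebra.TensorProduct.includeRight : A →ₐ[R] ResidueField R ⊗[R] A) ht
    rw [← map_torsionIdeal e₀]
    exact Ideal.mem_map_of_mem
      (e₀ : ResidueField R ⊗[R] A →ₐc[ResidueField R] MonoidAlgebra (ResidueField R) M₀) h1
  rw [torsionIdeal_monoidAlgebra, RingHom.mem_ker] at h
  change cf _ (MonoidAlgebra.mapDomainBialgHom (ResidueField R) _ (e₀ _)) = 0
  rw [h, map_zero]

variable [HenselianLocalRing R] [Module.FaithfullyFlat R S]

include e in
/-- The class functionals lift to idempotents. -/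
theorem exists_class_idempotent (hft : Algebra.FiniteType R A) (h : IsMultType R A)
    (hcomp : ∀ j, redS R A S (chr e j) = redk R A S (e₀.symm (MonoidAlgebra.single (σ j) 1)))
    {n : ℕ} (hn : 0 < n) (m : M) :
    ∃ φ : WithConv (A →ₗ[R] R), ∀ j, (j⁻¹ * m ∈ (powMonoidHom (α := M) n).range → ev e φ j = 1) ∧
      (j⁻¹ * m ∉ (powMonoidHom (α := M) n).range → ev e φ j = 0) := by
  classical
  let B := A ⧸ torsionIdeal R A n
  have hfin : Module.Finite R B := finite_quotient_torsionIdeal hft h hn
  have hproj : Module.Projective R B := projective_quotient_torsionIdeal e n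
  let q : A →ₗ[R] B := (Ideal.Quotient.mkₐ R (torsionIdeal R A n)).toLinearMap
  let D := classFun e n
  let Θ : (B →ₗ[R] R) →ₗ[R] D :=
    { toFun := fun φ => ⟨toConv (φ ∘ₗ q), (kills_iff e n).2 fun t ht => by
        change φ (Ideal.Quotient.mk _ t) = 0
        rw [Ideal.Quotient.eq_zero_iff_mem.2 ht, map_zero]⟩
      map_add' := fun _ _ => rfl
      map_smul' := fun _ _ => rfl }
  have hΘ : Function.Surjective Θ := fun φ => by
    refine ⟨Submodule.liftQ ((torsionIdeal R A n).restrictScalars R) φ.1.ofConv
      (fun t ht => (kills_iff e n).1 φ.2 t ht), Subtype.ext (WithConv.ofConv_injective ?_)⟩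
    exact LinearMap.ext fun a => rfl
  have : Module.Finite R (B →ₗ[R] R) := inferInstance
  have : Module.Finite R D := Module.Finite.of_surjective Θ hΘ
  letI : CommRing D :=
    { (inferInstance : Ring D) with
      mul_comm := fun a b => Subtype.ext (ev_injective e (by
        rw [Subalgebra.coe_mul, Subalgebra.coe_mul, map_mul, map_mul, mul_comm])) }
  have : Algebra.IsIntegral R D := Algebra.IsIntegral.of_finite R D
  -- a lift of the residual functional
  let Ib : A →ₗ[R] ResidueField R :=
    ((classInd e₀ σ n m).restrictScalars R) ∘ₗ TensorProduct.mk R (ResidueField R) A 1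
  let Ib' : B →ₗ[R] ResidueField R := Submodule.liftQ ((torsionIdeal R A n).restrictScalars R) Ib
    (fun t ht => classInd_torsion e₀ σ n m ht)
  obtain ⟨φ₀, hφ₀⟩ := Module.projective_lifting_property (Algebra.linearMap R (ResidueField R)) Ib'
    (residue_surjective (R := R))
  let d₀ : D := Θ φ₀
  have hres : ∀ j, residue S (ev e d₀.1 j) =
      if j⁻¹ * m ∈ (powMonoidHom (α := M) n).range then 1 else 0 := by
    intro j
    rw [ev_apply, residue_extendScalar, hcomp]
    have h1 : (Algebra.linearMap R (ResidueField R)) ∘ₗ d₀.1.ofConv = Ib := by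
      change (Algebra.linearMap R (ResidueField R)) ∘ₗ (φ₀ ∘ₗ q) = Ib
      rw [← LinearMap.comp_assoc, hφ₀]
      exact Submodule.liftQ_mkQ _ _ _
    rw [h1, resFun_redk, classInd_chr]
    split_ifs <;> simp
  -- it is idempotent modulo the maximal ideal
  have hsmall : ∀ d : D, (∀ j, ev e d.1 j ∈ maximalIdeal S) →
      d ∈ (maximalIdeal R).map (algebraMap R D) := by
    intro d hd
    have hval : ∀ a, d.1.ofConv a ∈ maximalIdeal R := by
      intro a
      by_contra hna
      rw [mem_maximalIdeal, mem_nonunits_iff, not_not] at hna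
      have h1 : algebraMap R S (d.1.ofConv a) ∈ maximalIdeal S := by
        rw [Algebra.algebraMap_eq_smul_one, ← extendScalar_tmul, extendScalar_eq_sum e]
        exact Ideal.sum_mem _ fun j _ => Ideal.mul_mem_left _ _ (hd j)
      exact h1 (hna.map (algebraMap R S))
    obtain ⟨r, p, i, -, -, hpi⟩ := Module.Finite.exists_comp_eq_id_of_projective R B
    let ψ : B →ₗ[R] R := Submodule.liftQ ((torsionIdeal R A n).restrictScalars R) d.1.ofConv
      (fun t ht => (kills_iff e n).1 d.2 t ht)
    have hψ : Θ ψ = d := Subtype.ext (WithConv.ofConv_injective (LinearMap.ext fun a => rfl))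
    have hdec : ψ = ∑ k, ψ (p (Pi.single k 1)) • (LinearMap.proj k ∘ₗ i) := by
      refine LinearMap.ext fun b => ?_
      conv_lhs => rw [← LinearMap.id_apply (R := R) b, ← hpi, LinearMap.comp_apply,
        ← Finset.univ_sum_single (i b), map_sum, map_sum]
      rw [LinearMap.sum_apply]
      refine Finset.sum_congr rfl fun k _ => ?_
      rw [show Pi.single k (i b k) = i b k • (Pi.single k (1 : R) : Fin r → R) by
        rw [← Pi.single_smul, smul_eq_mul, mul_one], map_smul, map_smul]
      simp [mul_comm]
    rw [← hψ, hdec, map_sum]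
    refine Ideal.sum_mem _ fun k _ => ?_
    rw [map_smul, Algebra.smul_def]
    refine Ideal.mul_mem_right _ _ (Ideal.mem_map_of_mem _ ?_)
    obtain ⟨a, ha⟩ := Ideal.Quotient.mk_surjective (p (Pi.single k 1))
    rw [← ha]
    exact hval a
  have hidem : IsIdempotentElem (Ideal.Quotient.mk ((maximalIdeal R).map (algebraMap R D)) d₀) := by
    rw [IsIdempotentElem, ← map_mul, Ideal.Quotient.eq]
    refine hsmall _ fun j => ?_
    rw [← residue_eq_zero_iff]
    change residue S (ev e (d₀.1 * d₀.1 - d₀.1) j) = 0
    rw [map_sub, map_mul, Pi.sub_apply, Pi.mul_apply, map_sub, map_mul, hres]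
    split_ifs <;> simp
  obtain ⟨d, hd, hdd⟩ := (Groth.Hensel1.bijOn_idempotents (I := maximalIdeal R) D).surjOn hidem
  refine ⟨d.1, fun j => ?_⟩
  have hj : IsIdempotentElem (ev e d.1 j) := by
    have h1 := congrArg (fun x : D => ev e x.1 j) hd
    simpa [IsIdempotentElem] using h1
  have hdiff : residue S (ev e d.1 j) = residue S (ev e d₀.1 j) := by
    have hk : ∀ x : D, x ∈ (maximalIdeal R).map (algebraMap R D) → ∀ j, ev e x.1 j ∈ maximalIdeal S := by
      intro x hx
      induction hx using Submodule.span_induction with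
      | mem x hx =>
        obtain ⟨r, hr, rfl⟩ := hx
        intro j
        have : ev e (algebraMap R D r).1 j = algebraMap R S r := by
          change ev e (algebraMap R (WithConv (A →ₗ[R] R)) r) j = _
          rw [Algebra.algebraMap_eq_smul_one, ev_smul, map_one, Algebra.algebraMap_eq_smul_one]
          rfl
        rw [this]
        exact map_nonunit (algebraMap R S) r hr
      | zero =>
        intro j
        change ev e 0 j ∈ _
        simp
      | add x y _ _ hx hy =>
        intro j
        change ev e (x.1 + y.1) j ∈ _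
        rw [map_add]
        exact add_mem (hx j) (hy j)
      | smul c x _ hx =>
        intro j
        change ev e (c.1 * x.1) j ∈ _
        rw [map_mul]
        exact Ideal.mul_mem_left _ _ (hx j)
    have h2 := hk _ (Ideal.Quotient.eq.1 hdd) j
    rw [← residue_eq_zero_iff] at h2
    change residue S (ev e (d.1 - d₀.1) j) = 0 at h2
    rwa [map_sub, Pi.sub_apply, map_sub, sub_eq_zero] at h2
  rw [hres] at hdiff
  have h01 : ev e d.1 j = 0 ∨ ev e d.1 j = 1 := by
    rcases IsLocalRing.isUnit_or_isUnit_one_sub_self (ev e d.1 j) with hu | hu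
    · exact Or.inr (hu.mul_left_cancel (hj.eq.trans (mul_one _).symm))
    · refine Or.inl (hu.mul_right_eq_zero.1 ?_)
      rw [sub_mul, one_mul, hj.eq, sub_self]
  rcases h01 with h0 | h1
  · refine ⟨fun hm => ?_, fun _ => h0⟩
    rw [if_pos hm, h0, map_zero] at hdiff
    exact absurd hdiff zero_ne_one
  · refine ⟨fun _ => h1, fun hm => ?_⟩
    rw [if_neg hm, h1, map_one] at hdiff
    exact absurd hdiff one_ne_zero

include e in
/-- Every character descends to the henselian ring. -/
theorem exists_char (hft : Algebra.FiniteType R A) (h : IsMultType R A) [Group.FG M]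
    (hcomp : ∀ j, redS R A S (chr e j) = redk R A S (e₀.symm (MonoidAlgebra.single (σ j) 1))) (m : M) :
    ∃ g : A, IsGroupLikeElem R g ∧ (1 : S) ⊗ₜ[R] g = chr e m := by
  classical
  obtain ⟨x, hx⟩ := TensorProduct.mk_surjective R A (ResidueField R) residue_surjective
    (e₀.symm (MonoidAlgebra.single (σ m) 1))
  rw [TensorProduct.mk_apply] at hx
  set c := e ((1 : S) ⊗ₜ[R] x) with hc
  have hcres : ∀ j, residue S (cf j c) = if j = m then 1 else 0 := by
    intro j
    let χ : ResidueField R ⊗[R] A →ₗ[ResidueField R] ResidueField R :=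
      cf (σ j) ∘ₗ (e₀ : ResidueField R ⊗[R] A ≃ₐ[ResidueField R] MonoidAlgebra (ResidueField R) M₀).toLinearMap
    let Φ : ResidueField S ⊗[R] A →ₗ[ResidueField S] ResidueField S :=
      resFun (S := S) ((χ.restrictScalars R) ∘ₗ TensorProduct.mk R (ResidueField R) A 1)
    have key : ∀ z : S ⊗[R] A, Φ (redS R A S z) = residue S (cf j (e z)) := by
      intro z
      conv_lhs => rw [← e.symm_apply_apply z]
      generalize e z = y
      induction y using MonoidAlgebra.induction_linear with
      | zero => simp
      | add p q hp hq => simp only [map_add, hp, hq]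
      | single i r =>
        have hr : redS R A S (e.symm (MonoidAlgebra.single i r)) =
            residue S r • redk R A S (e₀.symm (MonoidAlgebra.single (σ i) 1)) := by
          rw [← hcomp, show MonoidAlgebra.single i r = r • MonoidAlgebra.single i (1 : S) by simp,
            map_smul]
          change redS R A S (r • chr e i) = _
          generalize chr e i = w
          induction w using TensorProduct.induction_on with
          | zero => simp
          | add p q hp hq => simp only [smul_add, map_add, hp, hq]
          | tmul s a =>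
            simp only [redS, TensorProduct.smul_tmul', smul_eq_mul, Algebra.TensorProduct.map_tmul,
              map_mul]
            rfl
        rw [hr, map_smul, smul_eq_mul]
        change residue S r * resFun (S := S) _ (redk R A S _) = _
        rw [resFun_redk]
        change residue S r * algebraMap _ _ (cf (σ j) (e₀ (e₀.symm _))) = _
        rw [BialgEquiv.apply_symm_apply, cf_single, cf_single]
        by_cases hij : i = j
        · rw [if_pos (congrArg σ hij), if_pos hij, map_one, mul_one]
        · rw [if_neg (fun h => hij (σ.injective h)), if_neg hij, map_zero, map_zero, mul_zero]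
    rw [hc, ← key]
    have h1 : redS R A S ((1 : S) ⊗ₜ[R] x) = redk R A S ((1 : ResidueField R) ⊗ₜ[R] x) := by
      simp [redS, redk]
    rw [h1, hx]
    change resFun (S := S) _ (redk R A S _) = _
    rw [resFun_redk]
    change algebraMap _ _ (cf (σ j) (e₀ (e₀.symm _))) = _
    rw [BialgEquiv.apply_symm_apply, cf_single]
    by_cases hij : j = m
    · rw [if_pos (congrArg σ hij.symm), if_pos hij, map_one]
    · rw [if_neg (fun h => hij (σ.injective h).symm), if_neg hij, map_zero]
  obtain ⟨n, hn, hsep⟩ := exists_pow_separating (c.coeff.support.image fun j => j⁻¹ * m)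
  obtain ⟨φ, hφ⟩ := exists_class_idempotent e e₀ σ hft h hcomp hn m
  let y := Groth.ComodLib.slice φ.ofConv (comul (R := R) x)
  have hy : e ((1 : S) ⊗ₜ[R] y) = MonoidAlgebra.single m (cf m c) := by
    refine ext_cf fun j => ?_
    rw [cf_op, ← hc, cf_single]
    by_cases hj : m = j
    · rw [if_pos hj, ← hj, (hφ m).1 (by simp), one_mul]
    · rw [if_neg hj]
      by_cases hs : j ∈ c.coeff.support
      · rw [(hφ j).2 fun hN => hj ?_, zero_mul]
        exact (inv_mul_eq_one.1 (hsep _ (Finset.mem_image_of_mem _ hs) hN)).symm
      · rw [cf_apply, Finsupp.notMem_support_iff.1 hs, mul_zero]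
  have hu : IsUnit (counit (R := R) y) := by
    have h1 : algebraMap R S (counit (R := R) y) = cf m c := by
      have h2 := congrArg (counit (R := S)) hy
      rw [CoalgHomClass.counit_comp_apply, TensorProduct.counit_tmul, CommSemiring.counit_apply,
        Algebra.smul_def, mul_one] at h2
      rw [h2, show MonoidAlgebra.single m (cf m c) = cf m c • MonoidAlgebra.single m (1 : S) by simp,
        map_smul, (MonoidAlgebra.isGroupLikeElem_single_one m).counit_eq_one, smul_eq_mul, mul_one]
    refine isUnit_of_map_unit (algebraMap R S) _ ?_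
    rw [h1]
    by_contra hnu
    have h3 : residue S (cf m c) = 0 := (residue_eq_zero_iff _).2 hnu
    rw [hcres, if_pos rfl] at h3
    exact one_ne_zero h3
  obtain ⟨u, hu'⟩ := hu
  have hg : (1 : S) ⊗ₜ[R] ((↑u⁻¹ : R) • y) = chr e m := by
    apply e.injective
    change e _ = e (chr e m)
    rw [e_chr, TensorProduct.tmul_smul, ← algebraMap_smul S, map_smul, hy, MonoidAlgebra.smul_single]
    congr 1
    have h1 : algebraMap R S (counit (R := R) y) = cf m c := by
      have h2 := congrArg (counit (R := S)) hy
      rw [CoalgHomClass.counit_comp_apply, TensorProduct.counit_tmul, CommSemiring.counit_apply,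
        Algebra.smul_def, mul_one] at h2
      rw [h2, show MonoidAlgebra.single m (cf m c) = cf m c • MonoidAlgebra.single m (1 : S) by simp,
        map_smul, (MonoidAlgebra.isGroupLikeElem_single_one m).counit_eq_one, smul_eq_mul, mul_one]
    rw [← h1, smul_eq_mul, ← map_mul, ← hu', Units.inv_mul, map_one]
  exact ⟨_, isGroupLikeElem_of_tmul (by rw [hg]; exact isGroupLikeElem_chr e m), hg⟩

end Groth.Sga3.CharLift
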