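import Groth.Agent.Sga3.NilIsotrivial
import Groth.Agent.Sga3.AdicAux
import Groth.Agent.Sga3.CharLift
import Groth.Agent.Hensel1.FiniteEtaleLift
import Groth.Agent.AdicLinTop.Adic
import Mathlib.RingTheory.Henselian

/-!
Groups of multiplicative type over an adically complete ring: diagonalisability and isotriviality
lift from the closed subscheme.
-/

set_option autoImplicit false

universe u

open TensorProduct Coalgebra

noncomputable section

namespace Groth.Sga3.AdicIso

open SGA3b MultType GroupAlg AdicAux CharLift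

variable {R : Type u} [CommRing R] {A : Type u} [CommRing A] [HopfAlgebra R A]

theorem comul_one_tmul (S : Type u) [CommRing S] [Algebra R S] {g : A}
    (hg : IsGroupLikeElem S ((1 : S) ⊗ₜ[R] g)) :
    (1 : S) ⊗ₜ[R] comul (R := R) g = (1 : S) ⊗ₜ[R] (g ⊗ₜ[R] g) := by
  have h1 := hg.comul_eq_tmul_self
  rw [TensorProduct.comul_tmul, CommSemiring.comul_apply] at h1
  refine (TensorProduct.AlgebraTensorModule.distribBaseChange R S A A).injective ?_
  change TensorProduct.AlgebraTensorModule.distribBaseChange R S A A _ =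
    TensorProduct.AlgebraTensorModule.distribBaseChange R S A A _
  rw [TensorProduct.AlgebraTensorModule.distribBaseChange_tmul, ← h1]
  generalize comul (R := R) g = t
  induction t using TensorProduct.induction_on with
  | zero => simp
  | tmul p q => rfl
  | add p q hp hq => simp only [TensorProduct.tmul_add, map_add, hp, hq]

/-- One step: an approximate group-like element lifts to a smaller ideal. -/
theorem exists_approx_step (h : IsMultType R A) {K K' : Ideal R} (hK : K ≤ K') {N : ℕ}
    (hN : K' ^ N ≤ K) {b : A} (hb : IsApproxGroupLike K' b) :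
    ∃ b' : A, IsApproxGroupLike K b' ∧ (1 : R ⧸ K') ⊗ₜ[R] b' = (1 : R ⧸ K') ⊗ₜ[R] b := by
  let Q := R ⧸ K
  let J : Ideal Q := K'.map (Ideal.Quotient.mk K)
  have hJ : ∀ x ∈ J, IsNilpotent x := fun x hx => ⟨N, by
    have h1 := Ideal.pow_mem_pow hx N
    rw [← Ideal.map_pow] at h1
    have h2 := Ideal.map_mono hN h1
    rw [Ideal.map_quotient_self] at h2
    exact h2⟩
  let T := Q ⧸ J
  let : Algebra (R ⧸ K') T := (Ideal.Quotient.lift K' (algebraMap R T) fun r hr => by
    rw [IsScalarTower.algebraMap_apply R Q T, Ideal.Quotient.algebraMap_eq,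
      Ideal.Quotient.eq_zero_iff_mem]
    exact Ideal.mem_map_of_mem _ hr).toAlgebra
  haveI : IsScalarTower R (R ⧸ K') T := IsScalarTower.of_algebraMap_eq fun _ => rfl
  have hcanc : ∀ (S U : Type u) [CommRing S] [Algebra R S] [CommRing U] [Algebra R U] [Algebra S U]
      [IsScalarTower R S U] (a : A),
      cancelBC R S U A ((1 : U) ⊗ₜ[S] ((1 : S) ⊗ₜ[R] a)) = (1 : U) ⊗ₜ[R] a := by
    intro S U _ _ _ _ _ _ a
    change Algebra.TensorProduct.cancelBaseChange R S U U A _ = _
    rw [Algebra.TensorProduct.cancelBaseChange_tmul, one_smul]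
  have ha : IsApproxGroupLike J ((1 : Q) ⊗ₜ[R] b) := by
    have h1 := (isGroupLikeElem_one_tmul (R := R ⧸ K') T hb).map (cancelBC R (R ⧸ K') T A)
    have h2 := h1.map (cancelBC R Q T A).symm
    rw [hcanc, ← hcanc Q T, BialgEquiv.symm_apply_apply] at h2
    exact h2
  obtain ⟨g, hg, hgb⟩ := exists_groupLike_lift (isMultType_baseChange Q h) hJ ha
  obtain ⟨c, rfl⟩ := exists_eq_one_tmul K g
  refine ⟨c, hg, ?_⟩
  have hkey : ∀ z ∈ J • (⊤ : Submodule Q (Q ⊗[R] A)),
      (Ideal.Quotient.factorₐ R hK).toLinearMap.rTensor A z = 0 := by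
    intro z hz
    refine Submodule.smul_induction_on hz (fun r hr y hy => ?_) fun p q hp hq => by
      rw [map_add, hp, hq, add_zero]
    clear hy
    induction y using TensorProduct.induction_on with
    | zero => simp
    | add p q hp hq => rw [smul_add, map_add, hp, hq, add_zero]
    | tmul q a =>
      rw [TensorProduct.smul_tmul', LinearMap.rTensor_tmul]
      change Ideal.Quotient.factor hK (r * q) ⊗ₜ[R] a = 0
      have hr0 : Ideal.Quotient.factor hK r = 0 := by
        obtain ⟨r', hr', rfl⟩ := (Ideal.mem_map_iff_of_surjective _ Ideal.Quotient.mk_surjective).1 hr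
        rw [Ideal.Quotient.factor_mk, Ideal.Quotient.eq_zero_iff_mem]
        exact hr'
      rw [map_mul, hr0, zero_mul, TensorProduct.zero_tmul]
  have h3 := hkey _ hgb
  rw [map_sub, sub_eq_zero, LinearMap.rTensor_tmul, LinearMap.rTensor_tmul] at h3
  simpa using h3

variable (I : Ideal R)

theorem mem_map_pi {ι : Type u} [Fintype ι] (S : ι → Type u) [∀ i, CommRing (S i)]
    [∀ i, Algebra R (S i)] {K : Ideal R} (x : ∀ i, S i)
    (hx : ∀ i, x i ∈ K.map (algebraMap R (S i))) : x ∈ K.map (algebraMap R (∀ i, S i)) := by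
  classical
  rw [← Finset.univ_sum_single x]
  refine Ideal.sum_mem _ fun i _ => ?_
  generalize x i = y, hx i = hy
  revert hy
  intro hy
  change y ∈ Submodule.span (S i) (algebraMap R (S i) '' (K : Set R)) at hy
  induction hy using Submodule.span_induction with
  | mem z hz =>
    obtain ⟨k, hk, rfl⟩ := hz
    rw [show Pi.single i (algebraMap R (S i) k) =
        Pi.single i (1 : S i) * algebraMap R (∀ i, S i) k by
      funext j
      by_cases hj : j = i
      · subst hj; simp
      · simp [hj]]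
    exact Ideal.mul_mem_left _ _ (Ideal.mem_map_of_mem _ hk)
  | zero => simp
  | add p q _ _ hp hq => rw [Pi.single_add]; exact add_mem hp hq
  | smul c z _ hz => rw [smul_eq_mul, Pi.single_mul]; exact Ideal.mul_mem_left _ _ hz

/-- Group-like elements lift along the adic completion. -/
theorem exists_groupLike_limit [IsAdicComplete I R] (h : IsMultType R A) {b₀ : A}
    (hb₀ : IsApproxGroupLike I b₀) :
    ∃ g : A, IsGroupLikeElem R g ∧ (1 : R ⧸ I) ⊗ₜ[R] g = (1 : R ⧸ I) ⊗ₜ[R] b₀ := by
  classical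
  have := projective_of_isMultType h
  have hsucc : ∀ n : ℕ, I ^ (n + 1 + 1) ≤ I ^ (n + 1) := fun n =>
    Ideal.pow_le_pow_right (Nat.le_succ _)
  have hle : ∀ n : ℕ, I ^ (n + 1) ≤ I := fun n => Ideal.pow_le_self n.succ_ne_zero
  obtain ⟨b1, hb1, hb1'⟩ := exists_approx_step h (K := I ^ (0 + 1)) (K' := I) (hle 0)
    (N := 1) (by simp) hb₀
  choose next hnext hnext' using fun (n : ℕ) (b : {b : A // IsApproxGroupLike (I ^ (n + 1)) b}) =>
    exists_approx_step h (hsucc n) (N := n + 1 + 1) (by
      rw [← pow_mul]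
      exact Ideal.pow_le_pow_right (Nat.le_mul_of_pos_left _ (Nat.succ_pos n))) b.2
  let seq : ∀ n : ℕ, {b : A // IsApproxGroupLike (I ^ (n + 1)) b} :=
    fun n => Nat.rec ⟨b1, hb1⟩ (fun n b => ⟨next n b, hnext n b⟩) n
  have hseq : ∀ n, (1 : R ⧸ I ^ (n + 1)) ⊗ₜ[R] (seq (n + 1)).1 = 1 ⊗ₜ[R] (seq n).1 :=
    fun n => hnext' n (seq n)
  have hseq0 : ∀ n, (seq n).1 - b₀ ∈ I • (⊤ : Submodule R A) := by
    intro n
    induction n with
    | zero => exact sub_mem_smul_of_tmul_eq I hb1'
    | succ n ih =>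
      have h1 := add_mem (Submodule.smul_mono_left (hle n)
        (sub_mem_smul_of_tmul_eq _ (hseq n))) ih
      simpa using h1
  obtain ⟨ι, _, S, _, _, hff, hd⟩ := exists_cover h
  choose M hM e using fun i => hd i
  have e' := fun i => (e i).some
  obtain ⟨i₀, hi₀⟩ := Module.projective_def'.mp (inferInstance : Module.Projective R A)
  -- coordinates after splitting
  let P : ∀ i, A → S i ⊗[R] A →ₗ[S i] S i := fun i j =>
    (TensorProduct.AlgebraTensorModule.rid R (S i) (S i)).toLinearMap ∘ₗ
      (Finsupp.lapply j ∘ₗ i₀).baseChange (S i)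
  have hP : ∀ i j (t : S i) (b : A), P i j (t ⊗ₜ b) = i₀ b j • t := fun i j t b => by simp [P]
  have hPfin : ∀ i (y : S i ⊗[R] A), ∃ s : Finset A, ∀ j ∉ s, P i j y = 0 := by
    intro i y
    induction y using TensorProduct.induction_on with
    | zero => exact ⟨∅, fun j _ => map_zero _⟩
    | add x y hx hy =>
      obtain ⟨F, hF⟩ := hx; obtain ⟨G, hG⟩ := hy
      exact ⟨F ∪ G, fun j hj => by
        rw [Finset.mem_union, not_or] at hj
        rw [map_add, hF j hj.1, hG j hj.2, add_zero]⟩
    | tmul t b =>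
      exact ⟨(i₀ b).support, fun j hj => by
        rw [hP, Finsupp.notMem_support_iff.1 hj, zero_smul]⟩
  choose s hs using fun (p : Σ i, M i) =>
    hPfin p.1 ((e' p.1).symm (MonoidAlgebra.single p.2 1))
  let F : ∀ i, Finset (M i) := fun i => ((e' i) ((1 : S i) ⊗ₜ[R] b₀)).coeff.support
  let s' : Finset A := (Finset.univ.sigma F).biUnion s
  obtain ⟨g, hg⟩ := exists_limit I hi₀ (fun n => (1 : R ⧸ I ^ (n + 1)) ⊗ₜ[R] (seq n).1)
    (fun n => by
      rw [LinearMap.rTensor_tmul, ← hseq n]
      simp) s' fun n j hj => by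
    rw [coord_one_tmul, Ideal.Quotient.eq_zero_iff_mem]
    refine (Ideal.comap_map_eq_self_of_faithfullyFlat (B := ∀ i, S i) (I ^ (n + 1))).le
      (Ideal.mem_comap.2 (mem_map_pi S _ fun i => ?_))
    let Ki : Ideal (S i) := (I ^ (n + 1)).map (algebraMap R (S i))
    let b := (seq n).1
    let y := e' i ((1 : S i) ⊗ₜ[R] b)
    have hsmall : ∀ m ∉ F i, cf m y ∈ Ki := by
      intro m hm
      have h1 : cf m y ∈ I.map (algebraMap R (S i)) := by
        have h2 := apply_mem_map (coeffBC (S i) (e' i) m) (hseq0 n)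
        rw [map_sub, coeffBC_apply, coeffBC_apply,
          show cf m (e' i ((1 : S i) ⊗ₜ[R] b₀)) = 0 from Finsupp.notMem_support_iff.1 hm,
          sub_zero] at h2
        exact h2
      have h3 := groupLike_coeff_idem (isGroupLikeElem_mod (seq n).2 (S i) (e' i)) m
      have h4 : cf m (MonoidAlgebra.mapRingHom (M i) (Ideal.Quotient.mk Ki) y) =
          Ideal.Quotient.mk Ki (cf m y) := rfl
      change IsIdempotentElem (cf m (MonoidAlgebra.mapRingHom (M i) (Ideal.Quotient.mk Ki) y)) at h3
      rw [h4] at h3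
      rw [← Ideal.Quotient.eq_zero_iff_mem, ← h3.pow_succ_eq n, ← map_pow,
        Ideal.Quotient.eq_zero_iff_mem]
      change _ ∈ (I ^ (n + 1)).map (algebraMap R (S i))
      rw [Ideal.map_pow]
      exact Ideal.pow_mem_pow h1 _
    have h0 : algebraMap R (S i) (i₀ b j) = P i j ((1 : S i) ⊗ₜ b) := by
      rw [hP, Algebra.algebraMap_eq_smul_one]
    change algebraMap R (S i) (i₀ b j) ∈ Ki
    rw [h0, show (1 : S i) ⊗ₜ[R] b = (e' i).symm y from ((e' i).symm_apply_apply _).symm]
    clear_value y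
    rw [← MonoidAlgebra.sum_coeff_single y, Finsupp.sum, map_sum, map_sum]
    refine Ideal.sum_mem _ fun m _ => ?_
    rw [show MonoidAlgebra.single m (y.coeff m) = y.coeff m • MonoidAlgebra.single m (1 : S i) by simp,
      map_smul, map_smul, smul_eq_mul]
    rcases em (m ∈ F i) with hm | hm
    · rw [hs ⟨i, m⟩ j fun hh => hj (Finset.mem_biUnion.2 ⟨⟨i, m⟩,
        Finset.mem_sigma.2 ⟨Finset.mem_univ _, hm⟩, hh⟩), mul_zero]
      exact zero_mem _
    · exact Ideal.mul_mem_right _ _ (hsmall m hm)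
  have hgl : ∀ n, IsGroupLikeElem (R ⧸ I ^ (n + 1)) ((1 : R ⧸ I ^ (n + 1)) ⊗ₜ[R] g) := fun n => by
    rw [hg n]; exact (seq n).2
  refine ⟨g, ⟨?_, eq_of_forall_tmul_eq I fun n => comul_one_tmul _ (hgl n)⟩, ?_⟩
  · refine eq_of_forall_tmul_eq I fun n => ?_
    have h1 := (hgl n).counit_eq_one
    rw [TensorProduct.counit_tmul, CommSemiring.counit_apply] at h1
    rw [← mul_one (counit (R := R) g), ← smul_eq_mul, ← TensorProduct.smul_tmul, h1]
  · have h1 : (1 : R ⧸ I ^ (0 + 1)) ⊗ₜ[R] g = 1 ⊗ₜ[R] b1 := hg 0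
    have h2 := congrArg ((Ideal.Quotient.factorₐ R (hle 0)).toLinearMap.rTensor A) h1
    simp only [LinearMap.rTensor_tmul, AlgHom.toLinearMap_apply, map_one] at h2
    exact h2.trans hb1'

/-- Congruent group-like elements are equal. -/
theorem groupLike_eq_adic [IsHausdorff I R] (h : IsMultType R A) {a b : A} (ha : IsGroupLikeElem R a)
    (hb : IsGroupLikeElem R b) (hab : (1 : R ⧸ I) ⊗ₜ[R] a = (1 : R ⧸ I) ⊗ₜ[R] b) : a = b := by
  have := projective_of_isMultType h
  refine eq_of_forall_tmul_eq I fun n => ?_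
  let Q := R ⧸ I ^ (n + 1)
  refine groupLike_eq_of_sub_mem (isMultType_baseChange Q h)
    (I := I.map (Ideal.Quotient.mk (I ^ (n + 1)))) (fun x hx => ⟨n + 1, ?_⟩)
    (isGroupLikeElem_one_tmul Q ha) (isGroupLikeElem_one_tmul Q hb) ?_
  · have h1 := Ideal.pow_mem_pow hx (n + 1)
    rw [← Ideal.map_pow, Ideal.map_quotient_self] at h1
    exact h1
  · rw [← TensorProduct.tmul_sub]
    exact smul_top_of_one_tmul Q (sub_mem_smul_of_tmul_eq I hab) 1

/-- At a maximal ideal, a local diagonalising flat algebra. -/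
theorem exists_local_diag (h : IsMultType R A) (m : Ideal R) [m.IsMaximal] :
    ∃ (S : Type u) (_ : CommRing S) (_ : Algebra R S) (_ : IsLocalRing S), Module.Flat R S ∧
      (∀ r ∈ m, algebraMap R S r ∈ IsLocalRing.maximalIdeal S) ∧ IsDiag S (S ⊗[R] A) := by
  obtain ⟨s, hs, hloc⟩ := h
  obtain ⟨f, hfs, hfm⟩ : ∃ f ∈ s, f ∉ m := by
    by_contra hne
    push Not at hne
    exact (‹m.IsMaximal›).ne_top (eq_top_iff.2 (hs ▸ Ideal.span_le.2 hne))
  obtain ⟨R', _, _, hff, hd⟩ := hloc f hfs
  let Rf := Localization.Away f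
  let : Algebra R R' := ((algebraMap Rf R').comp (algebraMap R Rf)).toAlgebra
  haveI : IsScalarTower R Rf R' := IsScalarTower.of_algebraMap_eq' rfl
  obtain ⟨q, hq⟩ : (⟨m, inferInstance⟩ : PrimeSpectrum R) ∈
      Set.range (PrimeSpectrum.comap (algebraMap R Rf)) := by
    rw [PrimeSpectrum.localization_away_comap_range Rf f]
    exact hfm
  obtain ⟨P, hP⟩ := PrimeSpectrum.comap_surjective_of_faithfullyFlat (A := Rf) (B := R') q
  let S := Localization.AtPrime P.asIdeal
  haveI : Module.Flat R R' := Module.Flat.trans R Rf R'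
  refine ⟨S, inferInstance, inferInstance, inferInstance, Module.Flat.trans R R' S, fun r hr => ?_,
    isDiag_trans R' S A (isDiag_baseChange S (R' ⊗[R] A) (isDiag_trans Rf R' A hd))⟩
  rw [IsScalarTower.algebraMap_apply R R' S, IsLocalization.AtPrime.to_map_mem_maximal_iff S P.asIdeal]
  have h1 : r ∈ (PrimeSpectrum.comap (algebraMap R Rf) (PrimeSpectrum.comap (algebraMap Rf R') P)).asIdeal := by
    rw [hP, hq]; exact hr
  exact h1

/-- Bijectivity of a linear map can be tested on flat algebras hitting all maximal ideals. -/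
theorem bijective_of_forall_maximal {N N' : Type u} [AddCommGroup N] [Module R N] [AddCommGroup N']
    [Module R N'] (f : N →ₗ[R] N')
    (h : ∀ m : Ideal R, m.IsMaximal → ∃ (S : Type u) (_ : CommRing S) (_ : Algebra R S)
      (_ : IsLocalRing S), Module.Flat R S ∧ (∀ r ∈ m, algebraMap R S r ∈ IsLocalRing.maximalIdeal S) ∧
        Function.Bijective (f.baseChange S)) : Function.Bijective f := by
  have key : ∀ {P : Type u} [AddCommGroup P] [Module R P] (x : P),
      (∀ m : Ideal R, m.IsMaximal → ∃ (S : Type u) (_ : CommRing S) (_ : Algebra R S)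
        (_ : IsLocalRing S), Module.Flat R S ∧
          (∀ r ∈ m, algebraMap R S r ∈ IsLocalRing.maximalIdeal S) ∧ (1 : S) ⊗ₜ[R] x = 0) → x = 0 := by
    intro P _ _ x hx
    by_contra hne
    let J : Ideal R := LinearMap.ker (LinearMap.toSpanSingleton R P x)
    obtain ⟨m, hm, hJm⟩ := Ideal.exists_le_maximal J fun hJ => hne <| by
      have h1 : (1 : R) ∈ J := hJ ▸ Submodule.mem_top
      simpa [J] using h1
    obtain ⟨S, _, _, _, hfl, hmS, hS⟩ := hx m hm
    let u : R ⧸ J →ₗ[R] P := Submodule.liftQ J (LinearMap.toSpanSingleton R P x) le_rfl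
    have hu : Function.Injective u :=
      LinearMap.ker_eq_bot.1 (Submodule.ker_liftQ_eq_bot _ _ _ le_rfl)
    have h2 : (1 : S) ⊗ₜ[R] (Ideal.Quotient.mk J 1) = 0 :=
      Module.Flat.lTensor_preserves_injective_linearMap u hu <| by
        rw [map_zero, LinearMap.lTensor_tmul]
        convert hS
        exact one_smul R x
    let T := IsLocalRing.ResidueField S
    let v : R ⧸ J →ₐ[R] T := Ideal.Quotient.liftₐ J (Algebra.ofId R T) fun r hr => by
      change algebraMap R T r = 0
      rw [IsScalarTower.algebraMap_apply R S T, IsLocalRing.ResidueField.algebraMap_eq,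
        IsLocalRing.residue_eq_zero_iff]
      exact hmS r (hJm hr)
    have h3 := congrArg (Algebra.TensorProduct.lift (IsScalarTower.toAlgHom R S T) v
      (fun _ _ => Commute.all _ _)) h2
    rw [Algebra.TensorProduct.lift_tmul, map_zero, map_one, map_one, map_one, one_mul] at h3
    exact one_ne_zero h3
  refine ⟨(injective_iff_map_eq_zero f).2 fun x hx => key x fun m hm => ?_, fun y => ?_⟩
  · obtain ⟨S, _, _, _, hfl, hmS, hb⟩ := h m hm
    refine ⟨S, _, _, inferInstance, hfl, hmS, hb.1 ?_⟩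
    rw [LinearMap.baseChange_tmul, hx, TensorProduct.tmul_zero, map_zero]
  · have h1 : Submodule.Quotient.mk (p := LinearMap.range f) y = 0 := key _ fun m hm => by
      obtain ⟨S, _, _, _, hfl, hmS, hb⟩ := h m hm
      refine ⟨S, _, _, inferInstance, hfl, hmS, ?_⟩
      obtain ⟨z, hz⟩ := hb.2 ((1 : S) ⊗ₜ[R] y)
      have h2 := congrArg ((LinearMap.range f).mkQ.baseChange S) hz
      rw [LinearMap.baseChange_tmul] at h2
      refine h2.symm.trans ?_
      rw [← LinearMap.comp_apply, ← LinearMap.baseChange_comp,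
        show (LinearMap.range f).mkQ ∘ₗ f = 0 from LinearMap.range_mkQ_comp f,
        LinearMap.baseChange_zero, LinearMap.zero_apply]
    exact (Submodule.Quotient.mk_eq_zero _).1 h1

/-- A group-like element of a group algebra over a local ring is a single element. -/
theorem exists_eq_single_local {S : Type u} [CommRing S] [IsLocalRing S] {N : Type u} [CommGroup N]
    {x : MonoidAlgebra S N} (hx : IsGroupLikeElem S x) : ∃ n, x = MonoidAlgebra.single n 1 := by
  classical
  have h01 : ∀ n, cf n x = 0 ∨ cf n x = 1 := fun n => by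
    rcases IsLocalRing.isUnit_or_isUnit_one_sub_self (cf n x) with hu | hu
    · exact .inr (hu.mul_left_cancel (by rw [(groupLike_coeff_idem hx n).eq, mul_one]))
    · refine .inl (hu.mul_left_cancel ?_)
      rw [mul_zero, sub_mul, one_mul, (groupLike_coeff_idem hx n).eq, sub_self]
  obtain ⟨n, hn⟩ : ∃ n, cf n x = 1 := by
    by_contra hne
    push Not at hne
    refine one_ne_zero (α := S) ?_
    rw [← groupLike_coeff_sum hx]
    exact Finset.sum_eq_zero fun n _ => (h01 n).resolve_right (hne n)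
  refine ⟨n, ext_cf fun k => ?_⟩
  rw [cf_single]
  rcases eq_or_ne k n with rfl | hk
  · simp [hn]
  · have h1 := groupLike_coeff_mul hx k n
    rw [if_neg hk, hn, mul_one] at h1
    simp [h1, hk, Ne.symm hk]

/-- comparison of two splittings after a common base change -/
def theta (Q S K : Type u) [CommRing Q] [CommRing S] [CommRing K] [Algebra R Q] [Algebra R S]
    [Algebra R K] [Algebra Q K] [Algebra S K] [IsScalarTower R Q K] [IsScalarTower R S K]
    {M N : Type u} [CommGroup M] [CommGroup N] (e₀ : Q ⊗[R] A ≃ₐc[Q] MonoidAlgebra Q M)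
    (e : S ⊗[R] A ≃ₐc[S] MonoidAlgebra S N) : MonoidAlgebra K M ≃ₐc[K] MonoidAlgebra K N :=
  (((monAlgBC Q K M).symm.trans (congrBC K e₀.symm)).trans (cancelBC R Q K A)).trans
    (((cancelBC R S K A).symm.trans (congrBC K e)).trans (monAlgBC S K N))

set_option maxRecDepth 20000 in
theorem theta_single (Q S K : Type u) [CommRing Q] [CommRing S] [CommRing K] [Algebra R Q]
    [Algebra R S] [Algebra R K] [Algebra Q K] [Algebra S K] [IsScalarTower R Q K]
    [IsScalarTower R S K] {M N : Type u} [CommGroup M] [CommGroup N]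
    (e₀ : Q ⊗[R] A ≃ₐc[Q] MonoidAlgebra Q M) (e : S ⊗[R] A ≃ₐc[S] MonoidAlgebra S N) {a : M} {n : N}
    {g : A} (hg : (1 : Q) ⊗ₜ[R] g = e₀.symm (MonoidAlgebra.single a 1))
    (hn : e ((1 : S) ⊗ₜ[R] g) = MonoidAlgebra.single n 1) :
    theta Q S K e₀ e (MonoidAlgebra.single a 1) = MonoidAlgebra.single n 1 := by
  have h1 : monAlgBC Q K M ((1 : K) ⊗ₜ MonoidAlgebra.single a (1 : Q)) = MonoidAlgebra.single a 1 := by
    change MonoidAlgebra.scalarTensorEquiv Q K _ = _
    simp [MonoidAlgebra.scalarTensorEquiv_tmul]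
  have h2 : cancelBC R S K A ((1 : K) ⊗ₜ[S] ((1 : S) ⊗ₜ[R] g)) = (1 : K) ⊗ₜ[R] g := by
    change Algebra.TensorProduct.cancelBaseChange R S K K A _ = _
    rw [Algebra.TensorProduct.cancelBaseChange_tmul, one_smul]
  have h3 : cancelBC R Q K A ((1 : K) ⊗ₜ[Q] ((1 : Q) ⊗ₜ[R] g)) = (1 : K) ⊗ₜ[R] g := by
    change Algebra.TensorProduct.cancelBaseChange R Q K K A _ = _
    rw [Algebra.TensorProduct.cancelBaseChange_tmul, one_smul]
  have h4 : congrBC K e₀.symm ((1 : K) ⊗ₜ[Q] MonoidAlgebra.single a (1 : Q)) =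
      (1 : K) ⊗ₜ[Q] ((1 : Q) ⊗ₜ[R] g) := by
    rw [hg]; rfl
  have h5 : congrBC K e ((1 : K) ⊗ₜ[S] ((1 : S) ⊗ₜ[R] g)) = (1 : K) ⊗ₜ[S] e ((1 : S) ⊗ₜ[R] g) := rfl
  have h6 : (monAlgBC Q K M).symm (MonoidAlgebra.single a 1) =
      (1 : K) ⊗ₜ MonoidAlgebra.single a (1 : Q) :=
    (congrArg (monAlgBC Q K M).symm h1.symm).trans (BialgEquiv.symm_apply_apply _ _)
  have h7 : (cancelBC R S K A).symm ((1 : K) ⊗ₜ[R] g) = (1 : K) ⊗ₜ[S] ((1 : S) ⊗ₜ[R] g) :=
    (congrArg (cancelBC R S K A).symm h2.symm).trans (BialgEquiv.symm_apply_apply _ _)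
  have h8 : monAlgBC S K N ((1 : K) ⊗ₜ[S] e ((1 : S) ⊗ₜ[R] g)) = MonoidAlgebra.single n 1 := by
    rw [hn]
    change MonoidAlgebra.scalarTensorEquiv S K _ = _
    simp [MonoidAlgebra.scalarTensorEquiv_tmul]
  let c1 := congrBC K e₀.symm
  let c2 := cancelBC R Q K A
  let c3 := (cancelBC R S K A).symm
  let c4 := congrBC K e
  let c5 := monAlgBC S K N
  exact (congrArg (fun z => c5 (c4 (c3 (c2 (c1 z))))) h6).trans
    ((congrArg (fun z => c5 (c4 (c3 (c2 z)))) h4).trans
      ((congrArg (fun z => c5 (c4 (c3 z))) h3).trans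
        ((congrArg (fun z => c5 (c4 z)) h7).trans ((congrArg (fun z => c5 z) h5).trans h8))))

/-- A group of multiplicative type over an adically complete ring, diagonalisable on the closed
subscheme, is diagonalisable. -/
theorem isDiag_of_adic [IsAdicComplete I R] (h : IsMultType R A)
    (h0 : IsDiag (R ⧸ I) ((R ⧸ I) ⊗[R] A)) : IsDiag R A := by
  classical
  obtain ⟨M, _, ⟨e₀⟩⟩ := h0
  have hlift : ∀ m : M, ∃ g : A, IsGroupLikeElem R g ∧
      (1 : R ⧸ I) ⊗ₜ[R] g = e₀.symm (MonoidAlgebra.single m 1) := by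
    intro m
    obtain ⟨b, hb⟩ := exists_eq_one_tmul I (e₀.symm (MonoidAlgebra.single m 1))
    obtain ⟨g, hg, hgb⟩ := exists_groupLike_limit I h (b₀ := b) (by
      rw [IsApproxGroupLike, hb]
      exact (MonoidAlgebra.isGroupLikeElem_single_one m).map e₀.symm)
    exact ⟨g, hg, hgb.trans hb⟩
  choose g hgl hg using hlift
  let G : M →* GroupLike R A :=
    { toFun := fun m => ⟨g m, hgl m⟩
      map_one' := GroupLike.val_injective <| groupLike_eq_adic I h (hgl 1) IsGroupLikeElem.one (by
        rw [hg, ← MonoidAlgebra.one_def]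
        exact map_one e₀.symm)
      map_mul' := fun a b => GroupLike.val_injective <| groupLike_eq_adic I h (hgl (a * b))
        ((hgl a).mul (hgl b)) (by
        have h1 : (1 : R ⧸ I) ⊗ₜ[R] (g a * g b) = ((1 : R ⧸ I) ⊗ₜ[R] g a) * ((1 : R ⧸ I) ⊗ₜ[R] g b) := by
          rw [Algebra.TensorProduct.tmul_mul_tmul, one_mul]
        rw [hg, GroupLike.val_mul, h1, hg, hg, ← map_mul, MonoidAlgebra.single_mul_single, one_mul]) }
  let φ : MonoidAlgebra R M →ₐc[R] A :=
    MonoidAlgebra.liftGroupLikeBialgHom.comp (MonoidAlgebra.mapDomainBialgHom R G)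
  have hφ : ∀ m, φ (MonoidAlgebra.single m 1) = g m := by
    intro m; simp [φ, G, MonoidAlgebra.liftGroupLikeBialgHom]
  have hb : Function.Bijective (φ : MonoidAlgebra R M →ₐ[R] A).toLinearMap := by
    refine bijective_of_forall_maximal _ fun m hm => ?_
    obtain ⟨S, _, _, _, hfl, hmS, N, _, ⟨e⟩⟩ := exists_local_diag h m
    refine ⟨S, _, _, inferInstance, hfl, hmS, ?_⟩
    have hx : ∀ a, IsGroupLikeElem S (e ((1 : S) ⊗ₜ[R] g a)) := fun a =>
      (isGroupLikeElem_one_tmul S (hgl a)).map e
    choose σ hσ using fun a => exists_eq_single_local (hx a)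
    -- the map becomes bijective on the residue field
    let K := IsLocalRing.ResidueField S
    have hI : I ≤ m := le_trans (IsAdicComplete.le_jacobson_bot I) (sInf_le ⟨bot_le, hm⟩)
    let : Algebra (R ⧸ I) K := (Ideal.Quotient.lift I (algebraMap R K) fun r hr => by
      rw [IsScalarTower.algebraMap_apply R S K, IsLocalRing.ResidueField.algebraMap_eq,
        IsLocalRing.residue_eq_zero_iff]
      exact hmS r (hI hr)).toAlgebra
    haveI : IsScalarTower R (R ⧸ I) K := IsScalarTower.of_algebraMap_eq fun _ => rfl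
    let Θ : MonoidAlgebra K M ≃ₐc[K] MonoidAlgebra K N := theta (R ⧸ I) S K e₀ e
    have hΘ : ∀ a, Θ (MonoidAlgebra.single a 1) = MonoidAlgebra.single (σ a) 1 := fun a =>
      theta_single (R ⧸ I) S K e₀ e (hg a) (hσ a)
    have hσb : Function.Bijective σ := by
      refine ⟨fun a b hab => ?_, fun n => ?_⟩
      · have h1 : Θ (MonoidAlgebra.single a 1) = Θ (MonoidAlgebra.single b 1) := by
          rw [hΘ, hΘ, hab]
        exact (MonoidAlgebra.single_left_injective one_ne_zero) (Θ.injective h1)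
      · by_contra hne
        push Not at hne
        obtain ⟨x, hx'⟩ := Θ.surjective (MonoidAlgebra.single n 1)
        have h1 : ∀ z : MonoidAlgebra K M, cf n (Θ z) = 0 := by
          intro z
          induction z using MonoidAlgebra.induction_linear with
          | zero => simp
          | add p q hp hq => rw [map_add, map_add, hp, hq, add_zero]
          | single a r =>
            rw [show MonoidAlgebra.single a r = r • MonoidAlgebra.single a (1 : K) by simp,
              map_smul, map_smul, hΘ, cf_single]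
            simp [hne a]
        have h2 := h1 x
        rw [show Θ x = MonoidAlgebra.single n 1 from hx', cf_single] at h2
        simp at h2
    let el := (e : S ⊗[R] A ≃ₐ[S] MonoidAlgebra S N).toLinearEquiv
    let μl := (monAlgBC R S M : S ⊗[R] MonoidAlgebra R M ≃ₐ[S] MonoidAlgebra S M).toLinearEquiv
    let D : MonoidAlgebra S M ≃ₗ[S] MonoidAlgebra S N :=
      (MonoidAlgebra.coeffLinearEquiv S).trans
        ((Finsupp.domLCongr (Equiv.ofBijective σ hσb)).trans (MonoidAlgebra.coeffLinearEquiv S).symm)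
    have hcomm : ∀ z, el ((φ : MonoidAlgebra R M →ₐ[R] A).toLinearMap.baseChange S z) = D (μl z) := by
      intro z
      induction z using TensorProduct.induction_on with
      | zero => simp
      | add p q hp hq => simp only [map_add, hp, hq]
      | tmul t x =>
        induction x using MonoidAlgebra.induction_linear with
        | zero => simp
        | add p q hp hq => simp only [TensorProduct.tmul_add, map_add, hp, hq]
        | single a r =>
          rw [show MonoidAlgebra.single a r = r • MonoidAlgebra.single a (1 : R) by simp,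
            ← TensorProduct.smul_tmul,
            show (r • t) ⊗ₜ[R] MonoidAlgebra.single a (1 : R) =
              (r • t) • ((1 : S) ⊗ₜ[R] MonoidAlgebra.single a (1 : R)) by
              rw [TensorProduct.smul_tmul', smul_eq_mul, mul_one],
            map_smul, map_smul, map_smul, map_smul]
          congr 1
          rw [LinearMap.baseChange_tmul]
          change e ((1 : S) ⊗ₜ[R] φ (MonoidAlgebra.single a 1)) = _
          rw [hφ, hσ]
          change _ = D (MonoidAlgebra.scalarTensorEquiv R S _)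
          simp [D, MonoidAlgebra.scalarTensorEquiv_tmul]
    have hfun : ⇑((φ : MonoidAlgebra R M →ₐ[R] A).toLinearMap.baseChange S) = el.symm ∘ D ∘ μl :=
      funext fun z => el.injective ((hcomm z).trans (el.apply_symm_apply _).symm)
    rw [hfun]
    exact el.symm.bijective.comp (D.bijective.comp μl.bijective)
  exact ⟨M, inferInstance, ⟨(BialgEquiv.ofBijective φ hb).symm⟩⟩

/-- Groups of multiplicative type over an adically complete Noetherian ring which are isotrivial on
the closed subscheme are isotrivial. -/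
theorem isIsotrivial_of_adic [IsNoetherianRing R] [IsAdicComplete I R] (h : IsMultType R A)
    (h0 : IsIsotrivial (R ⧸ I) ((R ⧸ I) ⊗[R] A)) : IsIsotrivial R A := by
  obtain ⟨C, _, _, het, hfin, hffC, hd⟩ := h0
  haveI : HenselianRing R I := inferInstance
  obtain ⟨B, _, _, hfinB, hetB, ⟨ε⟩⟩ := Groth.Hensel1.exists_finite_etale_lift I C
  let J : Ideal B := I.map (algebraMap R B)
  let E : (B ⧸ J) ≃ₐ[R] (R ⧸ I) ⊗[R] B :=
    ((Algebra.TensorProduct.quotIdealMapEquivTensorQuot B I).restrictScalars R).trans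
      (Algebra.TensorProduct.comm R B (R ⧸ I))
  let E' : (B ⧸ J) ≃+* C := E.toRingEquiv.trans ε.toRingEquiv
  haveI : IsAdicComplete J B :=
    haveI := Groth.AdicLinTop.Adic.isAdicComplete_of_finite (I := I) (M := B)
    (IsAdicComplete.map_algebraMap_iff (I := I) (M := B) (S := B)).mpr this
  let : Algebra R C := ((algebraMap (R ⧸ I) C).comp (algebraMap R (R ⧸ I))).toAlgebra
  haveI : IsScalarTower R (R ⧸ I) C := IsScalarTower.of_algebraMap_eq' rfl
  let : Algebra C (B ⧸ J) := E'.symm.toRingHom.toAlgebra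
  haveI : IsScalarTower R C (B ⧸ J) := IsScalarTower.of_algebraMap_eq fun r => by
    refine E'.injective ?_
    change _ = E' (E'.symm _)
    rw [RingEquiv.apply_symm_apply]
    change ε (E (algebraMap R (B ⧸ J) r)) = _
    rw [E.commutes, IsScalarTower.algebraMap_apply R (R ⧸ I) ((R ⧸ I) ⊗[R] B), ε.commutes]
    rfl
  have h1 : IsDiag (B ⧸ J) ((B ⧸ J) ⊗[R] A) :=
    isDiag_trans C (B ⧸ J) A (isDiag_baseChange (B ⧸ J) (C ⊗[R] A) (isDiag_trans (R ⧸ I) C A hd))
  haveI : Module.Flat R B := inferInstance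
  haveI : Module.FaithfullyFlat R B := by
    refine ⟨fun m hm htop => ?_⟩
    have hIm : I ≤ m := le_trans (IsAdicComplete.le_jacobson_bot I) (sInf_le ⟨bot_le, hm⟩)
    haveI : (m.map (Ideal.Quotient.mk I)).IsMaximal :=
      Ideal.IsMaximal.map_of_surjective_of_ker_le Ideal.Quotient.mk_surjective
        (by rwa [Ideal.mk_ker])
    refine Module.FaithfullyFlat.submodule_ne_top (R := R ⧸ I) (M := C)
      (m := m.map (Ideal.Quotient.mk I)) inferInstance ?_
    rw [eq_top_iff]
    intro c _
    obtain ⟨x, rfl⟩ := E'.surjective c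
    obtain ⟨y, rfl⟩ := Ideal.Quotient.mk_surjective x
    have hy : y ∈ m • (⊤ : Submodule R B) := by rw [htop]; exact trivial
    refine Submodule.smul_induction_on hy (fun r hr z _ => ?_) fun p q hp hq => by
      rw [map_add, map_add]; exact add_mem hp hq
    have hmk : E' (Ideal.Quotient.mk J (algebraMap R B r)) = algebraMap (R ⧸ I) C (Ideal.Quotient.mk I r) := by
      change ε (E (algebraMap R (B ⧸ J) r)) = _
      rw [E.commutes, IsScalarTower.algebraMap_apply R (R ⧸ I) ((R ⧸ I) ⊗[R] B), ε.commutes]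
      rfl
    rw [show r • z = algebraMap R B r * z from Algebra.smul_def r z, map_mul, map_mul, hmk,
      ← Algebra.smul_def]
    exact Submodule.smul_mem_smul (Ideal.mem_map_of_mem _ hr) Submodule.mem_top
  exact ⟨B, _, _, hetB, hfinB, inferInstance, isDiag_of_adic J (isMultType_baseChange B h)
    (isDiag_of_equiv (cancelBC R B (B ⧸ J) A).symm h1)⟩

end Groth.Sga3.AdicIso
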