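import Groth.Agent.Sga3.CharDescent
import Groth.Agent.Sga3.CharField
import Groth.Agent.Hensel1.FiniteEtaleLift
import Groth.Agent.Hensel1.Finite
import Mathlib.RingTheory.Etale.Field

/-!
Groups of multiplicative type over a henselian local ring are isotrivial.
-/

set_option autoImplicit false

universe u

open TensorProduct IsLocalRing

noncomputable section

namespace Groth.Sga3.CharLift

open SGA3b MultType

variable {R : Type u} [CommRing R] {A : Type u} [CommRing A] [HopfAlgebra R A]

/-- A finite separable extension of the residue field of a henselian local ring is the residue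
field of a finite etale local algebra. -/
theorem exists_local_lift [HenselianLocalRing R] (k' : Type u) [Field k'] [Algebra (ResidueField R) k']
    [Module.Finite (ResidueField R) k'] [Algebra.IsSeparable (ResidueField R) k'] :
    ∃ (B : Type u) (_ : CommRing B) (_ : Algebra R B) (_ : IsLocalRing B), HenselianLocalRing B ∧
      Module.Finite R B ∧ Algebra.Etale R B ∧ Module.FaithfullyFlat R B ∧
      ∃ ψ : k' →+* ResidueField B, ∀ r : R,
        ψ (algebraMap (ResidueField R) k' (residue R r)) = residue B (algebraMap R B r) := by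
  let : Algebra (R ⧸ maximalIdeal R) k' := ‹Algebra (ResidueField R) k'›
  haveI : Module.Finite (R ⧸ maximalIdeal R) k' := ‹Module.Finite (ResidueField R) k'›
  haveI : Algebra.Etale (R ⧸ maximalIdeal R) k' := by
    have : Algebra.FormallyEtale (ResidueField R) k' := Algebra.FormallyEtale.of_isSeparable _ _
    exact (show Algebra.Etale (ResidueField R) k' from
      { finitePresentation := Algebra.FinitePresentation.of_finiteType.mp inferInstance })
  obtain ⟨B, _, _, hfin, het, ⟨ε⟩⟩ := Groth.Hensel1.exists_finite_etale_lift (maximalIdeal R) k'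
  let J : Ideal B := (maximalIdeal R).map (algebraMap R B)
  let E : B ⧸ J ≃+* k' := ((Algebra.TensorProduct.quotIdealMapEquivTensorQuot B (maximalIdeal R)
    ).toRingEquiv.trans (Algebra.TensorProduct.comm R B (R ⧸ maximalIdeal R)).toRingEquiv).trans
      ε.toRingEquiv
  have hJmax : J.IsMaximal :=
    Ideal.Quotient.maximal_of_isField _ (E.toMulEquiv.isField (Field.toIsField k'))
  haveI : Algebra.IsIntegral R B := Algebra.IsIntegral.of_finite R B
  haveI : IsLocalRing B := IsLocalRing.of_unique_max_ideal ⟨J, hJmax, fun Q hQ => by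
    refine (hJmax.eq_of_le hQ.ne_top (Ideal.map_le_iff_le_comap.mpr ?_)).symm
    exact (IsLocalRing.eq_maximalIdeal (Ideal.isMaximal_comap_of_isIntegral_of_isMaximal Q)).ge⟩
  have hJ : maximalIdeal B = J := (IsLocalRing.eq_maximalIdeal hJmax).symm
  haveI : IsLocalHom (algebraMap R B) := ⟨fun r hr => by
    by_contra hnr
    exact hJmax.ne_top (Ideal.eq_top_of_isUnit_mem _
      (Ideal.mem_map_of_mem _ ((mem_maximalIdeal r).mpr hnr)) hr)⟩
  haveI : Module.Flat R B := inferInstance
  refine ⟨B, _, _, inferInstance, Groth.Hensel1.henselianLocalRing_of_finite R B, hfin, het,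
    Module.FaithfullyFlat.of_flat_of_isLocalHom,
    (Ideal.quotEquivOfEq hJ.symm).toRingHom.comp E.symm.toRingHom, fun r => ?_⟩
  have : E.symm (algebraMap (ResidueField R) k' (residue R r)) = Ideal.Quotient.mk J (algebraMap R B r) := by
    rw [RingEquiv.symm_apply_eq]
    change algebraMap (R ⧸ maximalIdeal R) k' (Ideal.Quotient.mk (maximalIdeal R) r) =
      ε (Algebra.TensorProduct.comm R B (R ⧸ maximalIdeal R)
      (Algebra.TensorProduct.quotIdealMapEquivTensorQuot B (maximalIdeal R)
        (Ideal.Quotient.mk ((maximalIdeal R).map (algebraMap R B)) (algebraMap R B r))))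
    rw [Algebra.TensorProduct.quotIdealMapEquivTensorQuot_mk, Algebra.TensorProduct.comm_tmul,
      ← mul_one (algebraMap R B r), ← Algebra.smul_def, ← TensorProduct.smul_tmul, Algebra.smul_def,
      mul_one]
    exact (ε.commutes _).symm
  change Ideal.quotEquivOfEq hJ.symm (E.symm _) = _
  rw [this]
  rfl

/-- Groups of multiplicative type of finite type over a henselian local ring are isotrivial. -/
theorem isIsotrivial_of_henselian [HenselianLocalRing R] (hft : Algebra.FiniteType R A)
    (h : IsMultType R A) : IsIsotrivial R A := by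
  let k := ResidueField R
  have hk : IsMultType k (k ⊗[R] A) :=
    isMultType_of_const (isMultTypeConst_baseChange k (exists_isMultTypeConst_of_isLocalRing h))
  obtain ⟨k', _, _, _, _, M, _, -, ⟨e⟩⟩ :=
    exists_finite_separable_isDiagFT (k := k) (A := k ⊗[R] A) inferInstance hk
  obtain ⟨B, _, _, _, _, hfin, het, hffl, ψ, hψ⟩ := exists_local_lift (R := R) k'
  let : Algebra k' (ResidueField B) := ψ.toAlgebra
  let : Algebra R k' := Algebra.compHom k' (residue R)
  haveI : IsScalarTower R k k' := IsScalarTower.of_algebraMap_eq fun _ => rfl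
  haveI : IsScalarTower R k' (ResidueField B) := IsScalarTower.of_algebraMap_eq fun r => (hψ r).symm
  have h1 : IsDiag k' (k' ⊗[R] A) := isDiag_trans k k' A ⟨M, _, ⟨e⟩⟩
  have h2 : IsDiag (ResidueField B) (ResidueField B ⊗[R] A) :=
    isDiag_trans k' (ResidueField B) A (isDiag_baseChange (ResidueField B) (k' ⊗[R] A) h1)
  have h3 : IsDiag (ResidueField B) (ResidueField B ⊗[B] (B ⊗[R] A)) :=
    isDiag_of_equiv (cancelBC R B (ResidueField B) A).symm h2
  exact ⟨B, _, _, het, hfin, hffl, isDiag_of_henselian inferInstance
    (isMultType_of_const (isMultTypeConst_baseChange B (exists_isMultTypeConst_of_isLocalRing h))) h3⟩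

end Groth.Sga3.CharLift
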