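import Groth.Agent.Sga3.AdicCrit
import Groth.Agent.Sga3.CharDescent

/-!
An isotrivial group lifting a torus along the adic completion is a torus.
-/

set_option autoImplicit false

universe u v w

open TensorProduct

noncomputable section

namespace Groth.Sga3.AdicCrit

open SGA3b MultType

variable {A : Type u} [CommRing A]

/-- group algebras of isomorphic groups -/
def mapEquiv (R : Type u) [CommRing R] {M : Type v} {N : Type w} [CommGroup M] [CommGroup N] (σ : M ≃* N) :
    MonoidAlgebra R M ≃ₐc[R] MonoidAlgebra R N :=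
  BialgEquiv.ofBijective (MonoidAlgebra.mapDomainBialgHom R (σ : M →* N)) <|
    Function.bijective_iff_has_inverse.2 ⟨MonoidAlgebra.mapDomainBialgHom R (σ.symm : N →* M),
      fun x => by
        induction x using MonoidAlgebra.induction_linear with
        | zero => simp
        | add p q hp hq => simp only [map_add, hp, hq]
        | single m r => simp,
      fun x => by
        induction x using MonoidAlgebra.induction_linear with
        | zero => simp
        | add p q hp hq => simp only [map_add, hp, hq]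
        | single m r => simp⟩

/-- base change of a group algebra, for a group in any universe -/
def monAlgBC' (R : Type u) [CommRing R] (S : Type u) [CommRing S] [Algebra R S] (M : Type v)
    [CommGroup M] : S ⊗[R] MonoidAlgebra R M ≃ₐc[S] MonoidAlgebra S M :=
  BialgEquiv.ofAlgEquiv (MonoidAlgebra.scalarTensorEquiv R S)
    (by ext <;> simp [MonoidAlgebra.scalarTensorEquiv_tmul])
    (by ext <;> simp [MonoidAlgebra.scalarTensorEquiv_tmul, Algebra.TensorProduct.one_def])

/-- base change of a bialgebra equivalence with a target in any universe -/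
def congrBC' {R : Type u} [CommRing R] (S : Type u) [CommRing S] [Algebra R S] {X : Type u}
    [CommRing X] [Bialgebra R X] {B : Type v} [CommRing B] [Bialgebra R B] (e : X ≃ₐc[R] B) :
    S ⊗[R] X ≃ₐc[S] S ⊗[R] B :=
  BialgEquiv.ofBijective (Bialgebra.TensorProduct.map (BialgHom.id S S) (e : X →ₐc[R] B)) <| by
    have h : ∀ x, Bialgebra.TensorProduct.map (BialgHom.id S S) (e : X →ₐc[R] B) x =
        LinearEquiv.lTensor S (e : X ≃ₐ[R] B).toLinearEquiv x := by
      intro x
      induction x using TensorProduct.induction_on with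
      | zero => simp
      | tmul s a => rfl
      | add x y hx hy => simp [map_add, hx, hy]
    exact (funext h) ▸ (LinearEquiv.lTensor S (e : X ≃ₐ[R] B).toLinearEquiv).bijective

theorem isTorus_of_const {X : Type u} [CommRing X] [HopfAlgebra A X] (h : IsTorusConst A X) :
    IsTorus A X := by
  obtain ⟨R', _, _, hff, n, ⟨e⟩⟩ := h
  refine ⟨{1}, Ideal.span_singleton_one, fun f _ => ?_⟩
  let S := Localization.Away f
  let T := S ⊗[A] R'
  letI : Algebra R' T := Algebra.TensorProduct.rightAlgebra
  haveI : IsScalarTower A R' T := IsScalarTower.of_algebraMap_eq fun r => by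
    change algebraMap A T r = (1 : S) ⊗ₜ[A] algebraMap A R' r
    rw [Algebra.TensorProduct.algebraMap_apply, Algebra.algebraMap_eq_smul_one,
      Algebra.algebraMap_eq_smul_one, TensorProduct.smul_tmul]
  exact ⟨T, _, _, inferInstance, n, ⟨(cancelBC A S T X).trans ((cancelBC A R' T X).symm.trans
    ((congrBC' T e).trans (monAlgBC' R' T _)))⟩⟩

/-- An isotrivial group whose reduction modulo a topologically nilpotent ideal is a torus. -/
theorem isTorus_of_reduction (I : Ideal A) [IsAdicComplete I A] {X : Type u} [CommRing X]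
    [HopfAlgebra A X] (hX : IsIsotrivial A X) {Y : Type u} [CommRing Y] [HopfAlgebra (A ⧸ I) Y]
    (e₀ : ((A ⧸ I) ⊗[A] X) ≃ₐc[A ⧸ I] Y) (hY : IsTorus (A ⧸ I) Y) : IsTorus A X := by
  rcases subsingleton_or_nontrivial (A ⧸ I) with hs | hs
  · have h1 : (1 : A) ∈ Ideal.jacobson (⊥ : Ideal A) :=
      IsAdicComplete.le_jacobson_bot I (Ideal.Quotient.eq_zero_iff_mem.1 (Subsingleton.elim _ _))
    have h2 := Ideal.mem_jacobson_bot.1 h1 (-1)
    simp only [mul_neg, mul_one, neg_add_cancel, isUnit_zero_iff] at h2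
    haveI : Subsingleton A := subsingleton_of_zero_eq_one h2
    exact ⟨∅, Subsingleton.elim _ _, fun f hf => hf.elim⟩
  obtain ⟨R', _, _, _, _, hff, M, _, ⟨γ⟩⟩ := hX
  obtain ⟨s, hs, hloc⟩ := hY
  obtain ⟨f, hfs, hf⟩ : ∃ f ∈ s, ¬ IsNilpotent f := by
    by_contra hne
    push Not at hne
    have h1 : Ideal.span s ≤ nilradical (A ⧸ I) := Ideal.span_le.2 fun x hx => hne x hx
    rw [hs] at h1
    exact not_isNilpotent_one (h1 Submodule.mem_top)
  obtain ⟨Rf, _, _, hffR, n, ⟨ef⟩⟩ := hloc f hfs
  let L := Localization.Away f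
  haveI : Nontrivial L := by
    refine not_subsingleton_iff_nontrivial.1 fun hL => hf ?_
    obtain ⟨⟨_, k, rfl⟩, hk⟩ := (IsLocalization.map_eq_zero_iff (Submonoid.powers f) L 1).1
      (Subsingleton.elim _ _)
    exact ⟨k, by simpa using hk⟩
  haveI : Nontrivial Rf := (FaithfulSMul.algebraMap_injective L Rf).nontrivial
  let : Algebra (A ⧸ I) Rf := ((algebraMap L Rf).comp (algebraMap (A ⧸ I) L)).toAlgebra
  haveI : IsScalarTower (A ⧸ I) L Rf := IsScalarTower.of_algebraMap_eq' rfl
  let : Algebra A Rf := ((algebraMap (A ⧸ I) Rf).comp (algebraMap A (A ⧸ I))).toAlgebra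
  haveI : IsScalarTower A (A ⧸ I) Rf := IsScalarTower.of_algebraMap_eq' rfl
  let T := Rf ⊗[A] R'
  haveI : Nontrivial T := (FaithfulSMul.algebraMap_injective Rf T).nontrivial
  obtain ⟨P, hP⟩ := Ideal.exists_maximal T
  let K := T ⧸ P
  letI : Field K := Ideal.Quotient.field P
  haveI : IsScalarTower A Rf K := inferInstance
  let : Algebra L Rf := inferInstance
  haveI : SMulCommClass A L Rf := inferInstance
  haveI : IsScalarTower L Rf K := inferInstance
  haveI : IsScalarTower A (A ⧸ I) K := inferInstance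
  haveI : IsScalarTower (A ⧸ I) L K := inferInstance
  let : Algebra R' K := ((Ideal.Quotient.mk P).comp
    (Algebra.TensorProduct.includeRight : R' →ₐ[A] T).toRingHom).toAlgebra
  haveI : IsScalarTower A R' K := IsScalarTower.of_algebraMap_eq fun r => by
    change Ideal.Quotient.mk P (algebraMap A T r) = Ideal.Quotient.mk P _
    congr 1
    exact ((Algebra.TensorProduct.includeRight : R' →ₐ[A] T).commutes r).symm
  let G := Multiplicative (Fin n → ℤ)
  -- both splittings over the field
  let E₁ : K ⊗[A] X ≃ₐc[K] MonoidAlgebra K M :=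
    (cancelBC A R' K X).symm.trans ((congrBC K γ).trans (monAlgBC R' K M))
  let E₂ : K ⊗[A ⧸ I] Y ≃ₐc[K] MonoidAlgebra K G :=
    (cancelBC (A ⧸ I) L K Y).symm.trans ((cancelBC L Rf K (L ⊗[A ⧸ I] Y)).symm.trans
      ((congrBC' K ef).trans (monAlgBC' Rf K G)))
  let E₃ : MonoidAlgebra K M ≃ₐc[K] MonoidAlgebra K (ULift.{u} G) :=
    E₁.symm.trans (((cancelBC A (A ⧸ I) K X).symm.trans (congrBC K e₀)).trans
      (E₂.trans (mapEquiv K MulEquiv.ulift.symm)))
  obtain ⟨σ, -⟩ := CharLift.exists_mulEquiv E₃
  exact isTorus_of_const ⟨R', _, _, hff, n, ⟨γ.trans (mapEquiv R' (σ.trans MulEquiv.ulift))⟩⟩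

end Groth.Sga3.AdicCrit
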