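import Groth.Agent.Sga3.DescendHopf
import Groth.Agent.Sga3.AdicIsotrivial

/-!
Lifting of descent data for group algebras along an ideal with unique lifting of group-like elements.
-/

set_option autoImplicit false

universe u

open TensorProduct Coalgebra MonoidAlgebra

noncomputable section

namespace Groth.Sga3.Descend

open GroupAlg SGA3b MultType

section Act

variable {X Y Z : Type u} [CommRing X] [CommRing Y] [CommRing Z] {M : Type u} [CommGroup M]

theorem isGroupLikeElem_act (f : X →+* Y) (g : M →* MonoidAlgebra X M)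
    (hg : ∀ m, IsGroupLikeElem X (g m)) {y : MonoidAlgebra Y M} (hy : IsGroupLikeElem Y y) :
    IsGroupLikeElem Y (act f g y) := by
  let G : M →* GroupLike Y (MonoidAlgebra Y M) :=
    { toFun := fun m => ⟨mp f (g m), isGroupLikeElem_mp f (hg m)⟩
      map_one' := GroupLike.val_injective (by simp)
      map_mul' := fun a b => GroupLike.val_injective (by simp) }
  let φ : MonoidAlgebra Y M →ₐc[Y] MonoidAlgebra Y M :=
    MonoidAlgebra.liftGroupLikeBialgHom.comp (MonoidAlgebra.mapDomainBialgHom Y G)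
  have h : ∀ z, φ z = act f g z := by
    intro z
    induction z using MonoidAlgebra.induction_linear with
    | zero => simp
    | add a b ha hb => simp only [map_add, ha, hb]
    | single m r =>
      rw [show single m r = r • single m (1 : Y) by simp, map_smul, map_smul, act_single]
      congr 1
      simp [φ, G, MonoidAlgebra.liftGroupLikeBialgHom]
  rw [← h]
  exact hy.map φ

theorem act_comp (f : X →+* Y) (h : Y →+* Z) (g : M →* MonoidAlgebra X M) :
    act (h.comp f) g = act h ((mp f (M := M)).toMonoidHom.comp g) := by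
  apply AlgHom.ext
  intro z
  induction z using MonoidAlgebra.induction_linear with
  | zero => simp
  | add a b ha hb => simp only [map_add, ha, hb]
  | single m r =>
    rw [show single m r = r • single m (1 : Z) by simp, map_smul, map_smul, act_single, act_single]
    congr 1
    exact (mp_mp f h (g m)).symm

theorem exists_mp_eq {f : X →+* Y} (hf : Function.Surjective f) (y : MonoidAlgebra Y M) :
    ∃ x, mp f x = y := by
  induction y using MonoidAlgebra.induction_linear with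
  | zero => exact ⟨0, map_zero _⟩
  | add a b ha hb =>
    obtain ⟨x, rfl⟩ := ha; obtain ⟨x', rfl⟩ := hb
    exact ⟨x + x', map_add _ _ _⟩
  | single m r => exact ⟨single m (hf r).choose, by rw [MonoidAlgebra.mapRingHom_single, (hf r).choose_spec]⟩

end Act

section Coord

variable {Q : Type u} [CommRing Q] {C : Type u} [CommRing C] [Algebra Q C] {A₀ : Type u} [CommRing A₀]
  [HopfAlgebra Q A₀] {M : Type u} [CommGroup M] (e : C ⊗[Q] A₀ ≃ₐc[C] MonoidAlgebra C M)

/-- coordinates of `x` at the point `q` -/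
def coord {Z : Type u} [CommRing Z] (q : C →+* Z) (x : A₀) : MonoidAlgebra Z M :=
  mp q (e ((1 : C) ⊗ₜ x))

theorem mp_coord {Z Z' : Type u} [CommRing Z] [CommRing Z'] (q : C →+* Z) (h : Z →+* Z') (x : A₀) :
    mp h (coord e q x) = coord e (h.comp q) x := mp_mp _ _ _

/-- the splitting at a point -/
def chain (Z : Type u) [CommRing Z] [Algebra Q Z] [Algebra C Z] [IsScalarTower Q C Z] :
    Z ⊗[Q] A₀ ≃ₐc[Z] MonoidAlgebra Z M :=
  ((cancelBC Q C Z A₀).symm.trans (congrBC Z e)).trans (monAlgBC C Z M)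

theorem chain_one_tmul (Z : Type u) [CommRing Z] [Algebra Q Z] [Algebra C Z] [IsScalarTower Q C Z]
    (x : A₀) : chain e Z ((1 : Z) ⊗ₜ x) = coord e (algebraMap C Z) x := by
  have h2 : cancelBC Q C Z A₀ ((1 : Z) ⊗ₜ[C] ((1 : C) ⊗ₜ[Q] x)) = (1 : Z) ⊗ₜ[Q] x := by
    change Algebra.TensorProduct.cancelBaseChange Q C Z Z A₀ _ = _
    rw [Algebra.TensorProduct.cancelBaseChange_tmul, one_smul]
  have h3 : (cancelBC Q C Z A₀).symm ((1 : Z) ⊗ₜ[Q] x) = (1 : Z) ⊗ₜ[C] ((1 : C) ⊗ₜ[Q] x) :=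
    (congrArg (cancelBC Q C Z A₀).symm h2.symm).trans (BialgEquiv.symm_apply_apply _ _)
  change monAlgBC C Z M (congrBC Z e ((cancelBC Q C Z A₀).symm ((1 : Z) ⊗ₜ x))) = _
  rw [h3]
  change MonoidAlgebra.scalarTensorEquiv C Z ((1 : Z) ⊗ₜ[C] e ((1 : C) ⊗ₜ x)) = _
  rw [MonoidAlgebra.scalarTensorEquiv_tmul, one_smul]
  rfl

theorem ext_coord {Z W : Type u} [CommRing Z] [Semiring W] [Algebra Z W] (q : C →+* Z)
    {F G : MonoidAlgebra Z M →ₐ[Z] W} (h : ∀ x, F (coord e q x) = G (coord e q x)) : F = G := by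
  let := q.toAlgebra
  let : Algebra Q Z := (q.comp (algebraMap Q C)).toAlgebra
  haveI : IsScalarTower Q C Z := IsScalarTower.of_algebraMap_eq' rfl
  apply AlgHom.ext
  intro y
  obtain ⟨z, rfl⟩ := (chain e Z).surjective y
  change F (chain e Z z) = G (chain e Z z)
  induction z using TensorProduct.induction_on with
  | zero => simp
  | add a b ha hb => simp only [map_add, ha, hb]
  | tmul c x =>
    rw [show c ⊗ₜ[Q] x = c • ((1 : Z) ⊗ₜ[Q] x) by rw [TensorProduct.smul_tmul', smul_eq_mul, mul_one],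
      map_smul, map_smul, map_smul, chain_one_tmul]
    exact congrArg (c • ·) (h x)

theorem exists_glue {Z : Type u} [CommRing Z] (q₁ q₂ : C →+* Z)
    (hq : q₁.comp (algebraMap Q C) = q₂.comp (algebraMap Q C)) :
    ∃ g : M →* MonoidAlgebra Z M, (∀ m, IsGroupLikeElem Z (g m)) ∧
      ∀ x, act (RingHom.id Z) g (coord e q₁ x) = coord e q₂ x := by
  let : Algebra Q Z := (q₁.comp (algebraMap Q C)).toAlgebra
  let c₁ : Σ' f : Z ⊗[Q] A₀ ≃ₐc[Z] MonoidAlgebra Z M, ∀ x, f ((1 : Z) ⊗ₜ x) = coord e q₁ x :=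
    letI := q₁.toAlgebra
    haveI : IsScalarTower Q C Z := IsScalarTower.of_algebraMap_eq' rfl
    ⟨chain e Z, fun x => chain_one_tmul e Z x⟩
  let c₂ : Σ' f : Z ⊗[Q] A₀ ≃ₐc[Z] MonoidAlgebra Z M, ∀ x, f ((1 : Z) ⊗ₜ x) = coord e q₂ x :=
    letI := q₂.toAlgebra
    haveI : IsScalarTower Q C Z := IsScalarTower.of_algebraMap_eq' hq
    ⟨chain e Z, fun x => chain_one_tmul e Z x⟩
  let θ : MonoidAlgebra Z M ≃ₐc[Z] MonoidAlgebra Z M := c₁.1.symm.trans c₂.1
  let g : M →* MonoidAlgebra Z M := (MonoidHomClass.toMonoidHom θ).comp (MonoidAlgebra.of Z M)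
  have hg : ∀ m, g m = θ (single m 1) := fun m => rfl
  refine ⟨g, fun m => by
    rw [hg]; exact (MonoidAlgebra.isGroupLikeElem_single_one m).map θ, fun x => ?_⟩
  have h : ∀ y, act (RingHom.id Z) g y = θ y := by
    intro y
    induction y using MonoidAlgebra.induction_linear with
    | zero => simp
    | add a b ha hb => simp only [map_add, ha, hb]
    | single m r =>
      rw [show single m r = r • single m (1 : Z) by simp, map_smul, map_smul, act_single, mp_id, hg]
  rw [h, ← c₁.2, ← c₂.2]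
  exact congrArg c₂.1 (c₁.1.symm_apply_apply _)

end Coord

/-- Group-like elements of group algebras over `W` correspond to those over `W / I W`. -/
structure LiftProp {R : Type u} [CommRing R] (I : Ideal R) (W : Type u) [CommRing W] [Algebra R W] :
    Prop where
  exist : ∀ (N : Type u) [CommGroup N] (h : MonoidAlgebra (W ⧸ I.map (algebraMap R W)) N),
    IsGroupLikeElem (W ⧸ I.map (algebraMap R W)) h →
      ∃ g : MonoidAlgebra W N, IsGroupLikeElem W g ∧ mp (Ideal.Quotient.mk _) g = h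
  uniq : ∀ (N : Type u) [CommGroup N] (g g' : MonoidAlgebra W N), IsGroupLikeElem W g →
    IsGroupLikeElem W g' →
      mp (Ideal.Quotient.mk (I.map (algebraMap R W))) g = mp (Ideal.Quotient.mk _) g' → g = g'

theorem liftProp_of_nil {R : Type u} [CommRing R] {I : Ideal R} (hI : ∀ x ∈ I, IsNilpotent x)
    (W : Type u) [CommRing W] [Algebra R W] : LiftProp I W := by
  refine ⟨fun N _ h hh => ?_, fun N _ g g' hg hg' hgg => ?_⟩
  · obtain ⟨a, rfl⟩ := exists_mp_eq Ideal.Quotient.mk_surjective h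
    obtain ⟨g, hg, hga⟩ := exists_groupLike (map_nil hI W) a hh
    exact ⟨g, hg, ext_cf fun n => by rw [cf_mp, cf_mp, Ideal.Quotient.eq]; exact hga n⟩
  · refine groupLike_eq (map_nil hI W) hg hg' fun n => ?_
    rw [← Ideal.Quotient.eq, ← cf_mp, ← cf_mp, hgg]

theorem one_tmul_eq_mp {W : Type u} [CommRing W] (J : Ideal W) {N : Type u} [CommGroup N]
    (a : MonoidAlgebra W N) :
    monAlgBC W (W ⧸ J) N ((1 : W ⧸ J) ⊗ₜ[W] a) = mp (Ideal.Quotient.mk J) a := by
  change MonoidAlgebra.scalarTensorEquiv W (W ⧸ J) _ = _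
  rw [MonoidAlgebra.scalarTensorEquiv_tmul, one_smul]
  rfl

theorem liftProp_of_adic {R : Type u} [CommRing R] [IsNoetherianRing R] (I : Ideal R)
    [IsAdicComplete I R] (W : Type u) [CommRing W] [Algebra R W] [Module.Finite R W] : LiftProp I W := by
  let J := I.map (algebraMap R W)
  haveI : IsAdicComplete J W :=
    haveI := Groth.AdicLinTop.Adic.isAdicComplete_of_finite (I := I) (M := W)
    (IsAdicComplete.map_algebraMap_iff (I := I) (M := W) (S := W)).mpr this
  have hmt : ∀ (N : Type u) [CommGroup N], IsMultType W (MonoidAlgebra W N) := fun N _ =>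
    isMultType_of_const (isMultTypeConst_of_isDiag ⟨N, _, ⟨BialgEquiv.refl W _⟩⟩)
  refine ⟨fun N _ h hh => ?_, fun N _ g g' hg hg' hgg => ?_⟩
  · obtain ⟨a, rfl⟩ := exists_mp_eq Ideal.Quotient.mk_surjective h
    obtain ⟨g, hg, hga⟩ := AdicIso.exists_groupLike_limit J (hmt N) (b₀ := a) (by
      have h1 := hh.map (monAlgBC W (W ⧸ J) N).symm
      rwa [show (monAlgBC W (W ⧸ J) N).symm (mp (Ideal.Quotient.mk J) a) = (1 : W ⧸ J) ⊗ₜ[W] a by
        rw [← one_tmul_eq_mp, BialgEquiv.symm_apply_apply]] at h1)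
    exact ⟨g, hg, by rw [← one_tmul_eq_mp J, ← one_tmul_eq_mp J, hga]⟩
  · refine AdicIso.groupLike_eq_adic J (hmt N) hg hg' ((monAlgBC W (W ⧸ J) N).injective ?_)
    change monAlgBC W (W ⧸ J) N _ = monAlgBC W (W ⧸ J) N _
    rw [one_tmul_eq_mp, one_tmul_eq_mp]
    exact hgg

section Lift

variable {R : Type u} [CommRing R] (I : Ideal R) {S : Type u} [CommRing S] [Algebra R S]
  {C : Type u} [CommRing C] [Algebra (R ⧸ I) C] {A₀ : Type u} [CommRing A₀] [HopfAlgebra (R ⧸ I) A₀]
  {M : Type u} [CommGroup M]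

/-- the reduction of a point -/
def red (π : S →+* C) (hπ : Function.Surjective π) (hker : RingHom.ker π ≤ I.map (algebraMap R S))
    {W : Type u} [CommRing W] [Algebra R W] (f : S →ₐ[R] W) : C →+* W ⧸ I.map (algebraMap R W) :=
  RingHom.liftOfSurjective π hπ
    ⟨(Ideal.Quotient.mk _).comp (f : S →+* W), fun x hx => by
      rw [RingHom.mem_ker, RingHom.comp_apply, Ideal.Quotient.eq_zero_iff_mem]
      have h1 := Ideal.mem_map_of_mem (f : S →+* W) (hker hx)
      rwa [Ideal.map_map, f.comp_algebraMap] at h1⟩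

theorem red_apply (π : S →+* C) (hπ : Function.Surjective π)
    (hker : RingHom.ker π ≤ I.map (algebraMap R S)) {W : Type u} [CommRing W] [Algebra R W]
    (f : S →ₐ[R] W) (s : S) : red I π hπ hker f (π s) = Ideal.Quotient.mk _ (f s) :=
  RingHom.liftOfRightInverse_comp_apply _ _ _ _ _

/-- A descent datum lifts along an ideal. -/
theorem exists_datum_lift (π : S →+* C) (hπ : Function.Surjective π)
    (hπR : ∀ r : R, π (algebraMap R S r) = algebraMap (R ⧸ I) C (Ideal.Quotient.mk I r))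
    (hker : RingHom.ker π ≤ I.map (algebraMap R S))
    (e : C ⊗[R ⧸ I] A₀ ≃ₐc[C] MonoidAlgebra C M)
    (hS : LiftProp I S) (hT : LiftProp I (S ⊗[R] S)) (hU : LiftProp I (S ⊗[R] (S ⊗[R] S))) :
    ∃ D : Datum R S M, ∀ x,
      mp (Ideal.Quotient.mk (I.map (algebraMap R (S ⊗[R] S)))) (D.θ
        (mp (ι₁ R S) (Classical.choose (exists_mp_eq hπ (e ((1 : C) ⊗ₜ x)))))) =
      mp (Ideal.Quotient.mk (I.map (algebraMap R (S ⊗[R] S))))
        (mp (ι₂ R S) (Classical.choose (exists_mp_eq hπ (e ((1 : C) ⊗ₜ x))))) := by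
  let T := S ⊗[R] S
  let U := S ⊗[R] (S ⊗[R] S)
  let IT := I.map (algebraMap R T)
  let IU := I.map (algebraMap R U)
  let IS := I.map (algebraMap R S)
  let mT : T →+* T ⧸ IT := Ideal.Quotient.mk IT
  let mU : U →+* U ⧸ IU := Ideal.Quotient.mk IU
  let p₁ : C →+* T ⧸ IT := red I π hπ hker (Algebra.TensorProduct.includeLeft : S →ₐ[R] T)
  let p₂ : C →+* T ⧸ IT := red I π hπ hker (Algebra.TensorProduct.includeRight : S →ₐ[R] T)
  obtain ⟨g₀, hg₀, hglue⟩ := exists_glue e p₁ p₂ (by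
    refine RingHom.ext fun z => ?_
    obtain ⟨r, rfl⟩ := Ideal.Quotient.mk_surjective z
    rw [RingHom.comp_apply, RingHom.comp_apply, ← hπR, red_apply, red_apply, AlgHom.commutes,
      AlgHom.commutes])
  choose g hgl hg using fun m => hT.exist M (g₀ m) (hg₀ m)
  let G : M →* MonoidAlgebra T M :=
    { toFun := g
      map_one' := hT.uniq M _ _ (hgl 1) IsGroupLikeElem.one (by rw [hg, map_one, map_one])
      map_mul' := fun a b => hT.uniq M _ _ (hgl _) ((hgl a).mul (hgl b))
        (by rw [hg, map_mul, map_mul, hg, hg]) }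
  have hG : ∀ {Z : Type u} [CommRing Z] (h : T ⧸ IT →+* Z), act (h.comp mT) G = act h g₀ := by
    intro Z _ h
    rw [act_comp]
    congr 1
    exact MonoidHom.ext fun m => hg m
  -- the descended maps on the quotients
  have hIle : ∀ {W W' : Type u} [CommRing W] [Algebra R W] [CommRing W'] [Algebra R W'] (h : W →ₐ[R] W'),
      I.map (algebraMap R W) ≤ (I.map (algebraMap R W')).comap (h : W →+* W') := by
    intro W W' _ _ _ _ h
    rw [← Ideal.map_le_iff_le_comap, Ideal.map_map, h.comp_algebraMap]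
  let a12 : T →ₐ[R] U := Algebra.TensorProduct.map (AlgHom.id R S) Algebra.TensorProduct.includeLeft
  let a13 : T →ₐ[R] U := Algebra.TensorProduct.map (AlgHom.id R S) Algebra.TensorProduct.includeRight
  let a23 : T →ₐ[R] U := Algebra.TensorProduct.includeRight
  let k12 : T ⧸ IT →+* U ⧸ IU := Ideal.quotientMap IU (a12 : T →+* U) (hIle a12)
  let k13 : T ⧸ IT →+* U ⧸ IU := Ideal.quotientMap IU (a13 : T →+* U) (hIle a13)
  let k23 : T ⧸ IT →+* U ⧸ IU := Ideal.quotientMap IU (a23 : T →+* U) (hIle a23)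
  have hk : ∀ (a : T →ₐ[R] U) (k : T ⧸ IT →+* U ⧸ IU), (∀ t, k (mT t) = mU (a t)) →
      ∀ x, act k g₀ (coord e (Z := U ⧸ IU) (k.comp p₁) x) = coord e (Z := U ⧸ IU) (k.comp p₂) x := by
    intro a k _ x
    rw [← mp_coord, ← mp_coord, ← hglue, mp_act, RingHom.comp_id]
  have hpt : ∀ (a b : T →ₐ[R] U) (k k' : T ⧸ IT →+* U ⧸ IU) (i i' : S →ₐ[R] T),
      (∀ t, k (mT t) = mU (a t)) → (∀ t, k' (mT t) = mU (b t)) → (∀ s, a (i s) = b (i' s)) →
      k.comp (red I π hπ hker i) = k'.comp (red I π hπ hker i') := by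
    intro a b k k' i i' hka hkb hab
    refine RingHom.ext fun c => ?_
    obtain ⟨s, rfl⟩ := hπ c
    rw [RingHom.comp_apply, RingHom.comp_apply, red_apply, red_apply]
    exact ((hka _).trans (congrArg mU (hab s))).trans (hkb _).symm
  have h12 : ∀ t, k12 (mT t) = mU (a12 t) := fun t => Ideal.quotientMap_mk ..
  have h13 : ∀ t, k13 (mT t) = mU (a13 t) := fun t => Ideal.quotientMap_mk ..
  have h23 : ∀ t, k23 (mT t) = mU (a23 t) := fun t => Ideal.quotientMap_mk ..
  have hmid : k12.comp p₂ = k23.comp p₁ :=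
    hpt a12 a23 k12 k23 _ _ h12 h23 fun s => rfl
  have hfirst : k13.comp p₁ = k12.comp p₁ :=
    hpt a13 a12 k13 k12 _ _ h13 h12 fun s => rfl
  have hlast : k23.comp p₂ = k13.comp p₂ :=
    hpt a23 a13 k23 k13 _ _ h23 h13 fun s => rfl
  have hcoc₀ : (act (Y := U ⧸ IU) k23 g₀).comp (act (Y := U ⧸ IU) k12 g₀) = act (Y := U ⧸ IU) k13 g₀ := by
    refine ext_coord e (k12.comp p₁) fun x => ?_
    rw [AlgHom.comp_apply, hk a12 k12 h12, hmid, hk a23 k23 h23, hlast, ← hfirst, hk a13 k13 h13]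
  have hcoc : ∀ m, act (j23 R S) G (mp (j12 R S) (G m)) = mp (j13 R S) (G m) := by
    intro m
    refine hU.uniq M _ _ (isGroupLikeElem_act _ G hgl (isGroupLikeElem_mp _ (hgl m)))
      (isGroupLikeElem_mp _ (hgl m)) ?_
    have e12 : mU.comp (j12 R S) = k12.comp mT := RingHom.ext fun t => (h12 t).symm
    have e13 : mU.comp (j13 R S) = k13.comp mT := RingHom.ext fun t => (h13 t).symm
    have e23 : mU.comp (j23 R S) = k23.comp mT := RingHom.ext fun t => (h23 t).symm
    change mp (Y := U ⧸ IU) mU (act (j23 R S) G (mp (j12 R S) (G m))) =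
      mp (Y := U ⧸ IU) mU (mp (j13 R S) (G m))
    rw [mp_act, mp_mp, mp_mp, e12, e13, e23, ← mp_mp, ← mp_mp, hG,
      show mp mT (G m) = g₀ m from hg m, ← act_single (Y := U ⧸ IU) k12 g₀,
      ← act_single (Y := U ⧸ IU) k13 g₀, ← hcoc₀]
    rfl
  have hunit : ∀ m, mp (mu R S) (G m) = single m 1 := by
    intro m
    refine hS.uniq M _ _ (isGroupLikeElem_mp _ (hgl m)) (MonoidAlgebra.isGroupLikeElem_single_one m) ?_
    let mS : S →+* S ⧸ IS := Ideal.Quotient.mk IS
    let am : T →ₐ[R] S := Algebra.TensorProduct.lmul' R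
    let km : T ⧸ IT →+* S ⧸ IS := Ideal.quotientMap IS (am : T →+* S) (hIle am)
    have hkm : ∀ t, km (mT t) = mS (am t) := fun t => Ideal.quotientMap_mk ..
    have hq : km.comp p₂ = km.comp p₁ := by
      refine RingHom.ext fun c => ?_
      obtain ⟨s, rfl⟩ := hπ c
      rw [RingHom.comp_apply, RingHom.comp_apply, red_apply, red_apply]
      exact ((hkm _).trans (congrArg mS ((one_mul s).trans (mul_one s).symm))).trans (hkm _).symm
    have hid : act km g₀ = AlgHom.id _ _ := ext_coord e (km.comp p₁) fun x => by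
      have h1 := congrArg (mp km) (hglue x)
      rw [mp_act, RingHom.comp_id, mp_coord, mp_coord, hq] at h1
      exact h1
    have em : mS.comp (mu R S) = km.comp mT := RingHom.ext fun t => (hkm t).symm
    change mp mS (mp (mu R S) (G m)) = mp mS _
    rw [mp_mp, em, ← mp_mp, show mp mT (G m) = g₀ m from hg m, ← act_single km g₀, hid,
      MonoidAlgebra.mapRingHom_single, map_one]
    rfl
  refine ⟨{ g := G, gl := hgl, coc := hcoc, unit := hunit }, fun x => ?_⟩
  have hy := Classical.choose_spec (exists_mp_eq hπ (e ((1 : C) ⊗ₜ x)))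
  have hp : ∀ (i : S →ₐ[R] T), mp mT (mp (i : S →+* T)
      (Classical.choose (exists_mp_eq hπ (e ((1 : C) ⊗ₜ x))))) = coord e (red I π hπ hker i) x := by
    intro i
    rw [coord, mp_mp]
    conv_rhs => rw [← hy, mp_mp]
    have heq : mT.comp (i : S →+* T) = (red I π hπ hker i).comp π :=
      RingHom.ext fun s => (red_apply I π hπ hker i s).symm
    rw [heq]
  rw [Datum.mp_θ]
  change act mT G (mp mT (mp (ι₁ R S) _)) = mp mT (mp (ι₂ R S) _)
  rw [← RingHom.id_comp mT, hG, RingHom.id_comp]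
  erw [hp, hp]
  exact hglue x

/-- The base change of a descended algebra. -/
theorem exists_lift [Module.FaithfullyFlat R S] [Module.FaithfullyFlat (R ⧸ I) C] (π : S →+* C)
    (hπ : Function.Surjective π)
    (hπR : ∀ r : R, π (algebraMap R S r) = algebraMap (R ⧸ I) C (Ideal.Quotient.mk I r))
    (hker : RingHom.ker π ≤ I.map (algebraMap R S))
    (e : C ⊗[R ⧸ I] A₀ ≃ₐc[C] MonoidAlgebra C M)
    (hS : LiftProp I S) (hT : LiftProp I (S ⊗[R] S)) (hU : LiftProp I (S ⊗[R] (S ⊗[R] S))) :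
    ∃ (A : Type u) (_ : CommRing A) (_ : HopfAlgebra R A), IsDiag S (S ⊗[R] A) ∧
      Nonempty (((R ⧸ I) ⊗[R] A) ≃ₐc[R ⧸ I] A₀) := by
  obtain ⟨D, hD⟩ := exists_datum_lift I π hπ hπR hker e hS hT hU
  let Q := R ⧸ I
  let : Algebra R C := ((algebraMap Q C).comp (algebraMap R Q)).toAlgebra
  haveI : IsScalarTower R Q C := IsScalarTower.of_algebraMap_eq' rfl
  let : Algebra S C := π.toAlgebra
  haveI : IsScalarTower R S C := IsScalarTower.of_algebraMap_eq fun r => (hπR r).symm
  let πa : S →ₐ[R] C := IsScalarTower.toAlgHom R S C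
  let π2a : S ⊗[R] S →ₐ[R] C ⊗[Q] C :=
    Algebra.TensorProduct.lift ((Algebra.TensorProduct.includeLeft : C →ₐ[R] C ⊗[Q] C).comp πa)
      (((Algebra.TensorProduct.includeRight : C →ₐ[Q] C ⊗[Q] C).restrictScalars R).comp πa)
      fun _ _ => Commute.all _ _
  let π3a : S ⊗[R] (S ⊗[R] S) →ₐ[R] C ⊗[Q] (C ⊗[Q] C) :=
    Algebra.TensorProduct.lift ((Algebra.TensorProduct.includeLeft : C →ₐ[R] C ⊗[Q] (C ⊗[Q] C)).comp πa)
      (((Algebra.TensorProduct.includeRight : C ⊗[Q] C →ₐ[Q] C ⊗[Q] (C ⊗[Q] C)).restrictScalars R).comp π2a)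
      fun _ _ => mul_comm (G := C ⊗[Q] (C ⊗[Q] C)) _ _
  let π2 : S ⊗[R] S →+* C ⊗[Q] C := π2a
  let π3 : S ⊗[R] (S ⊗[R] S) →+* C ⊗[Q] (C ⊗[Q] C) := π3a
  have q1 : π2.comp (ι₁ R S) = (ι₁ Q C).comp π := RingHom.ext fun s => by
    simp [π2, π2a, πa, RingHom.algebraMap_toAlgebra]
  have q2 : π2.comp (ι₂ R S) = (ι₂ Q C).comp π := RingHom.ext fun s => by
    simp [π2, π2a, πa, RingHom.algebraMap_toAlgebra]
  have q12 : π3.comp (j12 R S) = (j12 Q C).comp π2 := RingHom.ext fun t => by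
    induction t using TensorProduct.induction_on with
    | zero => simp
    | add a b ha hb => simp only [map_add, ha, hb]
    | tmul a b => simp [π2, π2a, π3, π3a]
  have q13 : π3.comp (j13 R S) = (j13 Q C).comp π2 := RingHom.ext fun t => by
    induction t using TensorProduct.induction_on with
    | zero => simp
    | add a b ha hb => simp only [map_add, ha, hb]
    | tmul a b => simp [π2, π2a, π3, π3a]
  have q23 : π3.comp (j23 R S) = (j23 Q C).comp π2 := RingHom.ext fun t => by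
    simp [π3, π3a, π2, ← Algebra.TensorProduct.one_def]
  have qmu : π.comp (mu R S) = (mu Q C).comp π2 := RingHom.ext fun t => by
    induction t using TensorProduct.induction_on with
    | zero => simp
    | add a b ha hb => simp only [map_add, ha, hb]
    | tmul a b => simp [π2, π2a, πa, RingHom.algebraMap_toAlgebra]
  let D₀ : Datum Q C M :=
    { g := (mp π2 (M := M)).toMonoidHom.comp D.g
      gl := fun m => isGroupLikeElem_mp π2 (D.gl m)
      coc := fun m => by
        have h := congrArg (mp π3) (D.coc m)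
        rw [mp_act, mp_mp, mp_mp, q12, q13, q23, act_comp, ← mp_mp, ← mp_mp] at h
        exact h
      unit := fun m => by
        have h := congrArg (mp π) (D.unit m)
        rw [mp_mp, qmu, ← mp_mp, MonoidAlgebra.mapRingHom_single, map_one] at h
        exact h }
  have hθ : ∀ y, D₀.θ (mp π2 y) = mp π2 (D.θ y) := by
    intro y
    rw [D.mp_θ, ← RingHom.id_comp π2, act_comp, RingHom.id_comp]
    rfl
  letI := D.hopfAlgebra
  letI := D₀.hopfAlgebra
  let EP : C ⊗[Q] (Q ⊗[R] D.A) ≃ₐc[C] MonoidAlgebra C M :=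
    (cancelBC R Q C D.A).trans (chain D.μc C)
  have hEP : ∀ a : D.A, EP ((1 : C) ⊗ₜ ((1 : Q) ⊗ₜ a)) = mp π (a : MonoidAlgebra S M) := by
    intro a
    change chain D.μc C (cancelBC R Q C D.A _) = _
    rw [show cancelBC R Q C D.A ((1 : C) ⊗ₜ[Q] ((1 : Q) ⊗ₜ[R] a)) = (1 : C) ⊗ₜ[R] a by
      change Algebra.TensorProduct.cancelBaseChange R Q C C D.A _ = _
      rw [Algebra.TensorProduct.cancelBaseChange_tmul, one_smul], chain_one_tmul, coord]
    congr 1
    change D.μ ((1 : S) ⊗ₜ a) = _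
    rw [D.μ_tmul, one_smul]
  obtain ⟨f₁⟩ := D₀.nonempty_bialgEquiv EP fun x => by
    obtain ⟨a, rfl⟩ := TensorProduct.mk_surjective R D.A Q Ideal.Quotient.mk_surjective x
    change D₀.θ (mp _ (EP ((1 : C) ⊗ₜ ((1 : Q) ⊗ₜ a)))) = mp _ (EP ((1 : C) ⊗ₜ ((1 : Q) ⊗ₜ a)))
    rw [hEP, mp_mp, mp_mp, ← q1, ← q2, ← mp_mp, ← mp_mp, hθ, D.mem_A.1 a.2]
  obtain ⟨f₂⟩ := D₀.nonempty_bialgEquiv e fun x => by
    let T := S ⊗[R] S
    have hle : ∀ t ∈ I.map (algebraMap R T), π2 t = 0 := by
      intro t ht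
      have h1 := Ideal.mem_map_of_mem π2 ht
      rw [Ideal.map_map, show π2.comp (algebraMap R T) = algebraMap R (C ⊗[Q] C) from π2a.comp_algebraMap,
        IsScalarTower.algebraMap_eq R Q (C ⊗[Q] C), ← Ideal.map_map, Ideal.Quotient.algebraMap_eq,
        Ideal.map_quotient_self, Ideal.map_bot, Ideal.mem_bot] at h1
      exact h1
    have h1 := congrArg (mp (Ideal.Quotient.lift _ π2 hle)) (hD x)
    rw [mp_mp, mp_mp, Ideal.Quotient.lift_comp_mk, ← hθ, mp_mp, mp_mp, q1, q2, ← mp_mp, ← mp_mp,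
      Classical.choose_spec (exists_mp_eq hπ (e ((1 : C) ⊗ₜ x)))] at h1
    exact h1
  exact ⟨D.A, inferInstance, D.hopfAlgebra, D.isDiag, ⟨f₁.trans f₂.symm⟩⟩

end Lift

end Groth.Sga3.Descend
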