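import Groth.Agent.Sga3.ProductGlue
import Groth.Agent.Sga3.DescendLift
import Groth.Agent.Sga3.CharDescent
import Mathlib.RingTheory.Etale.Pi
import Mathlib.RingTheory.Etale.Basic

/-!
A quasi-isotrivial group is, after a finite open-closed decomposition of the base according to its
type, split by one etale faithfully flat algebra on each piece.
-/

set_option autoImplicit false

universe u

open TensorProduct

noncomputable section

namespace Groth.Sga3.TypeSplit

open SGA3b MultType

variable {Q : Type u} [CommRing Q] {A₀ : Type u} [CommRing A₀] [HopfAlgebra Q A₀]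

theorem nonempty_mulEquiv_of_point {C D : Type u} [CommRing C] [CommRing D] [Algebra Q C] [Algebra Q D]
    {M N : Type u} [CommGroup M] [CommGroup N] (e : C ⊗[Q] A₀ ≃ₐc[C] MonoidAlgebra C M)
    (e' : D ⊗[Q] A₀ ≃ₐc[D] MonoidAlgebra D N) (p : PrimeSpectrum Q)
    (hC : p ∈ Set.range (PrimeSpectrum.comap (algebraMap Q C)))
    (hD : p ∈ Set.range (PrimeSpectrum.comap (algebraMap Q D))) : Nonempty (M ≃* N) := by
  let k := p.asIdeal.ResidueField
  haveI : Nontrivial (k ⊗[Q] C) := (PrimeSpectrum.nontrivial_iff_mem_rangeComap p).2 hC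
  haveI : Nontrivial (k ⊗[Q] D) := (PrimeSpectrum.nontrivial_iff_mem_rangeComap p).2 hD
  let U := (k ⊗[Q] C) ⊗[k] (k ⊗[Q] D)
  haveI : Nontrivial U :=
    ⟨1 ⊗ₜ (1 : k ⊗[Q] D), 0, fun h => one_ne_zero
      (one_tmul_injective_of_faithfullyFlat (R := k) (k ⊗[Q] C) (k ⊗[Q] D)
        (h.trans (TensorProduct.tmul_zero _ _).symm))⟩
  obtain ⟨m, hm⟩ := Ideal.exists_maximal U
  let : Field (U ⧸ m) := Ideal.Quotient.field m
  let iU : C →ₐ[Q] U := ((Algebra.TensorProduct.includeLeft : k ⊗[Q] C →ₐ[k] U).restrictScalars Q).comp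
    Algebra.TensorProduct.includeRight
  let iU' : D →ₐ[Q] U := ((Algebra.TensorProduct.includeRight : k ⊗[Q] D →ₐ[k] U).restrictScalars Q).comp
    Algebra.TensorProduct.includeRight
  let E₁ : (U ⧸ m) ⊗[Q] A₀ ≃ₐc[U ⧸ m] MonoidAlgebra (U ⧸ m) M :=
    letI : Algebra C (U ⧸ m) := (((Ideal.Quotient.mkₐ Q m).comp iU) : C →+* U ⧸ m).toAlgebra
    haveI : IsScalarTower Q C (U ⧸ m) :=
      IsScalarTower.of_algebraMap_eq fun r => (((Ideal.Quotient.mkₐ Q m).comp iU).commutes r).symm
    Descend.chain e (U ⧸ m)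
  let E₂ : (U ⧸ m) ⊗[Q] A₀ ≃ₐc[U ⧸ m] MonoidAlgebra (U ⧸ m) N :=
    letI : Algebra D (U ⧸ m) := (((Ideal.Quotient.mkₐ Q m).comp iU') : D →+* U ⧸ m).toAlgebra
    haveI : IsScalarTower Q D (U ⧸ m) :=
      IsScalarTower.of_algebraMap_eq fun r => (((Ideal.Quotient.mkₐ Q m).comp iU').commutes r).symm
    Descend.chain e' (U ⧸ m)
  obtain ⟨σ, -⟩ := CharLift.exists_mulEquiv (E₁.symm.trans E₂)
  exact ⟨σ⟩

theorem exists_split (h0 : IsQuasiIsotrivial Q A₀) :
    ∃ (ι : Type u) (_ : Fintype ι) (e : ι → Q), CompleteOrthogonalIdempotents e ∧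
      ∀ (c : ι) (Qc : Type u) [CommRing Qc] [Algebra Q Qc], Function.Surjective (algebraMap Q Qc) →
        RingHom.ker (algebraMap Q Qc) = Ideal.span {1 - e c} →
          IsQuasiIsotrivialConst Qc (Qc ⊗[Q] A₀) := by
  classical
  obtain ⟨s, hs, hloc⟩ := h0
  obtain ⟨t, hts, ht⟩ := Ideal.span_eq_top_iff_finite s |>.1 hs
  choose C cr ca het hff hd using fun i : t => hloc i.1 (hts i.2)
  letI : ∀ i, Algebra Q (C i) := fun i => ((algebraMap (Localization.Away i.1) (C i)).comp
    (algebraMap Q (Localization.Away i.1))).toAlgebra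
  haveI : ∀ i : t, IsScalarTower Q (Localization.Away i.1) (C i) :=
    fun i => IsScalarTower.of_algebraMap_eq' rfl
  have hd' : ∀ i, IsDiag (C i) (C i ⊗[Q] A₀) := fun i =>
    isDiag_trans (Localization.Away i.1) (C i) A₀ (hd i)
  choose M iM eM using hd'
  let r : Setoid t :=
    { r := fun i j => Nonempty (M i ≃* M j)
      iseqv := ⟨fun i => ⟨MulEquiv.refl _⟩, fun ⟨h⟩ => ⟨h.symm⟩, fun ⟨h⟩ ⟨h'⟩ => ⟨h.trans h'⟩⟩ }
  have hrange : ∀ (i : t) (p : PrimeSpectrum Q), i.1 ∉ p.asIdeal →
      p ∈ Set.range (PrimeSpectrum.comap (algebraMap Q (C i))) := by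
    intro i p hp
    obtain ⟨q, hq⟩ : p ∈ Set.range (PrimeSpectrum.comap (algebraMap Q (Localization.Away i.1))) := by
      rw [PrimeSpectrum.localization_away_comap_range (Localization.Away i.1) i.1]
      exact hp
    obtain ⟨P, hP⟩ := PrimeSpectrum.comap_surjective_of_faithfullyFlat (A := Localization.Away i.1)
      (B := C i) q
    exact ⟨P, by rw [IsScalarTower.algebraMap_eq Q (Localization.Away i.1) (C i),
      PrimeSpectrum.comap_comp_apply, hP, hq]⟩
  have hnil : ∀ i j, ¬ r.r i j → IsNilpotent (i.1 * j.1 : Q) := by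
    intro i j hij
    by_contra hne
    rw [← mem_nilradical, nilradical_eq_sInf, Submodule.mem_sInf] at hne
    push Not at hne
    obtain ⟨p, hp, hij'⟩ := hne
    haveI : Ideal.IsPrime p := hp
    refine hij (nonempty_mulEquiv_of_point (eM i).some (eM j).some ⟨p, hp⟩ (hrange i _ ?_) (hrange j _ ?_))
    · exact fun hi => hij' (Ideal.mul_mem_right _ _ hi)
    · exact fun hj => hij' (Ideal.mul_mem_left _ _ hj)
  choose nN hnN using fun p : t × t => (em (IsNilpotent (p.1.1 * p.2.1 : Q))).elim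
    (fun ⟨n, hn⟩ => (⟨n, fun _ => hn⟩ : ∃ n, IsNilpotent (p.1.1 * p.2.1 : Q) → (p.1.1 * p.2.1 : Q) ^ n = 0))
    (fun h => ⟨0, fun h' => absurd h' h⟩)
  let N := Finset.univ.sup nN
  have hN : ∀ i j, ¬ r.r i j → (i.1 : Q) ^ N * j.1 ^ N = 0 := fun i j hij => by
    rw [← mul_pow]
    exact pow_eq_zero_of_le (Finset.le_sup (f := nN) (Finset.mem_univ (i, j)))
      (hnN (i, j) (hnil i j hij))
  obtain ⟨a, ha⟩ : ∃ a : t → Q, ∑ i, a i * i.1 ^ N = 1 := by
    have h1 : Ideal.span (Set.range fun i : t => (i.1 : Q) ^ N) = ⊤ := by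
      have h2 := Ideal.span_pow_eq_top _ ht N
      convert h2 using 2
      ext x
      simp
    exact Ideal.mem_span_range_iff_exists_fun.1 (h1 ▸ Submodule.mem_top)
  let ι := Quotient r
  let e : ι → Q := fun c => ∑ i ∈ Finset.univ.filter (fun i => Quotient.mk r i = c), a i * i.1 ^ N
  have hsum : ∑ c, e c = 1 := by
    rw [← ha]
    exact Finset.sum_fiberwise _ _ _
  have hzero : ∀ (i : t) (c : ι), Quotient.mk r i ≠ c → (i.1 : Q) ^ N * e c = 0 := by
    intro i c hic
    rw [Finset.mul_sum]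
    refine Finset.sum_eq_zero fun j hj => ?_
    rw [mul_left_comm, hN i j (fun hij => hic ((Quotient.sound hij).trans (Finset.mem_filter.1 hj).2)),
      mul_zero]
  have hortho : ∀ c d, c ≠ d → e c * e d = 0 := by
    intro c d hcd
    rw [show e c = ∑ i ∈ Finset.univ.filter (fun i => Quotient.mk r i = c), a i * i.1 ^ N from rfl,
      Finset.sum_mul]
    refine Finset.sum_eq_zero fun i hi => ?_
    rw [mul_assoc, hzero i d (by rw [(Finset.mem_filter.1 hi).2]; exact hcd), mul_zero]
  have hcoi : CompleteOrthogonalIdempotents e :=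
    CompleteOrthogonalIdempotents.iff_ortho_complete.2 ⟨fun c d => hortho c d, hsum⟩
  have hself : ∀ i : t, (i.1 : Q) ^ N * (1 - e (Quotient.mk r i)) = 0 := by
    intro i
    rw [← hsum, ← Finset.add_sum_erase _ _ (Finset.mem_univ (Quotient.mk r i)), add_sub_cancel_left,
      Finset.mul_sum]
    exact Finset.sum_eq_zero fun c hc => hzero i c (Ne.symm (Finset.mem_erase.1 hc).1)
  refine ⟨ι, inferInstance, e, hcoi, fun c Qc _ _ hsurj hker => ?_⟩
  -- the splitting algebra on one piece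
  let J := {i : t // Quotient.mk r i = c}
  have hlift : ∀ j : J, ∀ x ∈ RingHom.ker (algebraMap Q Qc), algebraMap Q (C j.1) x = 0 := by
    intro j x hx
    rw [hker] at hx
    obtain ⟨y, rfl⟩ := Ideal.mem_span_singleton.1 hx
    have hu : IsUnit (algebraMap Q (C j.1) (j.1.1 ^ N)) := by
      rw [RingHom.map_pow, IsScalarTower.algebraMap_apply Q (Localization.Away j.1.1) (C j.1)]
      exact ((IsLocalization.Away.algebraMap_isUnit j.1.1).map _).pow N
    refine hu.mul_left_cancel ?_
    rw [mul_zero, ← RingHom.map_mul, ← mul_assoc,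
      show (j.1.1 : Q) ^ N * (1 - e c) = 0 from
        (congrArg (fun d => (j.1.1 : Q) ^ N * (1 - e d)) j.2).symm.trans (hself j.1),
      zero_mul, RingHom.map_zero]
  let : ∀ j : J, Algebra Qc (C j.1) := fun j => (RingHom.liftOfSurjective (algebraMap Q Qc) hsurj
    ⟨algebraMap Q (C j.1), fun x hx => hlift j x hx⟩).toAlgebra
  haveI : ∀ j : J, IsScalarTower Q Qc (C j.1) := fun j => IsScalarTower.of_algebraMap_eq fun x =>
    (RingHom.liftOfRightInverse_comp_apply (algebraMap Q Qc) _ _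
      ⟨algebraMap Q (C j.1), fun x hx => hlift j x hx⟩ x).symm
  haveI : IsLocalization.Away (e c) Qc :=
    IsLocalization.away_of_isIdempotentElem (hcoi.idem c) hker hsurj
  haveI : Algebra.Etale Q Qc := Algebra.Etale.of_isLocalizationAway (e c)
  haveI hetQ : ∀ i : t, Algebra.Etale Q (C i) := fun i =>
    haveI : Algebra.Etale Q (Localization.Away i.1) := Algebra.Etale.of_isLocalizationAway i.1
    haveI := het i
    Algebra.Etale.comp Q (Localization.Away i.1) (C i)
  haveI hetJ : ∀ j : J, Algebra.Etale Qc (C j.1) := fun j => Algebra.Etale.of_restrictScalars Q Qc (C j.1)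
  let P := ∀ j : J, C j.1
  haveI : Algebra.Etale Qc P :=
    { formallyEtale := (Algebra.FormallyEtale.pi_iff (fun j : J => C j.1)).mpr fun j => inferInstance
      finitePresentation := Algebra.FinitePresentation.pi (fun j : J => C j.1) }
  haveI : Module.Flat Qc P := inferInstance
  have hffP : Module.FaithfullyFlat Qc P := by
    refine Module.FaithfullyFlat.of_comap_surjective fun p => ?_
    let p' := PrimeSpectrum.comap (algebraMap Q Qc) p
    have hc : 1 - e c ∈ p'.asIdeal := by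
      change algebraMap Q Qc (1 - e c) ∈ p.asIdeal
      rw [show algebraMap Q Qc (1 - e c) = 0 from
        RingHom.mem_ker.1 (hker ▸ Ideal.mem_span_singleton_self _)]
      exact p.asIdeal.zero_mem
    obtain ⟨i, hi⟩ : ∃ i : t, i.1 ∉ p'.asIdeal := by
      by_contra hne
      push Not at hne
      exact p'.2.ne_top (eq_top_iff.2 (ht ▸ Ideal.span_le.2 fun x hx => hne ⟨x, hx⟩))
    have hic : Quotient.mk r i = c := by
      by_contra hne
      have h1 : e c ∈ p'.asIdeal :=
        (p'.2.mem_or_mem (hzero i c hne ▸ p'.asIdeal.zero_mem)).resolve_left fun h =>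
          hi (p'.2.mem_of_pow_mem N h)
      exact p'.2.ne_top ((Ideal.eq_top_iff_one _).2 (by simpa using add_mem hc h1))
    obtain ⟨R', hR'⟩ := hrange i p' hi
    refine ⟨PrimeSpectrum.comap (Pi.evalRingHom (fun j : J => C j.1) ⟨i, hic⟩) R', ?_⟩
    refine PrimeSpectrum.comap_injective_of_surjective _ hsurj ?_
    change _ = p'
    rw [← hR', ← PrimeSpectrum.comap_comp_apply, ← PrimeSpectrum.comap_comp_apply,
      show (Pi.evalRingHom (fun j : J => C j.1) ⟨i, hic⟩).comp ((algebraMap Qc P).comp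
        (algebraMap Q Qc)) = algebraMap Q (C i) from
          (IsScalarTower.algebraMap_eq Q Qc (C (⟨i, hic⟩ : J).1)).symm]
  -- diagonalisation
  let Mc := M c.out
  let : ∀ j : J, Algebra P (C j.1) := fun j => (Pi.evalRingHom (fun j : J => C j.1) j).toAlgebra
  haveI hpieces : ProductGlue.Pieces (fun j : J => (Pi.single j 1 : P)) (fun j : J => C j.1) := by
    refine ⟨CompleteOrthogonalIdempotents.single (fun j : J => C j.1), fun j => ?_, fun j x hx => ?_,
      fun j => ?_⟩
    · exact fun y => ⟨(Pi.single j y : P), Pi.single_eq_same (M := fun k : J => C k.1) j y⟩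
    · refine Ideal.mem_span_singleton.2 ⟨x, funext fun k => ?_⟩
      rw [Pi.mul_apply, Pi.sub_apply, Pi.one_apply]
      rcases eq_or_ne k j with rfl | hk
      · rw [Pi.single_eq_same, sub_self, zero_mul]
        exact hx
      · rw [Pi.single_eq_of_ne hk, sub_zero, one_mul]
    · exact Pi.single_eq_same j 1
  refine ⟨P, inferInstance, inferInstance, inferInstance, hffP, hpieces.isDiag Mc fun j => ?_⟩
  have hσ : Nonempty (M j.1 ≃* Mc) := Quotient.exact (j.2.trans c.out_eq.symm)
  obtain ⟨σ⟩ := hσ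
  haveI : IsScalarTower Qc P (C j.1) := IsScalarTower.of_algebraMap_eq fun _ => rfl
  exact ⟨(((cancelBC Qc P (C j.1) (Qc ⊗[Q] A₀)).trans (cancelBC Q Qc (C j.1) A₀)).trans
    (eM j.1).some).trans (MonoidAlgebra.domCongrBialgEquiv (C j.1) (C j.1) σ)⟩

end Groth.Sga3.TypeSplit
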