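import Groth.Agent.Sga3.MultType
import Groth.Agent.Sga3.GroupAlgGroupLike
import Groth.Agent.Sga3.NilLift
import Groth.Agent.S19547
import Mathlib.RingTheory.Flat.FaithfullyFlat.Descent
import Mathlib.RingTheory.TensorProduct.IncludeLeftSubRight

/-!
Twisted forms of group algebras: faithfully flat descent of `S[M]` along a descent datum given by
group-like elements of `(S ⊗ S)[M]`.
-/

set_option autoImplicit false

universe u

open TensorProduct Coalgebra MonoidAlgebra

noncomputable section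

namespace Groth.Sga3.Descend

open GroupAlg

variable {R : Type u} [CommRing R] {S : Type u} [CommRing S] [Algebra R S]
variable {M N : Type u} [CommGroup M] [CommGroup N]

/-- change of coefficients -/
abbrev mp {X Y : Type u} [CommRing X] [CommRing Y] (f : X →+* Y) {M : Type u} [CommGroup M] :
    MonoidAlgebra X M →+* MonoidAlgebra Y M :=
  MonoidAlgebra.mapRingHom M f

theorem cf_mp {X Y : Type u} [CommRing X] [CommRing Y] (f : X →+* Y) (x : MonoidAlgebra X M) (m : M) :
    cf m (mp f x) = f (cf m x) := by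
  rw [cf_apply, cf_apply, MonoidAlgebra.coeff_mapRingHom]

theorem mp_mp {X Y Z : Type u} [CommRing X] [CommRing Y] [CommRing Z] (f : X →+* Y) (g : Y →+* Z)
    (x : MonoidAlgebra X M) : mp g (mp f x) = mp (g.comp f) x :=
  ext_cf fun m => by rw [cf_mp, cf_mp, cf_mp]; rfl

theorem mp_id {X : Type u} [CommRing X] (x : MonoidAlgebra X M) : mp (RingHom.id X) x = x :=
  ext_cf fun m => by rw [cf_mp]; rfl

theorem mp_smul {X Y : Type u} [CommRing X] [CommRing Y] (f : X →+* Y) (c : X)
    (x : MonoidAlgebra X M) : mp f (c • x) = f c • mp f x :=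
  ext_cf fun m => by
    rw [cf_mp, map_smul (cf m), map_smul (cf m), cf_mp, smul_eq_mul, smul_eq_mul, map_mul]

theorem mp_injective {X Y : Type u} [CommRing X] [CommRing Y] {f : X →+* Y} (hf : Function.Injective f) :
    Function.Injective (mp f (M := M)) := fun x y h =>
  ext_cf fun m => hf (by rw [← cf_mp, ← cf_mp, h])

theorem isGroupLikeElem_mp {X Y : Type u} [CommRing X] [CommRing Y] (f : X →+* Y)
    {x : MonoidAlgebra X M} (hx : IsGroupLikeElem X x) : IsGroupLikeElem Y (mp f x) := by
  let := f.toAlgebra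
  have h1 : MultType.monAlgBC X Y M ((1 : Y) ⊗ₜ[X] x) = mp f x := by
    change MonoidAlgebra.scalarTensorEquiv X Y _ = _
    rw [MonoidAlgebra.scalarTensorEquiv_tmul, one_smul]
    rfl
  rw [← h1]
  exact (MultType.isGroupLikeElem_one_tmul Y hx).map (MultType.monAlgBC X Y M)

theorem mp_mapDomain {X Y : Type u} [CommRing X] [CommRing Y] (f : X →+* Y) (q : M →* N)
    (x : MonoidAlgebra X M) :
    mp f (mapDomainBialgHom X q x) = mapDomainBialgHom Y q (mp f x) := by
  induction x using MonoidAlgebra.induction_linear with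
  | zero => simp
  | add a b ha hb => simp only [map_add, ha, hb]
  | single m r => simp

/-- the endomorphism of a group algebra attached to a homomorphism into group-like elements -/
def act {X Y : Type u} [CommRing X] [CommRing Y] (f : X →+* Y) (g : M →* MonoidAlgebra X M) :
    MonoidAlgebra Y M →ₐ[Y] MonoidAlgebra Y M :=
  MonoidAlgebra.lift Y (MonoidAlgebra Y M) M ((mp f (M := M)).toMonoidHom.comp g)

theorem act_single {X Y : Type u} [CommRing X] [CommRing Y] (f : X →+* Y) (g : M →* MonoidAlgebra X M)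
    (m : M) : act f g (single m 1) = mp f (g m) := by
  rw [act, MonoidAlgebra.lift_single, one_smul]; rfl

theorem mp_act {X Y Z : Type u} [CommRing X] [CommRing Y] [CommRing Z] (f : X →+* Y) (h : Y →+* Z)
    (g : M →* MonoidAlgebra X M) (y : MonoidAlgebra Y M) :
    mp h (act f g y) = act (h.comp f) g (mp h y) := by
  induction y using MonoidAlgebra.induction_linear with
  | zero => simp
  | add a b ha hb => simp only [map_add, ha, hb]
  | single m r =>
    rw [MonoidAlgebra.mapRingHom_single,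
      show single m r = r • single m (1 : Y) by simp,
      show single m (h r) = h r • single m (1 : Z) by simp, map_smul (act f g), act_single, mp_smul,
      mp_mp, map_smul (act (h.comp f) g), act_single]

section Maps

variable (R S)

/-- first coprojection -/
abbrev ι₁ : S →+* S ⊗[R] S :=
  ((Algebra.TensorProduct.includeLeft : S →ₐ[R] S ⊗[R] S) : S →+* S ⊗[R] S)
/-- second coprojection -/
abbrev ι₂ : S →+* S ⊗[R] S :=
  ((Algebra.TensorProduct.includeRight : S →ₐ[R] S ⊗[R] S) : S →+* S ⊗[R] S)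
/-- `pr₁₂` -/
abbrev j12 : S ⊗[R] S →+* S ⊗[R] (S ⊗[R] S) :=
  ((Algebra.TensorProduct.map (AlgHom.id R S) (Algebra.TensorProduct.includeLeft : S →ₐ[R] S ⊗[R] S) :
    S ⊗[R] S →ₐ[R] S ⊗[R] (S ⊗[R] S)) : S ⊗[R] S →+* S ⊗[R] (S ⊗[R] S))
/-- `pr₁₃` -/
abbrev j13 : S ⊗[R] S →+* S ⊗[R] (S ⊗[R] S) :=
  ((Algebra.TensorProduct.map (AlgHom.id R S) (Algebra.TensorProduct.includeRight : S →ₐ[R] S ⊗[R] S) :
    S ⊗[R] S →ₐ[R] S ⊗[R] (S ⊗[R] S)) : S ⊗[R] S →+* S ⊗[R] (S ⊗[R] S))
/-- `pr₂₃` -/
abbrev j23 : S ⊗[R] S →+* S ⊗[R] (S ⊗[R] S) :=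
  ((Algebra.TensorProduct.includeRight : S ⊗[R] S →ₐ[R] S ⊗[R] (S ⊗[R] S)) :
    S ⊗[R] S →+* S ⊗[R] (S ⊗[R] S))
/-- multiplication -/
abbrev mu : S ⊗[R] S →+* S :=
  ((Algebra.TensorProduct.lmul' R : S ⊗[R] S →ₐ[R] S) : S ⊗[R] S →+* S)

end Maps

variable (R S M) in
/-- A descent datum for `S[M]`. -/
structure Datum where
  /-- the image of the characters -/
  g : M →* MonoidAlgebra (S ⊗[R] S) M
  gl : ∀ m, IsGroupLikeElem (S ⊗[R] S) (g m)
  coc : ∀ m, act (j23 R S) g (mp (j12 R S) (g m)) = mp (j13 R S) (g m)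
  unit : ∀ m, mp (mu R S) (g m) = single m 1

variable (D : Datum R S M)

/-- the gluing -/
def Datum.θ : MonoidAlgebra (S ⊗[R] S) M →ₐ[S ⊗[R] S] MonoidAlgebra (S ⊗[R] S) M :=
  act (RingHom.id _) D.g

theorem Datum.θ_single (m : M) : D.θ (single m 1) = D.g m := by
  rw [Datum.θ, act_single, mp_id]

theorem Datum.mp_θ {Z : Type u} [CommRing Z] (h : S ⊗[R] S →+* Z)
    (y : MonoidAlgebra (S ⊗[R] S) M) : mp h (D.θ y) = act h D.g (mp h y) := by
  rw [Datum.θ, mp_act, RingHom.comp_id]

theorem Datum.coc_act (y : MonoidAlgebra (S ⊗[R] (S ⊗[R] S)) M) :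
    act (j23 R S) D.g (act (j12 R S) D.g y) = act (j13 R S) D.g y := by
  induction y using MonoidAlgebra.induction_linear with
  | zero => simp
  | add a b ha hb => simp only [map_add, ha, hb]
  | single m r =>
    rw [show single m r = r • single m (1 : S ⊗[R] (S ⊗[R] S)) by simp, map_smul, map_smul, map_smul,
      act_single, act_single, D.coc]

theorem Datum.bijective_θ : Function.Bijective D.θ := by
  let ρ : S ⊗[R] (S ⊗[R] S) →+* S ⊗[R] S :=
    ((Algebra.TensorProduct.lift (Algebra.TensorProduct.includeLeft : S →ₐ[R] S ⊗[R] S)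
      ((Algebra.TensorProduct.comm R S S).toAlgHom) (fun _ _ => Commute.all _ _) :
        S ⊗[R] (S ⊗[R] S) →ₐ[R] S ⊗[R] S) : _ →+* _)
  let sw : S ⊗[R] S →+* S ⊗[R] S := ((Algebra.TensorProduct.comm R S S).toAlgHom : _ →+* _)
  let d : S ⊗[R] S →+* S ⊗[R] S := (ι₁ R S).comp (mu R S)
  have h12 : ρ.comp (j12 R S) = RingHom.id _ := RingHom.ext fun t => by
    induction t using TensorProduct.induction_on with
    | zero => simp
    | add a b ha hb => simp only [map_add, ha, hb]
    | tmul a b => simp [ρ]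
  have h23 : ρ.comp (j23 R S) = sw := RingHom.ext fun t => by
    induction t using TensorProduct.induction_on with
    | zero => simp
    | add a b ha hb => simp only [map_add, ha, hb]
    | tmul a b => simp [ρ, sw]
  have h13 : ρ.comp (j13 R S) = d := RingHom.ext fun t => by
    induction t using TensorProduct.induction_on with
    | zero => simp
    | add a b ha hb => simp only [map_add, ha, hb]
    | tmul a b => simp [ρ, d]
  have hleft : ∀ y, act sw D.g (D.θ y) = y := by
    intro y
    induction y using MonoidAlgebra.induction_linear with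
    | zero => simp
    | add a b ha hb => simp only [map_add, ha, hb]
    | single m r =>
      have h1 := congrArg (mp ρ) (D.coc m)
      rw [mp_act, h23, mp_mp, mp_mp, h12, h13, mp_id,
        show mp d (D.g m) = mp (ι₁ R S) (mp (mu R S) (D.g m)) from (mp_mp _ _ _).symm, D.unit,
        MonoidAlgebra.mapRingHom_single, map_one] at h1
      rw [show single m r = r • single m (1 : S ⊗[R] S) by simp, map_smul, map_smul, θ_single, h1]
  have hsw : sw.comp sw = RingHom.id _ := RingHom.ext fun t => by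
    induction t using TensorProduct.induction_on with
    | zero => simp
    | add a b ha hb => simp only [map_add, ha, hb]
    | tmul a b => simp [sw]
  refine ⟨Function.LeftInverse.injective hleft, fun y => ⟨act sw D.g y, ?_⟩⟩
  have h1 := congrArg (mp sw) (hleft (mp sw y))
  rw [mp_act, hsw, D.mp_θ, mp_mp, hsw, mp_id] at h1
  exact h1

/-- the subalgebra of descended elements -/
def Datum.A : Subalgebra R (MonoidAlgebra S M) where
  carrier := {u | D.θ (mp (ι₁ R S) u) = mp (ι₂ R S) u}
  mul_mem' := by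
    intro a b ha hb
    simp only [Set.mem_setOf_eq] at *
    rw [map_mul, map_mul, map_mul, ha, hb]
  add_mem' := by
    intro a b ha hb
    simp only [Set.mem_setOf_eq] at *
    rw [map_add, map_add, map_add, ha, hb]
  algebraMap_mem' r := by
    simp only [Set.mem_setOf_eq]
    rw [MonoidAlgebra.coe_algebraMap, Function.comp_apply, MonoidAlgebra.mapRingHom_single,
      MonoidAlgebra.mapRingHom_single,
      show single (1 : M) (ι₁ R S (algebraMap R S r)) =
        ι₁ R S (algebraMap R S r) • single (1 : M) (1 : S ⊗[R] S) by simp,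
      map_smul, θ_single, map_one, MonoidAlgebra.one_def, MonoidAlgebra.smul_single, smul_eq_mul, mul_one]
    congr 1
    change (Algebra.TensorProduct.includeLeft : S →ₐ[R] S ⊗[R] S) (algebraMap R S r) =
      (Algebra.TensorProduct.includeRight : S →ₐ[R] S ⊗[R] S) (algebraMap R S r)
    rw [AlgHom.commutes, AlgHom.commutes]

theorem Datum.mem_A {u : MonoidAlgebra S M} : u ∈ D.A ↔ D.θ (mp (ι₁ R S) u) = mp (ι₂ R S) u := Iff.rfl

section Coord

variable (R M)

open scoped Classical in
/-- `S ⊗ X[M] = (S ⊗ X)[M]` -/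
def Lg (S X : Type u) [CommRing S] [Algebra R S] [CommRing X] [Algebra R X] :
    S ⊗[R] MonoidAlgebra X M ≃ₗ[R] MonoidAlgebra (S ⊗[R] X) M :=
  ((TensorProduct.congr (LinearEquiv.refl R S) (MonoidAlgebra.coeffLinearEquiv R)).trans
    (TensorProduct.finsuppRight R R S X M)).trans (MonoidAlgebra.coeffLinearEquiv R).symm

open scoped Classical in
/-- `X[M] ⊗ S = (X ⊗ S)[M]` -/
def Rg (S X : Type u) [CommRing S] [Algebra R S] [CommRing X] [Algebra R X] :
    MonoidAlgebra X M ⊗[R] S ≃ₗ[R] MonoidAlgebra (X ⊗[R] S) M :=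
  ((TensorProduct.congr (MonoidAlgebra.coeffLinearEquiv R) (LinearEquiv.refl R S)).trans
    (TensorProduct.finsuppLeft R R X S M)).trans (MonoidAlgebra.coeffLinearEquiv R).symm

variable {R M}

theorem Lg_tmul (S X : Type u) [CommRing S] [Algebra R S] [CommRing X] [Algebra R X] (s : S)
    (v : MonoidAlgebra X M) :
    Lg R M S X (s ⊗ₜ v) = (s ⊗ₜ[R] (1 : X)) •
      mp ((Algebra.TensorProduct.includeRight : X →ₐ[R] S ⊗[R] X) : X →+* S ⊗[R] X) v := by
  classical
  refine ext_cf fun m => ?_
  rw [map_smul, cf_mp, smul_eq_mul]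
  change (TensorProduct.finsuppRight R R S X M (s ⊗ₜ v.coeff)) m = _
  rw [TensorProduct.finsuppRight_apply_tmul_apply]
  simp [cf_apply]

theorem Rg_tmul (S X : Type u) [CommRing S] [Algebra R S] [CommRing X] [Algebra R X] (s : S)
    (v : MonoidAlgebra X M) :
    Rg R M S X (v ⊗ₜ s) = ((1 : X) ⊗ₜ[R] s) •
      mp ((Algebra.TensorProduct.includeLeft : X →ₐ[R] X ⊗[R] S) : X →+* X ⊗[R] S) v := by
  classical
  refine ext_cf fun m => ?_
  rw [map_smul, cf_mp, smul_eq_mul]
  change (TensorProduct.finsuppLeft R R X S M (v.coeff ⊗ₜ s)) m = _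
  rw [TensorProduct.finsuppLeft_apply_tmul_apply]
  simp [cf_apply]

end Coord

/-- the descent map in the form of `S19547` -/
def Datum.φ : MonoidAlgebra S M ⊗[R] S →ₗ[R] S ⊗[R] MonoidAlgebra S M :=
  (Lg R M S S).symm.toLinearMap ∘ₗ
    ((D.θ.toLinearMap.restrictScalars R) ∘ₗ (Rg R M S S).toLinearMap)

theorem Datum.φ_tmul (u : MonoidAlgebra S M) (s : S) :
    Lg R M S S (D.φ (u ⊗ₜ s)) = ((1 : S) ⊗ₜ[R] s) • D.θ (mp (ι₁ R S) u) := by
  simp only [Datum.φ, LinearMap.comp_apply, LinearEquiv.coe_coe, LinearEquiv.apply_symm_apply,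
    Rg_tmul]
  exact map_smul D.θ _ _

theorem Datum.mem_A_iff_φ (u : MonoidAlgebra S M) :
    u ∈ D.A ↔ D.φ (u ⊗ₜ[R] (1 : S)) = (1 : S) ⊗ₜ[R] u := by
  rw [← (Lg R M S S).injective.eq_iff, D.φ_tmul, Lg_tmul, mem_A]
  rw [← Algebra.TensorProduct.one_def, one_smul, one_smul]

theorem Lg_rTensor (x : S) (t : S ⊗[R] MonoidAlgebra S M) :
    Lg R M S S (LinearMap.rTensor (MonoidAlgebra S M) (LinearMap.mulLeft R x) t) =
      (x ⊗ₜ[R] (1 : S)) • Lg R M S S t := by
  induction t using TensorProduct.induction_on with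
  | zero => simp
  | add a b ha hb => simp only [map_add, ha, hb, smul_add]
  | tmul s v =>
    rw [LinearMap.rTensor_tmul, Lg_tmul, Lg_tmul, smul_smul]
    simp

theorem Lg_lTensor (y : S) (t : S ⊗[R] MonoidAlgebra S M) :
    Lg R M S S (LinearMap.lTensor S (Algebra.lsmul R R (MonoidAlgebra S M) y) t) =
      ((1 : S) ⊗ₜ[R] y) • Lg R M S S t := by
  induction t using TensorProduct.induction_on with
  | zero => simp
  | add a b ha hb => simp only [map_add, ha, hb, smul_add]
  | tmul s v =>
    rw [LinearMap.lTensor_tmul, Lg_tmul, Lg_tmul, Algebra.lsmul_coe, mp_smul, smul_smul, smul_smul,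
      mul_comm]
    rfl

theorem Datum.bijective_mul [Module.FaithfullyFlat R S] :
    Function.Bijective ((TensorProduct.lift (Algebra.lsmul R R (MonoidAlgebra S M)).toLinearMap) ∘ₗ
      (LinearMap.lTensor S (Subalgebra.toSubmodule D.A).subtype)) := by
  refine Groth.Agent.S19547.result R S (MonoidAlgebra S M) D.φ ?_ ?_ ?_ ?_
    (Subalgebra.toSubmodule D.A) fun u => D.mem_A_iff_φ u
  · exact (Lg R M S S).symm.bijective.comp (D.bijective_θ.comp (Rg R M S S).bijective)
  · intro x u z
    refine (Lg R M S S).injective ?_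
    rw [Lg_rTensor, D.φ_tmul, D.φ_tmul, mp_smul, map_smul, smul_comm]
    rfl
  · intro y u z
    refine (Lg R M S S).injective ?_
    rw [Lg_lTensor, D.φ_tmul, D.φ_tmul, smul_smul, Algebra.TensorProduct.tmul_mul_tmul, one_mul]
  · intro u a b
    let W := (TensorProduct.congr (LinearEquiv.refl R S) (Lg R M S S)).trans
      (Lg R M S (S ⊗[R] S))
    refine W.injective ?_
    have hW : ∀ (s : S) (z : S ⊗[R] MonoidAlgebra S M), W (s ⊗ₜ z) =
        (s ⊗ₜ[R] (1 : S ⊗[R] S)) • mp (j23 R S) (Lg R M S S z) := fun s z => by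
      change Lg R M S (S ⊗[R] S) (s ⊗ₜ Lg R M S S z) = _
      rw [Lg_tmul]
    have hP : ∀ z : S ⊗[R] MonoidAlgebra S M,
        W (LinearMap.lTensor S D.φ (TensorProduct.assoc R S (MonoidAlgebra S M) S (z ⊗ₜ b))) =
          (j23 R S ((1 : S) ⊗ₜ b)) • act (j23 R S) D.g (mp (j12 R S) (Lg R M S S z)) := by
      intro z
      induction z using TensorProduct.induction_on with
      | zero => simp
      | add p q hp hq => simp only [TensorProduct.add_tmul, map_add, hp, hq, smul_add]
      | tmul s v =>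
        rw [TensorProduct.assoc_tmul, LinearMap.lTensor_tmul, hW, D.φ_tmul, mp_smul, D.mp_θ,
          mp_mp, Lg_tmul, mp_smul, mp_mp, map_smul, smul_comm]
        congr 2
    have hQ : ∀ z : S ⊗[R] MonoidAlgebra S M,
        W (LinearMap.lTensor S (TensorProduct.mk R S (MonoidAlgebra S M) a) z) =
          ((1 : S) ⊗ₜ[R] (a ⊗ₜ[R] (1 : S))) • mp (j13 R S) (Lg R M S S z) := by
      intro z
      induction z using TensorProduct.induction_on with
      | zero => simp
      | add p q hp hq => simp only [map_add, hp, hq, smul_add]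
      | tmul s v =>
        rw [LinearMap.lTensor_tmul, TensorProduct.mk_apply, hW, Lg_tmul, Lg_tmul, mp_smul, mp_smul,
          mp_mp, mp_mp]
        simp only [Algebra.smul_def, ← mul_assoc, ← map_mul]
        congr 2
        simp
    rw [LinearMap.rTensor_tmul, hP, hQ, D.φ_tmul, D.φ_tmul, mp_smul, mp_smul, map_smul, D.mp_θ,
      D.mp_θ, D.coc_act, mp_mp, mp_mp]
    simp only [Algebra.smul_def, ← mul_assoc, ← map_mul]
    congr 2
    simp

end Groth.Sga3.Descend
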