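import Groth.Agent.Sga3.TorsionIdeal
import Groth.Agent.Sga3.Descend
import Groth.Agent.Sga3.CoverDescent
import Groth.Agent.S9612
import Mathlib.RingTheory.Jacobson.Ring
import Mathlib.RingTheory.LocalProperties.Submodule
import Mathlib.RingTheory.Filtration
import Mathlib.RingTheory.Localization.Ideal
import Mathlib.Algebra.Ring.GeomSum
import Mathlib.FieldTheory.Finite.Basic

/-!
The kernels of the power maps of a group of multiplicative type of finite type are schematically
dense.
-/

set_option autoImplicit false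

universe u

open TensorProduct

noncomputable section

namespace Groth.Sga3.Density

open SGA3b MultType GroupAlg
open Groth.Sga3.Descend (mp cf_mp mp_injective)

/-- A field finitely generated as a ring is finite. -/
theorem finite_of_finiteType_int (K : Type u) [Field K] [Algebra.FiniteType ℤ K] : Finite K := by
  haveI : IsJacobsonRing ℤ := Groth.Agent.S9612.result (S := ℤ)
  haveI := finite_of_finite_type_of_isJacobsonRing ℤ K
  let P : Ideal ℤ := RingHom.ker (algebraMap ℤ K)
  haveI : Algebra.IsIntegral ℤ K := Algebra.IsIntegral.of_finite ℤ K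
  have hP : P.IsMaximal := by
    have h := Ideal.isMaximal_comap_of_isIntegral_of_isMaximal (R := ℤ) (⊥ : Ideal K)
    exact h
  have hne : P ≠ ⊥ := fun h => Int.not_isField (isField_of_isIntegral_of_isField
    ((RingHom.injective_iff_ker_eq_bot _).2 h) (Field.toIsField K))
  obtain ⟨z, hz, hz0⟩ := Submodule.exists_mem_ne_zero_of_ne_bot hne
  haveI : Finite (ℤ ⧸ Ideal.span {z}) := by
    haveI : NeZero z.natAbs := ⟨Int.natAbs_ne_zero.2 hz0⟩
    exact Finite.of_equiv _ (Int.quotientSpanEquivZMod z).symm.toEquiv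
  letI : Algebra (ℤ ⧸ Ideal.span {z}) K := (Ideal.Quotient.lift _ (algebraMap ℤ K) fun a ha =>
    ((Ideal.span_singleton_le_iff_mem _).2 hz : Ideal.span {z} ≤ P) ha).toAlgebra
  haveI : IsScalarTower ℤ (ℤ ⧸ Ideal.span {z}) K := IsScalarTower.of_algebraMap_eq fun _ => rfl
  haveI : Module.Finite (ℤ ⧸ Ideal.span {z}) K := Module.Finite.of_restrictScalars_finite ℤ _ _
  exact Module.finite_of_finite (ℤ ⧸ Ideal.span {z})

theorem pow_sub_one_mem {A : Type u} [CommRing A] {I : Ideal A} {p : ℕ} (hp : (p : A) ∈ I) {w : A}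
    (hw : w - 1 ∈ I) (r : ℕ) : w ^ p ^ r - 1 ∈ I ^ (r + 1) := by
  induction r with
  | zero => simpa using hw
  | succ r ih =>
    rw [pow_succ p, pow_mul, ← geom_sum_mul, pow_succ' I]
    refine Ideal.mul_mem_mul ?_ ih
    rw [← Ideal.Quotient.eq_zero_iff_mem, map_sum]
    have h1 : Ideal.Quotient.mk I (w ^ p ^ r) = 1 := by
      rw [← map_one (Ideal.Quotient.mk I), Ideal.Quotient.eq]
      exact Ideal.pow_le_self (Nat.succ_ne_zero r) ih
    simp only [map_pow, h1, one_pow, Finset.sum_const, Finset.card_range, nsmul_eq_mul, mul_one]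
    rw [← map_natCast (Ideal.Quotient.mk I), Ideal.Quotient.eq_zero_iff_mem]
    exact hp

/-- The density over a finitely generated ring. -/
theorem eq_zero_of_finiteType {R₀ : Type u} [CommRing R₀] [Algebra.FiniteType ℤ R₀]
    {M : Type u} [CommGroup M] [Group.FG M] (a y : MonoidAlgebra R₀ M)
    (h : ∀ n : ℕ, 0 < n → ∃ k : ℕ, a ^ k * y ∈ torsionIdeal R₀ (MonoidAlgebra R₀ M) n) :
    ∃ N : ℕ, a ^ N * y = 0 := by
  let A := MonoidAlgebra R₀ M
  rcases subsingleton_or_nontrivial R₀ with hs | hs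
  · haveI : Subsingleton A := (algebraMap R₀ A).codomain_trivial
    exact ⟨0, Subsingleton.elim _ _⟩
  let L := Localization.Away a
  haveI : Algebra.FiniteType R₀ A := MonoidAlgebra.finiteType_iff_group_fg.2 inferInstance
  haveI : Algebra.FiniteType ℤ A := Algebra.FiniteType.trans (S := R₀) ‹_› ‹_›
  haveI : Algebra.FiniteType A L := IsLocalization.finiteType_of_monoid_fg (Submonoid.powers a) L
  haveI : Algebra.FiniteType ℤ L := Algebra.FiniteType.trans (S := A) ‹_› ‹_›
  haveI : IsNoetherianRing L := Algebra.FiniteType.isNoetherianRing ℤ L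
  suffices h0 : algebraMap A L y = 0 by
    obtain ⟨⟨_, N, rfl⟩, hN⟩ := (IsLocalization.map_eq_zero_iff (Submonoid.powers a) L y).1 h0
    exact ⟨N, hN⟩
  refine Module.eq_zero_of_localization_maximal (fun P _ => Localization.AtPrime P)
    (fun P _ => Algebra.linearMap L _) _ fun P hP => ?_
  haveI := hP
  letI : Field (L ⧸ P) := Ideal.Quotient.field P
  have hftP : Algebra.FiniteType ℤ (L ⧸ P) :=
    Algebra.FiniteType.of_surjective (Ideal.Quotient.mkₐ ℤ P) Ideal.Quotient.mk_surjective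
  haveI : Finite (L ⧸ P) := @finite_of_finiteType_int _ _ (by
    convert hftP using 1 <;> first | rfl | exact Subsingleton.elim _ _)
  haveI := Fintype.ofFinite (L ⧸ P)
  obtain ⟨p, hp⟩ := CharP.exists (L ⧸ P)
  have hpP : (p : L) ∈ P := by
    rw [← Ideal.Quotient.eq_zero_iff_mem, map_natCast]
    exact CharP.cast_eq_zero _ p
  have hp0 : 0 < p := (CharP.char_is_prime (L ⧸ P) p).pos
  let q := Fintype.card (L ⧸ P) - 1
  have hq : 0 < q := Nat.sub_pos_of_lt Fintype.one_lt_card
  let u : M →* L := (algebraMap A L).toMonoidHom.comp (MonoidAlgebra.of R₀ M)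
  have hu : ∀ m, u m ^ q - 1 ∈ P := by
    intro m
    rw [← Ideal.Quotient.eq_zero_iff_mem, map_sub, map_one, map_pow, sub_eq_zero]
    refine FiniteField.pow_card_sub_one_eq_one _ fun h0 => ?_
    have h1 : IsUnit (Ideal.Quotient.mk P (u m)) := ((Group.isUnit m).map u).map _
    exact h1.ne_zero h0
  let T := Localization.AtPrime P
  let n := algebraMap L T
  suffices hk : ∀ r : ℕ, n (algebraMap A L y) ∈ (IsLocalRing.maximalIdeal T) ^ (r + 1) by
    change n (algebraMap A L y) = 0
    haveI : IsNoetherianRing T := IsLocalization.isNoetherianRing P.primeCompl T inferInstance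
    rw [← Ideal.mem_bot, ← Ideal.iInf_pow_eq_bot_of_isLocalRing (IsLocalRing.maximalIdeal T)
      (IsLocalRing.maximalIdeal.isMaximal T).ne_top, Ideal.mem_iInf]
    rintro (_ | r)
    · simp
    · exact hk r
  intro r
  obtain ⟨k, hk⟩ := h (q * p ^ r) (Nat.mul_pos hq (pow_pos hp0 r))
  have hJ : torsionIdeal R₀ A (q * p ^ r) ≤ (P ^ (r + 1)).comap (algebraMap A L) := by
    rw [torsionIdeal_monoidAlgebra, ker_mapDomain, Ideal.span_le]
    rintro _ ⟨_, ⟨m, rfl⟩, rfl⟩
    rw [SetLike.mem_coe, Ideal.mem_comap, map_sub, map_one]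
    change u (m ^ (q * p ^ r)) - 1 ∈ P ^ (r + 1)
    rw [map_pow, pow_mul]
    exact pow_sub_one_mem hpP (hu m) r
  have h1 := hJ hk
  rw [Ideal.mem_comap, map_mul, map_pow] at h1
  have h2 : algebraMap A L y ∈ P ^ (r + 1) :=
    (Ideal.unit_mul_mem_iff_mem _ ((IsLocalization.Away.algebraMap_isUnit a).pow k)).1 h1
  have h3 := Ideal.mem_map_of_mem n h2
  rwa [Ideal.map_pow, Localization.AtPrime.map_eq_maximalIdeal] at h3

theorem mp_mem_torsionIdeal_iff {R₀ R : Type u} [CommRing R₀] [CommRing R] {f : R₀ →+* R}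
    (hf : Function.Injective f) {M : Type u} [CommGroup M] (n : ℕ) (x : MonoidAlgebra R₀ M) :
    mp f x ∈ torsionIdeal R (MonoidAlgebra R M) n ↔ x ∈ torsionIdeal R₀ (MonoidAlgebra R₀ M) n := by
  rw [torsionIdeal_monoidAlgebra, torsionIdeal_monoidAlgebra, RingHom.mem_ker, RingHom.mem_ker]
  have h : MonoidAlgebra.mapDomainBialgHom R (QuotientGroup.mk' (powMonoidHom (α := M) n).range) (mp f x) =
      mp f (MonoidAlgebra.mapDomainBialgHom R₀ (QuotientGroup.mk' (powMonoidHom (α := M) n).range) x) := by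
    induction x using MonoidAlgebra.induction_linear with
    | zero => simp
    | add p q hp hq => simp only [map_add, hp, hq]
    | single m r => simp [mp]
  rw [h, map_eq_zero_iff _ (mp_injective hf)]

/-- The density for a diagonalisable group. -/
theorem eq_zero_monoidAlgebra {R : Type u} [CommRing R] {M : Type u} [CommGroup M] [Group.FG M]
    (a y : MonoidAlgebra R M)
    (h : ∀ n : ℕ, 0 < n → ∃ k : ℕ, a ^ k * y ∈ torsionIdeal R (MonoidAlgebra R M) n) :
    ∃ N : ℕ, a ^ N * y = 0 := by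
  classical
  let s : Finset R := (a.coeff.support.image fun m => cf m a) ∪ (y.coeff.support.image fun m => cf m y)
  let R₀ : Subalgebra ℤ R := Algebra.adjoin ℤ (s : Set R)
  haveI : Algebra.FiniteType ℤ R₀ := (Subalgebra.fg_iff_finiteType R₀).1 ⟨s, rfl⟩
  let f : R₀ →+* R := R₀.val.toRingHom
  have hlift : ∀ x : MonoidAlgebra R M, (∀ m ∈ x.coeff.support, cf m x ∈ R₀) → ∃ x₀, mp f x₀ = x := by
    intro x hx
    refine ⟨∑ m ∈ x.coeff.support, if hm : cf m x ∈ R₀ then MonoidAlgebra.single m ⟨_, hm⟩ else 0,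
      ext_cf fun m => ?_⟩
    rw [cf_mp, map_sum, map_sum]
    rw [Finset.sum_eq_single m]
    · by_cases hm : m ∈ x.coeff.support
      · rw [dif_pos (hx m hm), cf_single, if_pos rfl]; rfl
      · have h0 : cf m x = 0 := Finsupp.notMem_support_iff.1 hm
        rw [dif_pos (h0 ▸ R₀.zero_mem), cf_single, if_pos rfl]; exact rfl
    · intro b hb hbm
      rw [dif_pos (hx b hb), cf_single, if_neg hbm, map_zero]
    · intro hm
      have h0 : cf m x = 0 := Finsupp.notMem_support_iff.1 hm
      rw [dif_pos (h0 ▸ R₀.zero_mem), cf_single, if_pos rfl]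
      exact h0
  obtain ⟨a₀, ha₀⟩ := hlift a fun m hm =>
    Algebra.subset_adjoin (Finset.mem_union_left _ (Finset.mem_image_of_mem _ hm))
  obtain ⟨y₀, hy₀⟩ := hlift y fun m hm =>
    Algebra.subset_adjoin (Finset.mem_union_right _ (Finset.mem_image_of_mem _ hm))
  obtain ⟨N, hN⟩ := eq_zero_of_finiteType a₀ y₀ fun n hn => by
    obtain ⟨k, hk⟩ := h n hn
    refine ⟨k, (mp_mem_torsionIdeal_iff (f := f) Subtype.val_injective n _).1 ?_⟩
    rwa [map_mul, map_pow, ha₀, hy₀]
  exact ⟨N, by rw [← ha₀, ← hy₀, ← map_pow, ← map_mul, hN, map_zero]⟩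

/-- The torsion subgroups of a group of multiplicative type of finite type are schematically dense. -/
theorem exists_pow_mul_eq_zero {R : Type u} [CommRing R] {A : Type u} [CommRing A] [HopfAlgebra R A]
    (hft : Algebra.FiniteType R A) (h : IsMultType R A) (a y : A)
    (hy : ∀ n : ℕ, 0 < n → ∃ k : ℕ, a ^ k * y ∈ torsionIdeal R A n) : ∃ N : ℕ, a ^ N * y = 0 := by
  classical
  obtain ⟨ι, _, S, _, _, hff, hd⟩ := exists_cover h
  have hex : ∀ i, ∃ N : ℕ, (1 : S i) ⊗ₜ[R] (a ^ N * y) = 0 := by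
    intro i
    obtain ⟨M, _, ⟨e⟩⟩ := hd i
    rcases subsingleton_or_nontrivial (S i) with hs | hs
    · haveI : Subsingleton (S i ⊗[R] A) := (algebraMap (S i) (S i ⊗[R] A)).codomain_trivial
      exact ⟨0, Subsingleton.elim _ _⟩
    haveI : Group.FG M :=
      group_fg_of_finiteType (inferInstance : Algebra.FiniteType (S i) (S i ⊗[R] A)) e
    let g : A →ₐ[R] S i ⊗[R] A := Algebra.TensorProduct.includeRight
    obtain ⟨N, hN⟩ := eq_zero_monoidAlgebra (e (g a)) (e (g y)) fun n hn => by
      obtain ⟨k, hk⟩ := hy n hn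
      refine ⟨k, ?_⟩
      rw [← map_pow, ← map_mul, ← map_torsionIdeal e n]
      refine Ideal.mem_map_of_mem _ ?_
      rw [← map_pow, ← map_mul, torsionIdeal_baseChange]
      exact Ideal.mem_map_of_mem g hk
    refine ⟨N, EquivLike.injective e ?_⟩
    rw [map_zero]
    change e (g (a ^ N * y)) = 0
    rw [map_mul, map_pow, map_mul, map_pow]
    exact hN
  choose N hN using hex
  refine ⟨Finset.univ.sup N, eq_zero_of_cover (R := R) S fun i => ?_⟩
  obtain ⟨d, hd'⟩ := Nat.exists_eq_add_of_le (Finset.le_sup (f := N) (Finset.mem_univ i))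
  rw [hd', pow_add, mul_comm (a ^ N i), mul_assoc]
  change (Algebra.TensorProduct.includeRight : A →ₐ[R] S i ⊗[R] A) (a ^ d * (a ^ N i * y)) = 0
  rw [map_mul, Algebra.TensorProduct.includeRight_apply (b := a ^ N i * y), hN, mul_zero]

theorem iInf_map_eq_bot {R : Type u} [CommRing R] {A : Type u} [CommRing A] [HopfAlgebra R A] (a : A)
    (h : ∀ y : A, (∀ n : ℕ, 0 < n → ∃ k : ℕ, a ^ k * y ∈ torsionIdeal R A n) → ∃ N : ℕ, a ^ N * y = 0) :
    ⨅ n : {n : ℕ // 0 < n}, Ideal.map (algebraMap A (Localization.Away a)) (torsionIdeal R A n.1) = ⊥ := by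
  rw [eq_bot_iff]
  intro x hx
  obtain ⟨⟨y, s⟩, hys⟩ := IsLocalization.surj (Submonoid.powers a) x
  have hu : IsUnit (algebraMap A (Localization.Away a) (s : A)) := IsLocalization.map_units _ s
  obtain ⟨N, hN⟩ := h y fun n hn => by
    have h1 : algebraMap A (Localization.Away a) y ∈
        Ideal.map (algebraMap A (Localization.Away a)) (torsionIdeal R A n) := by
      rw [← hys]
      exact Ideal.mul_mem_right _ _ ((Ideal.mem_iInf.1 hx) ⟨n, hn⟩)
    obtain ⟨_, ⟨k, rfl⟩, hk⟩ :=
      (IsLocalization.algebraMap_mem_map_algebraMap_iff (Submonoid.powers a) _ _ _).1 h1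
    exact ⟨k, hk⟩
  have h2 : algebraMap A (Localization.Away a) y = 0 :=
    (IsLocalization.map_eq_zero_iff (Submonoid.powers a) _ _).2 ⟨⟨a ^ N, N, rfl⟩, hN⟩
  rw [Ideal.mem_bot]
  exact hu.mul_left_eq_zero.1 (hys.trans h2)

end Groth.Sga3.Density
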