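import Groth.Agent.Sga3.HochExistence
import Groth.Agent.Sga3.AdicAux
import Groth.Agent.Sga3.MultTypeModule

/-!
Homomorphisms from a group of multiplicative type into a smooth affine group lift along the adic
completion of a Noetherian ring.
-/

set_option autoImplicit false

universe u

open TensorProduct WithConv Coalgebra

noncomputable section

namespace Groth.Sga3.AdicLift

open SGA3b MultType GroupAlg AdicAux

variable {A : Type u} [CommRing A] {B : Type u} [CommRing B] [HopfAlgebra A B]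
  {C : Type u} [CommRing C] [HopfAlgebra A C]

/-- reduction from one quotient of the base to a smaller one -/
def red (N : Type u) [AddCommGroup N] [Module A N] {K K' : Ideal A} (h : K ≤ K') :
    (A ⧸ K) ⊗[A] N →ₗ[A] (A ⧸ K') ⊗[A] N :=
  (Ideal.Quotient.factorₐ A h).toLinearMap.rTensor N

theorem red_tmul (N : Type u) [AddCommGroup N] [Module A N] {K K' : Ideal A} (h : K ≤ K')
    (r : A ⧸ K) (b : N) : red N h (r ⊗ₜ b) = Ideal.Quotient.factor h r ⊗ₜ b := rfl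

theorem red_red (N : Type u) [AddCommGroup N] [Module A N] {K K' K'' : Ideal A} (h : K ≤ K')
    (h' : K' ≤ K'') (z : (A ⧸ K) ⊗[A] N) : red N h' (red N h z) = red N (h.trans h') z := by
  induction z using TensorProduct.induction_on with
  | zero => simp
  | tmul r b => simp [red_tmul]
  | add x y hx hy => simp only [map_add, hx, hy]

/-- One step of the tower. -/
theorem exists_lift_step [Algebra.FormallySmooth A C] {l : B →ₗ[A] A} (hl : IsInvIntegral l)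
    {K K' : Ideal A} (h : K ≤ K') (hn : ∃ N : ℕ, K' ^ N ≤ K)
    (φ' : ((A ⧸ K') ⊗[A] C) →ₐc[A ⧸ K'] ((A ⧸ K') ⊗[A] B)) :
    ∃ φ : ((A ⧸ K) ⊗[A] C) →ₐc[A ⧸ K] ((A ⧸ K) ⊗[A] B),
      ∀ c : C, red B h (φ ((1 : A ⧸ K) ⊗ₜ c)) = φ' ((1 : A ⧸ K') ⊗ₜ c) := by
  letI : Algebra (A ⧸ K) (A ⧸ K') := (Ideal.Quotient.factor h).toAlgebra
  haveI : IsScalarTower A (A ⧸ K) (A ⧸ K') := IsScalarTower.of_algebraMap_eq fun _ => rfl
  have hS : Function.Surjective (algebraMap (A ⧸ K) (A ⧸ K')) := Ideal.Quotient.factor_surjective h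
  have hker : IsNilpotent (RingHom.ker (Algebra.ofId (A ⧸ K) (A ⧸ K'))) := by
    obtain ⟨N, hN⟩ := hn
    refine ⟨N, le_bot_iff.1 ?_⟩
    have h1 : RingHom.ker (Algebra.ofId (A ⧸ K) (A ⧸ K')) ≤ K'.map (Ideal.Quotient.mk K) := by
      intro x hx
      obtain ⟨a, rfl⟩ := Ideal.Quotient.mk_surjective x
      refine Ideal.mem_map_of_mem _ ?_
      rw [← Ideal.Quotient.eq_zero_iff_mem]
      exact hx
    refine (Ideal.pow_right_mono h1 N).trans ?_
    rw [← Ideal.map_pow]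
    refine (Ideal.map_mono hN).trans ?_
    rw [Ideal.map_quotient_self]
  let φ₀ : ((A ⧸ K') ⊗[A ⧸ K] ((A ⧸ K) ⊗[A] C)) →ₐc[A ⧸ K'] ((A ⧸ K') ⊗[A ⧸ K] ((A ⧸ K) ⊗[A] B)) :=
    ((cancelBC A (A ⧸ K) (A ⧸ K') B).symm : _ →ₐc[A ⧸ K'] _).comp
      (φ'.comp (cancelBC A (A ⧸ K) (A ⧸ K') C : _ →ₐc[A ⧸ K'] _))
  obtain ⟨φ, hφ⟩ := HochLift.exists_bialgHom_lift' (hl.baseChange (A ⧸ K)) (A ⧸ K') hS hker φ₀
  refine ⟨φ, fun c => ?_⟩
  have h1 := congrArg (cancelBC A (A ⧸ K) (A ⧸ K') B) (hφ ((1 : A ⧸ K) ⊗ₜ c))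
  have h2 : cancelBC A (A ⧸ K) (A ⧸ K') B (φ₀ ((1 : A ⧸ K') ⊗ₜ[A ⧸ K] ((1 : A ⧸ K) ⊗ₜ[A] c))) =
      φ' ((1 : A ⧸ K') ⊗ₜ c) := by
    change cancelBC A (A ⧸ K) (A ⧸ K') B ((cancelBC A (A ⧸ K) (A ⧸ K') B).symm (φ'
      (cancelBC A (A ⧸ K) (A ⧸ K') C _))) = _
    rw [BialgEquiv.apply_symm_apply]
    congr 1
    change Algebra.TensorProduct.cancelBaseChange A (A ⧸ K) (A ⧸ K') (A ⧸ K') C _ = _
    rw [Algebra.TensorProduct.cancelBaseChange_tmul, one_smul]
  rw [h2] at h1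
  rw [h1]
  generalize φ ((1 : A ⧸ K) ⊗ₜ c) = z
  change red B h z = Algebra.TensorProduct.cancelBaseChange A (A ⧸ K) (A ⧸ K') (A ⧸ K') B (1 ⊗ₜ z)
  induction z using TensorProduct.induction_on with
  | zero => simp
  | tmul r b =>
    rw [Algebra.TensorProduct.cancelBaseChange_tmul, red_tmul, Algebra.smul_def, mul_one]
    rfl
  | add x y hx hy => rw [map_add, hx, hy, TensorProduct.tmul_add, map_add]

section Bounded

variable {A' : Type u} [CommRing A'] [Algebra A A'] {M : Type u} [CommGroup M]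
  (γ : A' ⊗[A] B ≃ₐc[A'] MonoidAlgebra A' M)

variable (A') in
/-- the reduction of the splitting ring -/
abbrev Tq (K : Ideal A) : Type u := A' ⧸ K.map (algebraMap A A')

/-- the map of quotients -/
def qmap (K : Ideal A) : A ⧸ K →ₐ[A] Tq A' K :=
  Ideal.Quotient.liftₐ K (Algebra.ofId A (Tq A' K)) fun a ha => by
    change algebraMap A (Tq A' K) a = 0
    rw [IsScalarTower.algebraMap_apply A A' (Tq A' K), Ideal.Quotient.algebraMap_eq,
      Ideal.Quotient.eq_zero_iff_mem]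
    exact Ideal.mem_map_of_mem _ ha

theorem qmap_mk (K : Ideal A) (a : A) :
    qmap (A' := A') K (Ideal.Quotient.mk K a) = algebraMap A (Tq A' K) a := rfl

/-- the reduced splitting -/
def chain (T : Type u) [CommRing T] [Algebra A T] [Algebra A' T] [IsScalarTower A A' T] :
    T ⊗[A] B ≃ₐc[T] MonoidAlgebra T M :=
  (cancelBC A A' T B).symm.trans ((congrBC T γ).trans (monAlgBC A' T M))

theorem cf_chain_tmul (T : Type u) [CommRing T] [Algebra A T] [Algebra A' T] [IsScalarTower A A' T]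
    (m : M) (t : T) (b : B) :
    cf m (chain γ T (t ⊗ₜ b)) = t * algebraMap A' T (cf m (γ ((1 : A') ⊗ₜ b))) := by
  have h1 : (cancelBC A A' T B).symm (t ⊗ₜ[A] b) = t ⊗ₜ[A'] ((1 : A') ⊗ₜ[A] b) := by
    have h2 : t ⊗ₜ[A] b = cancelBC A A' T B (t ⊗ₜ[A'] ((1 : A') ⊗ₜ[A] b)) := by
      change _ = Algebra.TensorProduct.cancelBaseChange A A' T T B _
      rw [Algebra.TensorProduct.cancelBaseChange_tmul, one_smul]
    rw [h2, BialgEquiv.symm_apply_apply]
  change cf m (monAlgBC A' T M (congrBC T γ ((cancelBC A A' T B).symm (t ⊗ₜ[A] b)))) = _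
  rw [h1]
  change cf m (MonoidAlgebra.scalarTensorEquiv A' T (t ⊗ₜ[A'] γ ((1 : A') ⊗ₜ b))) = _
  generalize γ ((1 : A') ⊗ₜ b) = x
  induction x using MonoidAlgebra.induction_linear with
  | zero => simp
  | add p q hp hq => simp only [TensorProduct.tmul_add, map_add, hp, hq, mul_add]
  | single n r =>
    classical
    rw [show MonoidAlgebra.single n r = r • MonoidAlgebra.single n (1 : A') by simp]
    simp [MonoidAlgebra.scalarTensorEquiv_tmul, cf_single, Algebra.smul_def, mul_comm]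
    split_ifs <;> simp [mul_comm]

/-- the weight functional at a level -/
def V (K : Ideal A) (m : M) : (A ⧸ K) ⊗[A] B →ₗ[A] Tq A' K :=
  ((cf (R := Tq A' K) m).restrictScalars A) ∘ₗ
    (((chain γ (Tq A' K) : Tq A' K ⊗[A] B →ₐc[Tq A' K] MonoidAlgebra (Tq A' K) M) :
        Tq A' K ⊗[A] B →ₐ[Tq A' K] MonoidAlgebra (Tq A' K) M).toLinearMap.restrictScalars A) ∘ₗ
      (qmap K).toLinearMap.rTensor B

theorem V_tmul (K : Ideal A) (m : M) (r : A ⧸ K) (b : B) :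
    V γ K m (r ⊗ₜ b) = qmap K r * Ideal.Quotient.mk _ (cf m (γ ((1 : A') ⊗ₜ b))) :=
  cf_chain_tmul γ (Tq A' K) m (qmap K r) b

theorem V_red {K K' : Ideal A} (h : K ≤ K') (m : M) (z : (A ⧸ K) ⊗[A] B) :
    Ideal.Quotient.factor (Ideal.map_mono (f := algebraMap A A') h) (V γ K m z) =
      V γ K' m (red B h z) := by
  induction z using TensorProduct.induction_on with
  | zero => simp
  | add x y hx hy => simp only [map_add, hx, hy]
  | tmul r b =>
    obtain ⟨a, rfl⟩ := Ideal.Quotient.mk_surjective r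
    rw [V_tmul, red_tmul, V_tmul, map_mul, Ideal.Quotient.factor_mk, Ideal.Quotient.factor_mk,
      qmap_mk, qmap_mk]
    congr 1

theorem V_finite (K : Ideal A) (z : (A ⧸ K) ⊗[A] B) : ∃ F : Finset M, ∀ m ∉ F, V γ K m z = 0 := by
  classical
  induction z using TensorProduct.induction_on with
  | zero => exact ⟨∅, fun m _ => map_zero _⟩
  | add x y hx hy =>
    obtain ⟨F, hF⟩ := hx; obtain ⟨G, hG⟩ := hy
    exact ⟨F ∪ G, fun m hm => by
      rw [Finset.mem_union, not_or] at hm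
      rw [map_add, hF m hm.1, hG m hm.2, add_zero]⟩
  | tmul r b =>
    refine ⟨(γ ((1 : A') ⊗ₜ b)).coeff.support, fun m hm => ?_⟩
    rw [V_tmul, cf_apply, Finsupp.notMem_support_iff.1 hm, map_zero, mul_zero]

/-- the weights of a homomorphism at a level are idempotent -/
theorem exists_idempotent (K : Ideal A) (φ : ((A ⧸ K) ⊗[A] C) →ₐc[A ⧸ K] ((A ⧸ K) ⊗[A] B)) (m : M) :
    ∃ E : WithConv (Tq A' K ⊗[A] C →ₗ[Tq A' K] Tq A' K), IsIdempotentElem E ∧
      ∀ c : C, E ((1 : Tq A' K) ⊗ₜ c) = V γ K m (φ ((1 : A ⧸ K) ⊗ₜ c)) := by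
  letI : Algebra (A ⧸ K) (Tq A' K) := (qmap K).toRingHom.toAlgebra
  haveI : IsScalarTower A (A ⧸ K) (Tq A' K) := IsScalarTower.of_algebraMap_eq fun a =>
    ((qmap (A' := A') K).commutes a).symm
  let T := Tq A' K
  let Φ : T ⊗[A] C →ₐc[T] MonoidAlgebra T M :=
    (chain γ T : T ⊗[A] B →ₐc[T] MonoidAlgebra T M).comp
      ((cancelBC A (A ⧸ K) T B : T ⊗[A ⧸ K] ((A ⧸ K) ⊗[A] B) →ₐc[T] T ⊗[A] B).comp
        ((mapBC T φ).comp ((cancelBC A (A ⧸ K) T C).symm :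
          T ⊗[A] C →ₐc[T] T ⊗[A ⧸ K] ((A ⧸ K) ⊗[A] C))))
  refine ⟨comp (Φ : T ⊗[A] C →ₗc[T] MonoidAlgebra T M) m, isIdempotentElem_comp _ m, fun c => ?_⟩
  have h1 : (cancelBC A (A ⧸ K) T C).symm ((1 : T) ⊗ₜ[A] c) =
      (1 : T) ⊗ₜ[A ⧸ K] ((1 : A ⧸ K) ⊗ₜ[A] c) := by
    have h2 : (1 : T) ⊗ₜ[A] c = cancelBC A (A ⧸ K) T C ((1 : T) ⊗ₜ[A ⧸ K] ((1 : A ⧸ K) ⊗ₜ[A] c)) := by
      change _ = Algebra.TensorProduct.cancelBaseChange A (A ⧸ K) T T C _
      rw [Algebra.TensorProduct.cancelBaseChange_tmul, one_smul]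
    rw [h2, BialgEquiv.symm_apply_apply]
  change cf m (chain γ T (cancelBC A (A ⧸ K) T B (mapBC T φ ((cancelBC A (A ⧸ K) T C).symm
    ((1 : T) ⊗ₜ[A] c))))) = _
  rw [h1, mapBC_tmul]
  generalize φ ((1 : A ⧸ K) ⊗ₜ[A] c) = z
  induction z using TensorProduct.induction_on with
  | zero => simp
  | add x y hx hy => simp only [TensorProduct.tmul_add, map_add, hx, hy]
  | tmul r b =>
    rw [V_tmul]
    change cf m (chain γ T (Algebra.TensorProduct.cancelBaseChange A (A ⧸ K) T T B _)) = _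
    rw [Algebra.TensorProduct.cancelBaseChange_tmul, cf_chain_tmul, Algebra.smul_def, mul_one]
    rfl

/-- A weight which does not occur in the reduction does not occur. -/
theorem V_eq_zero {K I : Ideal A} (h : K ≤ I) {N : ℕ} (hN : I ^ N ≤ K)
    (φ : ((A ⧸ K) ⊗[A] C) →ₐc[A ⧸ K] ((A ⧸ K) ⊗[A] B)) (m : M) {n : ℕ} (w : Fin n → C)
    (cm : Fin n → Fin n → C) (hw : ∀ i, comul (R := A) (w i) = ∑ j, w j ⊗ₜ[A] cm i j)
    (hm : ∀ i j, V γ I m (red B h (φ ((1 : A ⧸ K) ⊗ₜ cm i j))) = 0)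
    {x : C} (hx : x ∈ Submodule.span A (Set.range w)) : V γ K m (φ ((1 : A ⧸ K) ⊗ₜ x)) = 0 := by
  obtain ⟨E, hE, hEV⟩ := exists_idempotent γ K φ m
  let T := Tq A' K
  let J : Ideal T := (I.map (algebraMap A A')).map (Ideal.Quotient.mk _)
  have hw' : ∀ i, comul (R := T) ((1 : T) ⊗ₜ[A] w i) =
      ∑ j, ((1 : T) ⊗ₜ[A] w j) ⊗ₜ[T] ((1 : T) ⊗ₜ[A] cm i j) := by
    intro i
    rw [TensorProduct.comul_tmul, CommSemiring.comul_apply, hw, TensorProduct.tmul_sum, map_sum]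
    exact Finset.sum_congr rfl fun j _ => by simp
  have hJ : ∀ i j, E ((1 : T) ⊗ₜ[A] cm i j) ∈ J := by
    intro i j
    have h1 := hm i j
    rw [← V_red, ← hEV] at h1
    obtain ⟨y, hy⟩ := Ideal.Quotient.mk_surjective (E ((1 : T) ⊗ₜ[A] cm i j))
    rw [← hy] at h1 ⊢
    rw [Ideal.Quotient.factor_mk, Ideal.Quotient.eq_zero_iff_mem] at h1
    exact Ideal.mem_map_of_mem _ h1
  have hzero : ∀ i, E ((1 : T) ⊗ₜ[A] w i) = 0 := by
    intro i
    have h1 := mem_pow_of_coeff hE (fun i => (1 : T) ⊗ₜ[A] w i)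
      (fun i j => (1 : T) ⊗ₜ[A] cm i j) hw' hJ N i
    have h2 : J ^ N = ⊥ := le_bot_iff.1 <| by
      change ((I.map (algebraMap A A')).map (Ideal.Quotient.mk (K.map (algebraMap A A')))) ^ N ≤ ⊥
      rw [← Ideal.map_pow, ← Ideal.map_pow]
      refine (Ideal.map_mono (Ideal.map_mono hN)).trans ?_
      rw [Ideal.map_quotient_self]
    rwa [h2, Ideal.mem_bot] at h1
  refine Submodule.span_induction ?_ ?_ ?_ ?_ hx
  · rintro _ ⟨i, rfl⟩
    rw [← hEV, hzero]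
  · rw [TensorProduct.tmul_zero, map_zero, map_zero]
  · intro a b _ _ ha hb
    rw [TensorProduct.tmul_add, map_add, map_add, ha, hb, add_zero]
  · intro a b _ hb
    rw [TensorProduct.tmul_smul, ← algebraMap_smul (A ⧸ K) a, map_smul, algebraMap_smul, map_smul,
      hb, smul_zero]

variable {ι : Type u} (i : B →ₗ[A] ι →₀ A)

/-- coordinates after splitting -/
def P (j : ι) : A' ⊗[A] B →ₗ[A'] A' :=
  (TensorProduct.AlgebraTensorModule.rid A A' A').toLinearMap ∘ₗ (Finsupp.lapply j ∘ₗ i).baseChange A'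

theorem P_tmul (j : ι) (t : A') (b : B) : P i j (t ⊗ₜ b) = i b j • t := by simp [P]

theorem P_finite (y : A' ⊗[A] B) : ∃ s : Finset ι, ∀ j ∉ s, P i j y = 0 := by
  classical
  induction y using TensorProduct.induction_on with
  | zero => exact ⟨∅, fun j _ => map_zero _⟩
  | add x y hx hy =>
    obtain ⟨F, hF⟩ := hx; obtain ⟨G, hG⟩ := hy
    exact ⟨F ∪ G, fun j hj => by
      rw [Finset.mem_union, not_or] at hj
      rw [map_add, hF j hj.1, hG j hj.2, add_zero]⟩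
  | tmul t b =>
    exact ⟨(i b).support, fun j hj => by
      rw [P_tmul, Finsupp.notMem_support_iff.1 hj, zero_smul]⟩

theorem coord_eq_zero [Module.FaithfullyFlat A A'] {K : Ideal A} (F : Finset M) (j : ι)
    (hj : ∀ m ∈ F, P i j (γ.symm (MonoidAlgebra.single m 1)) = 0)
    (z : (A ⧸ K) ⊗[A] B) (hz : ∀ m ∉ F, V γ K m z = 0) : coord K i j z = 0 := by
  classical
  obtain ⟨b, rfl⟩ := exists_eq_one_tmul K z
  rw [coord_one_tmul, Ideal.Quotient.eq_zero_iff_mem,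
    ← Ideal.comap_map_eq_self_of_faithfullyFlat (B := A') K, Ideal.mem_comap]
  have h0 : algebraMap A A' (i b j) = P i j ((1 : A') ⊗ₜ b) := by
    rw [P_tmul, Algebra.algebraMap_eq_smul_one]
  rw [h0, ← BialgEquiv.symm_apply_apply γ ((1 : A') ⊗ₜ b)]
  have hx : ∀ m ∉ F, cf m (γ ((1 : A') ⊗ₜ b)) ∈ K.map (algebraMap A A') := fun m hm => by
    have := hz m hm
    rwa [V_tmul, map_one, one_mul, Ideal.Quotient.eq_zero_iff_mem] at this
  generalize γ ((1 : A') ⊗ₜ b) = x at hx ⊢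
  rw [← MonoidAlgebra.sum_coeff_single x, Finsupp.sum, map_sum, map_sum]
  refine Ideal.sum_mem _ fun m _ => ?_
  rw [show MonoidAlgebra.single m (x.coeff m) = x.coeff m • MonoidAlgebra.single m (1 : A') by simp,
    map_smul, map_smul, smul_eq_mul]
  rcases em (m ∈ F) with hm | hm
  · rw [hj m hm, mul_zero]; exact zero_mem _
  · exact Ideal.mul_mem_right _ _ (hx m hm)

end Bounded

/-- Lifting of homomorphisms along the adic completion. -/
theorem exists_bialgHom_lift_adic [IsNoetherianRing A] (I : Ideal A) [IsAdicComplete I A]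
    (hB : IsMultTypeConst A B) [Algebra.FormallySmooth A C] [Module.Flat A C]
    (φ₀ : ((A ⧸ I) ⊗[A] C) →ₐc[A ⧸ I] ((A ⧸ I) ⊗[A] B)) :
    ∃ φ : C →ₐc[A] B, ∀ c : C, φ₀ ((1 : A ⧸ I) ⊗ₜ[A] c) = (1 : A ⧸ I) ⊗ₜ[A] (φ c) := by
  classical
  obtain ⟨l, hl⟩ := exists_isInvIntegral (isMultType_of_const hB)
  have hproj : Module.Projective A B := projective_of_isMultTypeConst hB
  obtain ⟨A', _, _, hff, M, _, ⟨γ⟩⟩ := hB
  obtain ⟨i, hi⟩ := Module.projective_def'.mp hproj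
  have hle : ∀ n : ℕ, I ^ (n + 1) ≤ I := fun n => Ideal.pow_le_self n.succ_ne_zero
  have hsucc : ∀ n : ℕ, I ^ (n + 1 + 1) ≤ I ^ (n + 1) := fun n =>
    Ideal.pow_le_pow_right (Nat.le_succ _)
  obtain ⟨φ1, hφ1⟩ := exists_lift_step hl (hle 0) ⟨1, by simp⟩ φ₀
  choose next hnext using fun (n : ℕ)
    (ψ : ((A ⧸ I ^ (n + 1)) ⊗[A] C) →ₐc[A ⧸ I ^ (n + 1)] ((A ⧸ I ^ (n + 1)) ⊗[A] B)) =>
      exists_lift_step hl (hsucc n) ⟨n + 1 + 1, by
        rw [← pow_mul]
        exact Ideal.pow_le_pow_right (Nat.le_mul_of_pos_left _ (Nat.succ_pos n))⟩ ψ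
  let seq : ∀ n : ℕ, ((A ⧸ I ^ (n + 1)) ⊗[A] C) →ₐc[A ⧸ I ^ (n + 1)] ((A ⧸ I ^ (n + 1)) ⊗[A] B) :=
    fun n => Nat.rec φ1 (fun n ψ => next n ψ) n
  have hseq : ∀ n c, red B (hsucc n) (seq (n + 1) (1 ⊗ₜ c)) = seq n (1 ⊗ₜ c) :=
    fun n c => hnext n (seq n) c
  have hseq0 : ∀ n c, red B (hle n) (seq n (1 ⊗ₜ c)) = φ₀ (1 ⊗ₜ c) := by
    intro n c
    induction n with
    | zero => exact hφ1 c
    | succ n ih => rw [← ih, ← hseq, red_red]
  -- boundedness
  have hlim : ∀ c : C, ∃ b : B, ∀ n, (1 : A ⧸ I ^ (n + 1)) ⊗ₜ[A] b = seq n (1 ⊗ₜ c) := by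
    intro c
    obtain ⟨r, w, cm, hc, hw⟩ := exists_coeff_family (A := A) c
    choose F hF using fun p : Fin r × Fin r => V_finite γ I (φ₀ (1 ⊗ₜ cm p.1 p.2))
    let F' := Finset.univ.biUnion F
    choose s hs using fun m : M => P_finite i (γ.symm (MonoidAlgebra.single m 1))
    refine exists_limit I hi _ (fun n => hseq n c) (F'.biUnion s) fun n j hj => ?_
    refine coord_eq_zero γ i F' j (fun m hm => hs m j fun h => hj ?_) _ fun m hm => ?_
    · exact Finset.mem_biUnion.2 ⟨m, hm, h⟩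
    · refine V_eq_zero γ (hle n) (le_refl (I ^ (n + 1))) (seq n) m w cm hw (fun p q => ?_) hc
      rw [hseq0]
      exact hF (p, q) m fun h => hm (Finset.mem_biUnion.2 ⟨(p, q), Finset.mem_univ _, h⟩)
  choose f hf using hlim
  let u : C →ₐ[A] B := AlgHom.ofLinearMap
    { toFun := f
      map_add' := fun a b => eq_of_forall_tmul_eq I fun n => by
        rw [TensorProduct.tmul_add, hf, hf, hf, TensorProduct.tmul_add, map_add]
      map_smul' := fun a c => eq_of_forall_tmul_eq I fun n => by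
        rw [RingHom.id_apply, TensorProduct.tmul_smul, hf, hf, TensorProduct.tmul_smul,
          ← algebraMap_smul (A ⧸ I ^ (n + 1)) a, map_smul, algebraMap_smul] }
    (eq_of_forall_tmul_eq I fun n => by
      change (1 : A ⧸ I ^ (n + 1)) ⊗ₜ[A] f 1 = _
      rw [hf, ← Algebra.TensorProduct.one_def, map_one, Algebra.TensorProduct.one_def])
    (fun a b => eq_of_forall_tmul_eq I fun n => by
      change (1 : A ⧸ I ^ (n + 1)) ⊗ₜ[A] f (a * b) = (1 : A ⧸ I ^ (n + 1)) ⊗ₜ[A] (f a * f b)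
      rw [hf, ← one_mul (1 : A ⧸ I ^ (n + 1)), ← Algebra.TensorProduct.tmul_mul_tmul, map_mul,
        ← Algebra.TensorProduct.tmul_mul_tmul, hf, hf])
  have hdef : HochLift.defect u = 0 := by
    apply WithConv.ofConv_injective
    refine LinearMap.ext fun c => eq_of_forall_tmul_eq I fun n => ?_
    have h1 := HochLift.cong_defect_of_reduction (A ⧸ I ^ (n + 1)) Ideal.Quotient.mk_surjective
      (seq n) u (fun c => (hf c n).symm)
    refine HochLift.tmul_eq_of_mem ?_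
    have h2 := h1 c
    rwa [show RingHom.ker (Algebra.ofId A (A ⧸ I ^ (n + 1))) = I ^ (n + 1) from Ideal.mk_ker] at h2
  refine ⟨(HochLift.isPointHom_of_defect hdef).toBialgHom, fun c => ?_⟩
  rw [← hseq0 0 c, ← hf c 0, red_tmul, map_one]
  rfl

end Groth.Sga3.AdicLift
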