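import Groth.Agent.Sga3.TypeSplit
import Groth.Agent.Sga3.AdicLift
import Mathlib.RingTheory.Ideal.GoingDown

/-!
A group split by the members of a faithfully flat family is of multiplicative type: the type is
locally constant.
-/

set_option autoImplicit false

universe u

open TensorProduct

noncomputable section

namespace Groth.Sga3.CoverType

open SGA3b MultType

/-- A group split by a faithfully flat finite family is of multiplicative type. -/
theorem isMultType_of_cover {R : Type u} [CommRing R] {A : Type u} [CommRing A] [HopfAlgebra R A]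
    {ι : Type u} [Fintype ι] (S : ι → Type u) [∀ i, CommRing (S i)] [∀ i, Algebra R (S i)]
    (hff : Module.FaithfullyFlat R (∀ i, S i)) (hd : ∀ i, IsDiag (S i) (S i ⊗[R] A)) :
    IsMultType R A := by
  classical
  haveI := hff
  choose M iM eM using hd
  let P := ∀ i, S i
  haveI hfl : ∀ i, Module.Flat R (S i) := fun i => by
    refine Module.Flat.of_retract (M := P) (LinearMap.single R S i) (LinearMap.proj i) ?_
    ext x
    exact Pi.single_eq_same i x
  let r : Setoid ι :=
    { r := fun i j => Nonempty (M i ≃* M j)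
      iseqv := ⟨fun i => ⟨MulEquiv.refl _⟩, fun ⟨h⟩ => ⟨h.symm⟩, fun ⟨h⟩ ⟨h'⟩ => ⟨h.trans h'⟩⟩ }
  let V : Quotient r → Set (PrimeSpectrum R) := fun c =>
    ⋃ (i : ι) (_ : Quotient.mk r i = c), Set.range (PrimeSpectrum.comap (algebraMap R (S i)))
  let f := PrimeSpectrum.comap (algebraMap R P)
  have hidx : ∀ (Q : PrimeSpectrum P) (i : ι), (Pi.single i (1 : S i) : P) ∉ Q.asIdeal →
      f Q ∈ Set.range (PrimeSpectrum.comap (algebraMap R (S i))) := by
    intro Q i hi
    have hsurj : Function.Surjective (Pi.evalRingHom S i) := fun y =>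
      ⟨(Pi.single i y : P), Pi.single_eq_same (M := S) i y⟩
    have hle : RingHom.ker (Pi.evalRingHom S i) ≤ Q.asIdeal := fun x hx => by
      refine (Q.2.mem_or_mem ?_).resolve_right hi
      rw [show x * (Pi.single i (1 : S i) : P) = 0 from ?_]
      · exact Q.asIdeal.zero_mem
      funext k
      rcases eq_or_ne k i with rfl | hk
      · rw [Pi.mul_apply, show x k = 0 from hx, zero_mul, Pi.zero_apply]
      · rw [Pi.mul_apply, Pi.single_eq_of_ne hk, mul_zero, Pi.zero_apply]
    haveI := Ideal.map_isPrime_of_surjective hsurj hle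
    refine ⟨⟨Q.asIdeal.map (Pi.evalRingHom S i), inferInstance⟩, PrimeSpectrum.ext ?_⟩
    change (Q.asIdeal.map (Pi.evalRingHom S i)).comap (algebraMap R (S i)) =
      Q.asIdeal.comap (algebraMap R P)
    have h1 : (Q.asIdeal.map (Pi.evalRingHom S i)).comap (Pi.evalRingHom S i) = Q.asIdeal := by
      rw [Ideal.comap_map_of_surjective _ hsurj, ← RingHom.ker_eq_comap_bot, sup_eq_left.2 hle]
    conv_rhs => rw [← h1, Ideal.comap_comap]
    rfl
  have hex : ∀ Q : PrimeSpectrum P, ∃ i, (Pi.single i (1 : S i) : P) ∉ Q.asIdeal := by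
    intro Q
    by_contra! hall
    apply Q.2.ne_top
    rw [Ideal.eq_top_iff_one, ← Finset.univ_sum_single (1 : P)]
    exact sum_mem fun i _ => hall i
  have hdisj : ∀ (i j : ι) (p : PrimeSpectrum R),
      p ∈ Set.range (PrimeSpectrum.comap (algebraMap R (S i))) →
      p ∈ Set.range (PrimeSpectrum.comap (algebraMap R (S j))) →
      Quotient.mk r i = Quotient.mk r j := fun i j p hi hj =>
    Quotient.sound (TypeSplit.nonempty_mulEquiv_of_point (eM i).some (eM j).some p hi hj)
  have hquot : Topology.IsQuotientMap f :=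
    PrimeSpectrum.isQuotientMap_of_generalizingMap
      PrimeSpectrum.comap_surjective_of_faithfullyFlat
      (Algebra.HasGoingDown.iff_generalizingMap_primeSpectrumComap.1 inferInstance)
  have hopen : ∀ c, IsOpen (V c) := by
    intro c
    rw [← hquot.isOpen_preimage]
    have : f ⁻¹' V c = ⋃ (i : ι) (_ : Quotient.mk r i = c),
        (PrimeSpectrum.basicOpen (Pi.single i (1 : S i) : P) : Set (PrimeSpectrum P)) := by
      ext Q
      simp only [V, Set.mem_preimage, Set.mem_iUnion]
      constructor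
      · rintro ⟨i, hi, hQ⟩
        obtain ⟨j, hj⟩ := hex Q
        exact ⟨j, (hdisj j i _ (hidx Q j hj) hQ).trans hi, hj⟩
      · rintro ⟨i, hi, hQ⟩
        exact ⟨i, hi, hidx Q i hQ⟩
    rw [this]
    exact isOpen_iUnion fun i => isOpen_iUnion fun _ => PrimeSpectrum.isOpen_basicOpen
  refine ⟨{g | ∃ c, (PrimeSpectrum.basicOpen g : Set (PrimeSpectrum R)) ⊆ V c}, ?_, ?_⟩
  · by_contra hne
    obtain ⟨m, hm, hle⟩ := Ideal.exists_le_maximal _ hne
    obtain ⟨Q, hQ⟩ := PrimeSpectrum.comap_surjective_of_faithfullyFlat (A := R) (B := P)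
      ⟨m, hm.isPrime⟩
    obtain ⟨i, hi⟩ := hex Q
    have hmem : (⟨m, hm.isPrime⟩ : PrimeSpectrum R) ∈ V (Quotient.mk r i) :=
      Set.mem_iUnion₂.2 ⟨i, rfl, hQ ▸ hidx Q i hi⟩
    obtain ⟨_, ⟨g, rfl⟩, hg, hgV⟩ :=
      PrimeSpectrum.isTopologicalBasis_basic_opens.exists_subset_of_mem_open hmem (hopen _)
    exact hg (hle (Ideal.subset_span ⟨_, hgV⟩))
  rintro g ⟨c, hc⟩
  let Rg := Localization.Away g
  let J := {i : ι // Quotient.mk r i = c}
  let P' := ∀ j : J, Rg ⊗[R] S j.1
  haveI : Module.Flat Rg P' :=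
    Module.Flat.of_linearEquiv (DFinsupp.linearEquivFunOnFintype (R := Rg)
      (M := fun j : J => Rg ⊗[R] S j.1)).symm
  have hffP : Module.FaithfullyFlat Rg P' := by
    refine Module.FaithfullyFlat.of_comap_surjective fun p => ?_
    let p₀ := PrimeSpectrum.comap (algebraMap R Rg) p
    have hp₀ : g ∉ p₀.asIdeal := fun hg =>
      p.2.ne_top (Ideal.eq_top_of_isUnit_mem _ hg (IsLocalization.Away.algebraMap_isUnit g))
    obtain ⟨i, hi, q, hq⟩ := Set.mem_iUnion₂.1 (hc hp₀)
    let k := q.asIdeal.ResidueField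
    have hgk : IsUnit (algebraMap R k g) := by
      rw [isUnit_iff_ne_zero, IsScalarTower.algebraMap_apply R (S i) k, ne_eq,
        Ideal.algebraMap_residueField_eq_zero]
      intro h
      apply hp₀
      rw [show p₀.asIdeal = q.asIdeal.comap (algebraMap R (S i)) from
        (congrArg PrimeSpectrum.asIdeal hq).symm]
      exact h
    let l : Rg →ₐ[R] k :=
      { IsLocalization.Away.lift (S := Rg) g hgk with
        commutes' := fun x => IsLocalization.Away.lift_eq g hgk x }
    let F : Rg ⊗[R] S i →ₐ[R] k :=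
      Algebra.TensorProduct.lift l (IsScalarTower.toAlgHom R (S i) k) fun _ _ => Commute.all _ _
    let ev : P' →+* Rg ⊗[R] S i := Pi.evalRingHom (fun j : J => Rg ⊗[R] S j.1) ⟨i, hi⟩
    refine ⟨PrimeSpectrum.comap (F.toRingHom.comp ev) ⟨⊥, Ideal.isPrime_bot⟩, ?_⟩
    refine PrimeSpectrum.localization_comap_injective Rg (Submonoid.powers g) ?_
    change _ = p₀
    rw [show p₀ = PrimeSpectrum.comap (algebraMap R (S i)) q from hq.symm,
      ← PrimeSpectrum.comap_comp_apply, ← PrimeSpectrum.comap_comp_apply]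
    refine PrimeSpectrum.ext ?_
    ext x
    have hev : ev (algebraMap Rg P' (algebraMap R Rg x)) = algebraMap R (Rg ⊗[R] S i) x := rfl
    change F (ev (algebraMap Rg P' (algebraMap R Rg x))) ∈ (⊥ : Ideal k) ↔
      algebraMap R (S i) x ∈ q.asIdeal
    rw [hev, AlgHom.commutes, IsScalarTower.algebraMap_apply R (S i) k, Ideal.mem_bot,
      Ideal.algebraMap_residueField_eq_zero]
  let : ∀ j : J, Algebra P' (Rg ⊗[R] S j.1) := fun j =>
    (Pi.evalRingHom (fun j : J => Rg ⊗[R] S j.1) j).toAlgebra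
  have hpieces : ProductGlue.Pieces (fun j : J => (Pi.single j 1 : P'))
      (fun j : J => Rg ⊗[R] S j.1) := by
    refine ⟨CompleteOrthogonalIdempotents.single (fun j : J => Rg ⊗[R] S j.1), fun j => ?_,
      fun j x hx => ?_, fun j => ?_⟩
    · exact fun y => ⟨(Pi.single j y : P'), Pi.single_eq_same (M := fun k : J => Rg ⊗[R] S k.1) j y⟩
    · refine Ideal.mem_span_singleton.2 ⟨x, funext fun k => ?_⟩
      rw [Pi.mul_apply, Pi.sub_apply, Pi.one_apply]
      rcases eq_or_ne k j with rfl | hk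
      · rw [Pi.single_eq_same, sub_self, zero_mul]
        exact hx
      · rw [Pi.single_eq_of_ne hk, sub_zero, one_mul]
    · exact Pi.single_eq_same j 1
  refine ⟨P', inferInstance, inferInstance, hffP, hpieces.isDiag (M c.out) fun j => ?_⟩
  obtain ⟨σ⟩ : Nonempty (M j.1 ≃* M c.out) := Quotient.exact (j.2.trans c.out_eq.symm)
  haveI : IsScalarTower Rg P' (Rg ⊗[R] S j.1) := ⟨fun a b z => by
    change (a • b j) * z = a • (b j * z)
    rw [smul_mul_assoc]⟩
  letI : Algebra (S j.1) (Rg ⊗[R] S j.1) := Algebra.TensorProduct.rightAlgebra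
  exact ⟨(((cancelBC Rg P' (Rg ⊗[R] S j.1) (Rg ⊗[R] A)).trans
    (cancelBC R Rg (Rg ⊗[R] S j.1) A)).trans
      (Descend.chain (eM j.1).some (Rg ⊗[R] S j.1))).trans
    (MonoidAlgebra.domCongrBialgEquiv (Rg ⊗[R] S j.1) (Rg ⊗[R] S j.1) σ)⟩

end Groth.Sga3.CoverType
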