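import Groth.Agent.Sga3.TorsionIdeal
import Groth.Agent.Sga3.MultTypeModule

/-!
Finiteness of the kernels of the power maps; subgroups of a diagonalisable group over a field
containing no nontrivial torsion are trivial.
-/

set_option autoImplicit false

universe u

open TensorProduct Coalgebra

noncomputable section

namespace Groth.Sga3.MultType

open SGA3b

/-- The kernel of the `n`-th power map of a group of multiplicative type of finite type is finite. -/
theorem finite_quotient_torsionIdeal {R : Type u} [CommRing R] {A : Type u} [CommRing A]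
    [HopfAlgebra R A] (hft : Algebra.FiniteType R A) (h : IsMultType R A) {n : ℕ} (hn : 0 < n) :
    Module.Finite R (A ⧸ torsionIdeal R A n) := by
  refine finite_of_forall h fun S _ _ hS => ?_
  rcases subsingleton_or_nontrivial S with hsub | hnt
  · have : Subsingleton (S ⊗[R] (A ⧸ torsionIdeal R A n)) := Module.subsingleton S _
    infer_instance
  obtain ⟨M, _, ⟨e⟩⟩ := hS
  haveI : Group.FG M := group_fg_of_finiteType (inferInstance : Algebra.FiniteType S (S ⊗[R] A)) e
  let N := (powMonoidHom (α := M) n).range
  haveI : Finite (M ⧸ N) :=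
    CommGroup.finite_of_fg_isMulTorsion _ fun q => by
      obtain ⟨m, rfl⟩ := QuotientGroup.mk'_surjective _ q
      refine isOfFinOrder_iff_pow_eq_one.2 ⟨n, hn, ?_⟩
      rw [← map_pow]
      exact (QuotientGroup.eq_one_iff _).2 ⟨m, rfl⟩
  let π : S ⊗[R] A →ₐ[S] S ⊗[R] (A ⧸ torsionIdeal R A n) :=
    Algebra.TensorProduct.map (AlgHom.id S S) (Ideal.Quotient.mkₐ R _)
  let ψ : MonoidAlgebra S M →ₐ[S] S ⊗[R] (A ⧸ torsionIdeal R A n) :=
    π.comp (e.symm : MonoidAlgebra S M ≃ₐ[S] S ⊗[R] A).toAlgHom
  have hT : torsionIdeal S (MonoidAlgebra S M) n ≤ RingHom.ker ψ := by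
    rw [← map_torsionIdeal e, torsionIdeal_baseChange, Ideal.map_le_iff_le_comap,
      Ideal.map_le_iff_le_comap]
    intro a ha
    simp only [Ideal.mem_comap, RingHom.mem_ker]
    change π (e.symm (e ((1 : S) ⊗ₜ[R] a))) = 0
    rw [e.symm_apply_apply]
    change (1 : S) ⊗ₜ[R] Ideal.Quotient.mk (torsionIdeal R A n) a = 0
    rw [Ideal.Quotient.eq_zero_iff_mem.2 ha, TensorProduct.tmul_zero]
  have hsurj : Function.Surjective ψ := by
    intro y
    induction y using TensorProduct.induction_on with
    | zero => exact ⟨0, map_zero _⟩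
    | tmul c b =>
      obtain ⟨b, rfl⟩ := Ideal.Quotient.mk_surjective b
      refine ⟨e (c ⊗ₜ[R] b), ?_⟩
      change π (e.symm (e (c ⊗ₜ[R] b))) = _
      rw [e.symm_apply_apply]
      rfl
    | add p q hp hq =>
      obtain ⟨p', rfl⟩ := hp
      obtain ⟨q', rfl⟩ := hq
      exact ⟨p' + q', map_add _ _ _⟩
  refine ⟨?_⟩
  refine Submodule.fg_def.2 ⟨Set.range fun q : M ⧸ N => ψ (MonoidAlgebra.single q.out 1),
    Set.finite_range _, eq_top_iff.2 fun y _ => ?_⟩
  obtain ⟨x, rfl⟩ := hsurj y
  induction x using MonoidAlgebra.induction_linear with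
  | zero => rw [map_zero]; exact zero_mem _
  | add p q hp hq => rw [map_add]; exact add_mem (hp trivial) (hq trivial)
  | single m r =>
    have h1 : ψ (MonoidAlgebra.single m r) = r • ψ (MonoidAlgebra.single (QuotientGroup.mk' N m).out 1) := by
      rw [← map_smul, ← sub_eq_zero, ← map_sub]
      refine hT ?_
      rw [torsionIdeal_monoidAlgebra, RingHom.mem_ker, map_sub, map_smul,
        MonoidAlgebra.mapDomainBialgHom_single, MonoidAlgebra.mapDomainBialgHom_single,
        MonoidAlgebra.smul_single, smul_eq_mul, mul_one, sub_eq_zero]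
      congr 1
      exact (QuotientGroup.out_eq' _).symm
    rw [h1]
    exact Submodule.smul_mem _ _ (Submodule.subset_span ⟨_, rfl⟩)

/-- A Hopf quotient of a group algebra over a field whose kernel, together with each torsion ideal,
contains the augmentation ideal, is trivial. -/
theorem ker_counit_le_of_forall_torsion {K : Type u} [Field K] {M : Type u} [CommGroup M]
    [Group.FG M] {B : Type u} [CommRing B] [HopfAlgebra K B] (ψ : MonoidAlgebra K M →ₐc[K] B)
    (h : ∀ n : ℕ, 0 < n → RingHom.ker (Bialgebra.counitAlgHom K (MonoidAlgebra K M)) ≤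
      RingHom.ker ψ ⊔ torsionIdeal K (MonoidAlgebra K M) n) :
    RingHom.ker (Bialgebra.counitAlgHom K (MonoidAlgebra K M)) ≤ RingHom.ker ψ := by
  classical
  let g : M →* GroupLike K B :=
    { toFun := fun m => ⟨ψ (MonoidAlgebra.single m 1),
        (MonoidAlgebra.isGroupLikeElem_single_one m).map ψ⟩
      map_one' := GroupLike.val_injective <| by simp [← MonoidAlgebra.one_def]
      map_mul' := fun a b => GroupLike.val_injective <| by
        simp [← map_mul, MonoidAlgebra.single_mul_single] }
  have hind : LinearIndependent K (GroupLike.val : GroupLike K B → B) :=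
    (linearIndepOn_isGroupLikeElem (R := K) (A := B)).linearIndependent.comp
      (fun g : GroupLike K B => (⟨g.val, g.2⟩ : {a : B | IsGroupLikeElem K a}))
      fun g g' h => GroupLike.val_injective (congrArg Subtype.val h)
  have hψ : ∀ x, ψ x = Finsupp.linearCombination K (GroupLike.val : GroupLike K B → B)
      (Finsupp.mapDomain g x.coeff) := by
    intro x
    induction x using MonoidAlgebra.induction_linear with
    | zero => simp
    | add p q hp hq => simp [map_add, Finsupp.mapDomain_add, hp, hq]
    | single m r =>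
      rw [show MonoidAlgebra.single m r = r • MonoidAlgebra.single m (1 : K) by simp, map_smul]
      simp [Finsupp.mapDomain_single, g]
  -- the subgroup kills everything
  have hle : RingHom.ker ψ ≤ RingHom.ker (MonoidAlgebra.mapDomainBialgHom K (QuotientGroup.mk' g.ker)) := by
    intro x hx
    rw [RingHom.mem_ker, hψ] at hx
    have h0 : Finsupp.mapDomain g x.coeff = 0 :=
      hind (hx.trans (map_zero _).symm)
    rw [RingHom.mem_ker]
    apply MonoidAlgebra.coeff_injective
    let j : GroupLike K B → M ⧸ g.ker := fun y =>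
      if hy : ∃ m, g m = y then QuotientGroup.mk hy.choose else 1
    have hj : ∀ m, j (g m) = QuotientGroup.mk' g.ker m := by
      intro m
      have hy : ∃ m', g m' = g m := ⟨m, rfl⟩
      simp only [j, dif_pos hy, QuotientGroup.mk'_apply, QuotientGroup.eq, MonoidHom.mem_ker,
        map_mul, map_inv, hy.choose_spec, inv_mul_cancel]
    have hx' : Finsupp.mapDomain (QuotientGroup.mk' g.ker) x.coeff = 0 := by
      rw [show (QuotientGroup.mk' g.ker : M → M ⧸ g.ker) = j ∘ g from funext fun m => (hj m).symm,
        Finsupp.mapDomain_comp, h0, Finsupp.mapDomain_zero]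
    simpa [MonoidAlgebra.coeff_mapDomain] using hx'
  have hpow : ∀ n : ℕ, 0 < n → ∀ m : M, ∃ m' : M, m * (m' ^ n)⁻¹ ∈ g.ker := by
    intro n hn m
    let L := g.ker ⊔ (powMonoidHom (α := M) n).range
    have hm : MonoidAlgebra.single m (1 : K) - 1 ∈
        RingHom.ker (MonoidAlgebra.mapDomainBialgHom K (QuotientGroup.mk' L)) := by
      refine (sup_le (hle.trans ?_) ?_) (h n hn (by
        simp [RingHom.mem_ker, (MonoidAlgebra.isGroupLikeElem_single_one m).counit_eq_one]))
      · rw [ker_mapDomain, ker_mapDomain]
        exact Ideal.span_mono (Set.image_mono (le_sup_left : g.ker ≤ L))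
      · rw [torsionIdeal_monoidAlgebra, ker_mapDomain, ker_mapDomain]
        exact Ideal.span_mono (Set.image_mono (le_sup_right : _ ≤ L))
    rw [RingHom.mem_ker, map_sub, map_one, MonoidAlgebra.mapDomainBialgHom_single, sub_eq_zero,
      MonoidAlgebra.one_def] at hm
    have hmL : m ∈ L := (QuotientGroup.eq_one_iff m).1
      (MonoidAlgebra.single_left_injective one_ne_zero hm)
    obtain ⟨a, ha, _, ⟨b, rfl⟩, rfl⟩ := Subgroup.mem_sup.1 hmL
    exact ⟨b, by simpa using ha⟩
  have htriv : ∀ m : M, g m = 1 := by
    let Q := Additive (M ⧸ g.ker)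
    have : Module.Finite ℤ Q := Module.Finite.iff_addGroup_fg.2 (GroupFG.iff_add_fg.1 inferInstance)
    obtain ⟨r, hr, hr'⟩ := Submodule.exists_sub_one_mem_and_smul_eq_zero_of_fg_of_le_smul
      (Ideal.span {(2 : ℤ)}) (⊤ : Submodule ℤ Q) Module.Finite.fg_top fun q _ => by
        obtain ⟨m, hm⟩ := QuotientGroup.mk'_surjective g.ker q.toMul
        obtain ⟨m', hm'⟩ := hpow 2 two_pos m
        have h2 : QuotientGroup.mk' g.ker m = QuotientGroup.mk' g.ker (m' ^ 2) := by
          rw [QuotientGroup.mk'_apply, QuotientGroup.mk'_apply, QuotientGroup.eq]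
          have h4 := g.ker.inv_mem hm'
          rwa [mul_inv_rev, inv_inv, mul_comm] at h4
        have hq : q = (2 : ℤ) • Additive.ofMul (QuotientGroup.mk' g.ker m') := by
          apply Additive.toMul.injective
          rw [← hm, h2, toMul_zsmul, toMul_ofMul, map_pow]
          exact (zpow_natCast _ 2).symm
        rw [hq]
        exact Submodule.smul_mem_smul (Ideal.mem_span_singleton_self 2) Submodule.mem_top
    have hr0 : r ≠ 0 := by
      rintro rfl
      simp [Ideal.mem_span_singleton] at hr
    intro m
    obtain ⟨m', hm'⟩ := hpow r.natAbs (Int.natAbs_pos.2 hr0) m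
    have h1 := hr' (Additive.ofMul (QuotientGroup.mk' g.ker m')) Submodule.mem_top
    have h3 := (QuotientGroup.eq_one_iff (m' ^ r)).1 (show QuotientGroup.mk' g.ker (m' ^ r) = 1 by
      rw [map_zpow]; exact congrArg Additive.toMul h1)
    rw [MonoidHom.mem_ker] at h3 hm'
    have h5 : g (m' ^ r.natAbs) = 1 := by
      rcases Int.natAbs_eq r with he | he <;> rw [he] at h3
      · simpa using h3
      · simpa using h3
    rwa [map_mul, map_inv, h5, inv_one, mul_one] at hm'
  intro x hx
  rw [RingHom.mem_ker] at hx ⊢
  have key : ∀ x, ψ x = algebraMap K B (counit x) := by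
    intro x
    induction x using MonoidAlgebra.induction_linear with
    | zero => simp
    | add p q hp hq => rw [map_add, hp, hq, map_add, map_add]
    | single m r =>
      rw [show MonoidAlgebra.single m r = r • MonoidAlgebra.single m (1 : K) by simp, map_smul,
        map_smul, (MonoidAlgebra.isGroupLikeElem_single_one m).counit_eq_one,
        show ψ (MonoidAlgebra.single m 1) = 1 from congrArg GroupLike.val (htriv m),
        smul_eq_mul, mul_one, Algebra.algebraMap_eq_smul_one]
  rw [key, show counit (R := K) x = 0 from hx, map_zero]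

end Groth.Sga3.MultType
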