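import Groth.Agent.Sga3.Killed
import Groth.Agent.Sga3.TrivialSubgroup
import Mathlib.RingTheory.Filtration

/-!
Closed subgroups of diagonalisable groups over fields, and subgroups with finite closed fibre of
groups of multiplicative type over local rings.
-/

set_option autoImplicit false

universe u

open TensorProduct Coalgebra

noncomputable section

namespace Groth.Sga3.SubgroupFibre

open SGA3b MultType

/-- Finitely generated abelian groups are residually finite. -/
theorem mem_of_forall_mem_sup {M : Type u} [CommGroup M] [Group.FG M] (L : Subgroup M) {x : M}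
    (h : ∀ n : ℕ, 0 < n → x ∈ L ⊔ (powMonoidHom (α := M) n).range) : x ∈ L := by
  let Q := Additive (M ⧸ L)
  haveI : Module.Finite ℤ Q := Module.Finite.iff_addGroup_fg.2 (GroupFG.iff_add_fg.1 inferInstance)
  let q : Q := Additive.ofMul (QuotientGroup.mk' L x)
  have hdiv : ∀ n : ℕ, 0 < n → ∃ y : Q, n • y = q := by
    intro n hn
    obtain ⟨a, ha, _, ⟨b, rfl⟩, hab⟩ := Subgroup.mem_sup.1 (h n hn)
    refine ⟨Additive.ofMul (QuotientGroup.mk' L b), ?_⟩
    rw [← ofMul_pow, ← map_pow]
    refine congrArg Additive.ofMul ?_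
    rw [← hab, map_mul, show QuotientGroup.mk' L a = 1 from (QuotientGroup.eq_one_iff a).2 ha,
      one_mul]
    rfl
  have hmem : q ∈ (⨅ i : ℕ, Ideal.span {(2 : ℤ)} ^ i • ⊤ : Submodule ℤ Q) := by
    refine Submodule.mem_iInf _ |>.2 fun i => ?_
    obtain ⟨y, hy⟩ := hdiv (2 ^ i) (pow_pos two_pos i)
    rw [← hy, ← natCast_zsmul, Ideal.span_singleton_pow]
    refine Submodule.smul_mem_smul ?_ Submodule.mem_top
    rw [Nat.cast_pow, Nat.cast_ofNat]
    exact Ideal.mem_span_singleton_self _
  obtain ⟨⟨r, hr⟩, hrq⟩ := (Ideal.mem_iInf_smul_pow_eq_bot_iff _ q).1 hmem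
  obtain ⟨a, rfl⟩ := Ideal.mem_span_singleton.1 hr
  let m : ℕ := (2 * a - 1).natAbs
  have hm : 0 < m := Int.natAbs_pos.2 (by omega)
  have hmq : m • q = 0 := by
    have h0 : (2 * a - 1) • q = 0 := by rw [sub_smul, one_smul, hrq, sub_self]
    rw [← natCast_zsmul]
    rcases Int.natAbs_eq (2 * a - 1) with he | he
    · exact he ▸ h0
    · rw [he, neg_smul, neg_eq_zero] at h0
      exact h0
  let T := Submodule.torsion ℤ Q
  haveI : Finite T := Module.finite_of_fg_torsion T Submodule.torsion_isTorsion
  let t := Nat.card T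
  have ht : 0 < t := Nat.card_pos
  obtain ⟨y, hy⟩ := hdiv (m * t) (Nat.mul_pos hm ht)
  have hyT : y ∈ T := by
    refine (Submodule.mem_torsion_iff _).2 ⟨⟨((m * (m * t) : ℕ) : ℤ), mem_nonZeroDivisors_of_ne_zero
      (Nat.cast_ne_zero.2 (Nat.mul_pos hm (Nat.mul_pos hm ht)).ne')⟩, ?_⟩
    change ((m * (m * t) : ℕ) : ℤ) • y = 0
    rw [natCast_zsmul, mul_nsmul', hy, hmq]
  have h0 : t • (⟨y, hyT⟩ : T) = 0 := card_nsmul_eq_zero'
  have hty : t • y = 0 := congrArg Subtype.val h0
  have hq : q = 0 := by rw [← hy, mul_nsmul', hty, nsmul_zero]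
  exact (QuotientGroup.eq_one_iff x).1 (congrArg Additive.toMul hq)

section Field

variable {K : Type u} [Field K] {M : Type u} [CommGroup M] {B : Type u} [CommRing B]
  [HopfAlgebra K B] (ψ : MonoidAlgebra K M →ₐc[K] B)

/-- the characters trivial on a subgroup -/
def ptKer : Subgroup M where
  carrier := {m | ψ (MonoidAlgebra.single m 1) = 1}
  one_mem' := by simp [← MonoidAlgebra.one_def]
  mul_mem' {a b} ha hb := by
    rw [Set.mem_ofPred_eq, show MonoidAlgebra.single (a * b) (1 : K) =
      MonoidAlgebra.single a 1 * MonoidAlgebra.single b 1 by simp, map_mul, ha, hb, one_mul]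
  inv_mem' {a} ha := by
    rw [Set.mem_ofPred_eq] at ha ⊢
    have h1 : ψ (MonoidAlgebra.single a⁻¹ 1) * ψ (MonoidAlgebra.single a 1) = 1 := by
      rw [← map_mul, MonoidAlgebra.single_mul_single, inv_mul_cancel, mul_one,
        ← MonoidAlgebra.one_def, map_one]
    rwa [ha, mul_one] at h1

theorem ker_le_mapDomain :
    RingHom.ker ψ ≤ RingHom.ker (MonoidAlgebra.mapDomainBialgHom K (QuotientGroup.mk' (ptKer ψ))) := by
  classical
  let g : M →* GroupLike K B :=
    { toFun := fun m => ⟨ψ (MonoidAlgebra.single m 1),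
        (MonoidAlgebra.isGroupLikeElem_single_one m).map ψ⟩
      map_one' := GroupLike.val_injective <| by simp [← MonoidAlgebra.one_def]
      map_mul' := fun a b => GroupLike.val_injective <| by
        simp [← map_mul, MonoidAlgebra.single_mul_single] }
  have hind : LinearIndependent K (GroupLike.val : GroupLike K B → B) :=
    (linearIndepOn_isGroupLikeElem (R := K) (A := B)).linearIndependent.comp
      (fun g : GroupLike K B => (⟨g.val, g.2⟩ : {a : B | IsGroupLikeElem K a}))
      fun g g' h => GroupLike.val_injective (congrArg Subtype.val h)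
  have hψ : ∀ x, ψ x = Finsupp.linearCombination K (GroupLike.val : GroupLike K B → B)
      (Finsupp.mapDomain g x.coeff) := by
    intro x
    induction x using MonoidAlgebra.induction_linear with
    | zero => simp
    | add p q hp hq => simp [map_add, Finsupp.mapDomain_add, hp, hq]
    | single m r =>
      rw [show MonoidAlgebra.single m r = r • MonoidAlgebra.single m (1 : K) by simp, map_smul]
      simp [Finsupp.mapDomain_single, g]
  have hg : g.ker = ptKer ψ := by
    ext m
    exact ⟨fun h => congrArg GroupLike.val (MonoidHom.mem_ker.1 h),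
      fun h => MonoidHom.mem_ker.2 (GroupLike.val_injective h)⟩
  intro x hx
  rw [RingHom.mem_ker, hψ] at hx
  have h0 : Finsupp.mapDomain g x.coeff = 0 := hind (hx.trans (map_zero _).symm)
  rw [RingHom.mem_ker]
  apply MonoidAlgebra.coeff_injective
  let j : GroupLike K B → M ⧸ ptKer ψ := fun y =>
    if hy : ∃ m, g m = y then QuotientGroup.mk hy.choose else 1
  have hj : ∀ m, j (g m) = QuotientGroup.mk' (ptKer ψ) m := by
    intro m
    have hy : ∃ m', g m' = g m := ⟨m, rfl⟩
    simp only [j, dif_pos hy, QuotientGroup.mk'_apply, QuotientGroup.eq]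
    rw [← hg, MonoidHom.mem_ker, map_mul, map_inv, hy.choose_spec, inv_mul_cancel]
  have hx' : Finsupp.mapDomain (QuotientGroup.mk' (ptKer ψ)) x.coeff = 0 := by
    rw [show (QuotientGroup.mk' (ptKer ψ) : M → M ⧸ ptKer ψ) = j ∘ g from funext fun m => (hj m).symm,
      Finsupp.mapDomain_comp, h0, Finsupp.mapDomain_zero]
  simpa [MonoidAlgebra.coeff_mapDomain] using hx'

theorem ker_sup_torsion_le (n : ℕ) : RingHom.ker ψ ⊔ torsionIdeal K (MonoidAlgebra K M) n ≤
    RingHom.ker (MonoidAlgebra.mapDomainBialgHom K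
      (QuotientGroup.mk' (ptKer ψ ⊔ (powMonoidHom (α := M) n).range))) := by
  refine sup_le ((ker_le_mapDomain ψ).trans ?_) ?_
  · rw [ker_mapDomain, ker_mapDomain]
    exact Ideal.span_mono (Set.image_mono (le_sup_left : ptKer ψ ≤ _))
  · rw [torsionIdeal_monoidAlgebra, ker_mapDomain, ker_mapDomain]
    exact Ideal.span_mono (Set.image_mono (le_sup_right : _ ≤ ptKer ψ ⊔ _))

/-- An element trivial on the subgroup up to every power is trivial on it. -/
theorem eq_one_of_forall_torsion [Group.FG M] {x : M}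
    (h : ∀ n : ℕ, 0 < n → MonoidAlgebra.single x (1 : K) - 1 ∈
      RingHom.ker ψ ⊔ torsionIdeal K (MonoidAlgebra K M) n) :
    ψ (MonoidAlgebra.single x 1) = 1 := by
  refine (mem_of_forall_mem_sup (ptKer ψ) fun n hn => ?_ : x ∈ ptKer ψ)
  have hm := ker_sup_torsion_le ψ n (h n hn)
  rw [RingHom.mem_ker, map_sub, map_one, MonoidAlgebra.mapDomainBialgHom_single, sub_eq_zero,
    MonoidAlgebra.one_def] at hm
  exact (QuotientGroup.eq_one_iff x).1 (MonoidAlgebra.single_left_injective one_ne_zero hm)

/-- A subgroup whose intersections with the torsion have at most `d` points is killed by `d!`. -/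
theorem pow_factorial_eq_one [Group.FG M] (d : ℕ)
    (hd : ∀ N : ℕ, 0 < N → ∃ f : Fin d → MonoidAlgebra K M, (⊤ : Submodule K (MonoidAlgebra K M)) ≤
      Submodule.span K (Set.range f) ⊔
        (RingHom.ker ψ ⊔ torsionIdeal K (MonoidAlgebra K M) N).restrictScalars K) (m : M) :
    ψ (MonoidAlgebra.single (m ^ d.factorial) 1) = 1 := by
  classical
  refine (mem_of_forall_mem_sup (ptKer ψ) fun N hN => ?_ : m ^ d.factorial ∈ ptKer ψ)
  let L := ptKer ψ ⊔ (powMonoidHom (α := M) N).range
  obtain ⟨f, hf⟩ := hd N hN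
  let p := MonoidAlgebra.mapDomainBialgHom K (QuotientGroup.mk' L)
  let b : Module.Basis (M ⧸ L) K (MonoidAlgebra K (M ⧸ L)) :=
    Module.Basis.ofRepr (MonoidAlgebra.coeffLinearEquiv K)
  have hspan : (⊤ : Submodule K (MonoidAlgebra K (M ⧸ L))) ≤ Submodule.span K (Set.range (p ∘ f)) := by
    intro y hy
    clear hy
    obtain ⟨x, rfl⟩ : ∃ x, p x = y := by
      induction y using MonoidAlgebra.induction_linear with
      | zero => exact ⟨0, map_zero _⟩
      | add a c ha hc =>
        obtain ⟨a', rfl⟩ := ha; obtain ⟨c', rfl⟩ := hc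
        exact ⟨a' + c', map_add _ _ _⟩
      | single q r =>
        obtain ⟨m, rfl⟩ := QuotientGroup.mk'_surjective L q
        exact ⟨MonoidAlgebra.single m r, MonoidAlgebra.mapDomainBialgHom_single ..⟩
    obtain ⟨u, hu, v, hv, rfl⟩ := Submodule.mem_sup.1 (hf (Submodule.mem_top (x := x)))
    have hv0 : p v = 0 := ker_sup_torsion_le ψ N hv
    rw [map_add, hv0, add_zero, Set.range_comp]
    exact (Submodule.span_image (p : MonoidAlgebra K M →ₗ[K] MonoidAlgebra K (M ⧸ L))).ge ⟨u, hu, rfl⟩
  haveI : Module.Finite K (MonoidAlgebra K (M ⧸ L)) :=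
    ⟨Submodule.fg_def.2 ⟨_, Set.finite_range (p ∘ f), top_le_iff.1 hspan⟩⟩
  haveI : Finite (M ⧸ L) := Module.Finite.finite_basis b
  haveI := Fintype.ofFinite (M ⧸ L)
  have hcard : Nat.card (M ⧸ L) ≤ d := by
    rw [← Module.finrank_eq_nat_card_basis b]
    have h1 := finrank_range_le_card (R := K) (p ∘ f)
    rw [Set.finrank, top_le_iff.1 hspan, finrank_top, Fintype.card_fin] at h1
    exact h1
  have hpow : (QuotientGroup.mk' L m) ^ d.factorial = 1 :=
    orderOf_dvd_iff_pow_eq_one.1 ((orderOf_dvd_natCard _).trans (Nat.dvd_factorial Nat.card_pos hcard))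
  rw [← map_pow] at hpow
  exact (QuotientGroup.eq_one_iff _).1 hpow

end Field

/-- An element vanishing in a fibre is killed outside the prime modulo it. -/
theorem exists_mul_mem_of_fibre {R : Type u} [CommRing R] {C : Type u} [CommRing C] [Algebra R C]
    (p : Ideal R) [p.IsPrime] {z : C} (hz : (1 : p.ResidueField) ⊗ₜ[R] z = 0) :
    ∃ f ∉ p, algebraMap R C f * z ∈ p.map (algebraMap R C) := by
  let Q := C ⧸ p.map (algebraMap R C)
  let S := Algebra.algebraMapSubmonoid Q p.primeCompl
  let L := Localization S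
  let f₀ : p.ResidueField →ₐ[R] L := Ideal.ResidueField.liftₐ (R := R) (A := R) (B := L) p
    (Algebra.ofId R L)
    (fun r hr => by
      rw [RingHom.mem_ker]
      change algebraMap R L r = 0
      rw [IsScalarTower.algebraMap_apply R Q L, IsScalarTower.algebraMap_apply R C Q,
        Ideal.Quotient.algebraMap_eq, Ideal.Quotient.eq_zero_iff_mem.2 (Ideal.mem_map_of_mem _ hr),
        map_zero])
    (fun r hr => by
      change IsUnit (algebraMap R L r)
      rw [IsScalarTower.algebraMap_apply R Q L]
      exact IsLocalization.map_units L (⟨algebraMap R Q r, ⟨r, hr, rfl⟩⟩ : S))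
  let F : p.ResidueField ⊗[R] C →ₐ[R] L := Algebra.TensorProduct.lift f₀
    (((IsScalarTower.toAlgHom R Q L).comp (Ideal.Quotient.mkₐ R _))) fun x y => mul_comm (f₀ x) _
  have hF := congrArg F hz
  simp only [F, Algebra.TensorProduct.lift_tmul, map_one, one_mul, map_zero, AlgHom.comp_apply,
    IsScalarTower.coe_toAlgHom', Ideal.Quotient.mkₐ_eq_mk] at hF
  obtain ⟨⟨_, f, hf, rfl⟩, hf0⟩ := (IsLocalization.map_eq_zero_iff S L _).1 hF
  refine ⟨f, hf, ?_⟩
  rw [← Ideal.Quotient.eq_zero_iff_mem, map_mul]
  exact hf0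

/-- Vanishing descends along extensions of the residue field. -/
theorem eq_zero_of_extension {R : Type u} [CommRing R] (k : Type u) [Field k] [Algebra R k]
    (K : Type u) [Field K] [Algebra R K] [Algebra k K] [IsScalarTower R k K] {N : Type u}
    [AddCommGroup N] [Module R N] {z : N} (h : (1 : K) ⊗ₜ[R] z = 0) : (1 : k) ⊗ₜ[R] z = 0 := by
  refine one_tmul_injective_of_faithfullyFlat (R := k) K (k ⊗[R] N) ?_
  refine (TensorProduct.AlgebraTensorModule.cancelBaseChange R k K K N).injective ?_
  simp only [TensorProduct.tmul_zero, map_zero,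
    TensorProduct.AlgebraTensorModule.cancelBaseChange_tmul, one_smul]
  exact h

/-- Generators of a subgroup scheme with finite closed fibre, modulo any finite part. -/
theorem exists_gens {R : Type u} [CommRing R] [IsLocalRing R] {A : Type u} [CommRing A] [Algebra R A]
    (J : Ideal A)
    (hs : Module.Finite (IsLocalRing.ResidueField R) (IsLocalRing.ResidueField R ⊗[R] (A ⧸ J))) :
    ∃ (d : ℕ) (f : Fin d → A), ∀ T : Ideal A, Module.Finite R (A ⧸ T) →
      (⊤ : Submodule R A) ≤ Submodule.span R (Set.range f) ⊔ (J ⊔ T).restrictScalars R := by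
  classical
  let k := IsLocalRing.ResidueField R
  obtain ⟨d, g, hg⟩ := Module.Finite.exists_fin (R := k) (M := k ⊗[R] (A ⧸ J))
  have hsurj := TensorProduct.mk_surjective R (A ⧸ J) k IsLocalRing.residue_surjective
  choose g' hg' using fun i => hsurj (g i)
  choose f hf using fun i => Ideal.Quotient.mk_surjective (g' i)
  refine ⟨d, f, fun T hT => ?_⟩
  let P := Submodule.span R (Set.range f) ⊔ (J ⊔ T).restrictScalars R
  have h1 : ∀ y : A, y ∈ P ⊔ IsLocalRing.maximalIdeal R • (⊤ : Submodule R A) := by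
    intro y
    have hy : (1 : k) ⊗ₜ[R] Ideal.Quotient.mk J y ∈ Submodule.span k (Set.range g) := by
      rw [hg]; trivial
    obtain ⟨c, hc⟩ := (Submodule.mem_span_range_iff_exists_fun k).1 hy
    choose r hr using fun i => IsLocalRing.residue_surjective (c i)
    let w := y - ∑ i, r i • f i
    have hw : (1 : k) ⊗ₜ[R] Ideal.Quotient.mk J w = 0 := by
      rw [map_sub, map_sum, TensorProduct.tmul_sub, TensorProduct.tmul_sum, sub_eq_zero, ← hc]
      refine Finset.sum_congr rfl fun i _ => ?_
      rw [← hg' i, ← hf i, ← hr i]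
      change IsLocalRing.residue R (r i) • ((1 : k) ⊗ₜ[R] Ideal.Quotient.mk J (f i)) = _
      rw [← IsLocalRing.ResidueField.algebraMap_eq, algebraMap_smul,
        show Ideal.Quotient.mk J (r i • f i) = r i • Ideal.Quotient.mk J (f i) from rfl,
        TensorProduct.tmul_smul]
    have hw' : Ideal.Quotient.mk J w ∈
        IsLocalRing.maximalIdeal R • (⊤ : Submodule R (A ⧸ J)) := by
      rw [← Submodule.Quotient.mk_eq_zero]
      have h2 := congrArg (TensorProduct.quotTensorEquivQuotSMul (A ⧸ J) (IsLocalRing.maximalIdeal R)) hw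
      have h3 := h2.trans (LinearEquiv.map_zero _)
      rw [show (1 : k) = Ideal.Quotient.mk (IsLocalRing.maximalIdeal R) (1 : R) from rfl] at h3
      exact ((congrArg Submodule.Quotient.mk (one_smul R _)).symm.trans
        (TensorProduct.quotTensorEquivQuotSMul_mk_tmul _ _ _).symm).trans h3
    have h3 : Submodule.map (Ideal.Quotient.mkₐ R J).toLinearMap
        (IsLocalRing.maximalIdeal R • (⊤ : Submodule R A)) =
        IsLocalRing.maximalIdeal R • (⊤ : Submodule R (A ⧸ J)) := by
      rw [Submodule.map_smul'', Submodule.map_top]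
      congr 1
      exact LinearMap.range_eq_top.2 Ideal.Quotient.mk_surjective
    rw [← h3] at hw'
    obtain ⟨w', hw'm, hww⟩ := hw'
    have key : ((∑ i, r i • f i) + (w - w')) + w' ∈
        P ⊔ IsLocalRing.maximalIdeal R • (⊤ : Submodule R A) := by
      refine Submodule.add_mem_sup (Submodule.add_mem_sup ?_ ?_) hw'm
      · exact sum_mem fun i _ => Submodule.smul_mem _ _ (Submodule.subset_span ⟨i, rfl⟩)
      · exact Ideal.mem_sup_left (Ideal.Quotient.eq.1 hww.symm)
    rwa [show ((∑ i, r i • f i) + (w - w')) + w' = y by simp only [w]; abel] at key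
  let π : A →ₗ[R] A ⧸ T := (Ideal.Quotient.mkₐ R T).toLinearMap
  have h4 : (⊤ : Submodule R (A ⧸ T)) ≤ P.map π := by
    refine Submodule.le_of_le_smul_of_le_jacobson_bot (I := IsLocalRing.maximalIdeal R)
      Module.Finite.fg_top (IsLocalRing.maximalIdeal_le_jacobson _) fun z _ => ?_
    obtain ⟨y, rfl⟩ := Ideal.Quotient.mk_surjective z
    obtain ⟨a, ha, b, hb, hab⟩ := Submodule.mem_sup.1 (h1 y)
    rw [← hab]
    refine Submodule.mem_sup.2 ⟨π a, ⟨a, ha, rfl⟩, π b, ?_, rfl⟩
    have h5 := Submodule.mem_map_of_mem (f := π) hb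
    rw [Submodule.map_smul''] at h5
    exact Submodule.smul_mono le_rfl le_top h5
  intro y _
  obtain ⟨a, ha, hay⟩ := h4 (Submodule.mem_top (x := π y))
  rw [show y = a + (y - a) by ring]
  exact add_mem ha (Submodule.mem_sup_right (Ideal.mem_sup_right (Ideal.Quotient.eq.1 hay.symm)))

/-- A subgroup with finite closed fibre of a group of multiplicative type over a local ring is
killed by some integer. -/
theorem exists_torsion_le {R : Type u} [CommRing R] [IsLocalRing R] {A : Type u} [CommRing A]
    [HopfAlgebra R A] (hft : Algebra.FiniteType R A) (hH : IsMultType R A) (J : Ideal A)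
    [J.IsHopfIdeal R]
    (hs : Module.Finite (IsLocalRing.ResidueField R) (IsLocalRing.ResidueField R ⊗[R] (A ⧸ J))) :
    ∃ n : ℕ, 0 < n ∧ torsionIdeal R A n ≤ J := by
  classical
  obtain ⟨d, f, hf⟩ := exists_gens J hs
  obtain ⟨S, _, _, hff, hd⟩ := exists_isMultTypeConst_of_isLocalRing hH
  let mkJ : A →ₐc[R] A ⧸ J := Bialgebra.Quotient.mkBialgHom (R := R) J
  obtain ⟨n, hn, hkill⟩ := Killed.exists_kill (R := R) (C := A ⧸ J)
      (Algebra.FiniteType.of_surjective (Ideal.Quotient.mkₐ R J) Ideal.Quotient.mk_surjective)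
      fun p _ => by
    obtain ⟨P, hP⟩ := PrimeSpectrum.comap_surjective_of_faithfullyFlat (A := R) (B := S) ⟨p, inferInstance⟩
    haveI : P.asIdeal.LiesOver p := ⟨(congrArg PrimeSpectrum.asIdeal hP).symm⟩
    let K := P.asIdeal.ResidueField
    obtain ⟨M, _, ⟨e⟩⟩ : IsDiag K (K ⊗[R] A) :=
      isDiag_trans S K A (isDiag_baseChange K (S ⊗[R] A) hd)
    haveI : Group.FG M := group_fg_of_finiteType (inferInstance : Algebra.FiniteType K (K ⊗[R] A)) e
    let ψ : MonoidAlgebra K M →ₐc[K] K ⊗[R] (A ⧸ J) :=
      (mapBC K mkJ).comp (e.symm : MonoidAlgebra K M →ₐc[K] K ⊗[R] A)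
    have hψ : ∀ z, ψ (e z) = mapBC K mkJ z := fun z => congrArg (mapBC K mkJ) (e.symm_apply_apply z)
    have hψ1 : ∀ x : A, ψ (e ((1 : K) ⊗ₜ[R] x)) = (1 : K) ⊗ₜ[R] Ideal.Quotient.mk J x :=
      fun x => hψ _
    have hspan : ∀ N : ℕ, 0 < N → ∃ f' : Fin d → MonoidAlgebra K M,
        (⊤ : Submodule K (MonoidAlgebra K M)) ≤ Submodule.span K (Set.range f') ⊔
          (RingHom.ker ψ ⊔ torsionIdeal K (MonoidAlgebra K M) N).restrictScalars K := by
      intro N hN
      refine ⟨fun i => e ((1 : K) ⊗ₜ[R] f i), fun y hy => ?_⟩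
      clear hy
      obtain ⟨z, rfl⟩ : ∃ z, e z = y := e.surjective y
      induction z using TensorProduct.induction_on with
      | zero => rw [map_zero]; exact zero_mem _
      | add a b ha hb => rw [map_add]; exact add_mem ha hb
      | tmul s a =>
        rw [show s ⊗ₜ[R] a = s • ((1 : K) ⊗ₜ[R] a) by
          rw [TensorProduct.smul_tmul', smul_eq_mul, mul_one], map_smul]
        refine Submodule.smul_mem _ _ ?_
        obtain ⟨u, hu, v, hv, rfl⟩ := Submodule.mem_sup.1
          (hf (torsionIdeal R A N) (finite_quotient_torsionIdeal hft hH hN) (Submodule.mem_top (x := a)))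
        rw [TensorProduct.tmul_add, map_add]
        refine Submodule.add_mem_sup ?_ ?_
        · clear hv
          induction hu using Submodule.span_induction with
          | mem x hx => obtain ⟨i, rfl⟩ := hx; exact Submodule.subset_span ⟨i, rfl⟩
          | zero => rw [TensorProduct.tmul_zero, map_zero]; exact zero_mem _
          | add x y _ _ hx hy => rw [TensorProduct.tmul_add, map_add]; exact add_mem hx hy
          | smul r x _ hx =>
            rw [TensorProduct.tmul_smul, ← algebraMap_smul K r ((1 : K) ⊗ₜ[R] x), map_smul]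
            exact Submodule.smul_mem _ _ hx
        · obtain ⟨j, hj, t, ht, rfl⟩ := Submodule.mem_sup.1 hv
          rw [TensorProduct.tmul_add, map_add]
          refine Submodule.add_mem_sup ?_ ?_
          · rw [RingHom.mem_ker, hψ1, Ideal.Quotient.eq_zero_iff_mem.2 hj, TensorProduct.tmul_zero]
          · rw [← map_torsionIdeal e]
            refine Ideal.mem_map_of_mem (e : K ⊗[R] A →ₐc[K] MonoidAlgebra K M) ?_
            rw [torsionIdeal_baseChange]
            exact Ideal.mem_map_of_mem (Algebra.TensorProduct.includeRight : A →ₐ[R] K ⊗[R] A) ht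
    refine ⟨d.factorial, d.factorial_pos, fun c hc => ?_⟩
    obtain ⟨a, rfl⟩ := Ideal.Quotient.mk_surjective c
    let k := p.ResidueField
    letI : Algebra k K :=
      (Ideal.ResidueField.map p P.asIdeal (algebraMap R S) Ideal.LiesOver.over).toAlgebra
    haveI : IsScalarTower R k K := IsScalarTower.of_algebraMap_eq fun r => by
      rw [RingHom.algebraMap_toAlgebra, Ideal.ResidueField.map_algebraMap,
        ← IsScalarTower.algebraMap_apply]
    refine eq_zero_of_extension k K ?_
    rw [← powConv_tmul]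
    have hall : ∀ x : MonoidAlgebra K M, powConv K (K ⊗[R] (A ⧸ J)) d.factorial (ψ x) =
        algebraMap K _ (counit (R := K) x) := by
      intro x
      induction x using MonoidAlgebra.induction_linear with
      | zero => simp
      | add u v hu hv => simp only [map_add, hu, hv]
      | single m r =>
        rw [show MonoidAlgebra.single m r = r • MonoidAlgebra.single m (1 : K) by simp, map_smul,
          map_smul, ← map_powConv ψ, powConv_monoidAlgebra, pow_factorial_eq_one ψ d hspan m,
          map_smul, (MonoidAlgebra.isGroupLikeElem_single_one m).counit_eq_one, smul_eq_mul, mul_one,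
          Algebra.algebraMap_eq_smul_one]
    rw [← hψ1, hall, CoalgHomClass.counit_comp_apply e, TensorProduct.counit_tmul]
    have hεa : counit (R := R) a = 0 := by
      have h1 : counit (R := R) (mkJ a) = 0 := hc
      rwa [CoalgHomClass.counit_comp_apply] at h1
    rw [hεa, zero_smul, map_zero]
  refine ⟨n, hn, Ideal.map_le_iff_le_comap.2 fun a ha => ?_⟩
  rw [Ideal.mem_comap, ← Ideal.Quotient.eq_zero_iff_mem]
  have h1 : mkJ (powConv R A n a) = 0 := by
    rw [map_powConv, hkill, CoalgHomClass.counit_comp_apply, show counit (R := R) a = 0 from ha,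
      map_zero]
  exact h1

end Groth.Sga3.SubgroupFibre
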