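import Groth.Agent.Sga3.LocalRigid
import Groth.Agent.Sga3.SubgroupFibre
import Groth.Agent.Sga3.CoverType
import Groth.Agent.Sga3.HopfKer

/-!
The kernel of a homomorphism from a group of multiplicative type of finite type to an affine group
of finite type is of multiplicative type.
-/

set_option autoImplicit false

universe u

open TensorProduct Coalgebra

noncomputable section

namespace Groth.Sga3.KernelType

open SGA3b MultType GroupAlg
open Groth.Sga3.Descend (mp cf_mp mp_mp)
open Groth.Sga3.Killed (aug fg_aug)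

section Natural

variable {X Y : Type u} [CommRing X] [CommRing Y] {M : Type u} [CommGroup M]

theorem mapDomain_mp (f : X →+* Y) (N : Subgroup M) (x : MonoidAlgebra X M) :
    MonoidAlgebra.mapDomainBialgHom Y (QuotientGroup.mk' N) (mp f x) =
      mp f (MonoidAlgebra.mapDomainBialgHom X (QuotientGroup.mk' N) x) := by
  induction x using MonoidAlgebra.induction_linear with
  | zero => simp
  | add p q hp hq => simp only [map_add, hp, hq]
  | single m r => simp [mp]

theorem mp_torsion (f : X →+* Y) {n : ℕ} {x : MonoidAlgebra X M}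
    (hx : x ∈ torsionIdeal X (MonoidAlgebra X M) n) : mp f x ∈ torsionIdeal Y (MonoidAlgebra Y M) n := by
  rw [torsionIdeal_monoidAlgebra, RingHom.mem_ker] at hx ⊢
  rw [mapDomain_mp, hx, map_zero]

theorem mp_single_sub_one (f : X →+* Y) (m : M) :
    mp f (MonoidAlgebra.single m (1 : X) - 1) = MonoidAlgebra.single m (1 : Y) - 1 := by
  rw [map_sub, map_one]
  simp [mp]

theorem mp_algebraMap (f : X →+* Y) (x : X) :
    mp f (algebraMap X (MonoidAlgebra X M) x) = algebraMap Y (MonoidAlgebra Y M) (f x) := by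
  simp [mp]

/-- elements vanishing after change of coefficients to a localisation -/
theorem exists_smul_eq_zero {S T : Type u} [CommRing S] [CommRing T] [Algebra S T] (W : Submonoid S)
    [IsLocalization W T] {N : Type u} [CommGroup N] {w : MonoidAlgebra S N}
    (h : mp (algebraMap S T) w = 0) : ∃ g ∈ W, g • w = 0 := by
  classical
  have hc : ∀ n, ∃ g : W, (g : S) * cf n w = 0 := fun n =>
    (IsLocalization.map_eq_zero_iff W T _).1 (by rw [← cf_mp, h, map_zero])
  choose g hg using hc
  refine ⟨∏ n ∈ w.coeff.support, (g n : S), prod_mem fun n _ => (g n).2, ext_cf fun n => ?_⟩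
  rw [map_smul, map_zero, smul_eq_mul]
  by_cases hn : n ∈ w.coeff.support
  · rw [← Finset.mul_prod_erase _ _ hn, mul_right_comm, hg, zero_mul]
  · rw [show cf n w = 0 from Finsupp.notMem_support_iff.1 hn, mul_zero]

/-- membership of an ideal after change of coefficients to a localisation -/
theorem exists_smul_mem {S T : Type u} [CommRing S] [CommRing T] [Algebra S T] (W : Submonoid S)
    [IsLocalization W T] {N : Type u} [CommGroup N] (a : Ideal (MonoidAlgebra S N))
    {x : MonoidAlgebra S N} (h : mp (algebraMap S T) x ∈ a.map (mp (algebraMap S T))) :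
    ∃ g ∈ W, g • x ∈ a := by
  classical
  have hlift : ∀ y : MonoidAlgebra T N, ∃ g ∈ W, ∃ z, mp (algebraMap S T) z = algebraMap S T g • y := by
    intro y
    induction y using MonoidAlgebra.induction_linear with
    | zero => exact ⟨1, one_mem _, 0, by simp⟩
    | add p q hp hq =>
      obtain ⟨g, hg, z, hz⟩ := hp
      obtain ⟨g', hg', z', hz'⟩ := hq
      exact ⟨g * g', mul_mem hg hg', g' • z + g • z', by
        rw [map_add, Descend.mp_smul, Descend.mp_smul, hz, hz', smul_smul, smul_smul, ← map_mul,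
          ← map_mul, mul_comm g' g, ← smul_add]⟩
    | single n r =>
      obtain ⟨⟨s, t⟩, hst⟩ := IsLocalization.surj W r
      exact ⟨t, t.2, MonoidAlgebra.single n s, by simp [mp, ← hst, mul_comm r, Algebra.smul_def]⟩
  have key : ∀ y ∈ a.map (mp (algebraMap S T)), ∃ g ∈ W, ∃ α ∈ a,
      mp (algebraMap S T) α = algebraMap S T g • y := by
    intro y hy
    induction hy using Submodule.span_induction with
    | mem y hy =>
      obtain ⟨α, hα, rfl⟩ := hy
      exact ⟨1, one_mem _, α, hα, by simp⟩
    | zero => exact ⟨1, one_mem _, 0, zero_mem _, by simp⟩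
    | add p q _ _ hp hq =>
      obtain ⟨g, hg, z, hza, hz⟩ := hp
      obtain ⟨g', hg', z', hza', hz'⟩ := hq
      refine ⟨g * g', mul_mem hg hg', g' • z + g • z', add_mem (Submodule.smul_of_tower_mem _ _ hza)
        (Submodule.smul_of_tower_mem _ _ hza'), ?_⟩
      rw [map_add, Descend.mp_smul, Descend.mp_smul, hz, hz', smul_smul, smul_smul, ← map_mul,
        ← map_mul, mul_comm g' g, ← smul_add]
    | smul c p _ hp =>
      obtain ⟨g, hg, z, hza, hz⟩ := hp
      obtain ⟨g', hg', c', hc'⟩ := hlift c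
      refine ⟨g' * g, mul_mem hg' hg, c' * z, Ideal.mul_mem_left _ _ hza, ?_⟩
      rw [map_mul, hz, hc', smul_mul_smul_comm, ← map_mul, smul_eq_mul]
  obtain ⟨g, hg, α, hα, hαx⟩ := key _ h
  have h0 : mp (algebraMap S T) (g • x - α) = 0 := by rw [map_sub, Descend.mp_smul, hαx, sub_self]
  obtain ⟨g', hg', h1⟩ := exists_smul_eq_zero W h0
  refine ⟨g' * g, mul_mem hg' hg, ?_⟩
  rw [smul_sub, smul_smul, sub_eq_zero] at h1
  rw [h1]
  exact Submodule.smul_of_tower_mem _ _ hα

end Natural

theorem exists_gens_ker_mapDomain {T : Type u} [CommRing T] {M : Type u} [CommGroup M] [Group.FG M]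
    (L : Subgroup M) : ∃ t : Finset M, (t : Set M) ⊆ L ∧
      RingHom.ker (MonoidAlgebra.mapDomainBialgHom T (QuotientGroup.mk' L)) =
        Ideal.span ((fun l => MonoidAlgebra.single l (1 : T) - 1) '' (t : Set M)) ∧
      Subgroup.closure (t : Set M) = L := by
  classical
  haveI : Module.Finite ℤ (Additive M) := Module.Finite.iff_addGroup_fg.2 inferInstance
  have hfg : L.FG := by
    rw [Subgroup.fg_iff_add_fg]
    have h1 : (AddSubgroup.toIntSubmodule L.toAddSubgroup).FG := IsNoetherian.noetherian _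
    obtain ⟨u, hu⟩ := h1
    refine ⟨u, ?_⟩
    rw [← Submodule.span_int_eq_addSubgroupClosure, hu]
    rfl
  obtain ⟨t, ht⟩ := hfg
  refine ⟨t, fun x hx => ht ▸ Subgroup.subset_closure hx, le_antisymm ?_ ?_, ht⟩
  · rw [ker_mapDomain, Ideal.span_le]
    rintro _ ⟨l, hl, rfl⟩
    let V := Ideal.span ((fun l => MonoidAlgebra.single l (1 : T) - 1) '' (t : Set M))
    have hl' : l ∈ Subgroup.closure (t : Set M) := by rw [ht]; exact hl
    change MonoidAlgebra.single l (1 : T) - 1 ∈ V
    clear hl
    induction hl' using Subgroup.closure_induction with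
    | mem x hx => exact Ideal.subset_span ⟨x, hx, rfl⟩
    | one => simp [← MonoidAlgebra.one_def]
    | mul x y _ _ hx hy =>
      rw [show MonoidAlgebra.single (x * y) (1 : T) =
        MonoidAlgebra.single x 1 * MonoidAlgebra.single y 1 by simp]
      rw [show ∀ a b : MonoidAlgebra T M, a * b - 1 = a * (b - 1) + (a - 1) from fun a b => by ring]
      exact add_mem (Ideal.mul_mem_left _ _ hy) hx
    | inv x _ hx =>
      have h1 : MonoidAlgebra.single x⁻¹ (1 : T) * MonoidAlgebra.single x 1 = 1 := by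
        simp [MonoidAlgebra.one_def]
      rw [show MonoidAlgebra.single x⁻¹ (1 : T) - 1 =
        -(MonoidAlgebra.single x⁻¹ 1 * (MonoidAlgebra.single x 1 - 1)) by
          rw [mul_sub, h1, mul_one, neg_sub]]
      exact neg_mem (Ideal.mul_mem_left _ _ hx)
  · rw [Ideal.span_le]
    rintro _ ⟨l, hl, rfl⟩
    rw [SetLike.mem_coe, ker_mapDomain]
    exact Ideal.subset_span ⟨l, ht ▸ Subgroup.subset_closure hl, rfl⟩

/-- the group elements sent to one -/
def ptKer {T : Type u} [CommRing T] {M : Type u} [CommGroup M] {B : Type u} [CommRing B]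
    [Bialgebra T B] (ψ : MonoidAlgebra T M →ₐc[T] B) : Subgroup M where
  carrier := {m | ψ (MonoidAlgebra.single m 1) = 1}
  one_mem' := by simp [← MonoidAlgebra.one_def]
  mul_mem' {a b} ha hb := by
    rw [Set.mem_ofPred_eq, show MonoidAlgebra.single (a * b) (1 : T) =
      MonoidAlgebra.single a 1 * MonoidAlgebra.single b 1 by simp, map_mul, ha, hb, one_mul]
  inv_mem' {a} ha := by
    rw [Set.mem_ofPred_eq] at ha ⊢
    have h1 : ψ (MonoidAlgebra.single a⁻¹ 1) * ψ (MonoidAlgebra.single a 1) = 1 := by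
      rw [← map_mul, MonoidAlgebra.single_mul_single, inv_mul_cancel, mul_one,
        ← MonoidAlgebra.one_def, map_one]
    rwa [ha, mul_one] at h1

section Core

variable {R : Type u} [CommRing R] {A : Type u} [CommRing A] [HopfAlgebra R A]
  {C : Type u} [CommRing C] [HopfAlgebra R C] (φ : C →ₐc[R] A)
  (J : Ideal A) [J.IsHopfIdeal R]
  {S : Type u} [CommRing S] [Algebra R S] {M : Type u} [CommGroup M]
  (e : S ⊗[R] A ≃ₐc[S] MonoidAlgebra S M)
  (T : Type u) [CommRing T] [Algebra R T] [Algebra S T] [IsScalarTower R S T]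

/-- the projection to the kernel, in coordinates -/
def proj : MonoidAlgebra T M →ₐc[T] T ⊗[R] (A ⧸ J) :=
  (mapBC T (Bialgebra.Quotient.mkBialgHom (R := R) J)).comp
    ((Descend.chain e T).symm : MonoidAlgebra T M →ₐc[T] T ⊗[R] A)

theorem proj_chain (z : T ⊗[R] A) :
    proj J e T (Descend.chain e T z) = mapBC T (Bialgebra.Quotient.mkBialgHom (R := R) J) z :=
  congrArg (mapBC T (Bialgebra.Quotient.mkBialgHom (R := R) J))
    ((Descend.chain e T).symm_apply_apply z)

theorem proj_surjective : Function.Surjective (proj J e T) := by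
  intro y
  induction y using TensorProduct.induction_on with
  | zero => exact ⟨0, map_zero _⟩
  | add p q hp hq =>
    obtain ⟨a, rfl⟩ := hp; obtain ⟨b, rfl⟩ := hq
    exact ⟨a + b, map_add _ _ _⟩
  | tmul t b =>
    obtain ⟨a, rfl⟩ := Ideal.Quotient.mk_surjective b
    exact ⟨Descend.chain e T (t ⊗ₜ a), proj_chain J e T _⟩

/-- coordinates of an element at the stage `T` -/
theorem chain_one (a : A) :
    Descend.chain e T ((1 : T) ⊗ₜ[R] a) = mp (algebraMap S T) (e ((1 : S) ⊗ₜ a)) :=
  Descend.chain_one_tmul e T a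

variable {φ J} (hJ : J = Ideal.map φ (aug R C))

include hJ

theorem proj_phi {c : C} (hc : c ∈ aug R C) :
    proj J e T (mp (algebraMap S T) (e ((1 : S) ⊗ₜ φ c))) = 0 := by
  rw [← chain_one, proj_chain, mapBC_tmul]
  have : Bialgebra.Quotient.mkBialgHom (R := R) J (φ c) = 0 :=
    Ideal.Quotient.eq_zero_iff_mem.2 (hJ ▸ Ideal.mem_map_of_mem _ hc)
  rw [this, TensorProduct.tmul_zero]

theorem ker_proj_le (I : Ideal (MonoidAlgebra T M))
    (hI : ∀ c ∈ aug R C, mp (algebraMap S T) (e ((1 : S) ⊗ₜ φ c)) ∈ I) :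
    RingHom.ker (proj J e T) ≤ I := by
  intro x hx
  obtain ⟨z, rfl⟩ : ∃ z, Descend.chain e T z = x := (Descend.chain e T).surjective x
  rw [RingHom.mem_ker, proj_chain] at hx
  let E : T ⊗[R] A →ₐ[T] MonoidAlgebra T M := (Descend.chain e T : T ⊗[R] A →ₐ[T] MonoidAlgebra T M)
  have hmap : ∀ w, mapBC T (Bialgebra.Quotient.mkBialgHom (R := R) J) w =
      Algebra.TensorProduct.map (AlgHom.id R T) (Ideal.Quotient.mkₐ R J) w := by
    intro w
    induction w using TensorProduct.induction_on with
    | zero => simp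
    | add p q hp hq => simp only [map_add, hp, hq]
    | tmul t c => rfl
  rw [hmap] at hx
  have h1 : z ∈ RingHom.ker (Algebra.TensorProduct.map (AlgHom.id R T) (Ideal.Quotient.mkₐ R J)) := hx
  rw [Algebra.TensorProduct.lTensor_ker (A := T) _ Ideal.Quotient.mk_surjective] at h1
  have h2 : RingHom.ker (Ideal.Quotient.mkₐ R J) = J := Ideal.mk_ker
  rw [h2, hJ] at h1
  refine (Ideal.map_le_iff_le_comap.2 (Ideal.map_le_iff_le_comap.2 fun c hc => ?_) :
    (Ideal.map φ (aug R C)).map
      (Algebra.TensorProduct.includeRight : A →ₐ[R] T ⊗[R] A) ≤ I.comap E) h1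
  rw [Ideal.mem_comap, Ideal.mem_comap, Ideal.mem_comap, Algebra.TensorProduct.includeRight_apply]
  change Descend.chain e T _ ∈ I
  rw [chain_one]
  exact hI c hc

theorem mp_ker_proj {T' : Type u} [CommRing T'] [Algebra R T'] [Algebra S T'] [IsScalarTower R S T']
    (f : T →+* T') (hf : f.comp (algebraMap S T) = algebraMap S T') :
    RingHom.ker (proj J e T') ≤ (RingHom.ker (proj J e T)).map (mp f) := by
  refine ker_proj_le e T' hJ _ fun c hc => ?_
  have h := Ideal.mem_map_of_mem (mp f (M := M)) (RingHom.mem_ker.2 (proj_phi e T hJ hc) :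
    mp (algebraMap S T) (e ((1 : S) ⊗ₜ φ c)) ∈ RingHom.ker (proj J e T))
  rwa [mp_mp, hf] at h

theorem mp_ker_proj' {T' : Type u} [CommRing T'] [Algebra R T'] [Algebra S T'] [IsScalarTower R S T']
    (f : T →+* T') (hf : f.comp (algebraMap S T) = algebraMap S T') {x : MonoidAlgebra T M}
    (hx : x ∈ RingHom.ker (proj J e T)) : mp f x ∈ RingHom.ker (proj J e T') := by
  refine (ker_proj_le e T hJ ((RingHom.ker (proj J e T')).comap (mp f)) fun c hc => ?_) hx
  rw [Ideal.mem_comap, RingHom.mem_ker, mp_mp, hf]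
  exact proj_phi e T' hJ hc

/-- When the two kernels agree the quotient is diagonalisable. -/
theorem isDiag_of_kernel (L : Subgroup M)
    (h1 : ∀ l ∈ L, MonoidAlgebra.single l (1 : T) - 1 ∈ RingHom.ker (proj J e T))
    (h2 : ∀ c ∈ aug R C, mp (algebraMap S T) (e ((1 : S) ⊗ₜ φ c)) ∈
      RingHom.ker (MonoidAlgebra.mapDomainBialgHom T (QuotientGroup.mk' L))) :
    IsDiag T (T ⊗[R] (A ⧸ J)) := by
  let p := MonoidAlgebra.mapDomainBialgHom T (QuotientGroup.mk' L)
  have hker : RingHom.ker (proj J e T) = RingHom.ker p := by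
    refine le_antisymm (ker_proj_le e T hJ _ h2) ?_
    rw [ker_mapDomain, Ideal.span_le]
    rintro _ ⟨l, hl, rfl⟩
    exact h1 l hl
  have hp : Function.Surjective p := by
    intro y
    induction y using MonoidAlgebra.induction_linear with
    | zero => exact ⟨0, map_zero _⟩
    | add a c ha hc =>
      obtain ⟨a', rfl⟩ := ha; obtain ⟨c', rfl⟩ := hc
      exact ⟨a' + c', map_add _ _ _⟩
    | single q r =>
      obtain ⟨m, rfl⟩ := QuotientGroup.mk'_surjective L q
      exact ⟨MonoidAlgebra.single m r, MonoidAlgebra.mapDomainBialgHom_single ..⟩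
  haveI := HopfKer.isHopfIdeal_ker p hp (J := RingHom.ker p) rfl
  exact ⟨M ⧸ L, inferInstance, ⟨((HopfKer.quotKerEquiv (proj J e T) (proj_surjective J e T)
    (J := RingHom.ker p) hker).symm).trans (HopfKer.quotKerEquiv p hp (J := RingHom.ker p) rfl)⟩⟩

variable (hC : Algebra.FiniteType R C) [Group.FG M]

include hC

/-- Over a local stage the kernel is the diagonalisable group seen on the closed fibre. -/
theorem exists_local [IsLocalRing T] :
    ∃ L : Subgroup M, (∀ l ∈ L, MonoidAlgebra.single l (1 : T) - 1 ∈ RingHom.ker (proj J e T)) ∧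
      ∀ c ∈ aug R C, mp (algebraMap S T) (e ((1 : S) ⊗ₜ φ c)) ∈
        RingHom.ker (MonoidAlgebra.mapDomainBialgHom T (QuotientGroup.mk' L)) := by
  classical
  let κ := IsLocalRing.ResidueField T
  letI : Algebra S κ := ((IsLocalRing.residue T).comp (algebraMap S T)).toAlgebra
  letI : Algebra R κ := ((IsLocalRing.residue T).comp (algebraMap R T)).toAlgebra
  haveI : IsScalarTower R S κ := IsScalarTower.of_algebraMap_eq fun r => by
    change IsLocalRing.residue T (algebraMap R T r) =
      IsLocalRing.residue T (algebraMap S T (algebraMap R S r))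
    rw [← IsScalarTower.algebraMap_apply]
  let res : T →+* κ := IsLocalRing.residue T
  have hres : res.comp (algebraMap S T) = algebraMap S κ := rfl
  let ψ := proj J e κ
  let L := SubgroupFibre.ptKer ψ
  let p := MonoidAlgebra.mapDomainBialgHom T (QuotientGroup.mk' L)
  -- the homomorphism kills the subgroup
  have h2 : ∀ c ∈ aug R C, mp (algebraMap S T) (e ((1 : S) ⊗ₜ φ c)) ∈ RingHom.ker p := by
    let F : T ⊗[R] C →ₐc[T] MonoidAlgebra T (M ⧸ L) :=
      p.comp (((Descend.chain e T) : T ⊗[R] A →ₐc[T] MonoidAlgebra T M).comp (mapBC T φ))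
    have hF : ∀ c, F ((1 : T) ⊗ₜ c) = p (mp (algebraMap S T) (e ((1 : S) ⊗ₜ φ c))) := fun c => by
      rw [← chain_one]
      rfl
    intro c hc
    rw [RingHom.mem_ker, ← hF]
    rw [LocalRigid.trivial_of_diag hC F ?_ c, show counit (R := R) c = 0 from hc, map_zero, map_zero]
    intro d m
    rw [← Ideal.Quotient.eq_zero_iff_mem]
    change res (cf m _) = 0
    rw [← cf_mp, map_sub, mp_algebraMap, hF, ← mapDomain_mp, mp_mp, hres]
    have hd : d - algebraMap R C (counit d) ∈ aug R C := by simp [RingHom.mem_ker]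
    have h3 := SubgroupFibre.ker_le_mapDomain ψ (RingHom.mem_ker.2 (proj_phi e κ hJ hd))
    rw [RingHom.mem_ker] at h3
    have h4 : (φ (algebraMap R C (counit d))) = algebraMap R A (counit d) := AlgHomClass.commutes φ _
    rw [map_sub φ, h4, TensorProduct.tmul_sub, map_sub, map_sub, map_sub] at h3
    have h5 : (1 : S) ⊗ₜ[R] algebraMap R A (counit d) =
        algebraMap S (S ⊗[R] A) (algebraMap R S (counit d)) := by
      rw [← Algebra.TensorProduct.includeRight_apply, AlgHom.commutes, ← IsScalarTower.algebraMap_apply]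
    rw [h5, AlgHomClass.commutes, mp_algebraMap, AlgHomClass.commutes, sub_eq_zero] at h3
    rw [h3, sub_eq_zero.2 ?_, map_zero]
    change algebraMap κ _ (res (algebraMap S T (algebraMap R S (counit d)))) = _
    rw [← IsScalarTower.algebraMap_apply]
  refine ⟨L, ?_, h2⟩
  let a := RingHom.ker (proj J e T)
  have hab : a ≤ RingHom.ker p := ker_proj_le e T hJ _ h2
  -- the retraction onto the ideal of the subgroup
  let s : MonoidAlgebra T (M ⧸ L) →ₗ[T] MonoidAlgebra T M :=
    (MonoidAlgebra.coeffLinearEquiv T).symm.toLinearMap ∘ₗ Finsupp.lmapDomain T T Quotient.out ∘ₗ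
      (MonoidAlgebra.coeffLinearEquiv T).toLinearMap
  have hs : ∀ x, p (s x) = x := by
    intro x
    induction x using MonoidAlgebra.induction_linear with
    | zero => simp
    | add u v hu hv => simp only [map_add, hu, hv]
    | single q r =>
      have : s (MonoidAlgebra.single q r) = MonoidAlgebra.single q.out r := by ext; simp [s]
      rw [this, MonoidAlgebra.mapDomainBialgHom_single]
      congr 1
      exact QuotientGroup.out_eq' q
  let r : MonoidAlgebra T M →ₗ[T] MonoidAlgebra T M :=
    LinearMap.id - s ∘ₗ (p : MonoidAlgebra T M →ₗ[T] MonoidAlgebra T (M ⧸ L))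
  let b : Submodule T (MonoidAlgebra T M) := (RingHom.ker p).restrictScalars T
  have hrb : LinearMap.range r ≤ b := by
    rintro _ ⟨x, rfl⟩
    change p (x - s (p x)) = 0
    rw [map_sub, hs, sub_self]
  have hr : ∀ x ∈ b, r x = x := fun x hx => by
    change x - s (p x) = x
    rw [show p x = 0 from hx, map_zero, sub_zero]
  have hretract : ∀ (P : Ideal T) (x α : MonoidAlgebra T M), x ∈ b → α ∈ a →
      x - α ∈ P • (⊤ : Submodule T (MonoidAlgebra T M)) → x - α ∈ P • b := by
    intro P x α hx hα h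
    have h' := Submodule.mem_map_of_mem (f := r) h
    rw [hr _ (sub_mem hx (show α ∈ b from hab hα)), Submodule.map_smul'', Submodule.map_top] at h'
    exact Submodule.smul_mono le_rfl hrb h'
  -- modulo the maximal ideal
  let m := IsLocalRing.maximalIdeal T
  have hsurj : Function.Surjective (mp res (M := M)) := by
    intro y
    induction y using MonoidAlgebra.induction_linear with
    | zero => exact ⟨0, map_zero _⟩
    | add u v hu hv =>
      obtain ⟨u', rfl⟩ := hu; obtain ⟨v', rfl⟩ := hv
      exact ⟨u' + v', map_add _ _ _⟩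
    | single q c =>
      obtain ⟨c', rfl⟩ := IsLocalRing.residue_surjective c
      exact ⟨MonoidAlgebra.single q c', by simp [mp, res]⟩
  have hclosed : RingHom.ker p ≤ a ⊔ RingHom.ker (mp res (M := M)) := by
    rw [ker_mapDomain, Ideal.span_le]
    rintro _ ⟨l, hl, rfl⟩
    have hl' : mp res (MonoidAlgebra.single l (1 : T) - 1) ∈ RingHom.ker ψ := by
      rw [mp_single_sub_one, RingHom.mem_ker, map_sub, map_one, sub_eq_zero]
      exact hl
    obtain ⟨α, hα, hαx⟩ := (Ideal.mem_map_iff_of_surjective _ hsurj).1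
      (mp_ker_proj e T hJ res hres hl')
    refine Submodule.mem_sup.2 ⟨α, hα, _, ?_, add_sub_cancel α _⟩
    rw [RingHom.mem_ker, map_sub, hαx, sub_self]
  have hres0 : ∀ x : MonoidAlgebra T M, mp res x = 0 → x ∈ m • (⊤ : Submodule T (MonoidAlgebra T M)) :=
    fun x hx => CoeffDescent.mem_smul_top_of_cf x fun q => by
      rw [← IsLocalRing.residue_eq_zero_iff]
      change res (cf q x) = 0
      rw [← cf_mp, hx, map_zero]
  -- torsion
  have htor : ∀ N : ℕ, 0 < N → RingHom.ker p ≤ a ⊔ torsionIdeal T (MonoidAlgebra T M) N := by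
    intro N hN
    let I := a ⊔ torsionIdeal T (MonoidAlgebra T M) N
    haveI : Module.Finite T (MonoidAlgebra T M ⧸ torsionIdeal T (MonoidAlgebra T M) N) :=
      finite_quotient_torsionIdeal (MonoidAlgebra.finiteType_iff_group_fg.2 inferInstance)
        (isMultType_of_const (isMultTypeConst_of_isDiag ⟨M, inferInstance, ⟨BialgEquiv.refl T (MonoidAlgebra T M)⟩⟩)) hN
    let π : MonoidAlgebra T M →ₗ[T] MonoidAlgebra T M ⧸ I := (Ideal.Quotient.mkₐ T I).toLinearMap
    let q₀ : MonoidAlgebra T M ⧸ torsionIdeal T (MonoidAlgebra T M) N →ₐ[T] MonoidAlgebra T M ⧸ I :=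
      Ideal.Quotient.factorₐ T le_sup_right
    haveI : Module.Finite T (MonoidAlgebra T M ⧸ I) :=
      Module.Finite.of_surjective q₀.toLinearMap (Ideal.Quotient.factor_surjective le_sup_right)
    have hfg : (b.map π).FG := by
      have hbm : b.map π = ((RingHom.ker p).map (Ideal.Quotient.mkₐ T I)).restrictScalars T := by
        ext y
        rw [Submodule.restrictScalars_mem,
          Ideal.mem_map_iff_of_surjective (Ideal.Quotient.mkₐ T I) Ideal.Quotient.mk_surjective,
          Submodule.mem_map]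
        rfl
      rw [hbm]
      have hfgI : ((RingHom.ker p).map (Ideal.Quotient.mkₐ T I)).FG := by
        obtain ⟨t, -, ht, -⟩ := exists_gens_ker_mapDomain (T := T) L
        exact Ideal.FG.map (ht ▸ Submodule.fg_span ((Finset.finite_toSet t).image _)) _
      exact Submodule.FG.restrictScalars hfgI
    have hle : b.map π ≤ ⊥ := by
      refine Submodule.le_of_le_smul_of_le_jacobson_bot (I := m) hfg
        (IsLocalRing.maximalIdeal_le_jacobson _) ?_
      rintro _ ⟨x, hx, rfl⟩
      obtain ⟨α, hα, β, hβ, hαβ⟩ := Submodule.mem_sup.1 (hclosed hx)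
      have hxα : x - α = β := by rw [← hαβ, add_sub_cancel_left]
      have h6 := Submodule.mem_map_of_mem (f := π) (hretract m x α hx hα (hxα ▸ hres0 β hβ))
      rw [Submodule.map_smul''] at h6
      refine Submodule.mem_sup_right ?_
      rwa [map_sub, show π α = 0 from Ideal.Quotient.eq_zero_iff_mem.2 (Ideal.mem_sup_left hα),
        sub_zero] at h6
    intro x hx
    exact Ideal.Quotient.eq_zero_iff_mem.1 ((Submodule.mem_bot T).1 (hle ⟨x, hx, rfl⟩))
  -- every fibre
  have hfib : ∀ (P : Ideal T) [P.IsPrime] (l : M), l ∈ L → ∃ f ∉ P,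
      algebraMap T _ f * (MonoidAlgebra.single l (1 : T) - 1) ∈
        a ⊔ P.map (algebraMap T (MonoidAlgebra T M)) := by
    intro P _ l hl
    let k := P.ResidueField
    letI : Algebra S k := ((algebraMap T k).comp (algebraMap S T)).toAlgebra
    letI : Algebra R k := ((algebraMap T k).comp (algebraMap R T)).toAlgebra
    haveI : IsScalarTower R S k := IsScalarTower.of_algebraMap_eq fun r => by
      change algebraMap T k (algebraMap R T r) = algebraMap T k (algebraMap S T (algebraMap R S r))
      rw [← IsScalarTower.algebraMap_apply R S T]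
    have hk : (algebraMap T k).comp (algebraMap S T) = algebraMap S k := rfl
    have hlp : MonoidAlgebra.single l (1 : T) - 1 ∈ RingHom.ker p := by
      rw [ker_mapDomain]
      exact Ideal.subset_span ⟨l, hl, rfl⟩
    have hlk : proj J e k (MonoidAlgebra.single l 1) = 1 := by
      refine SubgroupFibre.eq_one_of_forall_torsion _ fun N hN => ?_
      obtain ⟨α, hα, β, hβ, hαβ⟩ := Submodule.mem_sup.1 (htor N hN hlp)
      rw [← mp_single_sub_one (algebraMap T k), ← hαβ, map_add]
      exact Submodule.add_mem_sup (mp_ker_proj' e T hJ _ hk hα) (mp_torsion _ hβ)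
    have hmem : mp (algebraMap T k) (MonoidAlgebra.single l (1 : T) - 1) ∈
        a.map (mp (algebraMap T k)) := by
      refine mp_ker_proj e T hJ _ hk ?_
      rw [mp_single_sub_one, RingHom.mem_ker, map_sub, map_one, hlk, sub_self]
    let C' := MonoidAlgebra T M ⧸ a
    let θ : M →* k ⊗[T] C' :=
      { toFun := fun q => (1 : k) ⊗ₜ[T] Ideal.Quotient.mk a (MonoidAlgebra.single q 1)
        map_one' := by rw [← MonoidAlgebra.one_def, map_one]; rfl
        map_mul' := fun x y => by
          rw [Algebra.TensorProduct.tmul_mul_tmul, mul_one, ← map_mul,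
            MonoidAlgebra.single_mul_single, mul_one] }
    let ρ : MonoidAlgebra k M →ₐ[k] k ⊗[T] C' := MonoidAlgebra.lift k (k ⊗[T] C') M θ
    have hρ : ∀ x, ρ (mp (algebraMap T k) x) = (1 : k) ⊗ₜ[T] Ideal.Quotient.mk a x := by
      intro x
      induction x using MonoidAlgebra.induction_linear with
      | zero => simp
      | add u v hu hv => simp only [map_add, hu, hv, TensorProduct.tmul_add]
      | single q c =>
        have h7 : MonoidAlgebra.single q c = c • MonoidAlgebra.single q (1 : T) := by simp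
        rw [show mp (algebraMap T k) (MonoidAlgebra.single q c) =
          MonoidAlgebra.single q (algebraMap T k c) by simp [mp], MonoidAlgebra.lift_single, h7,
          show Ideal.Quotient.mk a (c • MonoidAlgebra.single q (1 : T)) =
            c • Ideal.Quotient.mk a (MonoidAlgebra.single q 1) from rfl,
          TensorProduct.tmul_smul, algebraMap_smul]
        rfl
    have h8 : (1 : k) ⊗ₜ[T] Ideal.Quotient.mk a (MonoidAlgebra.single l (1 : T) - 1) = 0 := by
      rw [← hρ]
      have : a.map (mp (algebraMap T k)) ≤ RingHom.ker ρ := Ideal.map_le_iff_le_comap.2 fun x hx => by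
        rw [Ideal.mem_comap, RingHom.mem_ker, hρ, Ideal.Quotient.eq_zero_iff_mem.2 hx,
          TensorProduct.tmul_zero]
      exact this hmem
    obtain ⟨f, hf, hf'⟩ := SubgroupFibre.exists_mul_mem_of_fibre P h8
    refine ⟨f, hf, ?_⟩
    rw [IsScalarTower.algebraMap_apply T (MonoidAlgebra T M) C', Ideal.Quotient.algebraMap_eq,
      ← map_mul, IsScalarTower.algebraMap_eq T (MonoidAlgebra T M) C', Ideal.Quotient.algebraMap_eq,
      ← Ideal.map_map, Ideal.mem_quotient_iff_mem_sup] at hf'
    rwa [sup_comm] at hf'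
  -- the local rings
  suffices hba : RingHom.ker p ≤ a by
    intro l hl
    refine hba ?_
    rw [ker_mapDomain]
    exact Ideal.subset_span ⟨l, hl, rfl⟩
  refine Ideal.le_of_localization_maximal fun Q hQ => ?_
  let AQ := Localization.AtPrime Q
  let ι := algebraMap (MonoidAlgebra T M) AQ
  obtain ⟨t, htL, hgen, -⟩ := exists_gens_ker_mapDomain (T := T) L
  let U := (Ideal.span ((fun l => MonoidAlgebra.single l (1 : T) - 1) '' (t : Set M))).map ι
  have hbU : (RingHom.ker p).map ι ≤ U := (Ideal.map_mono hgen.le)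
  have hUfg : U.FG := Ideal.FG.map (Submodule.fg_span ((Finset.finite_toSet t).image _)) _
  let P := Q.comap (algebraMap T (MonoidAlgebra T M))
  have hU : U ≤ a.map ι ⊔ IsLocalRing.maximalIdeal AQ • U := by
    refine Ideal.map_le_iff_le_comap.2 (Ideal.span_le.2 ?_)
    rintro _ ⟨l, hl, rfl⟩
    have hlL : l ∈ L := htL hl
    obtain ⟨f, hf, hfl⟩ := hfib P l hlL
    obtain ⟨α, hα, β, hβ, hαβ⟩ := Submodule.mem_sup.1 hfl
    have hlp : MonoidAlgebra.single l (1 : T) - 1 ∈ RingHom.ker p := by
      rw [ker_mapDomain]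
      exact Ideal.subset_span ⟨l, hlL, rfl⟩
    set x := algebraMap T _ f * (MonoidAlgebra.single l (1 : T) - 1)
    have hxb : x ∈ b := Ideal.mul_mem_left _ _ hlp
    have hβ' : x - α ∈ P • (⊤ : Submodule T (MonoidAlgebra T M)) := by
      rw [← hαβ, add_sub_cancel_left, Ideal.smul_top_eq_map]
      exact hβ
    have h9 : ι (x - α) ∈ IsLocalRing.maximalIdeal AQ • U := by
      refine Submodule.smul_induction_on (hretract P x α hxb hα hβ') (fun c hc y hy => ?_)
        fun y y' hy hy' => by rw [map_add]; exact add_mem hy hy'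
      rw [Algebra.smul_def, map_mul]
      exact Submodule.smul_mem_smul
        ((IsLocalization.AtPrime.to_map_mem_maximal_iff AQ Q _).2 hc) (hbU (Ideal.mem_map_of_mem _ hy))
    have hu : IsUnit (ι (algebraMap T _ f)) :=
      IsLocalization.map_units AQ (⟨algebraMap T _ f, hf⟩ : Q.primeCompl)
    rw [SetLike.mem_coe, Ideal.mem_comap]
    refine (Ideal.unit_mul_mem_iff_mem _ hu).1 ?_
    rw [← map_mul]
    change ι x ∈ _
    rw [← add_sub_cancel α x, map_add]
    exact Submodule.add_mem_sup (Ideal.mem_map_of_mem _ hα) h9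
  exact hbU.trans (Submodule.le_of_le_smul_of_le_jacobson_bot hUfg
    (IsLocalRing.maximalIdeal_le_jacobson _) hU)

include e

/-- Near a prime of the splitting ring the kernel is diagonalisable. -/
theorem exists_away (Q : Ideal S) [Q.IsPrime] :
    ∃ g : S, g ∉ Q ∧ IsDiag (Localization.Away g) (Localization.Away g ⊗[R] (A ⧸ J)) := by
  classical
  let T₀ := Localization.AtPrime Q
  obtain ⟨L, h1, h2⟩ := exists_local e T₀ hJ hC
  obtain ⟨t, htL, -, ht⟩ := exists_gens_ker_mapDomain (T := S) L
  obtain ⟨u, hu⟩ := fg_aug (R := R) (C := C) hC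
  let a₀ := RingHom.ker (proj J e S)
  have hS : (algebraMap S T₀).comp (algebraMap S S) = algebraMap S T₀ := rfl
  have hz : ∀ l : t, ∃ g ∈ Q.primeCompl, g • (MonoidAlgebra.single (l.1 : M) (1 : S) - 1) ∈ a₀ := by
    intro l
    refine exists_smul_mem (T := T₀) _ _ ?_
    refine mp_ker_proj e S hJ _ hS ?_
    rw [mp_single_sub_one]
    exact h1 _ (htL l.2)
  have hw : ∀ c : u, ∃ g ∈ Q.primeCompl,
      g • MonoidAlgebra.mapDomainBialgHom S (QuotientGroup.mk' L) (e ((1 : S) ⊗ₜ φ c.1)) = 0 := by
    intro c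
    refine exists_smul_eq_zero (T := T₀) _ ?_
    rw [← mapDomain_mp]
    exact h2 _ (hu ▸ Ideal.subset_span c.2)
  choose g₁ hg₁ hz using hz
  choose g₂ hg₂ hw using hw
  let g := (∏ l, g₁ l) * ∏ c, g₂ c
  refine ⟨g, Q.primeCompl.mul_mem (prod_mem fun l _ => hg₁ l) (prod_mem fun c _ => hg₂ c), ?_⟩
  let Sg := Localization.Away g
  have hug : ∀ x : S, x ∣ g → IsUnit (algebraMap S Sg x) := fun x hx =>
    isUnit_of_dvd_unit (map_dvd (algebraMap S Sg) hx) (IsLocalization.Away.algebraMap_isUnit g)
  have hS' : (algebraMap S Sg).comp (algebraMap S S) = algebraMap S Sg := rfl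
  refine isDiag_of_kernel e Sg hJ L (fun l hl => ?_) fun c hc => ?_
  · have hl' : l ∈ Subgroup.closure (t : Set M) := by rw [ht]; exact hl
    clear hl
    have key : l ∈ ptKer (proj J e Sg) := by
      refine (Subgroup.closure_le _).2 (fun x hx => ?_) hl'
      change proj J e Sg (MonoidAlgebra.single x 1) = 1
      have h3 := mp_ker_proj' e S hJ _ hS' (hz ⟨x, hx⟩)
      rw [Descend.mp_smul, mp_single_sub_one, RingHom.mem_ker, map_smul,
        (hug _ ((Finset.dvd_prod_of_mem _ (Finset.mem_univ _)).trans (dvd_mul_right _ _))).smul_eq_zero,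
        map_sub, map_one, sub_eq_zero] at h3
      exact h3
    rw [RingHom.mem_ker, map_sub, map_one, sub_eq_zero]
    exact key
  · let P := MonoidAlgebra.mapDomainBialgHom Sg (QuotientGroup.mk' L)
    let Φ : C →+* MonoidAlgebra Sg (M ⧸ L) :=
      (P : MonoidAlgebra Sg M →+* MonoidAlgebra Sg (M ⧸ L)).comp ((mp (algebraMap S Sg)).comp
        (((e : S ⊗[R] A →+* MonoidAlgebra S M).comp
          (Algebra.TensorProduct.includeRight : A →ₐ[R] S ⊗[R] A).toRingHom).comp
            (φ : C →+* A)))
    have hle : aug R C ≤ RingHom.ker Φ := by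
      rw [← hu, Ideal.span_le]
      intro c hc
      rw [SetLike.mem_coe, RingHom.mem_ker]
      change P (mp (algebraMap S Sg) (e ((1 : S) ⊗ₜ φ c))) = 0
      have h3 := congrArg (mp (algebraMap S Sg)) (hw ⟨c, hc⟩)
      rw [Descend.mp_smul, map_zero,
        (hug _ ((Finset.dvd_prod_of_mem _ (Finset.mem_univ _)).trans (dvd_mul_left _ _))).smul_eq_zero,
        ← mapDomain_mp] at h3
      exact h3
    exact hle hc

end Core

/-- The kernel of a homomorphism from a group of multiplicative type of finite type to an affine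
group of finite type is of multiplicative type. -/
theorem isMultType_kernel {R : Type u} [CommRing R] {A : Type u} [CommRing A] [HopfAlgebra R A]
    (hft : Algebra.FiniteType R A) (h : IsMultType R A) {C : Type u} [CommRing C] [HopfAlgebra R C]
    (hC : Algebra.FiniteType R C) (φ : C →ₐc[R] A) {J : Ideal A} [J.IsHopfIdeal R]
    (hJ : J = Ideal.map φ (aug R C)) : IsMultType R (A ⧸ J) := by
  classical
  obtain ⟨ι, _, S, _, _, hff, hd⟩ := exists_cover h
  haveI := hff
  choose M iM eM using hd
  have hloc : ∀ (i : ι) (Q : PrimeSpectrum (S i)), ∃ g : S i, g ∉ Q.asIdeal ∧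
      IsDiag (Localization.Away g) (Localization.Away g ⊗[R] (A ⧸ J)) := by
    intro i Q
    haveI : Nontrivial (S i) := (Ideal.Quotient.mk Q.asIdeal).domain_nontrivial
    haveI : Group.FG (M i) :=
      group_fg_of_finiteType (inferInstance : Algebra.FiniteType (S i) (S i ⊗[R] A)) (eM i).some
    exact exists_away (eM i).some hJ hC Q.asIdeal
  choose g hg hdg using hloc
  have hcov : ∀ i, ∃ t : Finset (PrimeSpectrum (S i)), ∀ Q : PrimeSpectrum (S i),
      ∃ P ∈ t, g i P ∉ Q.asIdeal := by
    intro i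
    obtain ⟨t, ht⟩ := isCompact_univ.elim_finite_subcover
      (fun P : PrimeSpectrum (S i) => (PrimeSpectrum.basicOpen (g i P) : Set (PrimeSpectrum (S i))))
      (fun P => PrimeSpectrum.isOpen_basicOpen) (fun Q _ => Set.mem_iUnion.2 ⟨Q, hg i Q⟩)
    refine ⟨t, fun Q => ?_⟩
    obtain ⟨P, hP, hPQ⟩ := Set.mem_iUnion₂.1 (ht (Set.mem_univ Q))
    exact ⟨P, hP, hPQ⟩
  choose t ht using hcov
  let κ := Σ i, t i
  let S' : κ → Type u := fun k => Localization.Away (g k.1 k.2.1)
  have hfl : ∀ i, Module.Flat R (S i) := fun i => by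
    refine Module.Flat.of_retract (M := ∀ i, S i) (LinearMap.single R S i) (LinearMap.proj i) ?_
    ext x
    exact Pi.single_eq_same i x
  haveI : ∀ k : κ, Module.Flat R (S' k) := fun k =>
    haveI := hfl k.1
    haveI : Module.Flat (S k.1) (S' k) :=
      IsLocalization.flat _ (Submonoid.powers (g k.1 k.2.1))
    Module.Flat.trans R (S k.1) (S' k)
  haveI : Module.Flat R (∀ k, S' k) :=
    Module.Flat.of_linearEquiv (DFinsupp.linearEquivFunOnFintype (R := R) (M := S')).symm
  refine CoverType.isMultType_of_cover S' (Module.FaithfullyFlat.of_comap_surjective fun p => ?_)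
    fun k => hdg k.1 k.2.1
  obtain ⟨Q, hQ⟩ := PrimeSpectrum.comap_surjective_of_faithfullyFlat (A := R) (B := ∀ i, S i) p
  obtain ⟨i, hi⟩ : ∃ i, (Pi.single i (1 : S i) : ∀ i, S i) ∉ Q.asIdeal := by
    by_contra! hall
    apply Q.2.ne_top
    rw [Ideal.eq_top_iff_one, ← Finset.univ_sum_single (1 : ∀ i, S i)]
    exact sum_mem fun i _ => hall i
  have hsurj : Function.Surjective (Pi.evalRingHom S i) := fun y =>
    ⟨(Pi.single i y : ∀ i, S i), Pi.single_eq_same (M := S) i y⟩
  have hle : RingHom.ker (Pi.evalRingHom S i) ≤ Q.asIdeal := fun x hx => by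
    refine (Q.2.mem_or_mem ?_).resolve_right hi
    rw [show x * (Pi.single i (1 : S i) : ∀ i, S i) = 0 from ?_]
    · exact Q.asIdeal.zero_mem
    funext k
    rcases eq_or_ne k i with rfl | hk
    · rw [Pi.mul_apply, show x k = 0 from hx, zero_mul, Pi.zero_apply]
    · rw [Pi.mul_apply, Pi.single_eq_of_ne hk, mul_zero, Pi.zero_apply]
  haveI := Ideal.map_isPrime_of_surjective hsurj hle
  let Qi : PrimeSpectrum (S i) := ⟨Q.asIdeal.map (Pi.evalRingHom S i), inferInstance⟩
  obtain ⟨P, hP, hPQ⟩ := ht i Qi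
  let k : κ := ⟨i, P, hP⟩
  obtain ⟨W, hW⟩ : Qi ∈ Set.range (PrimeSpectrum.comap (algebraMap (S i) (S' k))) := by
    rw [PrimeSpectrum.localization_away_comap_range (S' k) (g i P)]
    exact hPQ
  refine ⟨PrimeSpectrum.comap (Pi.evalRingHom S' k) W, ?_⟩
  rw [← PrimeSpectrum.comap_comp_apply,
    show (Pi.evalRingHom S' k).comp (algebraMap R (∀ k, S' k)) = algebraMap R (S' k) from rfl,
    IsScalarTower.algebraMap_eq R (S i) (S' k), PrimeSpectrum.comap_comp_apply, hW, ← hQ]
  refine PrimeSpectrum.ext ?_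
  change (Q.asIdeal.map (Pi.evalRingHom S i)).comap (algebraMap R (S i)) =
    Q.asIdeal.comap (algebraMap R (∀ i, S i))
  have h1 : (Q.asIdeal.map (Pi.evalRingHom S i)).comap (Pi.evalRingHom S i) = Q.asIdeal := by
    rw [Ideal.comap_map_of_surjective _ hsurj, ← RingHom.ker_eq_comap_bot, sup_eq_left.2 hle]
  conv_rhs => rw [← h1, Ideal.comap_comap]
  rfl

end Groth.Sga3.KernelType
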