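import Groth.Agent.Sga3.AdicCrit
import Mathlib

/-!
An open and closed subgroup containing all points of finite order of a commutative group, of
multiplicative type, is everything.
-/

set_option autoImplicit false

universe u

open TensorProduct Coalgebra WithConv

noncomputable section

namespace Groth.Sga3.AdicTorsion

open SGA3b MultType GroupAlg

/-- a power of a point, as a function -/
theorem point_pow {A : Type u} [CommRing A] {C : Type u} [CommRing C] [HopfAlgebra A C] (K : Type u)
    [CommRing K] [Algebra A K] (g : K ⊗[A] C →ₐ[K] K) (n : ℕ) (c : C) :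
    (toConv g ^ n) ((1 : K) ⊗ₜ[A] c) = g ((1 : K) ⊗ₜ[A] powConv A C n c) := by
  induction n generalizing c with
  | zero =>
    rw [pow_zero, AlgHom.convOne_apply, powConv_zero, TensorProduct.counit_tmul,
      show (1 : K) ⊗ₜ[A] algebraMap A C (counit (R := A) c) =
          algebraMap K (K ⊗[A] C) (algebraMap A K (counit (R := A) c)) by
        rw [← Algebra.TensorProduct.includeRight_apply, AlgHom.commutes,
          Algebra.TensorProduct.algebraMap_apply, Algebra.TensorProduct.algebraMap_apply]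
        rfl,
      AlgHom.commutes, CommSemiring.counit_apply, Algebra.smul_def, mul_one]
  | succ n ih =>
    rw [pow_succ, AlgHom.convMul_apply, powConv_succ, TensorProduct.comul_tmul,
      CommSemiring.comul_apply, Bialgebra.comulAlgHom_apply]
    generalize comul (R := A) c = t
    induction t using TensorProduct.induction_on with
    | zero => simp
    | add p q hp hq => simp only [map_add, TensorProduct.tmul_add, hp, hq]
    | tmul a b =>
      simp only [TensorProduct.AlgebraTensorModule.tensorTensorTensorComm_tmul,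
        Algebra.TensorProduct.lift_tmul, Algebra.TensorProduct.map_tmul,
        Algebra.TensorProduct.lmul'_apply_tmul, AlgHom.id_apply]
      change (toConv g ^ n) ((1 : K) ⊗ₜ[A] a) * g ((1 : K) ⊗ₜ[A] b) = _
      rw [ih, ← map_mul, Algebra.TensorProduct.tmul_mul_tmul, mul_one]

theorem mem_torsionIdeal {A : Type u} [CommRing A] [IsNoetherianRing A] {C : Type u} [CommRing C]
    [HopfAlgebra A C] (I : Ideal A) [IsAdicComplete I A] {n : ℕ}
    [Module.Finite A (C ⧸ torsionIdeal A C n)] {e : C} (hid : IsIdempotentElem e)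
    (he : e ∈ I.map (algebraMap A C)) : e ∈ torsionIdeal A C n := by
  rw [← Ideal.Quotient.eq_zero_iff_mem]
  haveI : IsHausdorff I (C ⧸ torsionIdeal A C n) :=
    IsHausdorff.of_le_jacobson I _ (IsAdicComplete.le_jacobson_bot I)
  refine IsHausdorff.haus (I := I) inferInstance _ fun k => ?_
  rw [SModEq.zero, Ideal.smul_top_eq_map, Submodule.restrictScalars_mem]
  rcases k with _ | k
  · rw [pow_zero, Ideal.one_eq_top, Ideal.map_top]; trivial
  rw [← hid.pow_succ_eq k, map_pow, Ideal.map_pow]
  refine Ideal.pow_mem_pow ?_ _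
  have h1 := Ideal.mem_map_of_mem (Ideal.Quotient.mk (torsionIdeal A C n)) he
  rwa [Ideal.map_map] at h1

section Field

variable {K : Type u} [Field K] [IsAlgClosed K]

/-- nonzero idempotents are detected by points -/
theorem eq_zero_of_points {D : Type u} [CommRing D] [Algebra K D] [Algebra.FiniteType K D] {e : D}
    (he : IsIdempotentElem e) (h : ∀ g : D →ₐ[K] K, g e = 0) : e = 0 := by
  by_contra hne
  have hnj : e ∉ Ideal.jacobson (⊥ : Ideal D) := fun hj => by
    have hu := Ideal.mem_jacobson_bot.1 hj (-1)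
    rw [mul_neg_one, neg_add_eq_sub] at hu
    exact hne (hu.mul_right_eq_zero.1 he.one_sub_mul_self)
  rw [Ideal.jacobson, Submodule.mem_sInf] at hnj
  push Not at hnj
  obtain ⟨P, ⟨-, hP⟩, heP⟩ := hnj
  haveI := hP
  letI : Field (D ⧸ P) := Ideal.Quotient.field P
  haveI : Module.Finite K (D ⧸ P) := finite_of_finite_type_of_isJacobsonRing K (D ⧸ P)
  haveI : Algebra.IsIntegral K (D ⧸ P) := Algebra.IsIntegral.of_finite K _
  have hb := IsAlgClosed.algebraMap_bijective_of_isIntegral (k := K) (K := D ⧸ P)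
  let ε : K ≃ₐ[K] (D ⧸ P) := AlgEquiv.ofBijective (Algebra.ofId K _) hb
  have h1 := h ((ε.symm : (D ⧸ P) →ₐ[K] K).comp (Ideal.Quotient.mkₐ K P))
  rw [AlgHom.comp_apply] at h1
  have h2 : Ideal.Quotient.mkₐ K P e = 0 :=
    ε.symm.injective (h1.trans (map_zero ε.symm).symm)
  exact heP (Ideal.Quotient.eq_zero_iff_mem.1 h2)

theorem exists_root {M : Type u} [CommGroup M] [Group.FG M] (χ : M →* Kˣ) {N : ℕ} (hN : 0 < N) :
    ∃ (d : ℕ) (ψ : M →* Kˣ), 0 < d ∧ ∀ m, ψ m ^ (N * d) = χ m ^ d := by
  haveI : Module.Finite ℤ (Additive M) := Module.Finite.iff_addGroup_fg.2 inferInstance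
  let T := Submodule.torsion ℤ (Additive M)
  haveI : Finite T := Module.finite_of_fg_torsion T Submodule.torsion_isTorsion
  let d := Nat.card T
  have hd : 0 < d := Nat.card_pos
  let p : M →* M := powMonoidHom (N * d)
  have hk : p.ker ≤ ((powMonoidHom d).comp χ).ker := by
    intro x hx
    have hx' : x ^ (N * d) = 1 := hx
    have hxt : Additive.ofMul x ∈ T := by
      refine (Submodule.mem_torsion_iff _).2 ⟨⟨((N * d : ℕ) : ℤ), mem_nonZeroDivisors_of_ne_zero
        (Nat.cast_ne_zero.2 (Nat.mul_pos hN hd).ne')⟩, ?_⟩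
      change ((N * d : ℕ) : ℤ) • Additive.ofMul x = 0
      rw [natCast_zsmul, ← ofMul_pow, hx', ofMul_one]
    have h0 : d • (⟨Additive.ofMul x, hxt⟩ : T) = 0 := card_nsmul_eq_zero'
    have h1 : x ^ d = 1 := Additive.ofMul.injective (by simpa using congrArg Subtype.val h0)
    change χ x ^ d = 1
    rw [← map_pow, h1, map_one]
  letI : DivisibleBy (Additive Kˣ) ℕ := divisibleByOfSMulRightSurj _ _ fun {n} hn a => by
    obtain ⟨z, hz⟩ := IsAlgClosed.exists_pow_nat_eq ((Additive.toMul a : Kˣ) : K) (Nat.pos_of_ne_zero hn)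
    have hz0 : z ≠ 0 := fun h0 => (Additive.toMul a).ne_zero (by rw [← hz, h0, zero_pow hn])
    exact ⟨Additive.ofMul (Units.mk0 z hz0), Additive.toMul.injective (Units.ext (by simpa using hz))⟩
  letI : DivisibleBy (Additive Kˣ) ℤ := AddGroup.divisibleByIntOfDivisibleByNat _
  let q : M ⧸ p.ker →* M := QuotientGroup.kerLift p
  let g : M ⧸ p.ker →* Kˣ := QuotientGroup.lift p.ker ((powMonoidHom d).comp χ) hk
  obtain ⟨ψ, hψ⟩ := (Module.Baer.of_divisible (Additive Kˣ)).extension_property_addMonoidHom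
    (MonoidHom.toAdditive q) (QuotientGroup.kerLift_injective p) (MonoidHom.toAdditive g)
  refine ⟨d, MonoidHom.toAdditive.symm ψ, hd, fun m => ?_⟩
  have h1 := DFunLike.congr_fun hψ (Additive.ofMul (QuotientGroup.mk m))
  rw [← map_pow]
  exact Additive.ofMul.injective h1

/-- The main argument, over an algebraically closed field. -/
theorem eq_zero_of_torsion {D : Type u} [CommRing D] [HopfAlgebra K D] [Coalgebra.IsCocomm K D]
    [Algebra.FiniteType K D] {M : Type u} [CommGroup M] (f : D →ₐc[K] MonoidAlgebra K M)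
    (hf : Function.Surjective f) {e : D} (hid : IsIdempotentElem e)
    (hker : RingHom.ker f = Ideal.span {e})
    (htor : ∀ g : D →ₐ[K] K, ∀ n : ℕ, 0 < n → toConv g ^ n = 1 → g e = 0) : e = 0 := by
  haveI : Algebra.FiniteType K (MonoidAlgebra K M) :=
    Algebra.FiniteType.of_surjective (f : D →ₐ[K] MonoidAlgebra K M) hf
  haveI : Group.FG M := Group.fg_iff_monoid_fg.2 (MonoidAlgebra.finiteType_iff_fg.1 ‹_›)
  haveI : IsNoetherianRing D := Algebra.FiniteType.isNoetherianRing K D
  -- points of the subgroup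
  let ι : WithConv (MonoidAlgebra K M →ₐ[K] K) →* WithConv (D →ₐ[K] K) :=
    { toFun := fun a => toConv ((ofConv a).comp (f : D →ₐ[K] MonoidAlgebra K M))
      map_one' := by
        apply WithConv.ofConv_injective
        refine AlgHom.ext fun x => ?_
        change (1 : WithConv (MonoidAlgebra K M →ₐ[K] K)) (f x) = (1 : WithConv (D →ₐ[K] K)) x
        rw [AlgHom.convOne_apply, AlgHom.convOne_apply, CoalgHomClass.counit_comp_apply]
      map_mul' := fun a b => congrArg toConv (AlgHom.convMul_comp_bialgHom_distrib a b f) }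
  have hι : ∀ a, ι a e = 0 := fun a => by
    have h1 : f e = 0 := by
      have : e ∈ RingHom.ker f := hker ▸ Ideal.mem_span_singleton_self e
      exact this
    change ofConv a (f e) = 0
    rw [h1, map_zero]
  have hmemι : ∀ g : WithConv (D →ₐ[K] K), g e = 0 → ∃ a, ι a = g := by
    intro g hg
    have hle : RingHom.ker (f : D →ₐ[K] MonoidAlgebra K M) ≤ RingHom.ker (ofConv g) := by
      change RingHom.ker f ≤ _
      rw [hker, Ideal.span_le, Set.singleton_subset_iff]
      exact hg
    refine ⟨toConv (AlgHom.liftOfSurjective (f : D →ₐ[K] MonoidAlgebra K M) hf (ofConv g) hle),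
      WithConv.ofConv_injective (AlgHom.ext fun x => ?_)⟩
    change AlgHom.liftOfSurjective (f : D →ₐ[K] MonoidAlgebra K M) hf (ofConv g) hle
      ((f : D →ₐ[K] MonoidAlgebra K M) x) = _
    exact AlgHom.liftOfSurjective_apply _ _ _ _ x
  have h01 : ∀ g : WithConv (D →ₐ[K] K), g e = 0 ∨ g e = 1 := fun g =>
    IsIdempotentElem.iff_eq_zero_or_one.1 (hid.map (ofConv g))
  refine eq_zero_of_points (K := K) hid fun g₀ => ?_
  let g := toConv (g₀ : D →ₐ[K] K)
  change g e = 0
  -- a power lies in the subgroup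
  obtain ⟨N, hN, hgN⟩ : ∃ N : ℕ, 0 < N ∧ (g ^ N) e = 0 := by
    by_contra hne
    push Not at hne
    let u : ℕ → D := fun i => OpenSubgroup.tr (ofConv (g ^ i)) (1 - e)
    have hu : ∀ i (y : D →ₐ[K] K), y (u i) = 1 - (g ^ i * toConv y) e := by
      intro i y
      rw [OpenSubgroup.point_tr, map_sub, map_one]
    have horth : ∀ i j, i < j → u i * u j = 0 := by
      intro i j hij
      refine eq_zero_of_points (K := K) ((hid.one_sub.map _).mul (hid.one_sub.map _)) fun y => ?_
      change y (u i * u j) = 0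
      rw [map_mul, hu, hu]
      rcases h01 (g ^ i * toConv y) with h | h
      swap
      · rw [h, sub_self, zero_mul]
      rcases h01 (g ^ j * toConv y) with h' | h'
      swap
      · rw [h', sub_self, mul_zero]
      obtain ⟨a, ha⟩ := hmemι _ h
      obtain ⟨b, hb⟩ := hmemι _ h'
      have h1 : g ^ (j - i) * ι a = ι b := by
        rw [ha, hb, ← mul_assoc, ← pow_add, Nat.sub_add_cancel hij.le]
      have h2 : g ^ (j - i) = ι (b * a⁻¹) := by
        rw [map_mul, ← h1, mul_assoc, ← map_mul, mul_inv_cancel, map_one, mul_one]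
      exact absurd (h2 ▸ hι _) (hne (j - i) (by omega))
    have hnz : ∀ i, u i ≠ 0 := by
      intro i h
      have h1 := hu i (ofConv ((g ^ i)⁻¹))
      rw [h, map_zero, WithConv.toConv_ofConv, mul_inv_cancel] at h1
      have h2 : (1 : WithConv (D →ₐ[K] K)) e = 0 := by rw [← map_one ι]; exact hι 1
      rw [h2, sub_zero] at h1
      exact zero_ne_one h1
    obtain ⟨n, hn⟩ := monotone_stabilizes_iff_noetherian.2 (inferInstance : IsNoetherian D D)
      ⟨fun n => Ideal.span (u '' Set.Iic n), fun a b hab =>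
        Ideal.span_mono (Set.image_mono (Set.Iic_subset_Iic.2 hab))⟩
    have h1 : u (n + 1) ∈ Ideal.span (u '' Set.Iic n) := by
      rw [show Ideal.span (u '' Set.Iic n) = Ideal.span (u '' Set.Iic (n + 1)) from hn (n + 1) n.le_succ]
      exact Ideal.subset_span ⟨n + 1, Set.mem_Iic.2 le_rfl, rfl⟩
    have h2 : u (n + 1) * u (n + 1) = 0 := by
      refine Submodule.span_induction (p := fun z _ => z * u (n + 1) = 0) ?_ (zero_mul _)
        (fun a b _ _ ha hb => by rw [add_mul, ha, hb, add_zero])
        (fun a b _ hb => by rw [smul_eq_mul, mul_assoc, hb, mul_zero]) h1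
      rintro _ ⟨i, hi, rfl⟩
      exact horth i (n + 1) (Nat.lt_succ_of_le hi)
    exact hnz (n + 1) ((hid.one_sub.map _).eq.symm.trans h2)
  obtain ⟨a, ha⟩ := hmemι _ hgN
  -- divide
  let χ : M →* Kˣ := ((ofConv a).toMonoidHom.comp (MonoidAlgebra.of K M)).toHomUnits
  obtain ⟨d, ψ, hd, hψ⟩ := exists_root χ hN
  let pt : (M →* Kˣ) → WithConv (MonoidAlgebra K M →ₐ[K] K) := fun θ =>
    toConv (MonoidAlgebra.lift K K M ((Units.coeHom K).comp θ))
  have hpt : ∀ θ m, pt θ (MonoidAlgebra.single m 1) = (θ m : K) := fun θ m => by simp [pt]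
  have hext : ∀ a b : WithConv (MonoidAlgebra K M →ₐ[K] K),
      (∀ m, a (MonoidAlgebra.single m 1) = b (MonoidAlgebra.single m 1)) → a = b := fun a b h =>
    WithConv.ofConv_injective (by ext m; exact h m)
  have hmulpt : ∀ (a b : WithConv (MonoidAlgebra K M →ₐ[K] K)) m,
      (a * b) (MonoidAlgebra.single m 1) = a (MonoidAlgebra.single m 1) * b (MonoidAlgebra.single m 1) := by
    intro a b m
    rw [AlgHom.convMul_apply, (MonoidAlgebra.isGroupLikeElem_single_one m).comul_eq_tmul_self,
      Algebra.TensorProduct.lift_tmul]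
  have hpowpt : ∀ (a : WithConv (MonoidAlgebra K M →ₐ[K] K)) (k : ℕ) m,
      (a ^ k) (MonoidAlgebra.single m 1) = a (MonoidAlgebra.single m 1) ^ k := by
    intro a k m
    induction k with
    | zero =>
      rw [pow_zero, pow_zero, AlgHom.convOne_apply,
        (MonoidAlgebra.isGroupLikeElem_single_one m).counit_eq_one, map_one]
    | succ k ih => rw [pow_succ, pow_succ, hmulpt, ih]
  let b := pt ψ
  have hab : b ^ (N * d) = a ^ d := hext _ _ fun m => by
    rw [hpowpt, hpowpt, hpt, ← Units.val_pow_eq_pow_val, hψ]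
    rfl
  have hx : g * ι b⁻¹ ∈ {x : WithConv (D →ₐ[K] K) | x ^ (N * d) = 1} := by
    change (g * ι b⁻¹) ^ (N * d) = 1
    rw [mul_pow, pow_mul g, ← ha, ← map_pow, ← map_pow, ← map_mul, inv_pow, hab, mul_inv_cancel,
      map_one]
  obtain ⟨c, hc⟩ := hmemι _ (htor (ofConv (g * ι b⁻¹)) _ (Nat.mul_pos hN hd) hx)
  have hgb : g = ι (c * b) := by
    rw [map_mul, hc, mul_assoc, ← map_mul, inv_mul_cancel, map_one, mul_one]
  rw [hgb]
  exact hι _

end Field

/-- The subgroup is everything. -/
theorem eq_zero_of_torsion_finite {A : Type u} [CommRing A] [IsNoetherianRing A] (I : Ideal A)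
    [IsAdicComplete I A] {C : Type u} [CommRing C] [HopfAlgebra A C] [Coalgebra.IsCocomm A C]
    (hft : Algebra.FiniteType A C)
    (hfin : ∀ n : ℕ, 0 < n → Module.Finite A (C ⧸ torsionIdeal A C n))
    {A₁ : Type u} [CommRing A₁] [HopfAlgebra A A₁] (hA₁ : IsIsotrivial A A₁) (f : C →ₐc[A] A₁)
    (hs : Function.Surjective f) {e : C} (hid : IsIdempotentElem e)
    (he : RingHom.ker f = Ideal.span {e}) (heI : e ∈ I.map (algebraMap A C)) : e = 0 := by
  refine hid.eq_zero_of_isNilpotent ?_
  rw [← mem_nilradical, nilradical_eq_sInf, Ideal.mem_sInf]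
  intro Q hQ
  haveI : Q.IsPrime := hQ
  let K := AlgebraicClosure Q.ResidueField
  let g₀ : C →ₐ[A] K := IsScalarTower.toAlgHom A C K
  obtain ⟨S, _, _, _, hfinS, hffS, M, _, ⟨γ⟩⟩ := hA₁
  -- a point of the splitting ring
  let T := K ⊗[A] S
  haveI : Nontrivial T := (FaithfulSMul.algebraMap_injective K T).nontrivial
  obtain ⟨P, hP⟩ := Ideal.exists_maximal T
  letI : Field (T ⧸ P) := Ideal.Quotient.field P
  haveI : Module.Finite K (T ⧸ P) := Module.Finite.trans T (T ⧸ P)
  haveI : Algebra.IsIntegral K (T ⧸ P) := Algebra.IsIntegral.of_finite K _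
  let ε : K ≃ₐ[K] (T ⧸ P) := AlgEquiv.ofBijective (Algebra.ofId K _)
    (IsAlgClosed.algebraMap_bijective_of_isIntegral (k := K) (K := T ⧸ P))
  let σ : S →ₐ[A] K := ((ε.symm : (T ⧸ P) →ₐ[K] K).comp (Ideal.Quotient.mkₐ K P)).restrictScalars A
    |>.comp Algebra.TensorProduct.includeRight
  let : Algebra S K := σ.toRingHom.toAlgebra
  haveI : IsScalarTower A S K := IsScalarTower.of_algebraMap_eq fun r => (σ.commutes r).symm
  let E : K ⊗[A] A₁ ≃ₐc[K] MonoidAlgebra K M :=
    (cancelBC A S K A₁).symm.trans ((congrBC K γ).trans (monAlgBC S K M))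
  let F : K ⊗[A] C →ₐc[K] MonoidAlgebra K M :=
    (E : K ⊗[A] A₁ →ₐc[K] MonoidAlgebra K M).comp (mapBC K f)
  have hmap : ∀ x, mapBC K f x = Algebra.TensorProduct.map (AlgHom.id A K) (f : C →ₐ[A] A₁) x := by
    intro x
    induction x using TensorProduct.induction_on with
    | zero => simp
    | add p q hp hq => simp only [map_add, hp, hq]
    | tmul t c => rfl
  have hF : Function.Surjective F := fun y => by
    obtain ⟨x, hx⟩ := LinearMap.lTensor_surjective K (g := (f : C →ₗ[A] A₁)) hs (E.symm y)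
    refine ⟨x, ?_⟩
    change E (mapBC K f x) = y
    rw [hmap x]
    exact (congrArg E hx).trans (E.apply_symm_apply y)
  have hker : RingHom.ker F = Ideal.span {(1 : K) ⊗ₜ[A] e} := by
    have h1 := Algebra.TensorProduct.lTensor_ker (A := K) (f : C →ₐ[A] A₁) hs
    rw [show RingHom.ker (f : C →ₐ[A] A₁) = Ideal.span {e} from he, Ideal.map_span,
      Set.image_singleton] at h1
    refine le_antisymm (fun x hx => ?_) ?_
    · refine h1.le ?_
      change Algebra.TensorProduct.map _ (f : C →ₐ[A] A₁) x = 0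
      rw [← hmap]
      refine EquivLike.injective E ?_
      exact (show E (mapBC K f x) = 0 from hx).trans (map_zero E).symm
    · rw [Ideal.span_le, Set.singleton_subset_iff]
      have : e ∈ RingHom.ker f := he ▸ Ideal.mem_span_singleton_self e
      change E (mapBC K f ((1 : K) ⊗ₜ[A] e)) = 0
      rw [mapBC_tmul, show f e = 0 from this, TensorProduct.tmul_zero, map_zero]
  have htor : ∀ g : K ⊗[A] C →ₐ[K] K, ∀ n : ℕ, 0 < n → toConv g ^ n = 1 →
      g ((1 : K) ⊗ₜ[A] e) = 0 := by
    intro g n hn hgn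
    haveI := hfin n hn
    let gA : C →ₐ[A] K := (g.restrictScalars A).comp Algebra.TensorProduct.includeRight
    suffices torsionIdeal A C n ≤ RingHom.ker gA from this (mem_torsionIdeal I hid heI)
    refine Ideal.map_le_iff_le_comap.2 fun x hx => ?_
    change g ((1 : K) ⊗ₜ[A] powConv A C n x) = 0
    rw [← point_pow, hgn, AlgHom.convOne_apply, TensorProduct.counit_tmul,
      show counit (R := A) x = 0 from hx, zero_smul, map_zero]
  have h0 := eq_zero_of_torsion F hF
    (hid.map (Algebra.TensorProduct.includeRight : C →ₐ[A] K ⊗[A] C)) hker htor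
  have h1 := congrArg (Algebra.TensorProduct.lift (AlgHom.id A K) g₀ (fun _ _ => .all _ _)) h0
  rw [map_zero, Algebra.TensorProduct.includeRight_apply] at h1
  simp only [Algebra.TensorProduct.lift_tmul, AlgHom.id_apply, one_mul, g₀,
    IsScalarTower.coe_toAlgHom'] at h1
  rw [IsScalarTower.algebraMap_apply C Q.ResidueField K,
    map_eq_zero_iff _ (algebraMap Q.ResidueField K).injective] at h1
  exact Ideal.algebraMap_residueField_eq_zero.1 h1

end Groth.Sga3.AdicTorsion
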