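import Groth.Agent.Sga3.HomLift
import Groth.Agent.Sga3.Descend
import Groth.Agent.Hensel1.QFSplit
import Mathlib.RingTheory.Unramified.LocalStructure
import Mathlib.RingTheory.Unramified.LocalRing

/-!
Coefficients of a homomorphism into a diagonalisable group over an algebra with the same residue
field as a henselian ring belong to the henselian ring.
-/

set_option autoImplicit false

universe u

open TensorProduct IsLocalRing Coalgebra

noncomputable section

namespace Groth.Sga3.CoeffDescent

open SGA3b MultType GroupAlg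
open Groth.Sga3.Descend (mp cf_mp mp_injective)

section Pairing

variable {R : Type u} [CommRing R] {M : Type u} [CommGroup M]

/-- the coefficient pairing on a tensor square of group algebras -/
def cp (R : Type u) [CommRing R] {M : Type u} [CommGroup M] (m n : M) :
    MonoidAlgebra R M ⊗[R] MonoidAlgebra R M →ₗ[R] R :=
  TensorProduct.lift ((LinearMap.mul R R).compl₁₂ (cf m) (cf n))

theorem cp_tmul (m n : M) (x y : MonoidAlgebra R M) : cp R m n (x ⊗ₜ y) = cf m x * cf n y := rfl

theorem cp_ext {z w : MonoidAlgebra R M ⊗[R] MonoidAlgebra R M}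
    (h : ∀ m n, cp R m n z = cp R m n w) : z = w := by
  let b : MonoidAlgebra R M ≃ₗ[R] (M →₀ R) := MonoidAlgebra.coeffLinearEquiv R
  let e := (TensorProduct.congr b b).trans (finsuppTensorFinsupp' R M M)
  have he : ∀ (z : MonoidAlgebra R M ⊗[R] MonoidAlgebra R M) (m n : M), e z (m, n) = cp R m n z := by
    intro z m n
    induction z using TensorProduct.induction_on with
    | zero => simp
    | add p q hp hq => simp [map_add, hp, hq]
    | tmul x y =>
      rw [cp_tmul]
      exact finsuppTensorFinsupp'_apply_apply R _ _ _ _ _ _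
  exact e.injective (Finsupp.ext fun ⟨m, n⟩ => by rw [he, he, h])

theorem cp_comul [DecidableEq M] (m n : M) (x : MonoidAlgebra R M) :
    cp R m n (comul (R := R) x) = if m = n then cf m x else 0 := by
  induction x using MonoidAlgebra.induction_linear with
  | zero => simp
  | add p q hp hq => simp only [map_add, hp, hq]; split_ifs <;> simp
  | single a r =>
    rw [show MonoidAlgebra.single a r = r • MonoidAlgebra.single a (1 : R) by simp, map_smul,
      (MonoidAlgebra.isGroupLikeElem_single_one a).comul_eq_tmul_self, map_smul, cp_tmul,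
      map_smul]
    simp only [cf_single, smul_eq_mul]
    rcases eq_or_ne m n with rfl | hmn
    · by_cases ha : a = m <;> simp [ha]
    · by_cases ha : a = m <;> simp [ha, hmn]

end Pairing

section Transfer

variable {L : Type u} [CommRing L] {C : Type u} [CommRing C] [Bialgebra L C] {M : Type u}
  [CommGroup M] {P T : Type u} [CommRing P] [Algebra L P] [CommRing T] [Algebra L T]

theorem counit_mp (f : P →+* T) (x : MonoidAlgebra P M) :
    counit (R := T) (mp f x) = f (counit (R := P) x) := by
  induction x using MonoidAlgebra.induction_linear with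
  | zero => simp
  | add p q hp hq => simp only [map_add, hp, hq]
  | single a r => simp [mp]

theorem cp_map_tmul (F : P ⊗[L] C →ₐ[P] MonoidAlgebra P M) (m n : M) (a b : C) :
    cp P m n (Algebra.TensorProduct.map F F
      (TensorProduct.AlgebraTensorModule.tensorTensorTensorComm L P L P P P C C
        (((1 : P) ⊗ₜ[P] (1 : P)) ⊗ₜ[L] (a ⊗ₜ[L] b)))) =
      cf m (F ((1 : P) ⊗ₜ a)) * cf n (F ((1 : P) ⊗ₜ b)) := by
  rw [TensorProduct.AlgebraTensorModule.tensorTensorTensorComm_tmul, Algebra.TensorProduct.map_tmul,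
    cp_tmul]

/-- An algebra map which becomes a bialgebra map after an injective change of coefficients is one. -/
theorem exists_bialgHom_of_injective (ι : P →ₐ[L] T) (hι : Function.Injective ι)
    (f : C →ₐ[L] MonoidAlgebra P M) (g : T ⊗[L] C →ₐc[T] MonoidAlgebra T M)
    (h : ∀ c, mp ι.toRingHom (f c) = g ((1 : T) ⊗ₜ c)) :
    ∃ ψ : P ⊗[L] C →ₐc[P] MonoidAlgebra P M, ∀ c, ψ ((1 : P) ⊗ₜ c) = f c := by
  classical
  let F : P ⊗[L] C →ₐ[P] MonoidAlgebra P M :=
    Algebra.TensorProduct.lift (Algebra.ofId P _) f (fun _ _ => Commute.all _ _)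
  have hF : ∀ c, F ((1 : P) ⊗ₜ[L] c) = f c := fun c => by simp [F, ← MonoidAlgebra.one_def]
  refine ⟨BialgHom.ofAlgHom F ?_ ?_, hF⟩
  · refine Algebra.TensorProduct.ext (Subsingleton.elim _ _) (AlgHom.ext fun c => ?_)
    simp only [AlgHom.comp_apply, AlgHom.restrictScalars_apply,
      Algebra.TensorProduct.includeRight_apply, Bialgebra.counitAlgHom_apply, hF]
    refine hι ?_
    refine ((counit_mp ι.toRingHom (f c)).symm.trans ?_)
    rw [h, CoalgHomClass.counit_comp_apply g, TensorProduct.counit_tmul, TensorProduct.counit_tmul,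
      CommSemiring.counit_apply, CommSemiring.counit_apply]
    simp [Algebra.smul_def]
  · refine Algebra.TensorProduct.ext (Subsingleton.elim _ _) (AlgHom.ext fun c => ?_)
    simp only [AlgHom.comp_apply, AlgHom.restrictScalars_apply,
      Algebra.TensorProduct.includeRight_apply, Bialgebra.comulAlgHom_apply, hF]
    refine cp_ext fun m n => hι ?_
    have h1 := congrArg (cp T m n) (CoalgHomClass.map_comp_comul_apply g ((1 : T) ⊗ₜ[L] c))
    rw [cp_comul m n, ← h, cf_mp, TensorProduct.comul_tmul, CommSemiring.comul_apply] at h1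
    rw [cp_comul, TensorProduct.comul_tmul, CommSemiring.comul_apply]
    refine Eq.trans ?_ (h1.trans (by split_ifs <;> simp))
    generalize comul (R := L) c = t
    induction t using TensorProduct.induction_on with
    | zero => simp
    | add p q hp hq => simp only [TensorProduct.tmul_add, map_add, hp, hq]
    | tmul a b =>
      refine (congrArg ι (cp_map_tmul F m n a b)).trans ?_
      rw [map_mul, hF, hF]
      refine Eq.trans ?_ (cp_map_tmul (g : T ⊗[L] C →ₐ[T] MonoidAlgebra T M) m n a b).symm
      change _ = cf m (g _) * cf n (g _)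
      rw [← h, ← h, cf_mp, cf_mp]
      rfl

/-- Change of coefficients of a bialgebra map into a group algebra. -/
theorem exists_bialgHom_push {Q : Type u} [CommRing Q] [Algebra L Q] (π : P →ₐ[L] Q)
    (ψ : P ⊗[L] C →ₐc[P] MonoidAlgebra P M) :
    ∃ ψ' : Q ⊗[L] C →ₐc[Q] MonoidAlgebra Q M,
      ∀ c, ψ' ((1 : Q) ⊗ₜ c) = mp π.toRingHom (ψ ((1 : P) ⊗ₜ c)) := by
  letI : Algebra P Q := π.toRingHom.toAlgebra
  haveI : IsScalarTower L P Q := IsScalarTower.of_algebraMap_eq fun r => (π.commutes r).symm
  refine ⟨(monAlgBC P Q M : Q ⊗[P] MonoidAlgebra P M →ₐc[Q] MonoidAlgebra Q M).comp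
    ((mapBC Q ψ).comp ((cancelBC L P Q C).symm : Q ⊗[L] C →ₐc[Q] Q ⊗[P] (P ⊗[L] C))), fun c => ?_⟩
  change monAlgBC P Q M (mapBC Q ψ ((cancelBC L P Q C).symm ((1 : Q) ⊗ₜ c))) = _
  rw [HomLift.cancelBC_symm_one_tmul, mapBC_tmul]
  change MonoidAlgebra.scalarTensorEquiv P Q _ = _
  rw [MonoidAlgebra.scalarTensorEquiv_tmul, one_smul]
  rfl

theorem mem_smul_top_of_cf {I : Ideal P} (y : MonoidAlgebra P M) (h : ∀ m, cf m y ∈ I) :
    y ∈ I • (⊤ : Submodule P (MonoidAlgebra P M)) := by
  classical
  have hy : y = ∑ m ∈ y.coeff.support, cf m y • MonoidAlgebra.single m (1 : P) := by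
    refine ext_cf fun n => ?_
    rw [map_sum]
    simp only [map_smul, cf_single, smul_eq_mul, mul_ite, mul_one, mul_zero, Finset.sum_ite_eq']
    split_ifs with hn
    · rfl
    · exact Finsupp.notMem_support_iff.1 hn
  rw [hy]
  exact Submodule.sum_mem _ fun m _ => Submodule.smul_mem_smul (h m) Submodule.mem_top

theorem isMultType_equiv {A B : Type u} [CommRing A] [HopfAlgebra L A] [CommRing B] [HopfAlgebra L B]
    (e : A ≃ₐc[L] B) (h : IsMultType L A) : IsMultType L B := by
  obtain ⟨s, hs, hloc⟩ := h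
  exact ⟨s, hs, fun f hf => isMultTypeConst_of_equiv (congrBC (Localization.Away f) e) (hloc f hf)⟩

end Transfer

section Main

variable {L : Type u} [CommRing L]

/-- The coefficients generate an algebra which is unramified with trivial residue extension at the
closed point, hence equal to the base. -/
theorem range_eq_top [IsNoetherianRing L] [HenselianLocalRing L] {P : Type u} [CommRing P]
    [Algebra L P] [Algebra.FiniteType L P] {T : Type u} [CommRing T] [Algebra L T] [IsLocalRing T]
    (ι : P →ₐ[L] T) (hι : Function.Injective ι) (q : Ideal P) [q.IsPrime]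
    (hqT : q = (maximalIdeal T).comap ι) (hm : (maximalIdeal L).map (algebraMap L P) ≤ q)
    (hres : ∀ x : P, ∃ a : L, x - algebraMap L P a ∈ q)
    (hq : q ≤ q ^ 2 ⊔ (maximalIdeal L).map (algebraMap L P)) (x : P) :
    ∃ a : L, algebraMap L P a = x := by
  haveI : IsNoetherianRing P := Algebra.FiniteType.isNoetherianRing L P
  haveI hlies : q.LiesOver (maximalIdeal L) := ⟨le_antisymm (fun a ha => hm (Ideal.mem_map_of_mem _ ha))
    (le_maximalIdeal (Ideal.IsPrime.ne_top (Ideal.IsPrime.comap (algebraMap L P))))⟩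
  let Pq := Localization.AtPrime q
  haveI : IsLocalHom (algebraMap L Pq) := by
    refine ((local_hom_TFAE _).out 0 2 rfl rfl).mpr ?_
    rw [IsScalarTower.algebraMap_eq L P Pq, ← Ideal.map_map,
      ← Localization.AtPrime.map_eq_maximalIdeal (I := q)]
    exact Ideal.map_mono hm
  have hmax : maximalIdeal Pq ≤ (maximalIdeal L).map (algebraMap L Pq) := by
    refine Submodule.le_of_le_smul_of_le_jacobson_bot (I := maximalIdeal Pq)
      (IsNoetherian.noetherian _) (jacobson_eq_maximalIdeal ⊥ bot_ne_top).ge ?_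
    rw [smul_eq_mul]
    calc maximalIdeal Pq = q.map (algebraMap P Pq) := Localization.AtPrime.map_eq_maximalIdeal.symm
      _ ≤ (q ^ 2 ⊔ (maximalIdeal L).map (algebraMap L P)).map (algebraMap P Pq) := Ideal.map_mono hq
      _ ≤ (maximalIdeal L).map (algebraMap L Pq) ⊔ maximalIdeal Pq * maximalIdeal Pq := by
        rw [Ideal.map_sup, Ideal.map_pow, Localization.AtPrime.map_eq_maximalIdeal, pow_two,
          Ideal.map_map, ← IsScalarTower.algebraMap_eq, sup_comm]
  have hsurj : Function.Surjective (algebraMap (ResidueField L) (ResidueField Pq)) := by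
    intro y
    obtain ⟨y, rfl⟩ := residue_surjective y
    obtain ⟨⟨z, s⟩, hz⟩ := IsLocalization.surj q.primeCompl y
    obtain ⟨a, ha⟩ := hres z
    obtain ⟨b, hb⟩ := hres s
    have hb' : residue L b ≠ 0 := by
      rw [Ne, residue_eq_zero_iff]
      intro hbm
      refine s.2 ?_
      have := add_mem hb (hm (Ideal.mem_map_of_mem _ hbm))
      rwa [sub_add_cancel] at this
    have key : ∀ (w : P) (c : L), w - algebraMap L P c ∈ q →
        residue Pq (algebraMap P Pq w) = algebraMap (ResidueField L) (ResidueField Pq) (residue L c) := by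
      intro w c hwc
      have h1 : algebraMap P Pq (w - algebraMap L P c) ∈ maximalIdeal Pq :=
        Localization.AtPrime.map_eq_maximalIdeal (I := q) ▸ Ideal.mem_map_of_mem _ hwc
      rw [map_sub, ← IsScalarTower.algebraMap_apply, ← residue_eq_zero_iff, map_sub, sub_eq_zero] at h1
      rw [h1]
      rfl
    refine ⟨residue L a / residue L b, ?_⟩
    rw [map_div₀, ← key z a ha, ← key (s : P) b hb, ← hz, map_mul,
      mul_div_assoc, div_self, mul_one]
    rw [key (s : P) b hb]
    exact (map_ne_zero _).2 hb'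
  haveI : Algebra.EssFiniteType P Pq := Algebra.EssFiniteType.of_isLocalization _ q.primeCompl
  haveI : Algebra.EssFiniteType L Pq := Algebra.EssFiniteType.comp L P Pq
  haveI : Module.Finite (ResidueField L) (ResidueField Pq) :=
    Module.Finite.of_surjective (Algebra.linearMap _ _) hsurj
  haveI : Algebra.IsSeparable (ResidueField L) (ResidueField Pq) := ⟨fun y => by
    obtain ⟨a, rfl⟩ := hsurj y
    exact isSeparable_algebraMap a⟩
  haveI : Algebra.FormallyUnramified L Pq := Algebra.FormallyUnramified.of_map_maximalIdeal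
    (le_antisymm (((local_hom_TFAE _).out 0 2 rfl rfl).mp inferInstance) hmax)
  haveI : Algebra.QuasiFiniteAt L q := inferInstanceAs (Algebra.QuasiFinite L Pq)
  obtain ⟨f, hfq, hfid, hloc⟩ := Groth.Hensel1.exists_idempotent_of_quasiFiniteAt (R := L) q
  have hf1 : f = 1 := by
    refine hι ?_
    rw [map_one]
    have hu : IsUnit (ι f) := by
      by_contra hne
      exact hfq (hqT ▸ Ideal.mem_comap.2 ((mem_maximalIdeal _).2 hne))
    have hid : IsIdempotentElem (ι f) := hfid.1.map ι
    exact hu.mul_left_cancel (by rw [hid.eq, mul_one])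
  have hfin := hfid.finite
  have hbot : Ideal.span {(1 : P) - f} = ⊥ := by
    rw [hf1, sub_self, Ideal.span_singleton_eq_bot]
  let e : (P ⧸ Ideal.span {(1 : P) - f}) ≃ₐ[L] P :=
    (Ideal.quotientEquivAlgOfEq L hbot).trans (AlgEquiv.quotientBot L P)
  haveI : Module.Finite L P := Module.Finite.equiv e.toLinearEquiv
  haveI : IsLocalRing P := e.toRingEquiv.isLocalRing
  have hqle : q ≤ (maximalIdeal L).map (algebraMap L P) := by
    refine Submodule.le_of_le_smul_of_le_jacobson_bot (I := q) (IsNoetherian.noetherian _) ?_ ?_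
    · rw [jacobson_eq_maximalIdeal ⊥ bot_ne_top]
      exact le_maximalIdeal (Ideal.IsPrime.ne_top inferInstance)
    · rw [smul_eq_mul, ← pow_two, sup_comm]
      exact hq
  have htop : (⊤ : Submodule L P) ≤ LinearMap.range (Algebra.linearMap L P) := by
    refine Submodule.le_of_le_smul_of_le_jacobson_bot (I := maximalIdeal L) Module.Finite.fg_top
      (jacobson_eq_maximalIdeal ⊥ bot_ne_top).ge fun y _ => ?_
    obtain ⟨a, ha⟩ := hres y
    have h1 : y - algebraMap L P a ∈ maximalIdeal L • (⊤ : Submodule L P) := by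
      rw [Ideal.smul_top_eq_map]
      exact hqle ha
    rw [← sub_add_cancel y (algebraMap L P a), add_comm]
    exact Submodule.add_mem_sup ⟨a, rfl⟩ h1
  exact htop (Submodule.mem_top : x ∈ ⊤)

variable {C : Type u} [CommRing C] [HopfAlgebra L C] {M : Type u} [CommGroup M]

/-- Coefficient descent. -/
theorem cf_mem_range [IsNoetherianRing L] [HenselianLocalRing L] (hft : Algebra.FiniteType L C)
    (hs : IsMultType (ResidueField L) (ResidueField L ⊗[L] C))
    (T : Type u) [CommRing T] [Algebra L T] [IsLocalRing T] [IsLocalHom (algebraMap L T)]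
    (hres : ∀ t : T, ∃ a : L, t - algebraMap L T a ∈ maximalIdeal T)
    (φ : T ⊗[L] C →ₐc[T] MonoidAlgebra T M) (c : C) (m : M) :
    ∃ a : L, algebraMap L T a = cf m (φ ((1 : T) ⊗ₜ c)) := by
  classical
  obtain ⟨G, hG⟩ := hft.out
  let F : C →ₐ[L] MonoidAlgebra T M :=
    ((φ : T ⊗[L] C →ₐ[T] MonoidAlgebra T M).restrictScalars L).comp Algebra.TensorProduct.includeRight
  have hFφ : ∀ c, F c = φ ((1 : T) ⊗ₜ c) := fun c => rfl
  let s : Finset T := G.biUnion fun g => (F g).coeff.support.image fun m => cf m (F g)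
  let P : Subalgebra L T := Algebra.adjoin L (s : Set T)
  haveI : Algebra.FiniteType L P := (Subalgebra.fg_iff_finiteType P).1 ⟨s, rfl⟩
  let j : MonoidAlgebra P M →ₐ[L] MonoidAlgebra T M := MonoidAlgebra.mapAlgHom M P.val
  have hj : ∀ y, j y = mp P.val.toRingHom y := fun _ => rfl
  have hjinj : Function.Injective j := mp_injective (f := P.val.toRingHom) Subtype.val_injective
  have hFmem : ∀ c, F c ∈ j.range := by
    intro c
    have h1 : (⊤ : Subalgebra L C) ≤ j.range.comap F := by
      rw [← hG, Algebra.adjoin_le_iff]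
      intro g hg
      refine ⟨∑ n ∈ (F g).coeff.support, if hn : n ∈ (F g).coeff.support then
        MonoidAlgebra.single n (⟨cf n (F g), Algebra.subset_adjoin (Finset.mem_biUnion.2
          ⟨g, hg, Finset.mem_image_of_mem _ hn⟩)⟩ : P) else 0, ?_⟩
      refine ext_cf fun n => ?_
      change cf n (mp P.val.toRingHom _) = cf n (F g)
      rw [cf_mp, map_sum, map_sum]
      rw [Finset.sum_eq_single n]
      · split_ifs with hn
        · rw [cf_single, if_pos rfl]; rfl
        · rw [map_zero, map_zero]; exact (Finsupp.notMem_support_iff.1 hn).symm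
      · intro b hb hbn
        rw [dif_pos hb, cf_single, if_neg hbn, map_zero]
      · intro hn
        rw [dif_neg hn, map_zero, map_zero]
    exact h1 Algebra.mem_top
  let f : C →ₐ[L] MonoidAlgebra P M :=
    (AlgEquiv.ofInjective j hjinj).symm.toAlgHom.comp (F.codRestrict j.range hFmem)
  have hf : ∀ c, mp P.val.toRingHom (f c) = F c := fun c => by
    rw [← hj]
    exact congrArg Subtype.val ((AlgEquiv.ofInjective j hjinj).apply_symm_apply ⟨F c, hFmem c⟩)
  obtain ⟨ψ, hψ⟩ := exists_bialgHom_of_injective P.val Subtype.val_injective f φ hf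
  let q : Ideal P := (maximalIdeal T).comap P.val
  have hm : (maximalIdeal L).map (algebraMap L P) ≤ q := by
    rw [Ideal.map_le_iff_le_comap]
    intro a ha
    change algebraMap L T a ∈ maximalIdeal T
    exact (mem_maximalIdeal _).2 fun hu => (mem_maximalIdeal _).1 ha (isUnit_of_map_unit _ a hu)
  have hresP : ∀ x : P, ∃ a : L, x - algebraMap L P a ∈ q := fun x => by
    obtain ⟨a, ha⟩ := hres (x : T)
    exact ⟨a, ha⟩
  have hq : q ≤ q ^ 2 ⊔ (maximalIdeal L).map (algebraMap L P) := by
    let Q := P ⧸ (q ^ 2 ⊔ (maximalIdeal L).map (algebraMap L P))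
    let π : P →ₐ[L] Q := Ideal.Quotient.mkₐ L _
    let i : ResidueField L →ₐ[L] Q := Ideal.Quotient.liftₐ (maximalIdeal L) (Algebra.ofId L Q)
      fun a ha => Ideal.Quotient.eq_zero_iff_mem.2
        (Submodule.mem_sup_right (Ideal.mem_map_of_mem _ ha))
    let e₀ : ResidueField L →ₐ[L] P ⧸ q := Ideal.Quotient.liftₐ (maximalIdeal L) (Algebra.ofId L _)
      fun a ha => Ideal.Quotient.eq_zero_iff_mem.2 (hm (Ideal.mem_map_of_mem _ ha))
    haveI : Nontrivial (P ⧸ q) := Ideal.Quotient.nontrivial_iff.2 (Ideal.IsPrime.ne_top inferInstance)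
    have he₀ : Function.Bijective e₀ := by
      refine ⟨e₀.toRingHom.injective, fun y => ?_⟩
      obtain ⟨x, rfl⟩ := Ideal.Quotient.mk_surjective y
      obtain ⟨a, ha⟩ := hresP x
      exact ⟨residue L a, (Ideal.Quotient.eq.2 ha).symm⟩
    let π₀ : P →ₐ[L] Q :=
      i.comp ((AlgEquiv.ofBijective e₀ he₀).symm.toAlgHom.comp (Ideal.Quotient.mkₐ L q))
    have hπ₀ : ∀ (x : P) (a : L), x - algebraMap L P a ∈ q → π₀ x = algebraMap L Q a := by
      intro x a ha
      have h1 : (AlgEquiv.ofBijective e₀ he₀).symm (Ideal.Quotient.mkₐ L q x) = residue L a := by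
        rw [AlgEquiv.symm_apply_eq]
        exact Ideal.Quotient.eq.2 ha
      change i ((AlgEquiv.ofBijective e₀ he₀).symm (Ideal.Quotient.mkₐ L q x)) = _
      rw [h1]
      rfl
    let I : Ideal Q := q.map π
    have hnil : ∀ x ∈ I, IsNilpotent x := fun x hx => ⟨2, by
      have h1 := Ideal.pow_mem_pow hx 2
      rw [← Ideal.map_pow] at h1
      have h2 : (q ^ 2).map π ≤ ⊥ := by
        rw [Ideal.map_le_iff_le_comap]
        intro z hz
        exact Ideal.Quotient.eq_zero_iff_mem.2 (Submodule.mem_sup_left hz)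
      exact h2 h1⟩
    have hsub : ∀ x, π x - π₀ x ∈ I := fun x => by
      obtain ⟨a, ha⟩ := hresP x
      rw [hπ₀ x a ha, ← π.commutes a, ← map_sub]
      exact Ideal.mem_map_of_mem _ ha
    obtain ⟨ψ₁, hψ₁⟩ := exists_bialgHom_push π ψ
    obtain ⟨ψ₂, hψ₂⟩ := exists_bialgHom_push π₀ ψ
    letI : Algebra (ResidueField L) Q := i.toRingHom.toAlgebra
    haveI : IsScalarTower L (ResidueField L) Q := IsScalarTower.of_algebraMap_eq fun r => (i.commutes r).symm
    have hX : IsMultType Q (Q ⊗[L] C) :=
      isMultType_equiv (cancelBC L (ResidueField L) Q C) (isMultType_baseChange Q hs)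
    have hY : IsMultType Q (MonoidAlgebra Q M) :=
      isMultType_of_const (isMultTypeConst_of_isDiag ⟨M, _, ⟨BialgEquiv.refl Q _⟩⟩)
    have heq : ψ₁ = ψ₂ := HomLift.eq_of_sub_mem hX hY hnil fun z => by
      induction z using TensorProduct.induction_on with
      | zero => simp
      | add p r hp hr => simp only [map_add]; rw [add_sub_add_comm]; exact add_mem hp hr
      | tmul r d =>
        rw [show r ⊗ₜ[L] d = r • ((1 : Q) ⊗ₜ[L] d) by rw [TensorProduct.smul_tmul', smul_eq_mul, mul_one],
          map_smul, map_smul, ← smul_sub]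
        refine Submodule.smul_mem _ r (mem_smul_top_of_cf _ fun n => ?_)
        rw [map_sub, hψ₁, hψ₂, cf_mp, cf_mp]
        exact hsub _
    have hgen : ∀ c n, π (cf n (f c)) = π₀ (cf n (f c)) := fun c n => by
      have h1 := congrArg (cf n) (DFunLike.congr_fun heq ((1 : Q) ⊗ₜ c))
      rw [hψ₁, hψ₂, cf_mp, cf_mp, hψ] at h1
      exact h1
    have hππ : π = π₀ := by
      refine AlgHom.ext fun y => ?_
      obtain ⟨y, hy⟩ := y
      induction hy using Algebra.adjoin_induction with
      | mem z hz =>
        obtain ⟨g, hg, hz'⟩ := Finset.mem_biUnion.1 hz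
        obtain ⟨n, -, rfl⟩ := Finset.mem_image.1 hz'
        have h1 : (⟨cf n (F g), Algebra.subset_adjoin hz⟩ : P) = cf n (f g) :=
          Subtype.ext ((congrArg (cf n) (hf g)).symm.trans (cf_mp _ _ _))
        exact h1 ▸ hgen g n
      | algebraMap r => exact (π.commutes r).trans (π₀.commutes r).symm
      | add z w hz hw h1 h2 =>
        exact (map_add π ⟨z, hz⟩ ⟨w, hw⟩).trans (((congrArg₂ (· + ·) h1 h2)).trans
          (map_add π₀ ⟨z, hz⟩ ⟨w, hw⟩).symm)
      | mul z w hz hw h1 h2 =>
        exact (map_mul π ⟨z, hz⟩ ⟨w, hw⟩).trans (((congrArg₂ (· * ·) h1 h2)).trans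
          (map_mul π₀ ⟨z, hz⟩ ⟨w, hw⟩).symm)
    intro x hx
    refine Ideal.Quotient.eq_zero_iff_mem.1 ?_
    change π x = 0
    rw [hππ, hπ₀ x 0 (by rwa [map_zero, sub_zero]), map_zero]
  obtain ⟨a, ha⟩ := range_eq_top P.val Subtype.val_injective q rfl hm hresP hq (cf m (f c))
  refine ⟨a, ?_⟩
  rw [← hFφ, ← hf, cf_mp, ← ha]
  rfl

end Main

end Groth.Sga3.CoeffDescent
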