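import Groth.Agent.Sga3.AdicCrit
import Groth.Agent.Sga3.AdicTorsion
import Groth.Agent.Sga3.CoeffDescent
import Groth.Agent.FlatMorOne.FlatLocusBaseChange
import Groth.Agent.Calg1.Completion
import Mathlib.RingTheory.AdicCompletion.LocalRing
import Mathlib.RingTheory.Jacobson.Ring
import Mathlib.RingTheory.Spectrum.Prime.Chevalley

/-!
Over a henselian Noetherian local ring a group with diagonalisable closed fibre contains an open and
closed diagonalisable subgroup, and criteria for that subgroup to be everything after base change.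
-/

set_option autoImplicit false

universe u

open TensorProduct Coalgebra WithConv

noncomputable section

namespace Groth.Sga3.FibreCore

open SGA3b MultType GroupAlg AdicAux
open Groth.Sga3.Descend (mp cf_mp mp_mp mp_injective)

/-- Flatness at a prime is stable under base change. -/
theorem flat_atPrime_baseChange {L : Type u} [CommRing L] {C : Type u} [CommRing C] [Algebra L C]
    (T : Type u) [CommRing T] [Algebra L T] (Q : Ideal (T ⊗[L] C)) [Q.IsPrime]
    (h : Module.Flat L (Localization.AtPrime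
      (Q.comap (Algebra.TensorProduct.includeRight : C →ₐ[L] T ⊗[L] C).toRingHom))) :
    Module.Flat T (Localization.AtPrime Q) := by
  haveI : Module.Flat L (LocalizedModule (Q.comap
      (Algebra.TensorProduct.includeRight : C →ₐ[L] T ⊗[L] C).toRingHom).primeCompl C) := h
  exact Groth.FlatMorOne.flat_localized_baseChange
    (Algebra.TensorProduct.includeRight : C →ₐ[L] T ⊗[L] C).toRingHom
    (β := TensorProduct.mk L T C 1) (TensorProduct.isBaseChange L C T)
    (fun s m => ((Algebra.TensorProduct.includeRight : C →ₐ[L] T ⊗[L] C).map_mul s m)) Q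

theorem isIsotrivial_of_isDiag {A X : Type u} [CommRing A] [CommRing X] [HopfAlgebra A X]
    (h : IsDiag A X) : IsIsotrivial A X :=
  ⟨A, _, _, inferInstance, inferInstance, inferInstance, isDiag_baseChange A X h⟩

theorem projective_monoidAlgebra (A : Type u) [CommRing A] (M : Type u) [CommGroup M] :
    Module.Projective A (MonoidAlgebra A M) :=
  Module.Projective.of_equiv (MonoidAlgebra.coeffLinearEquiv A).symm

theorem mp_residue_eq {L κ : Type u} [CommRing L] [CommRing κ] [Algebra L κ] {M : Type u} [CommGroup M]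
    {C : Type u} [CommRing C] (Q : Type u) [CommRing Q] (a : L →+* Q) (b : κ →+* Q)
    (hb : Function.Injective b) (hab : b.comp (algebraMap L κ) = a) (f : C → MonoidAlgebra L M)
    (g : C → MonoidAlgebra κ M) (h : ∀ c, mp a (f c) = mp b (g c)) (c : C) :
    mp (algebraMap L κ) (f c) = g c :=
  mp_injective hb (by rw [mp_mp, hab, h])

section Split

open IsLocalRing

/-- The open and closed diagonalisable subgroup. -/
theorem exists_split_subgroup {L : Type u} [CommRing L] [IsNoetherianRing L] [HenselianLocalRing L]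
    {C : Type u} [CommRing C] [HopfAlgebra L C] (hft : Algebra.FiniteType L C)
    (hfl : ∀ (q : Ideal C) [q.IsPrime], Ideal.map (algebraMap L C) (maximalIdeal L) ≤ q →
      Module.Flat L (Localization.AtPrime q))
    (hs : IsDiag (ResidueField L) (ResidueField L ⊗[L] C)) :
    ∃ (M : Type u) (_ : CommGroup M), Group.FG M ∧ ∃ f : C →ₐc[L] MonoidAlgebra L M,
      Function.Surjective f ∧ ∃ e : C, IsIdempotentElem e ∧ RingHom.ker f = Ideal.span {e} ∧
        e ∈ (maximalIdeal L).map (algebraMap L C) := by
  classical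
  obtain ⟨M, _, ⟨γ₀⟩⟩ := id hs
  haveI : Group.FG M :=
    group_fg_of_finiteType (inferInstance : Algebra.FiniteType (ResidueField L) (ResidueField L ⊗[L] C)) γ₀
  refine ⟨M, inferInstance, inferInstance, ?_⟩
  let κ := ResidueField L
  let T := AdicCompletion (maximalIdeal L) L
  have hfgm : (maximalIdeal L).FG := IsNoetherian.noetherian _
  haveI : IsNoetherianRing T := Groth.Calg1.isNoetherianRing_adicCompletion _ hfgm
  let I : Ideal T := (maximalIdeal L).map (algebraMap L T)
  have hmax : maximalIdeal T = I := AdicCompletion.maximalIdeal_eq_map_of_fg hfgm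
  haveI : IsAdicComplete I T := AdicCompletion.isAdicComplete_self _ hfgm
  haveI : IsLocalHom (algebraMap L T) := ((local_hom_TFAE _).out 0 2 rfl rfl).mpr hmax.ge
  haveI : Module.Flat L T := AdicCompletion.flat_of_isNoetherian (maximalIdeal L)
  haveI : Module.FaithfullyFlat L T := Module.FaithfullyFlat.of_flat_of_isLocalHom
  have hres : ∀ t : T, ∃ a : L, t - algebraMap L T a ∈ maximalIdeal T := by
    intro t
    obtain ⟨a, ha⟩ := Ideal.Quotient.mk_surjective (AdicCompletion.evalOneₐ (maximalIdeal L) t)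
    refine ⟨a, ?_⟩
    rw [hmax]
    change t - algebraMap L T a ∈ (maximalIdeal L).map (algebraMap L (AdicCompletion (maximalIdeal L) L))
    rw [← AdicCompletion.ker_evalOneₐ_eq_map _ hfgm, RingHom.mem_ker, map_sub, AlgHom.toRingHom_eq_coe,
      RingHom.coe_coe, AlgHom.commutes, sub_eq_zero]
    exact ha.symm
  let Q := T ⧸ I
  let ik : κ →ₐ[L] Q := Ideal.Quotient.liftₐ (maximalIdeal L) (Algebra.ofId L Q) fun a ha =>
    Ideal.Quotient.eq_zero_iff_mem.2 (Ideal.mem_map_of_mem _ ha)
  letI : Algebra κ Q := ik.toRingHom.toAlgebra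
  haveI : IsScalarTower L κ Q := IsScalarTower.of_algebraMap_eq fun r => (ik.commutes r).symm
  haveI : Nontrivial Q := Ideal.Quotient.nontrivial_iff.2 (hmax ▸ (maximalIdeal.isMaximal T).ne_top)
  let E₁ : Q ⊗[T] (T ⊗[L] C) ≃ₐc[Q] MonoidAlgebra Q M :=
    (cancelBC L T Q C).trans ((cancelBC L κ Q C).symm.trans
      ((congrBC Q γ₀).trans (monAlgBC κ Q M)))
  have hfl' : ∀ (q : Ideal (T ⊗[L] C)) [q.IsPrime], Ideal.map (algebraMap T (T ⊗[L] C)) I ≤ q →
      Module.Flat T (Localization.AtPrime q) := by
    intro q _ hq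
    refine flat_atPrime_baseChange T q (hfl _ ?_)
    rw [Ideal.map_le_iff_le_comap]
    intro a ha
    change (Algebra.TensorProduct.includeRight : C →ₐ[L] T ⊗[L] C) (algebraMap L C a) ∈ q
    rw [AlgHom.commutes, IsScalarTower.algebraMap_apply L T (T ⊗[L] C)]
    exact hq (Ideal.mem_map_of_mem _ (Ideal.mem_map_of_mem _ ha))
  obtain ⟨φ, hφ⟩ := AdicHom.exists_lift_adic (B := MonoidAlgebra T M) I
    (isIsotrivial_of_isDiag ⟨M, _, ⟨BialgEquiv.refl T _⟩⟩) hfl'
    (AdicCrit.isQuasiIsotrivial_of_isIsotrivial (isIsotrivial_of_isDiag ⟨M, _, ⟨E₁⟩⟩))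
    ((E₁.trans (monAlgBC T Q M).symm : Q ⊗[T] (T ⊗[L] C) →ₐc[Q] Q ⊗[T] MonoidAlgebra T M))
  have hφ' : ∀ c : C, mp (algebraMap T Q) (φ ((1 : T) ⊗ₜ[L] c)) =
      mp (ik : κ →+* Q) (γ₀ ((1 : κ) ⊗ₜ[L] c)) := by
    intro c
    have h1 := congrArg (monAlgBC T Q M) (hφ ((1 : T) ⊗ₜ[L] c))
    change monAlgBC T Q M ((monAlgBC T Q M).symm (E₁ _)) = _ at h1
    rw [BialgEquiv.apply_symm_apply] at h1
    have h2 : monAlgBC T Q M ((1 : Q) ⊗ₜ[T] φ ((1 : T) ⊗ₜ[L] c)) =
        mp (algebraMap T Q) (φ ((1 : T) ⊗ₜ[L] c)) := by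
      change MonoidAlgebra.scalarTensorEquiv T Q _ = _
      rw [MonoidAlgebra.scalarTensorEquiv_tmul, one_smul]
      rfl
    refine (h2.symm.trans h1.symm).trans ?_
    change monAlgBC κ Q M (congrBC Q γ₀ ((cancelBC L κ Q C).symm
      (cancelBC L T Q C ((1 : Q) ⊗ₜ[T] ((1 : T) ⊗ₜ[L] c))))) = _
    rw [HomLift.cancelBC_one_tmul, HomLift.cancelBC_symm_one_tmul]
    change MonoidAlgebra.scalarTensorEquiv κ Q ((1 : Q) ⊗ₜ[κ] γ₀ ((1 : κ) ⊗ₜ[L] c)) = _
    rw [MonoidAlgebra.scalarTensorEquiv_tmul, one_smul]
    rfl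
  -- descend the coefficients
  choose a ha using fun c m => CoeffDescent.cf_mem_range (L := L) hft
    (isMultType_of_const (isMultTypeConst_of_isDiag hs)) T hres φ c m
  let j : MonoidAlgebra L M →ₐ[L] MonoidAlgebra T M := MonoidAlgebra.mapAlgHom M (Algebra.ofId L T)
  have hιinj : Function.Injective (Algebra.ofId L T) :=
    RingHom.FaithfullyFlat.injective (RingHom.faithfullyFlat_algebraMap_iff.2 inferInstance)
  have hjinj : Function.Injective j := mp_injective (f := (Algebra.ofId L T).toRingHom) hιinj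
  let F : C →ₐ[L] MonoidAlgebra T M :=
    ((φ : T ⊗[L] C →ₐ[T] MonoidAlgebra T M).restrictScalars L).comp Algebra.TensorProduct.includeRight
  have hFmem : ∀ c, F c ∈ j.range := fun c => by
    refine ⟨∑ m ∈ (F c).coeff.support, MonoidAlgebra.single m (a c m), ext_cf fun m => ?_⟩
    change cf m (mp (Algebra.ofId L T).toRingHom _) = cf m (F c)
    rw [cf_mp, map_sum]
    simp only [cf_single, Finset.sum_ite_eq']
    split_ifs with hm
    · exact ha c m
    · rw [map_zero]; exact (Finsupp.notMem_support_iff.1 hm).symm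
  let f₀ : C →ₐ[L] MonoidAlgebra L M :=
    (AlgEquiv.ofInjective j hjinj).symm.toAlgHom.comp (F.codRestrict j.range hFmem)
  have hf₀ : ∀ c, mp (Algebra.ofId L T).toRingHom (f₀ c) = φ ((1 : T) ⊗ₜ c) := fun c =>
    congrArg Subtype.val ((AlgEquiv.ofInjective j hjinj).apply_symm_apply ⟨F c, hFmem c⟩)
  obtain ⟨ψ, hψ⟩ := CoeffDescent.exists_bialgHom_of_injective (Algebra.ofId L T) hιinj f₀ φ hf₀
  let f : C →ₐc[L] MonoidAlgebra L M :=
    ψ.comp ((Bialgebra.TensorProduct.lid L C).symm : C →ₐc[L] L ⊗[L] C)
  have hf : ∀ c, f c = f₀ c := fun c => hψ c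
  -- the reduction
  have hred : ∀ c, mp (algebraMap L κ) (f c) = γ₀ ((1 : κ) ⊗ₜ[L] c) := by
    refine mp_residue_eq Q ((algebraMap T Q).comp (algebraMap L T)) (ik : κ →+* Q)
      (ik : κ →+* Q).injective (RingHom.ext fun r => ik.commutes r) (fun c => f c) _ fun c => ?_
    rw [← mp_mp, hf]
    exact (congrArg _ (hf₀ c)).trans (hφ' c)
  have hsurj : Function.Surjective f := by
    refine AdicCrit.surjective_of_mod_jacobson f (jacobson_eq_maximalIdeal ⊥ bot_ne_top).ge fun m => ?_
    obtain ⟨z, hz⟩ := exists_eq_one_tmul (maximalIdeal L) (γ₀.symm (MonoidAlgebra.single m 1))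
    refine ⟨z, (residue_eq_zero_iff _).1 ?_⟩
    have h1 := congrArg (cf m) (hred z)
    rw [cf_mp, show γ₀ ((1 : κ) ⊗ₜ[L] z) = MonoidAlgebra.single m 1 from
      (congrArg γ₀ hz).trans (γ₀.apply_symm_apply _), cf_single, if_pos rfl] at h1
    rw [map_sub, map_one, sub_eq_zero]
    exact h1
  haveI := projective_monoidAlgebra L M
  obtain ⟨σ, hσ⟩ := Module.projective_lifting_property (f : C →ₗ[L] MonoidAlgebra L M) LinearMap.id hsurj
  have hσ' : ∀ y, f (σ y) = y := fun y => LinearMap.congr_fun hσ y
  haveI : IsNoetherianRing C := Algebra.FiniteType.isNoetherianRing L C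
  let K : Ideal C := RingHom.ker f
  have hKle : K ≤ (maximalIdeal L).map (algebraMap L C) • K := by
    intro k hk
    have h1 : k ∈ maximalIdeal L • (⊤ : Submodule L C) := by
      have h2 : (1 : κ) ⊗ₜ[L] k = (1 : κ) ⊗ₜ[L] (0 : C) := by
        refine EquivLike.injective γ₀ ?_
        rw [← hred, ← hred, show f k = 0 from hk, map_zero f]
      simpa using sub_mem_smul_of_tmul_eq (maximalIdeal L) h2
    have h3 : k - σ (f k) ∈ (maximalIdeal L).map (algebraMap L C) • K := by
      clear hk
      refine Submodule.smul_induction_on h1 (fun a ha c _ => ?_) fun p q hp hq => ?_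
      · rw [map_smul, map_smul, ← smul_sub, ← algebraMap_smul C a (c - σ (f c))]
        refine Submodule.smul_mem_smul (Ideal.mem_map_of_mem _ ha) ?_
        change f (c - σ (f c)) = 0
        rw [map_sub, hσ', sub_self]
      · rw [map_add, map_add, add_sub_add_comm]; exact add_mem hp hq
    rwa [show f k = 0 from hk, map_zero, sub_zero] at h3
  obtain ⟨s, hs1, hs2⟩ :=
    Submodule.exists_sub_one_mem_and_smul_eq_zero_of_fg_of_le_smul _ K (IsNoetherian.noetherian K) hKle
  have hεs : IsUnit (counit (R := L) s) := by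
    have h1 : counit (R := L) (s - 1) ∈ maximalIdeal L := by
      have h2 : (maximalIdeal L).map (algebraMap L C) ≤
          Ideal.comap (Bialgebra.counitAlgHom L C) (maximalIdeal L) :=
        Ideal.map_le_iff_le_comap.2 fun a ha => by simpa using ha
      exact h2 hs1
    rw [map_sub, Bialgebra.counit_one] at h1
    have h2 := Ideal.mem_jacobson_bot.1 ((jacobson_eq_maximalIdeal ⊥ bot_ne_top).ge h1) 1
    rwa [mul_one, sub_add_cancel] at h2
  obtain ⟨e, hid, he⟩ := OpenSubgroup.exists_idempotent_ker f σ hσ' (IsNoetherian.noetherian K) s hs2 hεs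
  refine ⟨f, hsurj, e, hid, he, ?_⟩
  have heK : e ∈ RingHom.ker f := by rw [he]; exact Ideal.mem_span_singleton_self e
  exact (Submodule.smul_le.2 fun r hr x _ => Ideal.mul_mem_right x _ hr) (hKle heK)

end Split

section BaseChange

variable {L : Type u} [CommRing L] {C : Type u} [CommRing C] [HopfAlgebra L C] {M : Type u}
  [CommGroup M] (T : Type u) [CommRing T] [Algebra L T]

/-- base change of a homomorphism into a group algebra -/
def bcHom (f : C →ₐc[L] MonoidAlgebra L M) : T ⊗[L] C →ₐc[T] MonoidAlgebra T M :=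
  (monAlgBC L T M : T ⊗[L] MonoidAlgebra L M →ₐc[T] MonoidAlgebra T M).comp (mapBC T f)

theorem bcHom_apply (f : C →ₐc[L] MonoidAlgebra L M) (x : T ⊗[L] C) :
    bcHom T f x = monAlgBC L T M (Algebra.TensorProduct.map (AlgHom.id L T)
      (f : C →ₐ[L] MonoidAlgebra L M) x) := by
  induction x using TensorProduct.induction_on with
  | zero => simp
  | add p q hp hq => simp only [map_add, hp, hq]
  | tmul t c => rfl

theorem bcHom_surjective (f : C →ₐc[L] MonoidAlgebra L M) (hs : Function.Surjective f) :
    Function.Surjective (bcHom T f) := fun y => by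
  obtain ⟨x, hx⟩ := LinearMap.lTensor_surjective T (g := (f : C →ₗ[L] MonoidAlgebra L M)) hs
    ((monAlgBC L T M).symm y)
  exact ⟨x, (bcHom_apply T f x).trans
    ((congrArg (monAlgBC L T M) hx).trans ((monAlgBC L T M).apply_symm_apply y))⟩

theorem ker_bcHom (f : C →ₐc[L] MonoidAlgebra L M) (hs : Function.Surjective f) {e : C}
    (he : RingHom.ker f = Ideal.span {e}) :
    RingHom.ker (bcHom T f) = Ideal.span {(1 : T) ⊗ₜ[L] e} := by
  have h1 := Algebra.TensorProduct.lTensor_ker (A := T) (f : C →ₐ[L] MonoidAlgebra L M) hs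
  rw [show RingHom.ker (f : C →ₐ[L] MonoidAlgebra L M) = Ideal.span {e} from he, Ideal.map_span,
    Set.image_singleton] at h1
  refine le_antisymm (fun x hx => ?_) ?_
  · refine h1.le ?_
    refine EquivLike.injective (monAlgBC L T M) ?_
    exact ((bcHom_apply T f x).symm.trans hx).trans (map_zero (monAlgBC L T M)).symm
  · rw [Ideal.span_le, Set.singleton_subset_iff]
    have : e ∈ RingHom.ker f := he ▸ Ideal.mem_span_singleton_self e
    change monAlgBC L T M (mapBC T f ((1 : T) ⊗ₜ[L] e)) = 0
    rw [mapBC_tmul, show f e = 0 from this, TensorProduct.tmul_zero, map_zero]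

theorem counit_eq_zero (f : C →ₐc[L] MonoidAlgebra L M) {e : C}
    (he : RingHom.ker f = Ideal.span {e}) : counit (R := L) e = 0 :=
  AdicCrit.counit_eq_zero f he

/-- The subgroup is everything if its idempotent vanishes. -/
theorem isDiag_of_eq_zero (f : C →ₐc[L] MonoidAlgebra L M) (hs : Function.Surjective f) {e : C}
    (he : RingHom.ker f = Ideal.span {e}) (h : (1 : T) ⊗ₜ[L] e = 0) :
    Nonempty (T ⊗[L] C ≃ₐc[T] MonoidAlgebra T M) := by
  have hinj : Function.Injective (bcHom T f) := by
    rw [injective_iff_map_eq_zero]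
    intro x hx
    have h1 : x ∈ RingHom.ker (bcHom T f) := hx
    rw [ker_bcHom T f hs he, h, Ideal.mem_span_singleton] at h1
    exact zero_dvd_iff.1 h1
  exact ⟨BialgEquiv.ofBijective (bcHom T f) ⟨hinj, bcHom_surjective T f hs⟩⟩

end BaseChange

section Torsion

open IsLocalRing

/-- With finite torsion subgroups the subgroup is everything. -/
theorem eq_zero_of_torsion_local {T : Type u} [CommRing T] [IsLocalRing T] {C : Type u} [CommRing C]
    [HopfAlgebra T C] [Coalgebra.IsCocomm T C] (hft : Algebra.FiniteType T C)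
    (hfin : ∀ n : ℕ, 0 < n → Module.Finite T (C ⧸ torsionIdeal T C n))
    {M : Type u} [CommGroup M] (f : C →ₐc[T] MonoidAlgebra T M) (hs : Function.Surjective f) {e : C}
    (hid : IsIdempotentElem e) (he : RingHom.ker f = Ideal.span {e})
    (hem : e ∈ (maximalIdeal T).map (algebraMap T C)) : e = 0 := by
  have hmem : ∀ n : ℕ, 0 < n → e ∈ torsionIdeal T C n := by
    intro n hn
    haveI := hfin n hn
    let D := C ⧸ torsionIdeal T C n
    let ē : D := Ideal.Quotient.mk _ e
    have hē : ē * ē = ē := (hid.map (Ideal.Quotient.mk (torsionIdeal T C n))).eq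
    have hm : ē ∈ maximalIdeal T • (⊤ : Submodule T D) := by
      rw [Ideal.smul_top_eq_map]
      have h1 := Ideal.mem_map_of_mem (Ideal.Quotient.mk (torsionIdeal T C n)) hem
      rwa [Ideal.map_map] at h1
    let N : Submodule T D := LinearMap.range (LinearMap.mulLeft T ē)
    have hN : N ≤ maximalIdeal T • N := by
      rintro _ ⟨x, rfl⟩
      have h2 : ∀ y ∈ maximalIdeal T • (⊤ : Submodule T D), ē * (y * x) ∈ maximalIdeal T • N :=
        fun y hy => Submodule.smul_induction_on hy
          (fun r hr z _ => by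
            rw [smul_mul_assoc, mul_smul_comm]
            exact Submodule.smul_mem_smul hr ⟨z * x, rfl⟩)
          fun p q hp hq => by rw [add_mul, mul_add]; exact add_mem hp hq
      have h3 := h2 ē hm
      rwa [← mul_assoc, hē] at h3
    have h0 : N = ⊥ := Submodule.eq_bot_of_le_smul_of_le_jacobson_bot _ N
      (show (LinearMap.range (LinearMap.mulLeft T ē)).FG by
        rw [LinearMap.range_eq_map]; exact Submodule.FG.map _ Module.Finite.fg_top) hN
      (jacobson_eq_maximalIdeal ⊥ bot_ne_top).ge
    rw [← Ideal.Quotient.eq_zero_iff_mem]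
    exact (Submodule.mem_bot T).1 (h0 ▸ ⟨1, mul_one ē⟩ : ē ∈ (⊥ : Submodule T D))
  refine hid.eq_zero_of_isNilpotent ?_
  rw [← mem_nilradical, nilradical_eq_sInf, Ideal.mem_sInf]
  intro Q hQ
  haveI : Q.IsPrime := hQ
  let K := AlgebraicClosure Q.ResidueField
  let g₀ : C →ₐ[T] K := IsScalarTower.toAlgHom T C K
  have htor : ∀ g : K ⊗[T] C →ₐ[K] K, ∀ n : ℕ, 0 < n → toConv g ^ n = 1 →
      g ((1 : K) ⊗ₜ[T] e) = 0 := by
    intro g n hn hgn
    let gA : C →ₐ[T] K := (g.restrictScalars T).comp Algebra.TensorProduct.includeRight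
    suffices torsionIdeal T C n ≤ RingHom.ker gA from this (hmem n hn)
    refine Ideal.map_le_iff_le_comap.2 fun x hx => ?_
    change g ((1 : K) ⊗ₜ[T] powConv T C n x) = 0
    rw [← AdicTorsion.point_pow, hgn, AlgHom.convOne_apply, TensorProduct.counit_tmul,
      show counit (R := T) x = 0 from hx, zero_smul, map_zero]
  have h0 := AdicTorsion.eq_zero_of_torsion (bcHom K f) (bcHom_surjective K f hs)
    (hid.map (Algebra.TensorProduct.includeRight : C →ₐ[T] K ⊗[T] C)) (ker_bcHom K f hs he) htor
  have h1 := congrArg (Algebra.TensorProduct.lift (AlgHom.id T K) g₀ (fun _ _ => .all _ _)) h0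
  rw [map_zero, Algebra.TensorProduct.includeRight_apply] at h1
  simp only [Algebra.TensorProduct.lift_tmul, AlgHom.id_apply, one_mul, g₀,
    IsScalarTower.coe_toAlgHom'] at h1
  rw [IsScalarTower.algebraMap_apply C Q.ResidueField K,
    map_eq_zero_iff _ (algebraMap Q.ResidueField K).injective] at h1
  exact Ideal.algebraMap_residueField_eq_zero.1 h1

end Torsion

section Connected

variable {k : Type u} [Field k] {D : Type u} [CommRing D] [Algebra k D]

/-- evaluation at a rational point -/
def evPt (η : D →ₐ[k] k) (K : Type u) [CommRing K] [Algebra k K] : D ⊗[k] K →ₐ[k] K :=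
  Algebra.TensorProduct.lift ((Algebra.ofId k K).comp η) (AlgHom.id k K) (fun _ _ => .all _ _)

theorem evPt_tmul (η : D →ₐ[k] k) (K : Type u) [CommRing K] [Algebra k K] (d : D) (l : K) :
    evPt η K (d ⊗ₜ l) = algebraMap k K (η d) * l := rfl

/-- A connected scheme with a rational point stays connected after a finite extension. -/
theorem eq_zero_of_idem_finite [PreconnectedSpace (PrimeSpectrum D)] (η : D →ₐ[k] k) (K : Type u)
    [Field K] [Algebra k K] [Module.Finite k K] {ε : D ⊗[k] K} (hid : IsIdempotentElem ε)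
    (h : evPt η K ε = 0) : ε = 0 := by
  let U := D ⊗[k] K
  haveI : Algebra.IsIntegral D U := Algebra.IsIntegral.of_finite D U
  haveI : Algebra.FinitePresentation k K := Algebra.FinitePresentation.of_finiteType.1 inferInstance
  haveI : Algebra.FinitePresentation D U := inferInstance
  let π := PrimeSpectrum.comap (algebraMap D U)
  have hopen : IsOpenMap π := PrimeSpectrum.isOpenMap_comap_of_hasGoingDown_of_finitePresentation
  have hclosed : IsClosedMap π :=
    PrimeSpectrum.isClosedMap_comap_of_isIntegral _ (algebraMap_isIntegral_iff.mpr inferInstance)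
  have hc : IsClopen (PrimeSpectrum.basicOpen ε : Set (PrimeSpectrum U)) :=
    PrimeSpectrum.isClopen_basicOpen_of_mul_add ε (1 - ε) hid.mul_one_sub_self (add_sub_cancel ε (1 : U))
  rcases isClopen_iff.1 (show IsClopen (π '' (PrimeSpectrum.basicOpen ε : Set (PrimeSpectrum U))) from
    ⟨hclosed _ hc.1, hopen _ hc.2⟩) with h1 | h1
  · rw [Set.image_eq_empty] at h1
    exact hid.eq_zero_of_isNilpotent
      ((PrimeSpectrum.basicOpen_eq_bot_iff ε).1 (SetLike.coe_injective (by simpa using h1)))
  · exfalso
    let x : PrimeSpectrum D := ⟨RingHom.ker η, RingHom.ker_isPrime _⟩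
    obtain ⟨Q, hQ, hQx⟩ := (h1 ▸ Set.mem_univ x : x ∈ π '' _)
    have hker : ∀ z : U, z - (1 : D) ⊗ₜ[k] evPt η K z ∈ Q.asIdeal := by
      intro z
      induction z using TensorProduct.induction_on with
      | zero => simp
      | add p q hp hq => rw [map_add, TensorProduct.tmul_add, add_sub_add_comm]; exact add_mem hp hq
      | tmul d l =>
        have hd : d - algebraMap k D (η d) ∈ x.asIdeal := by
          change η (d - algebraMap k D (η d)) = 0
          rw [map_sub, AlgHom.commutes, Algebra.algebraMap_self, RingHom.id_apply, sub_self]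
        have hd' : algebraMap D U (d - algebraMap k D (η d)) ∈ Q.asIdeal := by
          have := congrArg PrimeSpectrum.asIdeal hQx
          exact this.ge hd
        have h2 : d ⊗ₜ[k] l - (1 : D) ⊗ₜ[k] evPt η K (d ⊗ₜ l) =
            algebraMap D U (d - algebraMap k D (η d)) * ((1 : D) ⊗ₜ[k] l) := by
          rw [Algebra.TensorProduct.algebraMap_apply, Algebra.algebraMap_self, RingHom.id_apply,
            Algebra.TensorProduct.tmul_mul_tmul, mul_one, one_mul, evPt_tmul,
            ← Algebra.smul_def, TensorProduct.sub_tmul, Algebra.algebraMap_eq_smul_one,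
            TensorProduct.smul_tmul]
        rw [h2]
        exact Ideal.mul_mem_right _ _ hd'
    have h3 := hker ε
    rw [h, TensorProduct.tmul_zero, sub_zero] at h3
    exact hQ h3

/-- A connected scheme with a rational point stays connected after any extension. -/
theorem eq_zero_of_idem_field [PreconnectedSpace (PrimeSpectrum D)] (η : D →ₐ[k] k) (K : Type u)
    [Field K] [Algebra k K] {ε : D ⊗[k] K} (hid : IsIdempotentElem ε) (h : evPt η K ε = 0) :
    ε = 0 := by
  classical
  obtain ⟨S, hS⟩ := TensorProduct.exists_finset ε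
  let A : Subalgebra k K := Algebra.adjoin k ((S.image Prod.snd : Finset K) : Set K)
  haveI : Algebra.FiniteType k A := (Subalgebra.fg_iff_finiteType A).1 ⟨_, rfl⟩
  haveI : IsJacobsonRing A := isJacobsonRing_of_finiteType (A := k)
  let ε' : D ⊗[k] A :=
    ∑ p : S, p.1.1 ⊗ₜ[k] (⟨p.1.2, Algebra.subset_adjoin (Finset.mem_image_of_mem _ p.2)⟩ : A)
  let j : D ⊗[k] A →ₐ[k] D ⊗[k] K := Algebra.TensorProduct.map (AlgHom.id k D) A.val
  have hj : Function.Injective j :=
    Module.Flat.lTensor_preserves_injective_linearMap (M := D) A.val.toLinearMap Subtype.val_injective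
  have hε' : j ε' = ε := by
    rw [map_sum, hS, ← Finset.sum_coe_sort S]
    exact Finset.sum_congr rfl fun p _ => rfl
  have hid' : IsIdempotentElem ε' := hj (by rw [map_mul, hε', hid.eq])
  have hev : ∀ z, A.val (evPt η A z) = evPt η K (j z) := by
    intro z
    induction z using TensorProduct.induction_on with
    | zero => simp
    | add p q hp hq => simp only [map_add, hp, hq]
    | tmul d a => simp [j, evPt_tmul]
  have hev0 : evPt η A ε' = 0 := Subtype.val_injective ((hev ε').trans (by rw [hε', h]; rfl))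
  let b := Module.Basis.ofVectorSpace k D
  suffices h0 : ε' = 0 by rw [← hε', h0, map_zero]
  refine (TensorProduct.equivFinsuppOfBasisLeft b).injective (Finsupp.ext fun i => ?_)
  rw [map_zero, Finsupp.zero_apply]
  have hbot : Ideal.jacobson (⊥ : Ideal A) = ⊥ := by
    rw [← Ideal.radical_eq_jacobson]
    exact Ideal.radical_bot_of_isReduced
  rw [← Ideal.mem_bot, ← hbot, Ideal.jacobson, Submodule.mem_sInf]
  rintro P ⟨-, hP⟩
  haveI := hP
  letI : Field (A ⧸ P) := Ideal.Quotient.field P
  haveI : Module.Finite k (A ⧸ P) := finite_of_finite_type_of_isJacobsonRing k (A ⧸ P)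
  let q : D ⊗[k] A →ₐ[k] D ⊗[k] (A ⧸ P) :=
    Algebra.TensorProduct.map (AlgHom.id k D) (Ideal.Quotient.mkₐ k P)
  have hq0 : q ε' = 0 := by
    refine eq_zero_of_idem_finite η (A ⧸ P) (hid'.map q) ?_
    have : ∀ z, evPt η (A ⧸ P) (q z) = Ideal.Quotient.mkₐ k P (evPt η A z) := by
      intro z
      induction z using TensorProduct.induction_on with
      | zero => simp
      | add p r hp hr => simp only [map_add, hp, hr]
      | tmul d a => simp [q, evPt_tmul]
    rw [this, hev0, map_zero]
  have hnat : ∀ z, TensorProduct.equivFinsuppOfBasisLeft b (q z) i =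
      Ideal.Quotient.mk P (TensorProduct.equivFinsuppOfBasisLeft b z i) := by
    intro z
    induction z using TensorProduct.induction_on with
    | zero => simp
    | add p r hp hr => simp only [map_add, Finsupp.add_apply, hp, hr]
    | tmul d a =>
      simp only [q, Algebra.TensorProduct.map_tmul, AlgHom.id_apply,
        TensorProduct.equivFinsuppOfBasisLeft_apply_tmul_apply]
      rfl
  rw [← Ideal.Quotient.eq_zero_iff_mem, ← hnat, hq0, map_zero, Finsupp.zero_apply]

/-- With connected fibres on the original base the subgroup is everything after any base change. -/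
theorem eq_zero_of_connected_baseChange {R : Type u} [CommRing R] {C : Type u} [CommRing C]
    [Bialgebra R C]
    (hconn : ∀ (p : Ideal R) [p.IsPrime], ConnectedSpace (PrimeSpectrum (p.ResidueField ⊗[R] C)))
    (T : Type u) [CommRing T] [Algebra R T] {e : T ⊗[R] C} (hid : IsIdempotentElem e)
    (hε : counit (R := T) e = 0) : e = 0 := by
  refine hid.eq_zero_of_isNilpotent ?_
  rw [← mem_nilradical, nilradical_eq_sInf, Ideal.mem_sInf]
  intro Q hQ
  haveI : Q.IsPrime := hQ
  let p := Q.comap (algebraMap R (T ⊗[R] C))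
  let k := p.ResidueField
  let K := Q.ResidueField
  haveI := hconn p
  let ι : k →ₐ[R] K := Ideal.ResidueField.mapₐ p Q (Algebra.ofId R (T ⊗[R] C)) rfl
  letI : Algebra k K := ι.toRingHom.toAlgebra
  haveI : IsScalarTower R k K := IsScalarTower.of_algebraMap_eq fun r => (ι.commutes r).symm
  let τ : T →ₐ[R] K := (IsScalarTower.toAlgHom R (T ⊗[R] C) K).comp Algebra.TensorProduct.includeLeft
  let ψ : T ⊗[R] C →ₐ[R] (k ⊗[R] C) ⊗[k] K := Algebra.TensorProduct.lift
    (((Algebra.TensorProduct.includeRight : K →ₐ[k] (k ⊗[R] C) ⊗[k] K).restrictScalars R).comp τ)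
    (((Algebra.TensorProduct.includeLeft : k ⊗[R] C →ₐ[k] (k ⊗[R] C) ⊗[k] K).restrictScalars R).comp
      Algebra.TensorProduct.includeRight) (fun _ _ => .all _ _)
  have hψ : ∀ t c, ψ (t ⊗ₜ c) = ((1 : k) ⊗ₜ[R] c) ⊗ₜ[k] τ t := fun t c => by
    simp [ψ, Algebra.TensorProduct.tmul_mul_tmul]
  let η := Bialgebra.counitAlgHom k (k ⊗[R] C)
  have hηψ : ∀ z, evPt η K (ψ z) = τ (counit (R := T) z) := by
    intro z
    induction z using TensorProduct.induction_on with
    | zero => simp
    | add a b ha hb => simp only [map_add, ha, hb]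
    | tmul t c =>
      rw [hψ, evPt_tmul, Bialgebra.counitAlgHom_apply, TensorProduct.counit_tmul,
        TensorProduct.counit_tmul, CommSemiring.counit_apply, CommSemiring.counit_apply,
        Algebra.smul_def, mul_one, ← IsScalarTower.algebraMap_apply, map_smul, Algebra.smul_def]
  have h0 : ψ e = 0 := eq_zero_of_idem_field η K (hid.map ψ) (by rw [hηψ, hε, map_zero])
  let Φ : (k ⊗[R] C) ⊗[k] K →ₐ[k] K := Algebra.TensorProduct.lift
    (Algebra.TensorProduct.lift (Algebra.ofId k K)
      ((IsScalarTower.toAlgHom R (T ⊗[R] C) K).comp Algebra.TensorProduct.includeRight)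
      (fun _ _ => .all _ _))
    (AlgHom.id k K) (fun _ _ => .all _ _)
  have hΦ : ∀ z, Φ (ψ z) = algebraMap (T ⊗[R] C) K z := by
    intro z
    induction z using TensorProduct.induction_on with
    | zero => simp
    | add a b ha hb => simp only [map_add, ha, hb]
    | tmul t c =>
      rw [hψ]
      simp only [Φ, τ, Algebra.TensorProduct.lift_tmul, AlgHom.id_apply, map_one, one_mul,
        AlgHom.comp_apply, Algebra.TensorProduct.includeRight_apply,
        Algebra.TensorProduct.includeLeft_apply, IsScalarTower.coe_toAlgHom']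
      rw [← map_mul, Algebra.TensorProduct.tmul_mul_tmul, one_mul, mul_one]
  have h1 := hΦ e
  rw [h0, map_zero] at h1
  exact Ideal.algebraMap_residueField_eq_zero.1 h1.symm

end Connected

end Groth.Sga3.FibreCore
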