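import Groth.Agent.Sga3.CoverDescent
import Groth.Agent.Sga3.FibreCore
import Mathlib.RingTheory.Filtration
import Mathlib.RingTheory.Coalgebra.Convolution
import Mathlib.RingTheory.Flat.FaithfullyFlat.Algebra

/-!
Two homomorphisms from a group of multiplicative type to a commutative affine group of finite type
over a local ring which agree on the closed fibre are equal.
-/

set_option autoImplicit false

universe u

open TensorProduct Coalgebra WithConv

noncomputable section

namespace Groth.Sga3.LocalRigid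

open SGA3b MultType GroupAlg
open Groth.Sga3.Descend (mp cf_mp mp_injective)

section Idem

variable {T : Type u} [CommRing T] {D : Type u} [CommRing D] [Bialgebra T D]

/-- sums of pure tensors with entries in a set -/
abbrev pairs (Q : Set D) : AddSubgroup (D ⊗[T] D) :=
  AddSubgroup.closure {z | ∃ a ∈ Q, ∃ b ∈ Q, z = a ⊗ₜ[T] b}

variable {T₁ : Subalgebra ℤ T}

/-- forms with values in an ideal of a subring on a given set -/
def Takes (Q : Set D) (J : Ideal T₁) (φ : WithConv (D →ₗ[T] T)) : Prop :=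
  ∀ q ∈ Q, ∃ x ∈ J, (x : T) = φ q

theorem Takes.mul {Q : Set D} (hQ : ∀ q ∈ Q, comul (R := T) q ∈ pairs Q) {I J : Ideal T₁}
    {φ ψ : WithConv (D →ₗ[T] T)} (hφ : Takes Q I φ) (hψ : Takes Q J ψ) :
    Takes Q (I * J) (φ * ψ) := by
  intro q hq
  rw [LinearMap.convMul_apply]
  have h := hQ q hq
  revert h
  generalize comul (R := T) q = z
  intro hz
  induction hz using AddSubgroup.closure_induction with
  | mem z hz =>
    obtain ⟨a, ha, b, hb, rfl⟩ := hz
    obtain ⟨x, hx, hxa⟩ := hφ a ha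
    obtain ⟨y, hy, hyb⟩ := hψ b hb
    refine ⟨x * y, Ideal.mul_mem_mul hx hy, ?_⟩
    rw [Subalgebra.coe_mul, hxa, hyb]
    simp
  | zero => exact ⟨0, zero_mem _, by simp⟩
  | add z w _ _ h₁ h₂ =>
    obtain ⟨x, hx, h1⟩ := h₁
    obtain ⟨y, hy, h2⟩ := h₂
    exact ⟨x + y, add_mem hx hy, by rw [Subalgebra.coe_add, h1, h2, map_add, map_add]⟩
  | neg z _ h₁ =>
    obtain ⟨x, hx, h1⟩ := h₁
    exact ⟨-x, neg_mem hx, by rw [NegMemClass.coe_neg, h1, map_neg, map_neg]⟩

variable [IsLocalRing T]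

/-- A form equal to its convolution cube, with values in a Noetherian subring and in the maximal
ideal, vanishes. -/
theorem eq_zero_of_cube [IsNoetherianRing T₁] {Q : Set D}
    (hQ : ∀ q ∈ Q, comul (R := T) q ∈ pairs Q) {d : WithConv (D →ₗ[T] T)} (hd3 : d * d * d = d)
    (hdQ : ∀ q ∈ Q, d q ∈ T₁) (hm : ∀ q ∈ Q, d q ∈ IsLocalRing.maximalIdeal T) :
    ∀ q ∈ Q, d q = 0 := by
  let I : Ideal T₁ := (IsLocalRing.maximalIdeal T).comap T₁.val.toRingHom
  have hd : Takes Q I d := fun q hq => ⟨⟨d q, hdQ q hq⟩, hm q hq, rfl⟩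
  have hk : ∀ k, Takes Q (I ^ (k + 1)) d := by
    intro k
    induction k with
    | zero => simpa using hd
    | succ k ih =>
      intro q hq
      obtain ⟨x, hx, hxq⟩ := (Takes.mul hQ (Takes.mul hQ ih hd) hd) q hq
      rw [hd3] at hxq
      rw [← pow_succ, ← pow_succ] at hx
      exact ⟨x, Ideal.pow_le_pow_right (Nat.le_succ _) hx, hxq⟩
  intro q hq
  obtain ⟨x, -, hxq⟩ := hd q hq
  have hx : x ∈ (⨅ i : ℕ, I ^ i • (⊤ : Submodule T₁ T₁)) := by
    refine Submodule.mem_iInf _ |>.2 fun i => ?_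
    rw [smul_eq_mul, Ideal.mul_top]
    obtain ⟨y, hy, hyq⟩ := hk i q hq
    have hxy : x = y := Subtype.ext (hxq.trans hyq.symm)
    exact hxy ▸ Ideal.pow_le_pow_right (Nat.le_succ i) hy
  obtain ⟨r, hr⟩ := (Ideal.mem_iInf_smul_pow_eq_bot_iff I x).1 hx
  have hu : IsUnit (1 - ((r.1 : T₁) : T)) :=
    IsLocalRing.isUnit_one_sub_self_of_mem_nonunits _ r.2
  have h0 : (x : T) = 0 := by
    refine hu.mul_right_eq_zero.1 ?_
    rw [sub_mul, one_mul, sub_eq_zero]
    have h := congrArg (Subtype.val : T₁ → T) hr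
    rw [smul_eq_mul, Subalgebra.coe_mul] at h
    exact h.symm
  rwa [hxq] at h0

variable [Coalgebra.IsCocomm T D]

/-- Congruent idempotent forms with values in a Noetherian subring are equal. -/
theorem eq_of_idem [IsNoetherianRing T₁] {Q : Set D} (hQ : ∀ q ∈ Q, comul (R := T) q ∈ pairs Q)
    {f g : WithConv (D →ₗ[T] T)} (hf : IsIdempotentElem f) (hg : IsIdempotentElem g)
    (hfQ : ∀ q ∈ Q, f q ∈ T₁) (hgQ : ∀ q ∈ Q, g q ∈ T₁)
    (hm : ∀ q ∈ Q, g q - f q ∈ IsLocalRing.maximalIdeal T) : ∀ q ∈ Q, f q = g q := by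
  let d := g - f
  have hd3 : d * d * d = d := by
    have h1 := hf.eq
    have h2 := hg.eq
    simp only [d]
    linear_combination (3 * g - 1 - f) * h1 + (1 + g - 3 * f) * h2
  intro q hq
  exact (sub_eq_zero.1 (eq_zero_of_cube hQ hd3 (fun q hq => sub_mem (hgQ q hq) (hfQ q hq)) hm q hq)).symm

end Idem

section Model

variable {R : Type u} [CommRing R] {C : Type u} [CommRing C]

theorem exists_finite_adjoin [Algebra R C] (s : Set C) {x : C} (hx : x ∈ Algebra.adjoin R s) :
    ∃ r : Finset R, x ∈ Algebra.adjoin ℤ (s ∪ algebraMap R C '' r) := by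
  classical
  induction hx using Algebra.adjoin_induction with
  | mem y hy => exact ⟨∅, Algebra.subset_adjoin (Or.inl hy)⟩
  | algebraMap a => exact ⟨{a}, Algebra.subset_adjoin (Or.inr ⟨a, by simp, rfl⟩)⟩
  | add y z _ _ hy hz =>
    obtain ⟨r₁, h₁⟩ := hy
    obtain ⟨r₂, h₂⟩ := hz
    exact ⟨r₁ ∪ r₂, add_mem
      (Algebra.adjoin_mono (Set.union_subset_union_right _ (Set.image_mono (by simp))) h₁)
      (Algebra.adjoin_mono (Set.union_subset_union_right _ (Set.image_mono (by simp))) h₂)⟩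
  | mul y z _ _ hy hz =>
    obtain ⟨r₁, h₁⟩ := hy
    obtain ⟨r₂, h₂⟩ := hz
    exact ⟨r₁ ∪ r₂, mul_mem
      (Algebra.adjoin_mono (Set.union_subset_union_right _ (Set.image_mono (by simp))) h₁)
      (Algebra.adjoin_mono (Set.union_subset_union_right _ (Set.image_mono (by simp))) h₂)⟩

variable [Bialgebra R C]

theorem exists_finite_pairs (z : C ⊗[R] C) :
    ∃ u : Finset C, ∀ Q : Set C, ↑u ⊆ Q → z ∈ pairs (T := R) Q := by
  classical
  induction z using TensorProduct.induction_on with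
  | zero => exact ⟨∅, fun Q _ => zero_mem _⟩
  | tmul a b =>
    exact ⟨{a, b}, fun Q h => AddSubgroup.subset_closure
      ⟨a, h (by simp), b, h (by simp), rfl⟩⟩
  | add z w hz hw =>
    obtain ⟨u, hu⟩ := hz
    obtain ⟨v, hv⟩ := hw
    refine ⟨u ∪ v, fun Q h => add_mem (hu Q ?_) (hv Q ?_)⟩
    · exact fun x hx => h (Finset.mem_coe.2 (Finset.mem_union_left _ hx))
    · exact fun x hx => h (Finset.mem_coe.2 (Finset.mem_union_right _ hx))

theorem pairs_mul {Q : Subalgebra ℤ C} {z w : C ⊗[R] C} (hz : z ∈ pairs (T := R) (Q : Set C))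
    (hw : w ∈ pairs (T := R) (Q : Set C)) : z * w ∈ pairs (T := R) (Q : Set C) := by
  induction hz using AddSubgroup.closure_induction with
  | mem z hz =>
    obtain ⟨a, ha, b, hb, rfl⟩ := hz
    induction hw using AddSubgroup.closure_induction with
    | mem w hw =>
      obtain ⟨c, hc, e, he, rfl⟩ := hw
      exact AddSubgroup.subset_closure ⟨a * c, mul_mem ha hc, b * e, mul_mem hb he,
        Algebra.TensorProduct.tmul_mul_tmul a c b e⟩
    | zero => simp
    | add v w _ _ h₁ h₂ => rw [mul_add]; exact add_mem h₁ h₂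
    | neg v _ h₁ => rw [mul_neg]; exact neg_mem h₁
  | zero => simp
  | add v w _ _ h₁ h₂ => rw [add_mul]; exact add_mem h₁ h₂
  | neg v _ h₁ => rw [neg_mul]; exact neg_mem h₁

/-- A finitely generated subring generating `C` and stable under the comultiplication. -/
theorem exists_model (hft : Algebra.FiniteType R C) :
    ∃ t : Finset C, Algebra.adjoin R (t : Set C) = ⊤ ∧
      ∀ q ∈ Algebra.adjoin ℤ (t : Set C),
        comul (R := R) q ∈ pairs (T := R) (Algebra.adjoin ℤ (t : Set C) : Set C) := by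
  classical
  obtain ⟨s, hs⟩ := hft.out
  choose u hu using fun c : C => exists_finite_pairs (comul (R := R) c)
  choose r hr using fun c : C => exists_finite_adjoin (R := R) (s : Set C)
    (show c ∈ Algebra.adjoin R (s : Set C) by rw [hs]; trivial)
  let r' : Finset R := (s.biUnion u).biUnion r
  let t : Finset C := s ∪ r'.image (algebraMap R C)
  refine ⟨t, eq_top_iff.2 (hs ▸ Algebra.adjoin_mono (Finset.coe_subset.2 Finset.subset_union_left)),
    fun q hq => ?_⟩
  induction hq using Algebra.adjoin_induction with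
  | mem y hy =>
    rcases Finset.mem_union.1 hy with hy' | hy'
    · refine hu y _ fun x hx => ?_
      refine Algebra.adjoin_mono ?_ (hr x)
      rintro z (hz | ⟨a, ha, rfl⟩)
      · exact Finset.mem_union_left _ hz
      · exact Finset.mem_union_right _ (Finset.mem_image_of_mem _
          (Finset.mem_biUnion.2 ⟨x, Finset.mem_biUnion.2 ⟨y, hy', hx⟩, ha⟩))
    · obtain ⟨a, -, rfl⟩ := Finset.mem_image.1 hy'
      rw [← Bialgebra.comulAlgHom_apply, AlgHom.commutes]
      exact AddSubgroup.subset_closure ⟨algebraMap R C a, Algebra.subset_adjoin hy, 1, one_mem _, rfl⟩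
  | algebraMap a =>
    rw [eq_intCast, ← Bialgebra.comulAlgHom_apply, map_intCast, ← zsmul_one]
    refine zsmul_mem ?_ a
    exact AddSubgroup.subset_closure ⟨1, one_mem _, 1, one_mem _, rfl⟩
  | add y z _ _ hy hz => rw [map_add]; exact add_mem hy hz
  | mul y z _ _ hy hz =>
    rw [Bialgebra.comul_mul]
    exact pairs_mul hy hz

end Model

section Main

variable {R : Type u} [CommRing R]

theorem mem_range_mp {X Y M : Type u} [CommRing X] [CommRing Y] [CommGroup M] (f : X →+* Y)
    (y : MonoidAlgebra Y M) (h : ∀ m ∈ y.coeff.support, cf m y ∈ f.range) : y ∈ (mp f).range := by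
  classical
  have hy : y = ∑ m ∈ y.coeff.support, MonoidAlgebra.single m (cf m y) := by
    refine ext_cf fun n => ?_
    rw [map_sum, Finset.sum_eq_single n]
    · rw [cf_single, if_pos rfl]
    · intro b _ hbn
      rw [cf_single, if_neg hbn]
    · intro hn
      rw [cf_single, if_pos rfl]
      exact Finsupp.notMem_support_iff.1 hn
  rw [hy]
  refine sum_mem fun m hm => ?_
  obtain ⟨x, hx⟩ := h m hm
  exact ⟨MonoidAlgebra.single m x, by simp [mp, hx]⟩

theorem pairs_baseChange {C : Type u} [CommRing C] [Bialgebra R C] (T : Type u) [CommRing T]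
    [Algebra R T] {Q : Set C} {q : C} (hq : comul (R := R) q ∈ pairs (T := R) Q) :
    comul (R := T) ((1 : T) ⊗ₜ[R] q) ∈
      pairs (T := T) ((fun c : C => (1 : T) ⊗ₜ[R] c) '' Q) := by
  rw [TensorProduct.comul_tmul, CommSemiring.comul_apply]
  let Λ : C ⊗[R] C →+ (T ⊗[R] C) ⊗[T] (T ⊗[R] C) :=
    AddMonoidHom.mk' (fun z => TensorProduct.AlgebraTensorModule.tensorTensorTensorComm R T R T T T C C
      (((1 : T) ⊗ₜ[T] (1 : T)) ⊗ₜ[R] z)) fun z w => by rw [TensorProduct.tmul_add, map_add]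
  change Λ (comul (R := R) q) ∈ _
  refine (AddSubgroup.closure_le ((pairs (T := T) ((fun c : C => (1 : T) ⊗ₜ[R] c) '' Q)).comap Λ)).2 ?_ hq
  rintro _ ⟨a, ha, b, hb, rfl⟩
  refine AddSubgroup.subset_closure ⟨_, ⟨a, ha, rfl⟩, _, ⟨b, hb, rfl⟩, ?_⟩
  simp [Λ]

/-- Congruent homomorphisms into a group algebra over a local ring agree. -/
theorem eq_of_diag {T : Type u} [CommRing T] [IsLocalRing T] [Algebra R T] {C : Type u} [CommRing C]
    [Bialgebra R C] [Coalgebra.IsCocomm R C] (hft : Algebra.FiniteType R C) {M : Type u} [CommGroup M]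
    (F G : T ⊗[R] C →ₐc[T] MonoidAlgebra T M)
    (hm : ∀ (c : C) (m : M), cf m (G ((1 : T) ⊗ₜ c)) - cf m (F ((1 : T) ⊗ₜ c)) ∈
      IsLocalRing.maximalIdeal T) (c : C) : F ((1 : T) ⊗ₜ c) = G ((1 : T) ⊗ₜ c) := by
  classical
  obtain ⟨t, htop, hpairs⟩ := exists_model hft
  let F' : C →ₐ[R] MonoidAlgebra T M :=
    ((F : T ⊗[R] C →ₐ[T] MonoidAlgebra T M).restrictScalars R).comp
      Algebra.TensorProduct.includeRight
  let G' : C →ₐ[R] MonoidAlgebra T M :=
    ((G : T ⊗[R] C →ₐ[T] MonoidAlgebra T M).restrictScalars R).comp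
      Algebra.TensorProduct.includeRight
  let cs : Finset T := t.biUnion fun c =>
    ((F' c).coeff.support.image fun m => cf m (F' c)) ∪ ((G' c).coeff.support.image fun m => cf m (G' c))
  let T₁ : Subalgebra ℤ T := Algebra.adjoin ℤ (cs : Set T)
  haveI : Algebra.FiniteType ℤ T₁ := (Subalgebra.fg_iff_finiteType T₁).1 ⟨cs, rfl⟩
  haveI : IsNoetherianRing T₁ := Algebra.FiniteType.isNoetherianRing ℤ T₁
  let ι : T₁ →+* T := T₁.val.toRingHom
  let Q₀ : Subalgebra ℤ C := Algebra.adjoin ℤ (t : Set C)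
  have hmem : ∀ (H : C →+* MonoidAlgebra T M),
      (∀ c ∈ t, ∀ m ∈ (H c).coeff.support, cf m (H c) ∈ T₁) → ∀ q ∈ Q₀, ∀ m, cf m (H q) ∈ T₁ := by
    intro H hH q hq m
    suffices h : H q ∈ (mp ι).range by
      obtain ⟨x, hx⟩ := h
      rw [← hx, cf_mp]
      exact (cf m x).2
    induction hq using Algebra.adjoin_induction with
    | mem y hy => exact mem_range_mp ι _ fun m hm => ⟨(⟨_, hH y hy m hm⟩ : T₁), rfl⟩
    | algebraMap a => rw [eq_intCast, map_intCast]; exact intCast_mem _ a
    | add y z _ _ hy hz => rw [map_add]; exact add_mem hy hz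
    | mul y z _ _ hy hz => rw [map_mul]; exact mul_mem hy hz
  have hFQ := hmem F'.toRingHom fun c hc m hm => Algebra.subset_adjoin
    (Finset.mem_biUnion.2 ⟨c, hc, Finset.mem_union_left _ (Finset.mem_image_of_mem _ hm)⟩)
  have hGQ := hmem G'.toRingHom fun c hc m hm => Algebra.subset_adjoin
    (Finset.mem_biUnion.2 ⟨c, hc, Finset.mem_union_right _ (Finset.mem_image_of_mem _ hm)⟩)
  let Q : Set (T ⊗[R] C) := (fun c : C => (1 : T) ⊗ₜ[R] c) '' (Q₀ : Set C)
  have hidem : ∀ (H : T ⊗[R] C →ₐc[T] MonoidAlgebra T M) (m : M),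
      IsIdempotentElem (toConv (cf m ∘ₗ (H : T ⊗[R] C →ₗc[T] MonoidAlgebra T M).toLinearMap)) := by
    intro H m
    have h := LinearMap.convMul_comp_coalgHom_distrib (toConv (cf (R := T) m)) (toConv (cf m))
      (H : T ⊗[R] C →ₗc[T] MonoidAlgebra T M)
    rw [cf_mul_cf, if_pos rfl] at h
    exact WithConv.ofConv_injective h.symm
  have key : ∀ m, ∀ c ∈ Q₀, cf m (F' c) = cf m (G' c) := fun m c hc =>
    eq_of_idem (T₁ := T₁) (Q := Q)
      (by rintro _ ⟨q, hq, rfl⟩; exact pairs_baseChange T (hpairs q hq))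
      (hidem F m) (hidem G m)
      (by rintro _ ⟨q, hq, rfl⟩; exact hFQ q hq m)
      (by rintro _ ⟨q, hq, rfl⟩; exact hGQ q hq m)
      (by rintro _ ⟨q, hq, rfl⟩; exact hm q m) _ ⟨c, hc, rfl⟩
  have hFG : F' = G' := AlgHom.ext_of_adjoin_eq_top htop fun c hc =>
    ext_cf fun m => key m c (Algebra.subset_adjoin hc)
  exact DFunLike.congr_fun hFG c

/-- A homomorphism into a group algebra over a local ring which is trivial on the closed fibre is
trivial. -/
theorem trivial_of_diag {T : Type u} [CommRing T] [IsLocalRing T] [Algebra R T] {C : Type u}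
    [CommRing C] [Bialgebra R C] (hft : Algebra.FiniteType R C) {M : Type u} [CommGroup M]
    (F : T ⊗[R] C →ₐc[T] MonoidAlgebra T M)
    (hm : ∀ (c : C) (m : M), cf m (F ((1 : T) ⊗ₜ c) - algebraMap T _ (algebraMap R T (counit c))) ∈
      IsLocalRing.maximalIdeal T) (c : C) :
    F ((1 : T) ⊗ₜ c) = algebraMap T _ (algebraMap R T (counit (R := R) c)) := by
  classical
  obtain ⟨t, htop, hpairs⟩ := exists_model hft
  let F' : C →ₐ[R] MonoidAlgebra T M :=
    ((F : T ⊗[R] C →ₐ[T] MonoidAlgebra T M).restrictScalars R).comp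
      Algebra.TensorProduct.includeRight
  let G' : C →ₐ[R] MonoidAlgebra T M :=
    (IsScalarTower.toAlgHom R T (MonoidAlgebra T M)).comp
      ((Algebra.ofId R T).comp (Bialgebra.counitAlgHom R C))
  let D' : C → MonoidAlgebra T M := fun c => F' c - G' c
  let cs : Finset T := t.biUnion fun c =>
    ((F' c).coeff.support.image fun m => cf m (F' c)) ∪ ((G' c).coeff.support.image fun m => cf m (G' c))
  let T₁ : Subalgebra ℤ T := Algebra.adjoin ℤ (cs : Set T)
  haveI : Algebra.FiniteType ℤ T₁ := (Subalgebra.fg_iff_finiteType T₁).1 ⟨cs, rfl⟩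
  haveI : IsNoetherianRing T₁ := Algebra.FiniteType.isNoetherianRing ℤ T₁
  let ι : T₁ →+* T := T₁.val.toRingHom
  let Q₀ : Subalgebra ℤ C := Algebra.adjoin ℤ (t : Set C)
  have hmem : ∀ (H : C →+* MonoidAlgebra T M),
      (∀ c ∈ t, ∀ m ∈ (H c).coeff.support, cf m (H c) ∈ T₁) → ∀ q ∈ Q₀, ∀ m, cf m (H q) ∈ T₁ := by
    intro H hH q hq m
    suffices h : H q ∈ (mp ι).range by
      obtain ⟨x, hx⟩ := h
      rw [← hx, cf_mp]
      exact (cf m x).2
    induction hq using Algebra.adjoin_induction with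
    | mem y hy => exact mem_range_mp ι _ fun m hm => ⟨(⟨_, hH y hy m hm⟩ : T₁), rfl⟩
    | algebraMap a => rw [eq_intCast, map_intCast]; exact intCast_mem _ a
    | add y z _ _ hy hz => rw [map_add]; exact add_mem hy hz
    | mul y z _ _ hy hz => rw [map_mul]; exact mul_mem hy hz
  have hFQ := hmem F'.toRingHom fun c hc m hm => Algebra.subset_adjoin
    (Finset.mem_biUnion.2 ⟨c, hc, Finset.mem_union_left _ (Finset.mem_image_of_mem _ hm)⟩)
  have hGQ := hmem G'.toRingHom fun c hc m hm => Algebra.subset_adjoin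
    (Finset.mem_biUnion.2 ⟨c, hc, Finset.mem_union_right _ (Finset.mem_image_of_mem _ hm)⟩)
  let Q : Set (T ⊗[R] C) := (fun c : C => (1 : T) ⊗ₜ[R] c) '' (Q₀ : Set C)
  have hG1 : ∀ q : C, G' q = MonoidAlgebra.single (1 : M) (algebraMap R T (counit (R := R) q)) :=
    fun q => rfl
  have hidem : ∀ m : M,
      IsIdempotentElem (toConv (cf m ∘ₗ (F : T ⊗[R] C →ₗc[T] MonoidAlgebra T M).toLinearMap)) := by
    intro m
    have h := LinearMap.convMul_comp_coalgHom_distrib (toConv (cf (R := T) m)) (toConv (cf m))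
      (F : T ⊗[R] C →ₗc[T] MonoidAlgebra T M)
    rw [cf_mul_cf, if_pos rfl] at h
    exact WithConv.ofConv_injective h.symm
  have key : ∀ m, ∀ q ∈ Q₀, cf m (D' q) = 0 := by
    intro m q hq
    let f := toConv (cf m ∘ₗ (F : T ⊗[R] C →ₗc[T] MonoidAlgebra T M).toLinearMap)
    let u : WithConv (T ⊗[R] C →ₗ[T] T) := if m = 1 then 1 else 0
    have hd3 : (f - u) * (f - u) * (f - u) = f - u := by
      have hf : f * f = f := (hidem m).eq
      simp only [u]
      split_ifs
      · simp only [mul_sub, sub_mul, mul_one, one_mul, hf]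
        abel
      · simp [hf]
    have hval : ∀ c, (f - u) ((1 : T) ⊗ₜ[R] c) = cf m (D' c) := by
      intro c
      have h1 : u ((1 : T) ⊗ₜ[R] c) = cf m (G' c) := by
        rw [hG1, cf_single]
        simp only [u]
        rcases eq_or_ne m 1 with rfl | hm1
        · rw [if_pos rfl, if_pos rfl, LinearMap.convOne_apply, TensorProduct.counit_tmul,
            CommSemiring.counit_apply, Algebra.smul_def, mul_one]
          rfl
        · rw [if_neg hm1, if_neg (Ne.symm hm1)]
          rfl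
      rw [map_sub (cf m), ← h1]
      rfl
    rw [← hval q]
    refine eq_zero_of_cube (T₁ := T₁) (Q := Q)
      (by rintro _ ⟨q, hq, rfl⟩; exact pairs_baseChange T (hpairs q hq)) hd3 ?_ ?_ _ ⟨q, hq, rfl⟩
    · rintro _ ⟨q, hq, rfl⟩
      rw [hval q, map_sub]
      exact sub_mem (hFQ q hq m) (hGQ q hq m)
    · rintro _ ⟨q, hq, rfl⟩
      rw [hval q]
      exact hm q m
  have hFG : F' = G' := AlgHom.ext_of_adjoin_eq_top htop fun c hc =>
    sub_eq_zero.1 (ext_cf fun m => (key m c (Algebra.subset_adjoin hc)).trans (map_zero (cf m)).symm)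
  exact DFunLike.congr_fun hFG c

theorem exists_local_diag [IsLocalRing R] {A : Type u} [CommRing A] [HopfAlgebra R A]
    (h : IsMultType R A) :
    ∃ (T : Type u) (_ : CommRing T) (_ : IsLocalRing T) (_ : Algebra R T),
      Module.FaithfullyFlat R T ∧ IsLocalHom (algebraMap R T) ∧ IsDiag T (T ⊗[R] A) := by
  classical
  obtain ⟨ι, _, S, _, _, hff, hd⟩ := exists_cover h
  obtain ⟨Q, hQ⟩ := PrimeSpectrum.comap_surjective_of_faithfullyFlat (A := R) (B := ∀ i, S i)
    ⟨IsLocalRing.maximalIdeal R, inferInstance⟩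
  let P := ∀ i, S i
  let T := Localization.AtPrime Q.asIdeal
  haveI : Module.Flat P T := IsLocalization.flat T Q.asIdeal.primeCompl
  haveI : Module.Flat R T := Module.Flat.trans R P T
  have hlo : Q.asIdeal.comap (algebraMap R P) = IsLocalRing.maximalIdeal R :=
    congrArg PrimeSpectrum.asIdeal hQ
  haveI : IsLocalHom (algebraMap R T) := by
    refine ((IsLocalRing.local_hom_TFAE (algebraMap R T)).out 0 4).2 ?_
    rw [IsScalarTower.algebraMap_eq R P T, ← Ideal.comap_comap]
    exact (congrArg (Ideal.comap (algebraMap R P))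
      (Localization.AtPrime.under_maximalIdeal (I := Q.asIdeal))).trans hlo
  refine ⟨T, inferInstance, inferInstance, inferInstance,
    Module.FaithfullyFlat.of_flat_of_isLocalHom, inferInstance, ?_⟩
  obtain ⟨i, hi⟩ : ∃ i, Pi.single i (1 : S i) ∉ Q.asIdeal := by
    by_contra! hall
    apply Q.isPrime.ne_top
    rw [Ideal.eq_top_iff_one, ← Finset.univ_sum_single (1 : ∀ i, S i)]
    exact sum_mem fun i _ => hall i
  let f : S i →+* T :=
    { toFun := fun s => algebraMap P T (Pi.single i s)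
      map_one' := by
        have hu : IsUnit (algebraMap P T (Pi.single i (1 : S i))) :=
          IsLocalization.map_units T (⟨_, hi⟩ : Q.asIdeal.primeCompl)
        refine hu.mul_left_cancel ?_
        rw [mul_one, ← map_mul, ← Pi.single_mul, one_mul]
      map_mul' := fun a b => by rw [← map_mul, ← Pi.single_mul]
      map_zero' := by simp
      map_add' := fun a b => by rw [← map_add, Pi.single_add] }
  letI : Algebra (S i) T := f.toAlgebra
  haveI : IsScalarTower R (S i) T := IsScalarTower.of_algebraMap_eq fun r => by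
    change algebraMap R T r = algebraMap P T (Pi.single i (algebraMap R (S i) r))
    have h1 : (Pi.single i (algebraMap R (S i) r) : P) = algebraMap R P r * Pi.single i 1 := by
      funext k
      by_cases hk : k = i
      · subst hk; simp [P]
      · simp [P, hk]
    rw [h1, map_mul, ← IsScalarTower.algebraMap_apply R P T]
    change algebraMap R T r = algebraMap R T r * f 1
    rw [map_one, mul_one]
  exact isDiag_trans (S i) T A (isDiag_baseChange T (S i ⊗[R] A) (hd i))

/-- Rigidity over a local base for a commutative target. -/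
theorem eq_of_sub_mem [IsLocalRing R] {A : Type u} [CommRing A] [HopfAlgebra R A]
    (h : IsMultType R A) {C : Type u} [CommRing C] [Bialgebra R C] [Coalgebra.IsCocomm R C]
    (hC : Algebra.FiniteType R C) (φ ψ : C →ₐc[R] A)
    (hs : ∀ c : C, φ c - ψ c ∈ Ideal.map (algebraMap R A) (IsLocalRing.maximalIdeal R)) :
    φ = ψ := by
  obtain ⟨T, _, _, _, hff, hloc, M, _, ⟨e⟩⟩ := exists_local_diag h
  let F : T ⊗[R] C →ₐc[T] MonoidAlgebra T M :=
    (e : T ⊗[R] A →ₐc[T] MonoidAlgebra T M).comp (mapBC T φ)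
  let G : T ⊗[R] C →ₐc[T] MonoidAlgebra T M :=
    (e : T ⊗[R] A →ₐc[T] MonoidAlgebra T M).comp (mapBC T ψ)
  let j : A →ₐ[R] MonoidAlgebra T M :=
    ((e : T ⊗[R] A →ₐ[T] MonoidAlgebra T M).restrictScalars R).comp
      Algebra.TensorProduct.includeRight
  have hF : ∀ c, F ((1 : T) ⊗ₜ c) = j (φ c) := fun c => rfl
  have hG : ∀ c, G ((1 : T) ⊗ₜ c) = j (ψ c) := fun c => rfl
  have hsm : ∀ a ∈ Ideal.map (algebraMap R A) (IsLocalRing.maximalIdeal R), ∀ m,
      cf m (j a) ∈ IsLocalRing.maximalIdeal T := by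
    intro a ha m
    have ha' : a ∈ (Ideal.map (algebraMap R A) (IsLocalRing.maximalIdeal R)).restrictScalars R := ha
    rw [← Ideal.smul_top_eq_map] at ha'
    clear ha
    induction ha' using Submodule.smul_induction_on' with
    | smul r hr b _ =>
      rw [map_smul, ← IsScalarTower.algebraMap_smul T r (j b), map_smul, smul_eq_mul]
      exact Ideal.mul_mem_right _ _ (map_nonunit (algebraMap R T) r hr)
    | add b c _ _ hb hc => rw [map_add, map_add]; exact add_mem hb hc
  refine BialgHom.ext fun c => ?_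
  have h1 := eq_of_diag hC G F (fun c m => by
    rw [hF, hG, ← map_sub, ← map_sub]; exact hsm _ (hs c) m) c
  rw [hF, hG] at h1
  have h2 : (1 : T) ⊗ₜ[R] ψ c = (1 : T) ⊗ₜ[R] φ c := EquivLike.injective e h1
  haveI := hff
  exact (Module.FaithfullyFlat.tensorProduct_mk_injective (A := R) (B := T) A h2).symm

end Main

end Groth.Sga3.LocalRigid
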