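import Groth.Agent.Sga3.FlatDeform
import Groth.Agent.Sga3.NilIsotrivial
import Groth.Agent.Sga3.HensIsotrivial
import Mathlib.RingTheory.Artinian.Ring

/-!
Flat deformations of (quasi-)isotrivial groups of multiplicative type.
-/

set_option autoImplicit false

universe u

open TensorProduct

noncomputable section

namespace Groth.Sga3.MultType

open SGA3b

variable {R : Type u} [CommRing R] {A : Type u} [CommRing A] [HopfAlgebra R A]

/-- An etale covering which splits the group modulo a nil ideal lifts. -/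
theorem exists_etale_splitting_flat [Module.Flat R A] {B C : Type u} [CommRing B] [CommRing C]
    [Algebra R B] [Algebra B C] [Algebra R C] [IsScalarTower R B C]
    (hπ : Function.Surjective (algebraMap R B))
    (hn : IsNilpotent (RingHom.ker (algebraMap R B)))
    [Algebra.Etale B C] [Module.FaithfullyFlat B C] (hd : IsDiag C (C ⊗[R] A)) :
    ∃ (Q : Type u) (_ : CommRing Q) (_ : Algebra R Q), Algebra.Etale R Q ∧ Module.FaithfullyFlat R Q ∧
      IsDiag Q (Q ⊗[R] A) ∧ (Module.Finite B C → Module.Finite R Q) := by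
  have hnil : ∀ x ∈ RingHom.ker (algebraMap R B), IsNilpotent x := fun x hx => by
    obtain ⟨n, hn'⟩ := hn
    exact ⟨n, by simpa [hn'] using Ideal.pow_mem_pow hx n⟩
  obtain ⟨Q, _, _, π, het, hπs, hker⟩ :=
    Groth.AlgStBasic.SmoothDescent.exists_etale_lift (C := C) hπ
  let J : Ideal Q := RingHom.ker π.toRingHom
  have hJnil : ∀ x ∈ J, IsNilpotent x := by
    intro x hx
    exact map_nil hnil Q x (hker ▸ hx)
  let e : (Q ⧸ J) ≃ₐ[R] C := Ideal.quotientKerAlgEquivOfSurjective hπs
  let : Algebra C (Q ⧸ J) := (e.symm : C →+* Q ⧸ J).toAlgebra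
  haveI : IsScalarTower R C (Q ⧸ J) := IsScalarTower.of_algebraMap_eq fun r => (e.symm.commutes r).symm
  have h1 : IsDiag (Q ⧸ J) ((Q ⧸ J) ⊗[R] A) :=
    isDiag_trans C (Q ⧸ J) A (isDiag_baseChange (Q ⧸ J) (C ⊗[R] A) hd)
  have h2 : IsDiag Q (Q ⊗[R] A) := FlatDeform.isDiag_of_nilpotent (I := J) (by
      obtain ⟨n, hn'⟩ := hn
      refine ⟨n, ?_⟩
      rw [show J = (RingHom.ker (algebraMap R B)).map (algebraMap R Q) from hker, ← Ideal.map_pow, hn']
      exact Ideal.map_bot)
    (isDiag_of_equiv (cancelBC R Q (Q ⧸ J) A).symm h1)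
  haveI : Module.Flat R Q := inferInstance
  refine ⟨Q, _, _, het, Module.FaithfullyFlat.of_comap_surjective fun p => ?_, h2, fun hfin => ?_⟩
  · obtain ⟨q, hq⟩ : p ∈ Set.range (PrimeSpectrum.comap (algebraMap R B)) := by
      rw [range_comap_of_surjective B (algebraMap R B) hπ]
      intro x hx
      obtain ⟨n, hn⟩ := hnil x hx
      exact p.2.mem_of_pow_mem n (hn ▸ p.asIdeal.zero_mem)
    obtain ⟨P, hP⟩ := PrimeSpectrum.comap_surjective_of_faithfullyFlat (A := B) (B := C) q
    refine ⟨PrimeSpectrum.comap π.toRingHom P, ?_⟩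
    rw [← hq, ← hP, ← PrimeSpectrum.comap_comp_apply, ← PrimeSpectrum.comap_comp_apply]
    rw [show π.toRingHom.comp (algebraMap R Q) = (algebraMap B C).comp (algebraMap R B) from
      π.comp_algebraMap.trans (IsScalarTower.algebraMap_eq R B C)]
  · haveI : Algebra.IsIntegral R Q := ⟨fun x => by
      obtain ⟨g, hg, hgx⟩ := IsIntegral.of_finite B (π x)
      obtain ⟨f, hf, -, hfm⟩ := Polynomial.lifts_and_natDegree_eq_and_monic
        (Polynomial.mem_lifts g |>.2 (Polynomial.map_surjective _ hπ g)) hg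
      have h0 : Polynomial.aeval x f ∈ J := by
        change π (Polynomial.aeval x f) = 0
        rw [← Polynomial.aeval_algHom_apply, ← Polynomial.aeval_map_algebraMap B (π x) f, hf]
        exact hgx
      obtain ⟨n, hn⟩ := hJnil _ h0
      exact ⟨f ^ n, hfm.pow n, by rw [← Polynomial.aeval_def, map_pow, hn]⟩⟩
    exact Algebra.IsIntegral.finite

theorem isQuasiIsotrivial_of_nilpotent [Module.Flat R A] {I : Ideal R} (hIn : IsNilpotent I)
    (h0 : IsQuasiIsotrivial (R ⧸ I) ((R ⧸ I) ⊗[R] A)) : IsQuasiIsotrivial R A := by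
  have hI : ∀ x ∈ I, IsNilpotent x := fun x hx => by
    obtain ⟨n, hn'⟩ := hIn
    exact ⟨n, by simpa [hn'] using Ideal.pow_mem_pow hx n⟩
  obtain ⟨s₀, hs₀, hloc⟩ := h0
  refine ⟨Ideal.Quotient.mk I ⁻¹' s₀, ?_, fun f hf => ?_⟩
  · by_contra hne
    obtain ⟨m, hm, hsm⟩ := Ideal.exists_le_maximal _ hne
    have hIm : I ≤ m := fun x hx => by
      obtain ⟨n, hn⟩ := hI x hx
      exact hm.isPrime.mem_of_pow_mem n (hn ▸ m.zero_mem)
    refine hm.ne_top (eq_top_iff.2 ?_)
    have h1 : (⊤ : Ideal (R ⧸ I)) ≤ m.map (Ideal.Quotient.mk I) := by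
      rw [← hs₀, Ideal.span_le]
      intro y hy
      obtain ⟨x, rfl⟩ := Ideal.Quotient.mk_surjective y
      exact Ideal.mem_map_of_mem _ (hsm (Ideal.subset_span hy))
    have h2 := Ideal.comap_mono (f := Ideal.Quotient.mk I) h1
    rwa [Ideal.comap_top, Ideal.comap_map_mk hIm] at h2
  let f₀ := Ideal.Quotient.mk I f
  let Rf := Localization.Away f
  let Bf := Localization.Away f₀
  obtain ⟨C, _, _, het, hff, hd⟩ := hloc f₀ hf
  let π : Rf →+* Bf := IsLocalization.Away.lift f (g := algebraMap R Bf)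
    (IsLocalization.Away.algebraMap_isUnit f₀)
  let : Algebra Rf Bf := π.toAlgebra
  haveI : IsScalarTower R Rf Bf := IsScalarTower.of_algebraMap_eq fun r =>
    (IsLocalization.Away.lift_eq f _ r).symm
  have hπf : ∀ r, π (algebraMap R Rf r) = algebraMap (R ⧸ I) Bf (Ideal.Quotient.mk I r) := fun r =>
    IsLocalization.Away.lift_eq f _ r
  have hsurj : Function.Surjective (algebraMap Rf Bf) := by
    intro y
    obtain ⟨n, a, ha⟩ := IsLocalization.Away.surj f₀ y
    obtain ⟨r, rfl⟩ := Ideal.Quotient.mk_surjective a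
    obtain ⟨u, hu⟩ := (IsLocalization.Away.algebraMap_isUnit (S := Rf) f).pow n
    refine ⟨algebraMap R Rf r * (↑u⁻¹ : Rf), ?_⟩
    refine ((IsLocalization.Away.algebraMap_isUnit (S := Bf) f₀).pow n).mul_right_cancel ?_
    rw [ha, ← hπf f, ← map_pow, ← hu]
    change π _ * π _ = _
    rw [← map_mul, Units.inv_mul_cancel_right, hπf]
  have hkerI : RingHom.ker (algebraMap Rf Bf) ≤ I.map (algebraMap R Rf) := by
    intro x hx
    obtain ⟨n, r, hr⟩ := IsLocalization.Away.surj f x
    have h1 : algebraMap (R ⧸ I) Bf (Ideal.Quotient.mk I r) = 0 := by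
      rw [← hπf, ← hr, map_mul, show π x = 0 from hx, zero_mul]
    obtain ⟨⟨_, k, rfl⟩, hk⟩ := (IsLocalization.map_eq_zero_iff (Submonoid.powers f₀) Bf _).1 h1
    have h2 : algebraMap R Rf (f ^ k * r) ∈ I.map (algebraMap R Rf) := by
      refine Ideal.mem_map_of_mem _ (Ideal.Quotient.eq_zero_iff_mem.1 ?_)
      rw [map_mul, map_pow]
      exact hk
    rw [map_mul, ← hr, map_pow, ← mul_assoc, mul_comm (_ ^ k) x, mul_assoc] at h2
    exact (Ideal.mul_unit_mem_iff_mem _ (((IsLocalization.Away.algebraMap_isUnit f).pow k).mul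
      ((IsLocalization.Away.algebraMap_isUnit f).pow n))).1 h2
  have hnil : IsNilpotent (RingHom.ker (algebraMap Rf Bf)) := by
    obtain ⟨n, hn'⟩ := hIn
    refine ⟨n, le_bot_iff.1 ((Ideal.pow_right_mono hkerI n).trans ?_)⟩
    rw [← Ideal.map_pow, hn']
    exact le_of_eq Ideal.map_bot
  let : Algebra (R ⧸ I) C := ((algebraMap Bf C).comp (algebraMap (R ⧸ I) Bf)).toAlgebra
  haveI : IsScalarTower (R ⧸ I) Bf C := IsScalarTower.of_algebraMap_eq' rfl
  let : Algebra R C := ((algebraMap Bf C).comp (algebraMap R Bf)).toAlgebra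
  haveI : IsScalarTower R Bf C := IsScalarTower.of_algebraMap_eq' rfl
  haveI : IsScalarTower R (R ⧸ I) C := IsScalarTower.of_algebraMap_eq' rfl
  let : Algebra Rf C := ((algebraMap Bf C).comp (algebraMap Rf Bf)).toAlgebra
  haveI : IsScalarTower Rf Bf C := IsScalarTower.of_algebraMap_eq' rfl
  haveI : IsScalarTower R Rf C := IsScalarTower.of_algebraMap_eq fun r =>
    congrArg (algebraMap Bf C) (IsScalarTower.algebraMap_apply R Rf Bf r)
  have h1 : IsDiag C (C ⊗[R] A) := isDiag_trans (R ⧸ I) C A (isDiag_trans Bf C _ hd)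
  obtain ⟨Q, _, _, e1, e2, e3, -⟩ := exists_etale_splitting_flat (R := Rf) (A := Rf ⊗[R] A)
    (B := Bf) (C := C) hsurj hnil (isDiag_of_equiv (cancelBC R Rf C A).symm h1)
  exact ⟨Q, _, _, e1, e2, e3⟩

/-- Over an Artinian local ring. -/
theorem isIsotrivial_of_artinian [IsArtinianRing R] [IsLocalRing R] [Module.Flat R A]
    (hft : Algebra.FiniteType R A)
    (h0 : IsMultType (IsLocalRing.ResidueField R) (IsLocalRing.ResidueField R ⊗[R] A)) :
    IsIsotrivial R A := by
  haveI : HenselianRing R (IsLocalRing.maximalIdeal R) :=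
    Groth.Hensel1.henselianRing_of_forall_isNilpotent fun x hx => by
      obtain ⟨n, hn⟩ := IsArtinianRing.isNilpotent_jacobson_bot (R := R)
      rw [IsLocalRing.jacobson_eq_maximalIdeal _ (bot_ne_top)] at hn
      exact ⟨n, by simpa [hn] using Ideal.pow_mem_pow hx n⟩
  haveI : HenselianLocalRing R := Groth.Hensel1.henselianLocalRing_of_henselianRing
  let k := IsLocalRing.ResidueField R
  obtain ⟨k', _, _, _, _, M, _, -, ⟨e⟩⟩ :=
    CharLift.exists_finite_separable_isDiagFT (k := k) (A := k ⊗[R] A) inferInstance h0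
  obtain ⟨B, _, _, _, _, hfin, het, hffl, ψ, hψ⟩ := CharLift.exists_local_lift (R := R) k'
  let : Algebra k' (IsLocalRing.ResidueField B) := ψ.toAlgebra
  let : Algebra R k' := Algebra.compHom k' (IsLocalRing.residue R)
  haveI : IsScalarTower R k k' := IsScalarTower.of_algebraMap_eq fun _ => rfl
  haveI : IsScalarTower R k' (IsLocalRing.ResidueField B) :=
    IsScalarTower.of_algebraMap_eq fun r => (hψ r).symm
  have h1 : IsDiag k' (k' ⊗[R] A) := isDiag_trans k k' A ⟨M, _, ⟨e⟩⟩
  have h2 : IsDiag (IsLocalRing.ResidueField B) (IsLocalRing.ResidueField B ⊗[R] A) :=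
    isDiag_trans k' (IsLocalRing.ResidueField B) A
      (isDiag_baseChange (IsLocalRing.ResidueField B) (k' ⊗[R] A) h1)
  haveI : IsArtinianRing B := IsArtinianRing.of_finite R B
  have h2' : IsDiag (IsLocalRing.ResidueField B) (IsLocalRing.ResidueField B ⊗[B] (B ⊗[R] A)) :=
    isDiag_of_equiv (cancelBC R B (IsLocalRing.ResidueField B) A).symm h2
  refine ⟨B, _, _, het, hfin, hffl,
    FlatDeform.isDiag_of_nilpotent (I := IsLocalRing.maximalIdeal B) ?_ h2'⟩
  have h3 := IsArtinianRing.isNilpotent_jacobson_bot (R := B)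
  rwa [IsLocalRing.jacobson_eq_maximalIdeal _ (bot_ne_top)] at h3

end Groth.Sga3.MultType
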