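import Groth.Agent.Hopf.Comod

/-!
Comodules over a coalgebra which is projective (not necessarily free) as a module.
-/

universe u v w

open TensorProduct

noncomputable section

namespace Groth.Sga3.ComodProj

open Groth.ComodLib

variable {k : Type u} [CommRing k] {A : Type v} [AddCommGroup A] [Module k A]
  {V : Type w} [AddCommGroup V] [Module k V]

lemma slice_lTensor' {B : Type*} [AddCommGroup B] [Module k B] (φ : B →ₗ[k] k) (g : A →ₗ[k] B)
    (x : V ⊗[k] A) : slice φ (g.lTensor V x) = slice (φ ∘ₗ g) x := by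
  induction x using TensorProduct.induction_on with
  | zero => simp
  | tmul a b => simp
  | add x y hx hy => simp [map_add, hx, hy]

lemma eq_zero_of_slice [Module.Projective k A] {x : V ⊗[k] A}
    (h : ∀ φ : A →ₗ[k] k, slice φ x = 0) : x = 0 := by
  obtain ⟨i, hi⟩ := Module.projective_def'.mp ‹Module.Projective k A›
  have hix : i.lTensor V x = 0 :=
    Groth.ComodLib.eq_zero_of_slice fun φ => by rw [slice_lTensor']; exact h _
  have := congrArg ((Finsupp.linearCombination k id).lTensor V) hix
  rwa [map_zero, ← LinearMap.comp_apply, ← LinearMap.lTensor_comp, hi, LinearMap.lTensor_id,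
    LinearMap.id_apply] at this

lemma mem_range_rTensor_iff [Module.Projective k A] (U : Submodule k V) (x : V ⊗[k] A) :
    x ∈ LinearMap.range (U.subtype.rTensor A) ↔ ∀ φ : A →ₗ[k] k, slice φ x ∈ U := by
  refine ⟨?_, fun h => ?_⟩
  · rintro ⟨y, rfl⟩ φ
    rw [slice_rTensor]
    exact (slice φ y).2
  · have h0 : U.mkQ.rTensor A x = 0 := eq_zero_of_slice fun φ => by
      rw [slice_rTensor, Submodule.mkQ_apply, Submodule.Quotient.mk_eq_zero]
      exact h φ
    exact ((_root_.rTensor_exact A (LinearMap.exact_subtype_mkQ U) U.mkQ_surjective) x).1 h0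

lemma fg_range_sliceL [Module.Projective k A] (x : V ⊗[k] A) :
    (LinearMap.range (sliceL A x)).FG := by
  classical
  obtain ⟨i, hi⟩ := Module.projective_def'.mp ‹Module.Projective k A›
  obtain ⟨S, hS⟩ := TensorProduct.exists_finset x
  let T := S.biUnion fun p => (i p.2).support
  let f : A → V := fun b => slice (Finsupp.lapply b ∘ₗ i) x
  refine ⟨T.image f, ?_⟩
  refine le_antisymm (Submodule.span_le.mpr ?_) ?_
  · intro v hv
    rw [Finset.coe_image] at hv
    obtain ⟨b, -, rfl⟩ := hv
    exact ⟨_, rfl⟩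
  · rintro _ ⟨φ, rfl⟩
    rw [sliceL_apply]
    have key : slice φ x = ∑ b ∈ T, φ b • f b := by
      simp only [f]
      rw [hS]
      simp only [map_sum, slice_tmul, Finset.smul_sum, LinearMap.comp_apply, Finsupp.lapply_apply,
        smul_smul]
      rw [Finset.sum_comm]
      refine Finset.sum_congr rfl fun p hp => ?_
      rw [← Finset.sum_smul]
      congr 1
      conv_lhs => rw [← LinearMap.id_apply (R := k) p.2, ← hi, LinearMap.comp_apply,
        Finsupp.linearCombination_apply, map_finsuppSum]
      rw [Finsupp.sum_of_support_subset _ (s := T) (fun b hb => Finset.mem_biUnion.mpr ⟨p, hp, hb⟩)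
        _ (fun b _ => by simp)]
      exact Finset.sum_congr rfl fun b _ => by simp [mul_comm]
    rw [key]
    exact Submodule.sum_mem _ fun b hb => Submodule.smul_mem _ _
      (Submodule.subset_span (Finset.mem_coe.2 (Finset.mem_image_of_mem _ hb)))

variable [Coalgebra k A] [HopfRep.Comod k A V]

lemma isSubcomod_iff [Module.Projective k A] (U : Submodule k V) :
    HopfRep.IsSubcomod (k := k) (A := A) U ↔ ∀ (φ : A →ₗ[k] k), ∀ x ∈ U, op φ x ∈ U := by
  simp only [HopfRep.IsSubcomod, mem_range_rTensor_iff]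
  exact ⟨fun h φ x hx => h x hx φ, fun h x hx φ => h φ x hx⟩

lemma isSubcomod_gen [Module.Projective k A] (x : V) :
    HopfRep.IsSubcomod (k := k) (A := A)
      (LinearMap.range (sliceL A (HopfRep.Comod.coact (k := k) (A := A) x))) := by
  rw [isSubcomod_iff]
  rintro φ _ ⟨ψ, rfl⟩
  exact ⟨(WithConv.toConv φ * WithConv.toConv ψ).ofConv,
    (op_mul (WithConv.toConv φ) (WithConv.toConv ψ) x :)⟩

lemma isSubcomod_iSup [Module.Projective k A] {ι : Sort*} (U : ι → Submodule k V)
    (h : ∀ i, HopfRep.IsSubcomod (k := k) (A := A) (U i)) :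
    HopfRep.IsSubcomod (k := k) (A := A) (⨆ i, U i) := by
  rw [isSubcomod_iff]
  intro φ
  change (⨆ i, U i) ≤ (⨆ i, U i).comap (op φ)
  exact iSup_le fun i x hx => Submodule.mem_iSup_of_mem i ((isSubcomod_iff _).1 (h i) φ x hx)

end Groth.Sga3.ComodProj
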