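import Groth.Agent.Calg4.MonoFactor.Over
import Groth.Agent.GrpschLoci.MonoHomLft
import Groth.Agent.GrpschAbsch.FibreFlat
import Groth.Agent.AlgGrp1.Basic
import Groth.Agent.S2349
import Groth.Agent.S2306
import Mathlib.AlgebraicGeometry.Morphisms.FlatDescent

/-!
A quasi-compact homomorphism of groups locally of finite type over an artinian local ring is proper
exactly when its kernel is.
-/

set_option autoImplicit false
set_option linter.style.haveILetI false
set_option backward.isDefEq.respectTransparency.types false

universe u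

open CategoryTheory MonoidalCategory CartesianMonoidalCategory MonObj GrpObj AlgebraicGeometry
open CategoryTheory.Limits

noncomputable section

namespace Groth.Sga3.ProperKernel

/-- the kernel pair of a homomorphism -/
theorem isPullback_kernelPair {S : Scheme.{u}} {G Q K : Over S} [GrpObj G] [GrpObj Q] (p : G ⟶ Q) [IsMonHom p]
    {k : K ⟶ G} (hk : IsPullback k (toUnit K) p η[Q]) : IsPullback (fst G K) ((G ◁ k) ≫ μ[G]) p p := by
  have hkone : k ≫ p = 1 := by rw [hk.w, Hom.one_def]
  have hμ : (G ◁ k) ≫ μ[G] = fst G K * (snd G K ≫ k) := by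
    rw [Hom.mul_def]; congr 1
  have hm : Mono k := ⟨fun g h e => hk.hom_ext e (toUnit_unique _ _)⟩
  have w : fst G K ≫ p = ((G ◁ k) ≫ μ[G]) ≫ p := by
    rw [hμ, MonObj.mul_comp, Category.assoc, hkone, MonObj.comp_one, _root_.mul_one]
  refine ⟨⟨w⟩, ⟨PullbackCone.IsLimit.mk w (fun s => lift s.fst (hk.lift (s.fst⁻¹ * s.snd)
    (toUnit s.pt) ?_)) (fun s => by simp) ?_ ?_⟩⟩
  · rw [MonObj.mul_comp, GrpObj.inv_comp, s.condition, inv_mul_cancel, Hom.one_def]
  · intro s
    rw [hμ, MonObj.comp_mul]
    simp
  · intro s m h₁ h₂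
    apply CartesianMonoidalCategory.hom_ext
    · simpa using h₁
    · rw [lift_snd, ← cancel_mono k, IsPullback.lift_fst, ← h₂, hμ, MonObj.comp_mul, h₁]
      simp

/-- the case of a base field -/
theorem isProper_of_kernel_field {k : Type u} [Field k] {G H : Over (Spec (CommRingCat.of k))} [GrpObj G]
    [GrpObj H] [LocallyOfFiniteType G.hom] [LocallyOfFiniteType H.hom] (u : G ⟶ H) [IsMonHom u]
    [QuasiCompact u.left] (hK : IsProper (pullback u η[H]).hom) : IsProper u.left := by
  haveI : LocallyOfFinitePresentation G.hom :=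
    LocallyOfFinitePresentation.iff_locallyOfFiniteType.mpr inferInstance
  obtain ⟨Q, gQ, p, i, hp, hi, hpi, hs, hf, hl, hmono, hQ, hker⟩ :=
    Groth.Calg4.MonoFactor.kernel_quotient u inferInstance
  haveI : QuasiCompact (p.left ≫ i.left) := by rw [← Over.comp_left, hpi]; infer_instance
  haveI : QuasiCompact i.left := Groth.FlatMor2.quasiCompact_of_comp_surjective p.left i.left
  haveI : Mono i.left := inferInstanceAs (Mono ((Over.forget _).map i))
  haveI : LocallyOfFiniteType Q.hom := inferInstance
  haveI : IsClosedImmersion i.left := Groth.GrpschLoci.isClosedImmersion_of_mono_lft i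
  haveI : QuasiCompact p.left := QuasiCompact.of_comp p.left i.left
  haveI : IsSeparated G.hom := Groth.AlgGrp1.isSeparated_grpObj G
  haveI : IsSeparated p.left := by
    haveI : IsSeparated (p.left ≫ Q.hom) := by rw [Over.w p]; infer_instance
    exact IsSeparated.of_comp p.left Q.hom
  have hpair := (isPullback_kernelPair p hker).map (Over.forget _)
  haveI : IsProper (fst G (pullback u η[H])).left := Groth.Calg4.MonoFactor.fst_left_prop @IsProper G hK
  haveI : UniversallyClosed p.left :=
    MorphismProperty.of_isPullback_of_descendsAlong (P := @UniversallyClosed)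
      (Q := @Surjective ⊓ @Flat ⊓ @QuasiCompact) hpair ⟨⟨‹_›, ‹_›⟩, ‹_›⟩
      (inferInstanceAs (UniversallyClosed (fst G (pullback u η[H])).left))
  haveI : IsProper p.left := { }
  rw [← hpi, Over.comp_left]
  infer_instance

/-- the case of an artinian local base -/
theorem isProper_iff {A : Type u} [CommRing A] [IsArtinianRing A] [IsLocalRing A]
    {G H : Over (Spec (CommRingCat.of A))} [GrpObj G] [GrpObj H] [LocallyOfFiniteType G.hom]
    [LocallyOfFiniteType H.hom] (u : G ⟶ H) [IsMonHom u] [QuasiCompact u.left] :
    IsProper u.left ↔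
      IsProper (pullback.snd u.left (η[H] : 𝟙_ (Over (Spec (CommRingCat.of A))) ⟶ H).left) := by
  refine ⟨fun h => MorphismProperty.pullback_snd (P := @IsProper) _ _ h, fun hK => ?_⟩
  let i : Spec (CommRingCat.of (IsLocalRing.ResidueField A)) ⟶ Spec (CommRingCat.of A) :=
    Spec.map (CommRingCat.ofHom (IsLocalRing.residue A))
  haveI : IsClosedImmersion i := IsClosedImmersion.spec_of_surjective _ IsLocalRing.residue_surjective
  haveI : Subsingleton (Spec (CommRingCat.of A)) := ⟨fun x y => PrimeSpectrum.ext
    ((IsLocalRing.eq_maximalIdeal (IsArtinianRing.isMaximal_of_isPrime x.asIdeal)).trans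
      (IsLocalRing.eq_maximalIdeal (IsArtinianRing.isMaximal_of_isPrime y.asIdeal)).symm)⟩
  haveI : Surjective i := by
    refine ⟨fun x => ?_⟩
    exact ⟨Classical.arbitrary _, Subsingleton.elim _ _⟩
  let u' := (Over.pullback i).map u
  haveI : IsMonHom u' := inferInstanceAs (IsMonHom ((Over.pullback i).map u))
  haveI : LocallyOfFiniteType (Red.bc i G).hom :=
    MorphismProperty.pullback_snd (P := @LocallyOfFiniteType) _ _ ‹LocallyOfFiniteType G.hom›
  haveI : LocallyOfFiniteType (Red.bc i H).hom :=
    MorphismProperty.pullback_snd (P := @LocallyOfFiniteType) _ _ ‹LocallyOfFiniteType H.hom›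
  have sq := Groth.GrpschAbsch.FibreFlat.isPullback_map i u
  haveI : QuasiCompact u'.left := MorphismProperty.of_isPullback (P := @QuasiCompact) sq ‹_›
  -- the kernel on the closed fibre
  have hη : (η[Red.bc i H]).left ≫ pullback.fst H.hom i = i ≫ (η[H]).left := by
    change (η[(Over.pullback i).obj H]).left ≫ pullback.fst H.hom i = _
    rw [Functor.obj.η_def, Over.comp_left, Category.assoc, Over.ε_pullback_left]
    simp
    erw [pullback.lift_fst]
    rw [← Category.assoc (pullback.snd (𝟙 _) i), ← pullback.condition, Category.comp_id]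
  have hK' : IsProper (pullback u' η[Red.bc i H]).hom := by
    have h2 := ((IsPullback.of_hasPullback u' η[Red.bc i H]).map (Over.forget _)).paste_horiz sq
    change IsPullback ((pullback.fst u' η[Red.bc i H]).left ≫ pullback.fst G.hom i)
      (pullback.snd u' η[Red.bc i H]).left u.left ((η[Red.bc i H]).left ≫ pullback.fst H.hom i) at h2
    rw [hη] at h2
    let t := IsPullback.of_hasPullback u.left (η[H]).left
    have h3 : IsProper (pullback.snd u' η[Red.bc i H]).left :=
      MorphismProperty.of_isPullback (P := @IsProper)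
        (IsPullback.of_right (h₁₁ := t.lift _ ((pullback.snd u' η[Red.bc i H]).left ≫ i)
          (h2.w.trans (Category.assoc _ _ _).symm)) (by rw [t.lift_fst]; exact h2) (t.lift_snd _ _ _) t) hK
    rw [← Over.w (pullback.snd u' η[Red.bc i H])]
    haveI := h3
    change IsProper (_ ≫ 𝟙 _)
    infer_instance
  have hu' : IsProper u'.left := isProper_of_kernel_field u' hK'
  haveI := hu'
  haveI : LocallyOfFiniteType u.left := by
    haveI : LocallyOfFiniteType (u.left ≫ H.hom) := by rw [Over.w u]; infer_instance
    exact locallyOfFiniteType_of_comp u.left H.hom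
  haveI : IsSeparated u.left :=
    (Groth.Agent.S2306.result u.left u'.left (pullback.fst G.hom i) (pullback.fst H.hom i) sq.w.symm).2
      inferInstance
  exact (Groth.Agent.S2349.result u.left PUnit.{u + 1} (fun _ => _) (fun _ => _) (fun _ => pullback.fst G.hom i)
    (fun _ => pullback.fst H.hom i) (fun _ => u'.left) (fun _ => sq.w)
    (fun x => ⟨PUnit.unit, (pullback.fst G.hom i).surjective x⟩)).2 fun _ => hu'

end Groth.Sga3.ProperKernel
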