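import Groth.Agent.Sga3.HochLift
import Groth.Agent.Sga3.MultTypeRigid

/-!
Lifting of homomorphisms from a group with an invariant integral into a smooth affine group along a
nilpotent ideal of the base, and uniqueness of the lift up to conjugation.
-/

set_option autoImplicit false

universe u

open TensorProduct WithConv Coalgebra

noncomputable section

namespace Groth.Sga3.HochLift

open ConvPoints Groth.Sga3.MultType

variable {R : Type u} [CommRing R] {C : Type u} [CommRing C] [HopfAlgebra R C]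

section Quot

variable {T : Type u} [CommRing T] [Algebra R T]

theorem cong_of_post_eq {K : Ideal R} {X Y : WithConv (C →ₗ[R] T)}
    (h : post (Ideal.Quotient.mkₐ R (vI K T)) X = post (Ideal.Quotient.mkₐ R (vI K T)) Y) :
    Cong K X Y := fun c => by
  have h1 : Ideal.Quotient.mkₐ R (vI K T) (X c) = Ideal.Quotient.mkₐ R (vI K T) (Y c) :=
    congrArg (fun Z : WithConv (C →ₗ[R] T ⧸ vI K T) => Z c) h
  exact Ideal.Quotient.eq.1 h1

theorem cong_neg {K : Ideal R} {X Y : WithConv (C →ₗ[R] T)} (h : Cong K X Y) : Cong K (-X) (-Y) := by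
  simpa using (Cong.refl K (0 : WithConv (C →ₗ[R] T))).sub h

theorem IsDer.neg {K : Ideal R} {D : WithConv (C →ₗ[R] T)} (h : IsDer K D) : IsDer K (-D) := fun a b => by
  have := neg_mem (h a b)
  convert this using 1
  simp only [WithConv.ofConv_neg, LinearMap.neg_apply, smul_neg]
  abel

/-- `1 + D` is an algebra map modulo the square when `D` is a small derivation. -/
theorem exists_quot_hom {J : Ideal R} {D : WithConv (C →ₗ[R] T)} (hJ : Cong J D 0)
    (hd : IsDer (J * J) D) :
    ∃ g : C →ₐ[R] T ⧸ vI (J * J) T,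
      lin g = post (Ideal.Quotient.mkₐ R (vI (J * J) T)) (1 + D) := by
  refine ⟨AlgHom.ofLinearMap (post (Ideal.Quotient.mkₐ R (vI (J * J) T)) (1 + D)).ofConv ?_ ?_, rfl⟩
  · have h1 : D (1 : C) ∈ vI (J * J) T := by
      have h := neg_mem (hd 1 1)
      simpa [Bialgebra.counit_one] using h
    change Ideal.Quotient.mk (vI (J * J) T) ((1 + D : WithConv (C →ₗ[R] T)) 1) = 1
    rw [← (Ideal.Quotient.mk (vI (J * J) T)).map_one, Ideal.Quotient.eq]
    simpa using h1
  · intro a b
    change Ideal.Quotient.mk (vI (J * J) T) ((1 + D : WithConv (C →ₗ[R] T)) (a * b)) =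
      Ideal.Quotient.mk (vI (J * J) T) ((1 + D : WithConv (C →ₗ[R] T)) a) *
      Ideal.Quotient.mk (vI (J * J) T) ((1 + D : WithConv (C →ₗ[R] T)) b)
    rw [← map_mul, Ideal.Quotient.eq]
    have h2 : D a * D b ∈ vI (J * J) T := by
      rw [vI, Ideal.map_mul]
      exact Ideal.mul_mem_mul (by simpa using hJ a) (by simpa using hJ b)
    have h3 := sub_mem (hd a b) h2
    convert h3 using 1
    simp [LinearMap.convOne_def, Algebra.smul_def, Bialgebra.counit_mul]
    ring

theorem isNilpotent_vI {I K : Ideal R} (hI : IsNilpotent I) (hK : K ≤ I) :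
    IsNilpotent (vI K T) := by
  obtain ⟨n, hn⟩ := hI
  refine ⟨n, le_bot_iff.1 ?_⟩
  rw [vI, ← Ideal.map_pow]
  refine (Ideal.map_mono (Ideal.pow_right_mono hK n)).trans ?_
  rw [hn, Ideal.zero_eq_bot, Ideal.map_bot]

theorem eq_of_cong_bot {X Y : WithConv (C →ₗ[R] T)} (h : Cong (⊥ : Ideal R) X Y) : X = Y := by
  apply WithConv.ofConv_injective
  refine LinearMap.ext fun c => ?_
  have := h c
  rw [vI, Ideal.map_bot, Ideal.mem_bot, sub_eq_zero] at this
  exact this

theorem lin_injective : Function.Injective (lin : (C →ₐ[R] T) → WithConv (C →ₗ[R] T)) :=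
  fun f g h => AlgHom.ext fun c => congrArg (fun Z : WithConv (C →ₗ[R] T) => Z c) h

end Quot

variable {A : Type u} [CommRing A] [HopfAlgebra R A]

/-- A point with values in `A` which is a homomorphism. -/
def IsPointHom (u : C →ₐ[R] A) : Prop :=
  lin ((pX R A).comp u) * lin ((pY R A).comp u) = lin ((Bialgebra.comulAlgHom R A).comp u)

theorem lin_pX_mul_pY (u : C →ₐ[R] A) :
    lin ((pX R A).comp u) * lin ((pY R A).comp u) =
      lin ((Algebra.TensorProduct.map u u).comp (Bialgebra.comulAlgHom R C)) := by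
  ext c
  rw [LinearMap.convMul_apply]
  change _ = Algebra.TensorProduct.map u u (comul (R := R) c)
  generalize comul (R := R) c = t
  induction t using TensorProduct.induction_on with
  | zero => simp
  | tmul a b => simp [lin]
  | add a b ha hb => simp only [map_add, ha, hb]

theorem IsPointHom.counit_comp {u : C →ₐ[R] A} (hu : IsPointHom u) :
    (Bialgebra.counitAlgHom R A).comp u = Bialgebra.counitAlgHom R C := by
  let ee : A ⊗[R] A →ₐ[R] R := Algebra.TensorProduct.lift (Bialgebra.counitAlgHom R A)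
    (Bialgebra.counitAlgHom R A) (fun _ _ => mul_comm _ _)
  have hx : ee.comp ((pX R A).comp u) = (Bialgebra.counitAlgHom R A).comp u :=
    AlgHom.ext fun c => by simp [ee]
  have hy : ee.comp ((pY R A).comp u) = (Bialgebra.counitAlgHom R A).comp u :=
    AlgHom.ext fun c => by simp [ee]
  have hm : ee.comp ((Bialgebra.comulAlgHom R A).comp u) = (Bialgebra.counitAlgHom R A).comp u := by
    refine AlgHom.ext fun c => ?_
    simp only [AlgHom.comp_apply, Bialgebra.comulAlgHom_apply]
    have h := congrArg (fun z => TensorProduct.lid R R (LinearMap.lTensor R (counit (R := R)) z))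
      (Coalgebra.rTensor_counit_comul (R := R) (u c))
    simp only [LinearMap.lTensor_tmul, TensorProduct.lid_tmul, one_smul] at h
    refine Eq.trans ?_ h
    generalize comul (R := R) (u c) = t
    induction t using TensorProduct.induction_on with
    | zero => simp
    | tmul a b => simp [ee]
    | add a b ha hb => simp only [map_add, ha, hb]
  have h := congrArg (post ee) hu
  rw [post_mul, post_lin, post_lin, post_lin, hx, hy, hm] at h
  have h2 : lin ((Bialgebra.counitAlgHom R A).comp u) = (1 : WithConv (C →ₗ[R] R)) := by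
    have h3 := congrArg (inv ((Bialgebra.counitAlgHom R A).comp u) * ·) h
    simpa only [inv_mul_lin_assoc, inv_mul_lin] using h3
  apply lin_injective
  rw [h2, ← lin_unit]
  rfl

/-- A homomorphism, as a bialgebra map. -/
def IsPointHom.toBialgHom {u : C →ₐ[R] A} (hu : IsPointHom u) : C →ₐc[R] A :=
  BialgHom.ofAlgHom u hu.counit_comp (lin_injective ((lin_pX_mul_pY u).symm.trans hu))

theorem IsPointHom.coe_toBialgHom {u : C →ₐ[R] A} (hu : IsPointHom u) :
    (hu.toBialgHom : C →ₐ[R] A) = u := rfl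

theorem isPointHom_bialgHom (f : C →ₐc[R] A) : IsPointHom (f : C →ₐ[R] A) :=
  (lin_pX_mul_pY _).trans (congrArg lin (BialgHom.map_comp_comulAlgHom f))

theorem isPointHom_of_defect {u : C →ₐ[R] A} (h : defect u = 0) : IsPointHom u := by
  have h1 := congrArg (· * lin ((Bialgebra.comulAlgHom R A).comp u)) (sub_eq_zero.1 h)
  simpa only [mul_assoc, inv_mul_lin, mul_one, one_mul, IsPointHom] using h1

theorem cong_defect {J : Ideal R} {u v : C →ₐ[R] A} (hv : IsPointHom v)
    (h : Cong J (lin u) (lin v)) : Cong J (defect u) 0 := by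
  rw [defect, ← cong_iff]
  have h1 : Cong J (lin ((pX R A).comp u) * lin ((pY R A).comp u))
      (lin ((Bialgebra.comulAlgHom R A).comp u)) := by
    refine ((h.post (pX R A)).mul (h.post (pY R A))).trans ?_
    simp only [post_lin]
    rw [hv]
    exact (h.symm.post (Bialgebra.comulAlgHom R A))
  simpa only [lin_mul_inv] using h1.mul (Cong.refl J (inv ((Bialgebra.comulAlgHom R A).comp u)))

variable {l : A →ₗ[R] R} (hl : IsInvIntegral l)

include hl in
theorem exists_step [Algebra.FormallySmooth R C] {I J : Ideal R} (hI : IsNilpotent I) (hJI : J ≤ I)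
    (u : C →ₐ[R] A) (hu : Cong J (defect u) 0) :
    ∃ u' : C →ₐ[R] A, Cong J (lin u') (lin u) ∧ Cong (J * J) (defect u') 0 := by
  obtain ⟨h, hh, hd, hmul⟩ := exists_improvement hl u hu
  let q := Ideal.Quotient.mkₐ R (vI (J * J) A)
  obtain ⟨g, hg⟩ := exists_quot_hom (D := -h) (J := J) (by simpa using cong_neg hh) hd.neg
  rw [← sub_eq_add_neg] at hg
  let g' : C →ₐ[R] A ⧸ vI (J * J) A := (toConv g * toConv (q.comp u)).ofConv
  have hn : IsNilpotent (vI (J * J) A) := isNilpotent_vI hI (Ideal.mul_le_left.trans hJI)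
  let u' : C →ₐ[R] A := Algebra.FormallySmooth.lift _ hn g'
  have hX : Cong (J * J) (lin u') ((1 - h) * lin u) := by
    refine cong_of_post_eq ?_
    rw [post_mul, ← hg, post_lin, post_lin, ← lin_mul]
    exact congrArg lin (Algebra.FormallySmooth.comp_lift _ hn g')
  refine ⟨u', ?_, ?_⟩
  · refine (hX.mono Ideal.mul_le_left).trans ?_
    rw [cong_iff, show (1 - h) * lin u - lin u = -(h * lin u) by
      rw [sub_mul, one_mul]; abel]
    simpa using cong_neg (hh.mul (Cong.refl J (lin u)))
  · rw [defect, ← cong_iff]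
    have h1 : Cong (J * J) (lin ((pX R A).comp u') * lin ((pY R A).comp u'))
        (lin ((Bialgebra.comulAlgHom R A).comp u')) :=
      (((hX.post (pX R A)).mul (hX.post (pY R A))).trans hmul).trans
        (hX.symm.post (Bialgebra.comulAlgHom R A))
    simpa only [lin_mul_inv] using h1.mul (Cong.refl _ (inv ((Bialgebra.comulAlgHom R A).comp u')))

theorem pow_two_pow_le (I : Ideal R) (k : ℕ) : I ^ 2 ^ k ≤ I :=
  Ideal.pow_le_self (pow_ne_zero k two_ne_zero)

theorem pow_two_pow_succ (I : Ideal R) (k : ℕ) : I ^ 2 ^ (k + 1) = I ^ 2 ^ k * I ^ 2 ^ k := by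
  rw [← pow_add, ← two_mul, ← pow_succ']

theorem pow_two_pow_eq_bot {I : Ideal R} {n : ℕ} (hn : I ^ n = 0) : I ^ 2 ^ n = ⊥ := by
  rw [← le_bot_iff]
  refine (Ideal.pow_le_pow_right Nat.lt_two_pow_self.le).trans ?_
  rw [hn, Ideal.zero_eq_bot]

include hl in
/-- An approximate homomorphism modulo a nilpotent ideal is congruent to a homomorphism. -/
theorem exists_bialgHom_of_approx [Algebra.FormallySmooth R C] {I : Ideal R} (hI : IsNilpotent I)
    (u : C →ₐ[R] A) (hu : Cong I (defect u) 0) :
    ∃ f : C →ₐc[R] A, Cong I (lin (f : C →ₐ[R] A)) (lin u) := by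
  have key : ∀ k, ∃ u' : C →ₐ[R] A, Cong I (lin u') (lin u) ∧ Cong (I ^ 2 ^ k) (defect u') 0 := by
    intro k
    induction k with
    | zero => exact ⟨u, Cong.refl _ _, by simpa using hu⟩
    | succ k ih =>
      obtain ⟨u₁, h1, h2⟩ := ih
      obtain ⟨u₂, h3, h4⟩ := exists_step hl hI (pow_two_pow_le I k) u₁ h2
      exact ⟨u₂, (h3.mono (pow_two_pow_le I k)).trans h1, by rwa [pow_two_pow_succ]⟩
  obtain ⟨n, hn⟩ := hI
  obtain ⟨u', h1, h2⟩ := key n
  rw [pow_two_pow_eq_bot hn] at h2
  exact ⟨(isPointHom_of_defect (eq_of_cong_bot h2)).toBialgHom, h1⟩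

section Conj

/-- a point of the base, with values in `T` -/
def constPt (T : Type u) [CommRing T] [Algebra R T] (g : C →ₐ[R] R) : C →ₐ[R] T :=
  (Algebra.ofId R T).comp g

theorem comp_constPt {T T' : Type u} [CommRing T] [Algebra R T] [CommRing T'] [Algebra R T']
    (f : T →ₐ[R] T') (g : C →ₐ[R] R) : f.comp (constPt T g) = constPt T' g :=
  AlgHom.ext fun c => f.commutes (g c)

variable {T : Type u} [CommRing T] [Algebra R T]

/-- conjugation by a point of the base -/
def conjPt (g : C →ₐ[R] R) (f : C →ₐ[R] T) : C →ₐ[R] T :=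
  (toConv (constPt T g) * toConv f *
    toConv ((constPt T g).comp (HopfAlgebra.antipodeAlgHom R C))).ofConv

theorem lin_conjPt (g : C →ₐ[R] R) (f : C →ₐ[R] T) :
    lin (conjPt g f) = lin (constPt T g) * lin f * inv (constPt T g) := by
  simp only [conjPt, inv, ← lin_mul]

theorem comp_conjPt {T' : Type u} [CommRing T'] [Algebra R T'] (a : T →ₐ[R] T') (g : C →ₐ[R] R)
    (f : C →ₐ[R] T) : a.comp (conjPt g f) = conjPt g (a.comp f) := by
  apply lin_injective
  rw [← post_lin, lin_conjPt, lin_conjPt, post_mul, post_mul, post_lin, post_lin, post_inv,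
    comp_constPt]

theorem lin_constPt_mul (g₁ g₂ : C →ₐ[R] R) :
    lin (constPt T (toConv g₁ * toConv g₂).ofConv) = lin (constPt T g₁) * lin (constPt T g₂) := by
  rw [constPt, ← post_lin, lin_mul, post_mul, post_lin, post_lin]
  rfl

theorem conjPt_mul (g₁ g₂ : C →ₐ[R] R) (f : C →ₐ[R] T) :
    conjPt (toConv g₁ * toConv g₂).ofConv f = conjPt g₁ (conjPt g₂ f) := by
  apply lin_injective
  simp only [lin_conjPt, mul_assoc, lin_constPt_mul]
  congr 3
  refine left_inv_eq_right_inv (inv_mul_lin _) ?_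
  rw [lin_constPt_mul]
  simp only [mul_assoc]
  rw [← mul_assoc (lin (constPt T g₂)), lin_mul_inv, one_mul, lin_mul_inv]

theorem Cong.conjPt {K : Ideal R} {f f' : C →ₐ[R] T} (h : Cong K (lin f) (lin f'))
    (g : C →ₐ[R] R) : Cong K (lin (HochLift.conjPt g f)) (lin (HochLift.conjPt g f')) := by
  rw [lin_conjPt, lin_conjPt]
  exact ((Cong.refl _ _).mul h).mul (Cong.refl _ _)

end Conj

theorem IsPointHom.conjPt {u : C →ₐ[R] A} (hu : IsPointHom u) (g : C →ₐ[R] R) :
    IsPointHom (HochLift.conjPt g u) := by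
  simp only [IsPointHom, comp_conjPt, lin_conjPt]
  rw [← hu]
  simp only [mul_assoc]
  rw [inv_mul_lin_assoc]

include hl in
theorem exists_conj_step [Algebra.FormallySmooth R C] {I J : Ideal R} (hI : IsNilpotent I) (hJI : J ≤ I)
    (f f' : C →ₐ[R] A) (hf : IsPointHom f) (hf' : IsPointHom f') (h : Cong J (lin f') (lin f)) :
    ∃ g : C →ₐ[R] R, Cong J (lin g) 1 ∧ Cong (J * J) (lin f') (lin (conjPt g f)) := by
  let w : C →ₐ[R] A := (toConv f' * toConv (f.comp (HopfAlgebra.antipodeAlgHom R C))).ofConv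
  have hw : lin w = lin f' * inv f := lin_mul _ _
  set d : WithConv (C →ₗ[R] A) := lin w - 1 with hd
  have hdJ : Cong J d 0 := by
    rw [hd, ← cong_iff, hw]
    simpa only [lin_mul_inv] using h.mul (Cong.refl J (inv f))
  have hddder : IsDer (J * J) d := isDer_of_point w (by rw [cong_iff]; exact hdJ)
  let e : WithConv (C →ₗ[R] R) := postL l d
  have heJ : Cong J e 0 := by
    have := hdJ.postL l
    simpa [e, HochLift.postL] using this
  obtain ⟨g₀, hg₀⟩ := exists_quot_hom heJ (hddder.postL l)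
  have hn : IsNilpotent (vI (J * J) R) := isNilpotent_vI hI (Ideal.mul_le_left.trans hJI)
  let g : C →ₐ[R] R := Algebra.FormallySmooth.lift _ hn g₀
  have hg : Cong (J * J) (lin g) (1 + e) := by
    refine cong_of_post_eq ?_
    rw [post_lin, ← hg₀]
    exact congrArg lin (Algebra.FormallySmooth.comp_lift _ hn g₀)
  refine ⟨g, (hg.mono Ideal.mul_le_left).trans ?_, ?_⟩
  · simpa using (Cong.refl J 1).add heJ
  let η : R →ₐ[R] A := Algebra.ofId R A
  let fx := (pX R A).comp f
  let fy := (pY R A).comp f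
  -- the cocycle identity
  have hd1 : 1 + d = lin f' * inv f := by rw [hd, hw, add_sub_cancel]
  have hid : post (Bialgebra.comulAlgHom R A) (1 + d) =
      post (pX R A) (1 + d) * (lin fx * post (pY R A) (1 + d) * inv fx) := by
    simp only [hd1, post_mul, post_lin, post_inv, mul_assoc]
    rw [inv_mul_lin_assoc, ← mul_assoc, hf']
    congr 1
    refine left_inv_eq_right_inv (inv_mul_lin _) ?_
    rw [← hf, mul_assoc, ← mul_assoc (lin fy), lin_mul_inv, one_mul, lin_mul_inv]
  have hcoc : Cong (J * J) (post (Bialgebra.comulAlgHom R A) d)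
      (post (pX R A) d + lin fx * post (pY R A) d * inv fx) := by
    rw [cong_iff]
    have he : post (Bialgebra.comulAlgHom R A) d -
        (post (pX R A) d + lin fx * post (pY R A) d * inv fx) =
        post (pX R A) d * (lin fx * post (pY R A) d * inv fx) := by
      simp only [post_add, post_one, mul_add, add_mul, one_mul, mul_one, lin_mul_inv] at hid
      linear_combination (norm := abel) hid
    rw [he]
    have hp : ∀ a : A →ₐ[R] A ⊗[R] A, Cong J (post a d) 0 := fun a => by
      have := hdJ.post a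
      simpa [HochLift.post] using this
    refine mul_mem (hp (pX R A)) ?_
    simpa using ((Cong.refl J (lin fx)).mul (hp (pY R A))).mul (Cong.refl J (inv fx))
  have hav := hcoc.postL (avg l)
  have k1 : postL (avg l) (post (Bialgebra.comulAlgHom R A) d) = post η e := by
    ext c
    change avg l (comul (R := R) (d c)) = algebraMap R A (l (d c))
    rw [Algebra.algebraMap_eq_smul_one]
    exact hl.left_inv _
  have k2 : postL (avg l) (post (pX R A) d) = d := by
    ext c
    change avg l (d c ⊗ₜ[R] (1 : A)) = _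
    rw [avg_tmul, hl.map_one, one_smul]
  have k3 : postL (avg l) (lin fx * post (pY R A) d * inv fx) = lin f * post η e * inv f := by
    have : lin fx * post (pY R A) d * inv fx =
        post (pX R A) (lin f) * post (pY R A) d * post (pX R A) (inv f) := rfl
    rw [this, postL_avg_mul]
    congr 2
    ext c
    change avg l ((1 : A) ⊗ₜ[R] d c) = algebraMap R A (l (d c))
    rw [avg_tmul, Algebra.algebraMap_eq_smul_one]
  rw [postL_add, k1, k2, k3] at hav
  -- conjugation by `1 + e`
  set E := post η e with hE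
  have hEJ : Cong J E 0 := by
    have := heJ.post η
    simpa [E, HochLift.post] using this
  have hgA : Cong (J * J) (lin (constPt A g)) (1 + E) := by
    simpa only [post_add, post_one, post_lin, constPt, hE, η] using hg.post η
  have hgI : Cong (J * J) (inv (constPt A g)) (1 - E) := by
    have h1 : Cong (J * J) ((1 + E) * (1 - E)) 1 := by
      rw [cong_iff, show (1 + E) * (1 - E) - 1 = -(E * E) by
        rw [add_mul, one_mul, mul_sub, mul_one]; abel]
      simpa using cong_neg (mul_mem hEJ hEJ)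
    have h2 := (Cong.refl (J * J) (inv (constPt A g))).mul
      ((hgA.mul (Cong.refl (J * J) (1 - E))).trans h1)
    rw [inv_mul_lin_assoc, mul_one] at h2
    exact h2.symm
  rw [lin_conjPt]
  refine Cong.trans ?_ ((hgA.mul (Cong.refl _ (lin f))).mul hgI).symm
  have hf'd : lin f' = (1 + d) * lin f := by rw [hd1, mul_assoc, inv_mul_lin, mul_one]
  rw [hf'd, cong_iff]
  have he : (1 + d) * lin f - (1 + E) * lin f * (1 - E) =
      (d + lin f * E * inv f - E) * lin f + E * lin f * E := by
    simp only [add_mul, sub_mul, mul_sub, one_mul, mul_one, mul_assoc]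
    rw [inv_mul_lin, mul_one]
    abel
  rw [he]
  have h3 : Cong (J * J) (E * lin f * E) 0 := by
    refine mul_mem ?_ hEJ
    simpa using hEJ.mul (Cong.refl J (lin f))
  simpa using ((cong_iff.1 hav.symm).mul (Cong.refl _ (lin f))).add h3

include hl in
/-- Two homomorphisms congruent modulo a nilpotent ideal are conjugate. -/
theorem exists_conj [Algebra.FormallySmooth R C] {I : Ideal R} (hI : IsNilpotent I)
    (f f' : C →ₐc[R] A) (h : Cong I (lin (f' : C →ₐ[R] A)) (lin (f : C →ₐ[R] A))) :
    ∃ g : C →ₐ[R] R, Cong I (lin g) 1 ∧ (f' : C →ₐ[R] A) = conjPt g (f : C →ₐ[R] A) := by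
  have key : ∀ k, ∃ g : C →ₐ[R] R, Cong I (lin g) 1 ∧
      Cong (I ^ 2 ^ k) (lin (f' : C →ₐ[R] A)) (lin (conjPt g (f : C →ₐ[R] A))) := by
    intro k
    induction k with
    | zero =>
      refine ⟨Bialgebra.counitAlgHom R C, ?_, ?_⟩
      · exact Cong.refl I 1
      · have h1 : lin (constPt A (Bialgebra.counitAlgHom R C)) = 1 := lin_unit
        have h2 : inv (constPt A (Bialgebra.counitAlgHom R C)) = 1 := by
          simpa only [h1, one_mul] using lin_mul_inv (constPt A (Bialgebra.counitAlgHom R C))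
        simpa [lin_conjPt, h1, h2] using h
    | succ k ih =>
      obtain ⟨g₁, h1, h2⟩ := ih
      obtain ⟨g₂, h3, h4⟩ := exists_conj_step hl hI (pow_two_pow_le I k)
        (conjPt g₁ (f : C →ₐ[R] A)) (f' : C →ₐ[R] A) ((isPointHom_bialgHom f).conjPt g₁)
        (isPointHom_bialgHom f') h2
      refine ⟨(toConv g₂ * toConv g₁).ofConv, ?_, ?_⟩
      · rw [lin_mul]
        simpa using (h3.mono (pow_two_pow_le I k)).mul h1
      · rwa [conjPt_mul, pow_two_pow_succ]
  obtain ⟨n, hn⟩ := hI
  obtain ⟨g, h1, h2⟩ := key n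
  rw [pow_two_pow_eq_bot hn] at h2
  exact ⟨g, h1, lin_injective (eq_of_cong_bot h2)⟩

/-- Congruence of points from equality after reduction of the base. -/
theorem cong_of_tmul_eq {T : Type u} [CommRing T] [Algebra R T] {K : Ideal R}
    {X Y : WithConv (C →ₗ[R] T)}
    (h : ∀ c, (1 : R ⧸ K) ⊗ₜ[R] X c = (1 : R ⧸ K) ⊗ₜ[R] Y c) : Cong K X Y := fun c => by
  have h1 : X c - Y c ∈ K • (⊤ : Submodule R T) :=
    sub_mem_smul_of_tmul_eq K (h c)
  rwa [Ideal.smul_top_eq_map] at h1

theorem tmul_eq_of_mem {T : Type u} [CommRing T] [Algebra R T] {K : Ideal R} {x y : T}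
    (h : x - y ∈ vI K T) : (1 : R ⧸ K) ⊗ₜ[R] x = (1 : R ⧸ K) ⊗ₜ[R] y := by
  rw [← sub_eq_zero, ← TensorProduct.tmul_sub]
  have h1 : x - y ∈ K • (⊤ : Submodule R T) := by rw [Ideal.smul_top_eq_map]; exact h
  refine Submodule.smul_induction_on h1 (fun r hr z _ => ?_) (fun a b ha hb => ?_)
  · rw [← TensorProduct.smul_tmul, Algebra.smul_def, Ideal.Quotient.algebraMap_eq,
      Ideal.Quotient.eq_zero_iff_mem.2 hr, zero_mul, TensorProduct.zero_tmul]
  · rw [TensorProduct.tmul_add, ha, hb, add_zero]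

theorem cong_of_tmul_eq' (S : Type u) [CommRing S] [Algebra R S]
    (hS : Function.Surjective (algebraMap R S)) {T : Type u} [CommRing T] [Algebra R T]
    {X Y : WithConv (C →ₗ[R] T)} (h : ∀ c, (1 : S) ⊗ₜ[R] X c = (1 : S) ⊗ₜ[R] Y c) :
    Cong (RingHom.ker (Algebra.ofId R S)) X Y := by
  refine cong_of_tmul_eq fun c => ?_
  let e := Ideal.quotientKerAlgEquivOfSurjective (f := Algebra.ofId R S) hS
  have := congrArg (LinearMap.rTensor T e.symm.toLinearMap) (h c)
  simpa using this

/-- An algebra lift of a homomorphism over the reduced base is an approximate homomorphism. -/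
theorem cong_defect_of_reduction (S : Type u) [CommRing S] [Algebra R S]
    (hS : Function.Surjective (algebraMap R S)) (φ₀ : (S ⊗[R] C) →ₐc[S] (S ⊗[R] A))
    (u : C →ₐ[R] A) (hu : ∀ c : C, φ₀ ((1 : S) ⊗ₜ[R] c) = (1 : S) ⊗ₜ[R] u c) :
    Cong (RingHom.ker (Algebra.ofId R S)) (defect u) 0 := by
  let Ψ : (S ⊗[R] A) ⊗[S] (S ⊗[R] A) →ₐ[S] S ⊗[R] (A ⊗[R] A) :=
    Algebra.TensorProduct.lift (Algebra.TensorProduct.map (AlgHom.id _ _) (pX R A))
      (Algebra.TensorProduct.map (AlgHom.id _ _) (pY R A)) (fun _ _ => mul_comm _ _)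
  have hΨ : ∀ x : A, Ψ (comul (R := S) ((1 : S) ⊗ₜ[R] x)) = (1 : S) ⊗ₜ[R] comul (R := R) x := by
    intro x
    rw [TensorProduct.comul_tmul, CommSemiring.comul_apply]
    generalize comul (R := R) x = t
    induction t using TensorProduct.induction_on with
    | zero => simp
    | tmul a b => simp [Ψ]
    | add a b ha hb => simp only [TensorProduct.tmul_add, map_add, ha, hb]
  have key : Cong (RingHom.ker (Algebra.ofId R S)) (lin ((pX R A).comp u) * lin ((pY R A).comp u))
      (lin ((Bialgebra.comulAlgHom R A).comp u)) := by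
    rw [lin_pX_mul_pY]
    refine cong_of_tmul_eq' S hS fun c => ?_
    change (1 : S) ⊗ₜ[R] Algebra.TensorProduct.map u u (comul (R := R) c) =
      (1 : S) ⊗ₜ[R] comul (R := R) (u c)
    rw [← hΨ, ← hu, ← CoalgHomClass.map_comp_comul_apply φ₀, TensorProduct.comul_tmul,
      CommSemiring.comul_apply]
    generalize comul (R := R) c = t
    induction t using TensorProduct.induction_on with
    | zero => simp
    | tmul a b => simp [Ψ, hu]
    | add a b ha hb => simp only [TensorProduct.tmul_add, map_add, ha, hb]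
  rw [defect, ← cong_iff]
  simpa only [lin_mul_inv] using key.mul (Cong.refl _ (inv ((Bialgebra.comulAlgHom R A).comp u)))

include hl in
/-- Lifting of homomorphisms along a surjection of the base with nilpotent kernel. -/
theorem exists_bialgHom_lift' [Algebra.FormallySmooth R C] (S : Type u) [CommRing S] [Algebra R S]
    (hS : Function.Surjective (algebraMap R S))
    (hI : IsNilpotent (RingHom.ker (Algebra.ofId R S)))
    (φ₀ : (S ⊗[R] C) →ₐc[S] (S ⊗[R] A)) :
    ∃ φ : C →ₐc[R] A, ∀ c : C, φ₀ ((1 : S) ⊗ₜ[R] c) = (1 : S) ⊗ₜ[R] φ c := by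
  let I := RingHom.ker (Algebra.ofId R S)
  let e : (R ⧸ I) ≃ₐ[R] S := Ideal.quotientKerAlgEquivOfSurjective (f := Algebra.ofId R S) hS
  let π : A →ₐ[R] S ⊗[R] A := Algebra.TensorProduct.includeRight
  have hπ : Function.Surjective π := fun z => by
    induction z using TensorProduct.induction_on with
    | zero => exact ⟨0, map_zero π⟩
    | add x y hx hy =>
      obtain ⟨a, rfl⟩ := hx; obtain ⟨b, rfl⟩ := hy
      exact ⟨a + b, map_add π a b⟩
    | tmul r x =>
      obtain ⟨r, rfl⟩ := hS r
      refine ⟨r • x, ?_⟩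
      change (1 : S) ⊗ₜ[R] (r • x) = _
      rw [← TensorProduct.smul_tmul, Algebra.smul_def, mul_one]
  have hker : IsNilpotent (RingHom.ker (π : A →+* S ⊗[R] A)) := by
    obtain ⟨n, hn⟩ := isNilpotent_vI (T := A) hI (le_refl I)
    refine ⟨n, le_bot_iff.1 ?_⟩
    rw [← Ideal.zero_eq_bot, ← hn]
    refine Ideal.pow_right_mono (fun x hx => ?_) n
    have h0 : (1 : S) ⊗ₜ[R] x = (1 : S) ⊗ₜ[R] (0 : A) :=
      hx.trans (TensorProduct.tmul_zero _ _).symm
    have h0' : (1 : R ⧸ I) ⊗ₜ[R] x = (1 : R ⧸ I) ⊗ₜ[R] (0 : A) := by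
      simpa using congrArg (LinearMap.rTensor A e.symm.toLinearMap) h0
    have h1 := sub_mem_smul_of_tmul_eq I h0'
    rw [Ideal.smul_top_eq_map, sub_zero] at h1
    exact h1
  let f₀ : C →ₐ[R] S ⊗[R] A :=
    ((φ₀ : S ⊗[R] C →ₐ[S] S ⊗[R] A).restrictScalars R).comp Algebra.TensorProduct.includeRight
  let u : C →ₐ[R] A := Algebra.FormallySmooth.liftOfSurjective f₀ π hπ hker
  have hu : ∀ c : C, φ₀ ((1 : S) ⊗ₜ[R] c) = (1 : S) ⊗ₜ[R] u c := fun c =>
    (Algebra.FormallySmooth.liftOfSurjective_apply f₀ π hπ hker c).symm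
  obtain ⟨φ, hφ⟩ := exists_bialgHom_of_approx hl hI u (cong_defect_of_reduction S hS φ₀ u hu)
  refine ⟨φ, fun c => (hu c).trans ?_⟩
  have := congrArg (LinearMap.rTensor A e.toLinearMap) (tmul_eq_of_mem (hφ c)).symm
  simpa [lin] using this

include hl in
/-- Lifting of homomorphisms along a nilpotent ideal of the base. -/
theorem exists_bialgHom_lift [Algebra.FormallySmooth R C] {I : Ideal R} (hI : IsNilpotent I)
    (φ₀ : ((R ⧸ I) ⊗[R] C) →ₐc[R ⧸ I] ((R ⧸ I) ⊗[R] A)) :
    ∃ φ : C →ₐc[R] A, ∀ c : C, φ₀ ((1 : R ⧸ I) ⊗ₜ[R] c) = (1 : R ⧸ I) ⊗ₜ[R] φ c :=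
  exists_bialgHom_lift' hl (R ⧸ I) Ideal.Quotient.mk_surjective
    (hI.imp fun n hn => by
      rw [← hn]
      congr 1
      exact Ideal.mk_ker) φ₀

end Groth.Sga3.HochLift
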