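import Groth.Agent.Sga3.GroupAlg

/-!
A Hopf algebra map into a group algebra which is injective on points is surjective.
-/

set_option autoImplicit false

universe u v w

open TensorProduct WithConv Coalgebra

noncomputable section

namespace Groth.Sga3.GroupAlg

variable {R : Type u} [CommRing R] {C : Type u} [CommRing C] [HopfAlgebra R C]
  {M : Type u} [CommGroup M] (φ : C →ₐc[R] MonoidAlgebra R M)

/-- the homogeneous part of degree `m` of `c` -/
def part (m : M) (c : C) : C :=
  TensorProduct.rid R C ((comp φ.toCoalgHom m).ofConv.lTensor C (comul c))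

theorem apply_part (m : M) (c : C) :
    φ (part φ m c) = MonoidAlgebra.single m (comp φ.toCoalgHom m c) := by
  classical
  refine ext_cf fun n => ?_
  have key : ∀ t : C ⊗[R] C, cf n (φ (TensorProduct.rid R C
      ((comp φ.toCoalgHom m).ofConv.lTensor C t))) = LinearMap.mul' R R
        (TensorProduct.map (comp φ.toCoalgHom n).ofConv (comp φ.toCoalgHom m).ofConv t) := by
    intro t
    induction t using TensorProduct.induction_on with
    | zero => simp
    | tmul a b => simp [comp_apply, mul_comm]; rfl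
    | add a b ha hb => simp only [map_add, ha, hb]
  rw [part, key, ← LinearMap.convMul_apply, comp_mul, cf_single]
  rcases eq_or_ne n m with rfl | h
  · simp
  · simp [h, h.symm]

theorem mem_range_comp_mul {m n : M} {x y : R}
    (hx : x ∈ LinearMap.range (comp φ.toCoalgHom m).ofConv)
    (hy : y ∈ LinearMap.range (comp φ.toCoalgHom n).ofConv) :
    x * y ∈ LinearMap.range (comp φ.toCoalgHom (m * n)).ofConv := by
  classical
  obtain ⟨c, rfl⟩ := hx
  obtain ⟨d, rfl⟩ := hy
  refine ⟨part φ m c * part φ n d, ?_⟩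
  change cf (m * n) (φ (part φ m c * part φ n d)) = _
  rw [map_mul, apply_part, apply_part, MonoidAlgebra.single_mul_single, cf_single, if_pos rfl]

theorem antipode_apply (x : C) :
    φ (HopfAlgebra.antipode R x) = HopfAlgebra.antipode R (φ x) := by
  have h : toConv ((φ : C →ₐ[R] MonoidAlgebra R M).comp (HopfAlgebra.antipodeAlgHom R C)) =
      toConv ((HopfAlgebra.antipodeAlgHom R (MonoidAlgebra R M)).comp
        (φ : C →ₐ[R] MonoidAlgebra R M)) := by
    refine left_inv_eq_right_inv (a := toConv (φ : C →ₐ[R] MonoidAlgebra R M)) ?_ ?_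
    · exact inv_mul_cancel (toConv (φ : C →ₐ[R] MonoidAlgebra R M))
    · apply WithConv.ofConv_injective
      have h2 := AlgHom.convMul_comp_bialgHom_distrib (toConv (AlgHom.id R (MonoidAlgebra R M)))
        (toConv (HopfAlgebra.antipodeAlgHom R (MonoidAlgebra R M))) φ
      have h3 : toConv (AlgHom.id R (MonoidAlgebra R M)) *
          toConv (HopfAlgebra.antipodeAlgHom R (MonoidAlgebra R M)) = 1 :=
        mul_inv_cancel (toConv (AlgHom.id R (MonoidAlgebra R M)))
      rw [h3] at h2
      refine h2.symm.trans (AlgHom.ext fun c => ?_)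
      simp
  exact DFunLike.congr_fun (congrArg WithConv.ofConv h) x

theorem mem_range_comp_inv {m : M} {x : R} (hx : x ∈ LinearMap.range (comp φ.toCoalgHom m).ofConv) :
    x ∈ LinearMap.range (comp φ.toCoalgHom m⁻¹).ofConv := by
  classical
  obtain ⟨c, rfl⟩ := hx
  refine ⟨HopfAlgebra.antipode R (part φ m c), ?_⟩
  change cf m⁻¹ (φ (HopfAlgebra.antipode R (part φ m c))) = _
  rw [antipode_apply, apply_part, MonoidAlgebra.antipode_single, cf_single, if_pos rfl]
  simp

theorem range_comp_eq_top
    (hmono : ∀ (T : Type u) [CommRing T] [Algebra R T],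
      Function.Injective (fun x : MonoidAlgebra R M →ₐ[R] T => x.comp (φ : C →ₐ[R] MonoidAlgebra R M)))
    (m : M) : LinearMap.range (comp φ.toCoalgHom m).ofConv = ⊤ := by
  classical
  let a : M → Ideal R := fun n => LinearMap.range (comp φ.toCoalgHom n).ofConv
  change a m = ⊤
  by_contra hm
  obtain ⟨p, hp, hle⟩ := Ideal.exists_le_maximal _ hm
  let H : Subgroup M :=
    { carrier := {n | ¬ a n ≤ p}
      one_mem' := fun h => hp.ne_top <| (Ideal.eq_top_iff_one p).2 <| h
        ⟨1, by change cf 1 (φ 1) = 1; rw [map_one, MonoidAlgebra.one_def, cf_single, if_pos rfl]⟩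
      mul_mem' := fun {x y} hx hy h => by
        obtain ⟨r, hr, hr'⟩ := SetLike.not_le_iff_exists.1 hx
        obtain ⟨s, hs, hs'⟩ := SetLike.not_le_iff_exists.1 hy
        exact (hp.isPrime.mem_or_mem (h (mem_range_comp_mul φ hr hs))).elim hr' hs'
      inv_mem' := fun {x} hx h => hx fun r hr => h (mem_range_comp_inv φ hr) }
  letI := Ideal.Quotient.field p
  let x₁ : MonoidAlgebra R M →ₐ[R] MonoidAlgebra (R ⧸ p) (M ⧸ H) :=
    MonoidAlgebra.lift R _ M ((MonoidAlgebra.of (R ⧸ p) (M ⧸ H)).comp (QuotientGroup.mk' H))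
  let x₂ : MonoidAlgebra R M →ₐ[R] MonoidAlgebra (R ⧸ p) (M ⧸ H) := MonoidAlgebra.lift R _ M 1
  have hsingle : ∀ (n : M) (r : R), r ∈ a n →
      x₁ (MonoidAlgebra.single n r) = x₂ (MonoidAlgebra.single n r) := by
    intro n r hr
    rw [MonoidAlgebra.lift_single, MonoidAlgebra.lift_single]
    by_cases hn : n ∈ H
    · have : QuotientGroup.mk' H n = 1 := (QuotientGroup.eq_one_iff n).2 hn
      rw [MonoidHom.comp_apply, this, map_one, MonoidHom.one_apply]
    · have h1 : algebraMap R (MonoidAlgebra (R ⧸ p) (M ⧸ H)) r = 0 := by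
        have hrp : r ∈ p := not_not.1 hn hr
        rw [IsScalarTower.algebraMap_apply R (R ⧸ p)]
        rw [Ideal.Quotient.algebraMap_eq, Ideal.Quotient.eq_zero_iff_mem.2 hrp, map_zero]
      rw [Algebra.smul_def, Algebra.smul_def, h1, zero_mul, zero_mul]
  have h12 : x₁ = x₂ := hmono _ <| AlgHom.ext fun c => by
    change x₁ (φ c) = x₂ (φ c)
    rw [← MonoidAlgebra.sum_coeff_single (φ c)]
    simp only [Finsupp.sum, map_sum]
    exact Finset.sum_congr rfl fun n _ => hsingle n _ ⟨c, rfl⟩
  have h := DFunLike.congr_fun h12 (MonoidAlgebra.single m 1)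
  simp only [x₁, x₂, MonoidAlgebra.lift_single, one_smul, MonoidHom.comp_apply,
    MonoidHom.one_apply, MonoidAlgebra.one_def, MonoidAlgebra.of_apply] at h
  exact ((QuotientGroup.eq_one_iff m).1 (MonoidAlgebra.single_left_injective one_ne_zero h)) hle

theorem surjective_of_mono
    (hmono : ∀ (T : Type u) [CommRing T] [Algebra R T],
      Function.Injective (fun x : MonoidAlgebra R M →ₐ[R] T => x.comp (φ : C →ₐ[R] MonoidAlgebra R M))) :
    Function.Surjective φ := by
  intro y
  induction y using MonoidAlgebra.induction_linear with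
  | zero => exact ⟨0, map_zero φ⟩
  | add a b ha hb =>
    obtain ⟨c, rfl⟩ := ha
    obtain ⟨d, rfl⟩ := hb
    exact ⟨c + d, map_add φ c d⟩
  | single m r =>
    obtain ⟨c, hc⟩ : r ∈ LinearMap.range (comp φ.toCoalgHom m).ofConv :=
      (range_comp_eq_top φ hmono m).symm ▸ Submodule.mem_top
    exact ⟨part φ m c, by rw [apply_part, ← hc]⟩

end Groth.Sga3.GroupAlg
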