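import Groth.Agent.Sga3.HomLift
import Groth.Agent.Sga3.AdicLift
import Groth.Agent.Sga3.FlatDeformQuasi
import Groth.Agent.AdicLinTop.Adic

/-!
Homomorphisms from an isotrivial group of multiplicative type over an adically complete Noetherian
ring into an affine group which is flat along the closed subscheme and quasi-isotrivial there.
-/

set_option autoImplicit false

universe u

open TensorProduct WithConv Coalgebra

noncomputable section

namespace Groth.Sga3.AdicHom

open SGA3b MultType GroupAlg AdicAux AdicLift HomLift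

section QuasiBC

variable {R : Type u} [CommRing R] {X : Type u} [CommRing X] [HopfAlgebra R X]

theorem isQuasiIsotrivialConst_of_equiv {B : Type u} [CommRing B] [HopfAlgebra R B] (e : X ≃ₐc[R] B)
    (h : IsQuasiIsotrivialConst R X) : IsQuasiIsotrivialConst R B := by
  obtain ⟨R', _, _, het, hff, hd⟩ := h
  exact ⟨R', _, _, het, hff, isDiag_of_equiv (congrBC R' e) hd⟩

theorem isQuasiIsotrivialConst_baseChange (S : Type u) [CommRing S] [Algebra R S]
    (h : IsQuasiIsotrivialConst R X) : IsQuasiIsotrivialConst S (S ⊗[R] X) := by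
  obtain ⟨R', _, _, het, hff, hd⟩ := h
  let T := S ⊗[R] R'
  letI : Algebra R' T := Algebra.TensorProduct.rightAlgebra
  haveI : IsScalarTower R R' T := IsScalarTower.of_algebraMap_eq fun r => by
    change algebraMap R T r = (1 : S) ⊗ₜ[R] algebraMap R R' r
    rw [Algebra.TensorProduct.algebraMap_apply, Algebra.algebraMap_eq_smul_one,
      Algebra.algebraMap_eq_smul_one, TensorProduct.smul_tmul]
  exact ⟨T, _, _, inferInstance, inferInstance, isDiag_of_equiv (cancelBC R S T X).symm
    (isDiag_trans R' T X (isDiag_baseChange T (R' ⊗[R] X) hd))⟩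

theorem isQuasiIsotrivial_baseChange (S : Type u) [CommRing S] [Algebra R S]
    (h : IsQuasiIsotrivial R X) : IsQuasiIsotrivial S (S ⊗[R] X) := by
  obtain ⟨s, hs, hloc⟩ := h
  refine ⟨algebraMap R S '' s, by rw [← Ideal.map_span, hs, Ideal.map_top], ?_⟩
  rintro _ ⟨f, hf, rfl⟩
  let Rf := Localization.Away f
  let Sf := Localization.Away (algebraMap R S f)
  let : Algebra Rf Sf := (IsLocalization.Away.lift f (g := algebraMap R Sf)
    (by rw [IsScalarTower.algebraMap_apply R S Sf]
        exact IsLocalization.Away.algebraMap_isUnit _)).toAlgebra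
  haveI : IsScalarTower R Rf Sf := IsScalarTower.of_algebraMap_eq fun r =>
    (IsLocalization.Away.lift_eq f _ r).symm
  exact isQuasiIsotrivialConst_of_equiv ((cancelBC R Rf Sf X).trans (cancelBC R S Sf X).symm)
    (isQuasiIsotrivialConst_baseChange Sf (hloc f hf))

theorem isQuasiIsotrivial_of_equiv {B : Type u} [CommRing B] [HopfAlgebra R B] (e : X ≃ₐc[R] B)
    (h : IsQuasiIsotrivial R X) : IsQuasiIsotrivial R B := by
  obtain ⟨s, hs, hloc⟩ := h
  exact ⟨s, hs, fun f hf => isQuasiIsotrivialConst_of_equiv (congrBC _ e) (hloc f hf)⟩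

end QuasiBC

variable {A : Type u} [CommRing A] {C : Type u} [CommRing C] [HopfAlgebra A C]

theorem injective_of_atPrime (I : Ideal A)
    (hfl : ∀ (q : Ideal C) [q.IsPrime], Ideal.map (algebraMap A C) I ≤ q → Module.Flat A (Localization.AtPrime q))
    {k : ℕ} {N N' : Type u} [AddCommGroup N] [Module A N] [AddCommGroup N'] [Module A N']
    (hN : ∀ a ∈ I ^ k, ∀ x : N, a • x = 0) (f : N →ₗ[A] N') (hf : Function.Injective f) :
    Function.Injective (f.lTensor C) := by
  refine (injective_iff_map_eq_zero _).2 fun z hz => ?_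
  by_contra hne
  let J : Ideal C := LinearMap.ker (LinearMap.toSpanSingleton C (C ⊗[A] N) z)
  obtain ⟨q, hq, hJq⟩ := Ideal.exists_le_maximal J fun hJ => hne <| by
    have h1 : (1 : C) ∈ J := hJ ▸ Submodule.mem_top
    simpa [J] using h1
  have hIq : Ideal.map (algebraMap A C) I ≤ q := by
    rw [Ideal.map_le_iff_le_comap]
    intro a ha
    refine hq.isPrime.mem_of_pow_mem k (hJq ?_)
    change (algebraMap A C a) ^ k • z = 0
    rw [← map_pow, algebraMap_smul]
    have hak := Ideal.pow_mem_pow ha k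
    clear hz hne J hJq
    induction z using TensorProduct.induction_on with
    | zero => simp
    | tmul c x => rw [← TensorProduct.tmul_smul, hN _ hak, TensorProduct.tmul_zero]
    | add p r hp hr => rw [smul_add, hp, hr, add_zero]
  let Cq := Localization.AtPrime q
  haveI : Module.Flat A Cq := hfl q hIq
  let g : C ⊗[A] N →ₗ[C] Cq ⊗[A] N := AlgebraTensorModule.rTensor A N (Algebra.linearMap C Cq)
  have hcomm : ∀ w, f.lTensor Cq (g w) =
      AlgebraTensorModule.rTensor A N' (Algebra.linearMap C Cq) (f.lTensor C w) := by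
    intro w
    induction w using TensorProduct.induction_on with
    | zero => simp
    | tmul c x => rfl
    | add p r hp hr => simp only [map_add, hp, hr]
  have h0 : g z = 0 := Module.Flat.lTensor_preserves_injective_linearMap f hf <| by
    rw [hcomm, hz, map_zero, map_zero]
  obtain ⟨⟨s, hs⟩, hsz⟩ := (IsLocalizedModule.eq_zero_iff q.primeCompl g).1 h0
  exact hs (hJq hsz)

theorem flat_quot (I : Ideal A)
    (hfl : ∀ (q : Ideal C) [q.IsPrime], Ideal.map (algebraMap A C) I ≤ q → Module.Flat A (Localization.AtPrime q))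
    {K : Ideal A} {k : ℕ} (hK : I ^ k ≤ K) : Module.Flat (A ⧸ K) ((A ⧸ K) ⊗[A] C) := by
  rw [Module.Flat.iff_rTensor_preserves_injective_linearMap]
  intro N N' _ _ _ _ f hf
  let : Module A N := Module.compHom N (algebraMap A (A ⧸ K))
  let : Module A N' := Module.compHom N' (algebraMap A (A ⧸ K))
  haveI : IsScalarTower A (A ⧸ K) N := IsScalarTower.of_algebraMap_smul fun _ _ => rfl
  haveI : IsScalarTower A (A ⧸ K) N' := IsScalarTower.of_algebraMap_smul fun _ _ => rfl
  have hN : ∀ a ∈ I ^ k, ∀ x : N, a • x = 0 := fun a ha x => by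
    rw [← algebraMap_smul (A ⧸ K) a x, Ideal.Quotient.algebraMap_eq,
      Ideal.Quotient.eq_zero_iff_mem.2 (hK ha), zero_smul]
  have h1 := injective_of_atPrime I hfl hN (f.restrictScalars A) hf
  let eN := (AlgebraTensorModule.cancelBaseChange A (A ⧸ K) (A ⧸ K) N C).restrictScalars A
  let eN' := (AlgebraTensorModule.cancelBaseChange A (A ⧸ K) (A ⧸ K) N' C).restrictScalars A
  have hcomm : ∀ w, eN' (f.rTensor _ w) = TensorProduct.comm A C N'
      ((f.restrictScalars A).lTensor C (TensorProduct.comm A N C (eN w))) := by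
    intro w
    induction w using TensorProduct.induction_on with
    | zero => simp
    | add p r hp hr => simp only [map_add, hp, hr]
    | tmul x y =>
      induction y using TensorProduct.induction_on with
      | zero => simp
      | add p r hp hr => simp only [TensorProduct.tmul_add, map_add, hp, hr]
      | tmul r c => simp [eN, eN']
  intro x y hxy
  have h2 := congrArg eN' hxy
  rw [hcomm, hcomm] at h2
  exact eN.injective ((TensorProduct.comm A N C).injective (h1 ((TensorProduct.comm A C N').injective h2)))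

theorem isMultType_quot (I : Ideal A)
    (hfl : ∀ (q : Ideal C) [q.IsPrime], Ideal.map (algebraMap A C) I ≤ q → Module.Flat A (Localization.AtPrime q))
    (h0 : IsQuasiIsotrivial (A ⧸ I) ((A ⧸ I) ⊗[A] C)) {K : Ideal A} {k : ℕ} (hK : I ^ k ≤ K) :
    IsMultType (A ⧸ K) ((A ⧸ K) ⊗[A] C) := by
  haveI := flat_quot I hfl hK
  let S := A ⧸ K
  let J := I.map (algebraMap A S)
  let T := S ⧸ J
  let : Algebra (A ⧸ I) T :=
    (Ideal.quotientMap J (algebraMap A S) Ideal.le_comap_map).toAlgebra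
  haveI : IsScalarTower A (A ⧸ I) T := IsScalarTower.of_algebraMap_eq fun r => rfl
  refine isMultType_of_quasi (isQuasiIsotrivial_of_nilpotent (I := J) ⟨k, le_bot_iff.1 ?_⟩
    (isQuasiIsotrivial_of_equiv ((cancelBC A (A ⧸ I) T C).trans (cancelBC A S T C).symm)
      (isQuasiIsotrivial_baseChange T h0)))
  rw [← Ideal.map_pow]
  refine (Ideal.map_mono hK).trans (le_of_eq ?_)
  exact Ideal.map_quotient_self K

variable {B : Type u} [CommRing B] [HopfAlgebra A B]

section Weights

variable {A' : Type u} [CommRing A'] [Algebra A A'] {M : Type u} [CommGroup M]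
  (γ : A' ⊗[A] B ≃ₐc[A'] MonoidAlgebra A' M)

/-- the weights at a level are orthogonal idempotents -/
theorem V_mul [DecidableEq M] (K : Ideal A)
    (φ : ((A ⧸ K) ⊗[A] C) →ₐc[A ⧸ K] ((A ⧸ K) ⊗[A] B)) (m k : M) (c : C) {r : ℕ}
    (a b : Fin r → C) (hc : comul (R := A) c = ∑ j, a j ⊗ₜ[A] b j) :
    ∑ j, V γ K m (φ (1 ⊗ₜ a j)) * V γ K k (φ (1 ⊗ₜ b j)) =
      if m = k then V γ K k (φ (1 ⊗ₜ c)) else 0 := by
  letI : Algebra (A ⧸ K) (Tq A' K) := (qmap K).toRingHom.toAlgebra
  haveI : IsScalarTower A (A ⧸ K) (Tq A' K) := IsScalarTower.of_algebraMap_eq fun a =>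
    ((qmap (A' := A') K).commutes a).symm
  let T := Tq A' K
  let Φ : T ⊗[A] C →ₐc[T] MonoidAlgebra T M :=
    (chain γ T : T ⊗[A] B →ₐc[T] MonoidAlgebra T M).comp (push (A ⧸ K) T φ)
  let E := fun m : M => comp (Φ : T ⊗[A] C →ₗc[T] MonoidAlgebra T M) m
  have hE : ∀ m c, E m ((1 : T) ⊗ₜ c) = V γ K m (φ (1 ⊗ₜ c)) := by
    intro m c
    change cf m (chain γ T (push (A ⧸ K) T φ ((1 : T) ⊗ₜ[A] c))) = _
    rw [push_one_tmul]
    generalize φ ((1 : A ⧸ K) ⊗ₜ[A] c) = z
    induction z using TensorProduct.induction_on with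
    | zero => simp
    | add x y hx hy => simp only [TensorProduct.tmul_add, map_add, hx, hy]
    | tmul r b =>
      rw [V_tmul]
      change cf m (chain γ T (Algebra.TensorProduct.cancelBaseChange A (A ⧸ K) T T B _)) = _
      rw [Algebra.TensorProduct.cancelBaseChange_tmul, cf_chain_tmul, Algebra.smul_def, mul_one]
      rfl
  have h1 := congrArg (fun F : WithConv (T ⊗[A] C →ₗ[T] T) => F ((1 : T) ⊗ₜ c))
    (comp_mul (Φ : T ⊗[A] C →ₗc[T] MonoidAlgebra T M) m k)
  have h2 : (E m * E k) ((1 : T) ⊗ₜ c) = ∑ j, V γ K m (φ (1 ⊗ₜ a j)) * V γ K k (φ (1 ⊗ₜ b j)) := by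
    rw [LinearMap.convMul_apply, TensorProduct.comul_tmul, CommSemiring.comul_apply, hc,
      TensorProduct.tmul_sum, map_sum, map_sum, map_sum]
    refine Finset.sum_congr rfl fun j _ => ?_
    rw [← hE, ← hE]
    simp
  refine h2.symm.trans (h1.trans ?_)
  split_ifs with h
  · rw [← hE, h]
  · rfl

/-- An element of the completion from compatible residues. -/
theorem exists_elem {J : Ideal A'} [IsAdicComplete J A'] (z : ∀ n : ℕ, A')
    (hz : ∀ n, z (n + 1) - z n ∈ J ^ (n + 1)) : ∃ L, ∀ n, z n - L ∈ J ^ (n + 1) := by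
  have hc : ∀ {m n : ℕ}, m ≤ n → z n - z m ∈ J ^ (m + 1) := by
    intro m n hmn
    induction n, hmn using Nat.le_induction with
    | base => simp
    | succ n hmn ih =>
      simpa using add_mem (Ideal.pow_le_pow_right (Nat.add_le_add_right hmn 1) (hz n)) ih
  obtain ⟨L, hL⟩ := IsPrecomplete.prec (I := J) inferInstance (f := z) (fun {m n} hmn => by
    rw [SModEq.sub_mem, smul_eq_mul, Ideal.mul_top]
    simpa using neg_mem (Ideal.pow_le_pow_right (Nat.le_succ m) (hc hmn)))
  refine ⟨L, fun n => ?_⟩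
  have h1 := hL (n + 1)
  rw [SModEq.sub_mem, smul_eq_mul, Ideal.mul_top] at h1
  simpa using sub_mem h1 (hc (Nat.le_succ n))

/-- Only finitely many weights occur in a compatible family. -/
theorem exists_weights_bound [IsNoetherianRing A'] (I : Ideal A)
    [IsAdicComplete (I.map (algebraMap A A')) A']
    (seq : ∀ n : ℕ, ((A ⧸ I ^ (n + 1)) ⊗[A] C) →ₐc[A ⧸ I ^ (n + 1)] ((A ⧸ I ^ (n + 1)) ⊗[A] B))
    (hseq : ∀ n c, red B (Ideal.pow_le_pow_right (Nat.le_succ (n + 1))) (seq (n + 1) (1 ⊗ₜ c)) =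
      seq n (1 ⊗ₜ c))
    (c : C) : ∃ F : Finset M, ∀ n, ∀ m ∉ F, V γ (I ^ (n + 1)) m (seq n (1 ⊗ₜ c)) = 0 := by
  classical
  let J := I.map (algebraMap A A')
  have hJ : ∀ n : ℕ, (I ^ (n + 1)).map (algebraMap A A') = J ^ (n + 1) := fun n => Ideal.map_pow _ _ _
  have hX : ∀ (x : C) (m : M), ∃ L : A', ∀ n,
      Ideal.Quotient.mk _ L = V γ (I ^ (n + 1)) m (seq n (1 ⊗ₜ x)) := by
    intro x m
    choose z hz using fun n => Ideal.Quotient.mk_surjective (V γ (I ^ (n + 1)) m (seq n (1 ⊗ₜ x)))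
    obtain ⟨L, hL⟩ := exists_elem (J := J) z fun n => by
      rw [← hJ, ← Ideal.Quotient.eq, hz n, ← hseq n x, ← V_red, ← hz (n + 1), Ideal.Quotient.factor_mk]
    refine ⟨L, fun n => ?_⟩
    rw [← hz n, Ideal.Quotient.eq, hJ]
    simpa using neg_mem (hL n)
  choose X hX using hX
  obtain ⟨S, hS⟩ := TensorProduct.exists_finset (comul (R := A) c)
  let a : Fin S.card → C := fun j => (S.equivFin.symm j).1.1
  let b : Fin S.card → C := fun j => (S.equivFin.symm j).1.2
  have hab : comul (R := A) c = ∑ j, a j ⊗ₜ[A] b j := by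
    rw [hS, ← Finset.sum_coe_sort]
    exact (Fintype.sum_equiv S.equivFin.symm _ _ fun j => rfl).symm
  have hrel : ∀ m k, ∑ j, X (a j) m * X (b j) k = if m = k then X c k else 0 := by
    intro m k
    rw [← sub_eq_zero]
    refine IsHausdorff.haus (I := J) inferInstance _ fun n => ?_
    rw [SModEq.zero, smul_eq_mul, Ideal.mul_top]
    refine Ideal.pow_le_pow_right (Nat.le_succ n) ?_
    rw [← hJ, ← Ideal.Quotient.eq_zero_iff_mem, map_sub, map_sum, sub_eq_zero]
    have h1 := V_mul γ (I ^ (n + 1)) (seq n) m k c a b hab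
    simp only [map_mul, hX]
    rw [h1]
    split_ifs
    · rw [hX]
    · rw [map_zero]
  let w : M → (M → A') := fun k m => if m = k then X c k else 0
  let W : Submodule A' (M → A') := Submodule.span A' (Set.range w)
  have hW : W.FG := by
    refine (Submodule.fg_span (Set.finite_range fun j => X (a j))).of_le (Submodule.span_le.2 ?_)
    rintro _ ⟨k, rfl⟩
    have h1 : w k = ∑ j, X (b j) k • X (a j) := by
      funext m
      rw [Finset.sum_apply]
      simp only [Pi.smul_apply, smul_eq_mul, w]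
      rw [← hrel m k]
      exact Finset.sum_congr rfl fun j _ => mul_comm _ _
    rw [SetLike.mem_coe, h1]
    exact Submodule.sum_mem _ fun j _ => Submodule.smul_mem _ _ (Submodule.subset_span ⟨j, rfl⟩)
  have hsupp : ∀ v ∈ W, ∃ F : Finset M, ∀ m ∉ F, v m = 0 := by
    intro v hv
    refine Submodule.span_induction ?_ ⟨∅, fun m _ => rfl⟩ ?_ ?_ hv
    · rintro _ ⟨k, rfl⟩
      exact ⟨{k}, fun m hm => if_neg (by simpa using hm)⟩
    · rintro x y _ _ ⟨F, hF⟩ ⟨G, hG⟩
      exact ⟨F ∪ G, fun m hm => by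
        rw [Finset.mem_union, not_or] at hm
        rw [Pi.add_apply, hF m hm.1, hG m hm.2, add_zero]⟩
    · rintro t x _ ⟨F, hF⟩
      exact ⟨F, fun m hm => by rw [Pi.smul_apply, hF m hm, smul_zero]⟩
  obtain ⟨G, hG⟩ := hW
  choose F hF using fun g : {g // g ∈ G} => hsupp g.1 (hG ▸ Submodule.subset_span g.2)
  refine ⟨Finset.univ.biUnion F, fun n m hm => ?_⟩
  have h2 : ∀ v ∈ W, v m = 0 := by
    intro v hv
    rw [← hG] at hv
    refine Submodule.span_induction ?_ rfl ?_ ?_ hv
    · intro g hg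
      exact hF ⟨g, hg⟩ m fun h => hm (Finset.mem_biUnion.2 ⟨⟨g, hg⟩, Finset.mem_univ _, h⟩)
    · intro x y _ _ hx hy; rw [Pi.add_apply, hx, hy, add_zero]
    · intro t x _ hx; rw [Pi.smul_apply, hx, smul_zero]
  have h3 := h2 (w m) (Submodule.subset_span ⟨m, rfl⟩)
  rw [show w m m = X c m from if_pos rfl] at h3
  rw [← hX c m n, h3, map_zero]

end Weights

theorem eq_of_congr [IsNoetherianRing A] (I : Ideal A) [IsAdicComplete I A] (hG : IsIsotrivial A B)
    (hfl : ∀ (q : Ideal C) [q.IsPrime], Ideal.map (algebraMap A C) I ≤ q → Module.Flat A (Localization.AtPrime q))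
    (h0 : IsQuasiIsotrivial (A ⧸ I) ((A ⧸ I) ⊗[A] C)) {φ ψ : C →ₐc[A] B}
    (h : ∀ c : C, (1 : A ⧸ I) ⊗ₜ[A] (φ c) = (1 : A ⧸ I) ⊗ₜ[A] (ψ c)) : φ = ψ := by
  have hB := isMultType_of_const (isMultTypeConst_of_isIsotrivial hG)
  have := projective_of_isMultType hB
  refine BialgHom.ext fun c => eq_of_forall_tmul_eq I fun n => ?_
  let S := A ⧸ I ^ (n + 1)
  have hnil : ∀ x ∈ I.map (algebraMap A S), IsNilpotent x := fun x hx => ⟨n + 1, by
    have h1 := Ideal.pow_mem_pow hx (n + 1)
    rw [← Ideal.map_pow, show (I ^ (n + 1)).map (algebraMap A S) = ⊥ from Ideal.map_quotient_self _] at h1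
    exact h1⟩
  have h1 : mapBC S φ = mapBC S ψ := eq_of_sub_mem (isMultType_quot I hfl h0 le_rfl)
    (isMultType_baseChange S hB) hnil fun z => by
      induction z using TensorProduct.induction_on with
      | zero => simp
      | add p q hp hq => simp only [map_add]; rw [add_sub_add_comm]; exact add_mem hp hq
      | tmul s x =>
        rw [mapBC_tmul, mapBC_tmul, ← TensorProduct.tmul_sub]
        exact smul_top_of_one_tmul S (sub_mem_smul_of_tmul_eq I (h x)) s
  exact DFunLike.congr_fun h1 ((1 : S) ⊗ₜ c)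

theorem exists_lift_adic [IsNoetherianRing A] (I : Ideal A) [IsAdicComplete I A] (hG : IsIsotrivial A B)
    (hfl : ∀ (q : Ideal C) [q.IsPrime], Ideal.map (algebraMap A C) I ≤ q → Module.Flat A (Localization.AtPrime q))
    (h0 : IsQuasiIsotrivial (A ⧸ I) ((A ⧸ I) ⊗[A] C))
    (φ₀ : ((A ⧸ I) ⊗[A] C) →ₐc[A ⧸ I] ((A ⧸ I) ⊗[A] B)) :
    ∃ φ : C →ₐc[A] B, ∀ c : C, φ₀ ((1 : A ⧸ I) ⊗ₜ[A] c) = (1 : A ⧸ I) ⊗ₜ[A] (φ c) := by
  classical
  have hB := isMultType_of_const (isMultTypeConst_of_isIsotrivial hG)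
  have := projective_of_isMultType hB
  obtain ⟨A', _, _, _, hfin, hff, M, _, ⟨γ⟩⟩ := hG
  obtain ⟨i, hi⟩ := Module.projective_def'.mp (inferInstance : Module.Projective A B)
  haveI : IsNoetherianRing A' := IsNoetherianRing.of_finite A A'
  haveI : IsAdicComplete (I.map (algebraMap A A')) A' :=
    haveI := Groth.AdicLinTop.Adic.isAdicComplete_of_finite (I := I) (M := A')
    (IsAdicComplete.map_algebraMap_iff (I := I) (M := A') (S := A')).mpr this
  have hle : ∀ n : ℕ, I ^ (n + 1) ≤ I := fun n => Ideal.pow_le_self n.succ_ne_zero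
  have hnil : ∀ n, ∀ x ∈ I.map (algebraMap A (A ⧸ I ^ (n + 1))), IsNilpotent x := fun n x hx =>
    ⟨n + 1, by
      have h1 := Ideal.pow_mem_pow hx (n + 1)
      rw [← Ideal.map_pow,
        show (I ^ (n + 1)).map (algebraMap A (A ⧸ I ^ (n + 1))) = ⊥ from Ideal.map_quotient_self _] at h1
      exact h1⟩
  choose seq hseqL using fun n : ℕ => HomLift.exists_isLift (φ₀ := φ₀) (A ⧸ I ^ (n + 1))
    (isMultType_quot I hfl h0 le_rfl) (isMultType_baseChange _ hB) (hnil n)
  have hseq : ∀ n c, red B (Ideal.pow_le_pow_right (Nat.le_succ (n + 1))) (seq (n + 1) (1 ⊗ₜ c)) =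
      seq n (1 ⊗ₜ c) := by
    intro n c
    let S := A ⧸ I ^ (n + 1 + 1)
    let T := A ⧸ I ^ (n + 1)
    let f := Ideal.Quotient.factor (Ideal.pow_le_pow_right (I := I) (Nat.le_succ (n + 1)))
    let : Algebra S T := f.toAlgebra
    haveI : IsScalarTower A S T := IsScalarTower.of_algebraMap_eq fun _ => rfl
    have h1 := (IsLift.push T (hseqL (n + 1))).unique (hseqL n) (isMultType_quot I hfl h0 le_rfl)
      (isMultType_baseChange _ hB) (hnil n)
    rw [← h1, push_one_tmul]
    generalize seq (n + 1) ((1 : S) ⊗ₜ[A] c) = z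
    induction z using TensorProduct.induction_on with
    | zero => simp
    | add x y hx hy => simp only [map_add, TensorProduct.tmul_add, hx, hy]
    | tmul r b =>
      change _ = Algebra.TensorProduct.cancelBaseChange A S T T B ((1 : T) ⊗ₜ[S] (r ⊗ₜ[A] b))
      rw [Algebra.TensorProduct.cancelBaseChange_tmul, red_tmul, Algebra.smul_def, mul_one]
      rfl
  have hlim : ∀ c : C, ∃ b : B, ∀ n, (1 : A ⧸ I ^ (n + 1)) ⊗ₜ[A] b = seq n (1 ⊗ₜ c) := by
    intro c
    obtain ⟨F, hF⟩ := exists_weights_bound γ I seq hseq c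
    choose s hs using fun m : M => P_finite i (γ.symm (MonoidAlgebra.single m 1))
    refine exists_limit I hi _ (fun n => hseq n c) (F.biUnion s) fun n j hj => ?_
    exact coord_eq_zero γ i F j (fun m hm => hs m j fun h => hj (Finset.mem_biUnion.2 ⟨m, hm, h⟩)) _
      (hF n)
  choose f hf using hlim
  let u : C →ₐ[A] B := AlgHom.ofLinearMap
    { toFun := f
      map_add' := fun a b => eq_of_forall_tmul_eq I fun n => by
        rw [TensorProduct.tmul_add, hf, hf, hf, TensorProduct.tmul_add, map_add]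
      map_smul' := fun a c => eq_of_forall_tmul_eq I fun n => by
        rw [RingHom.id_apply, TensorProduct.tmul_smul, hf, hf, TensorProduct.tmul_smul,
          ← algebraMap_smul (A ⧸ I ^ (n + 1)) a, map_smul, algebraMap_smul] }
    (eq_of_forall_tmul_eq I fun n => by
      change (1 : A ⧸ I ^ (n + 1)) ⊗ₜ[A] f 1 = _
      rw [hf, ← Algebra.TensorProduct.one_def, map_one, Algebra.TensorProduct.one_def])
    (fun a b => eq_of_forall_tmul_eq I fun n => by
      change (1 : A ⧸ I ^ (n + 1)) ⊗ₜ[A] f (a * b) = (1 : A ⧸ I ^ (n + 1)) ⊗ₜ[A] (f a * f b)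
      rw [hf, ← one_mul (1 : A ⧸ I ^ (n + 1)), ← Algebra.TensorProduct.tmul_mul_tmul, map_mul,
        ← Algebra.TensorProduct.tmul_mul_tmul, hf, hf])
  have hdef : HochLift.defect u = 0 := by
    apply WithConv.ofConv_injective
    refine LinearMap.ext fun c => eq_of_forall_tmul_eq I fun n => ?_
    have h1 := HochLift.cong_defect_of_reduction (A ⧸ I ^ (n + 1)) Ideal.Quotient.mk_surjective
      (seq n) u (fun c => (hf c n).symm)
    refine HochLift.tmul_eq_of_mem ?_
    have h2 := h1 c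
    rwa [show RingHom.ker (Algebra.ofId A (A ⧸ I ^ (n + 1))) = I ^ (n + 1) from Ideal.mk_ker] at h2
  refine ⟨(HochLift.isPointHom_of_defect hdef).toBialgHom, fun c => ?_⟩
  obtain ⟨y, hy⟩ := exists_eq_one_tmul I (φ₀ ((1 : A ⧸ I) ⊗ₜ c))
  rw [← hy]
  have h1 := hseqL 0 c y hy.symm
  rw [← hf c 0, ← TensorProduct.tmul_sub] at h1
  have h2 : red B (hle 0) ((1 : A ⧸ I ^ (0 + 1)) ⊗ₜ[A] (f c - y)) = 0 := by
    refine Submodule.smul_induction_on h1 (fun r hr m _ => ?_) fun p q hp hq => by
      rw [map_add, hp, hq, add_zero]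
    obtain ⟨a, rfl⟩ := Ideal.Quotient.mk_surjective r
    have ha : a ∈ I := by
      rw [← Ideal.comap_map_mk (hle 0)]
      exact hr
    rw [← Ideal.Quotient.algebraMap_eq, algebraMap_smul, map_smul,
      ← algebraMap_smul (A ⧸ I) a, Ideal.Quotient.algebraMap_eq, Ideal.Quotient.eq_zero_iff_mem.2 ha,
      zero_smul]
  rw [red_tmul, map_one, TensorProduct.tmul_sub, sub_eq_zero] at h2
  exact h2.symm

end Groth.Sga3.AdicHom
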