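import Groth.Agent.Sga3.MultType
import Mathlib

/-!
A closed subgroup which is open near the identity is cut out by an idempotent.
-/

set_option autoImplicit false

universe u

open TensorProduct Coalgebra WithConv

noncomputable section

namespace Groth.Sga3.OpenSubgroup

open MultType

variable {K : Type u} [CommRing K] {D : Type u} [CommRing D] [HopfAlgebra K D]

/-- translation by a point -/
def tr (h : D →ₐ[K] K) : D →ₐ[K] D :=
  ((Algebra.TensorProduct.lid K D).toAlgHom.comp (Algebra.TensorProduct.map h (AlgHom.id K D))).comp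
    (Bialgebra.comulAlgHom K D)

theorem tr_apply (h : D →ₐ[K] K) (x : D) :
    tr h x = TensorProduct.lid K D (h.toLinearMap.rTensor D (comul (R := K) x)) := rfl

theorem tr_tr (g h : D →ₐ[K] K) (x : D) :
    tr h (tr g x) = tr (ofConv (toConv g * toConv h)) x := by
  simp only [tr_apply]
  have h1 : ∀ t : D ⊗[K] D, TensorProduct.lid K D (h.toLinearMap.rTensor D
      (comul (R := K) (TensorProduct.lid K D (g.toLinearMap.rTensor D t)))) =
      TensorProduct.lid K D (g.toLinearMap.rTensor D
        (((TensorProduct.lid K D).toLinearMap ∘ₗ h.toLinearMap.rTensor D).lTensor D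
          ((comul (R := K)).lTensor D t))) := by
    intro t
    induction t using TensorProduct.induction_on with
    | zero => simp
    | add p q hp hq => simp only [map_add, hp, hq]
    | tmul a b =>
      simp only [LinearMap.rTensor_tmul, LinearMap.lTensor_tmul, TensorProduct.lid_tmul, map_smul,
        LinearMap.comp_apply, LinearEquiv.coe_coe]
  have h2 : ∀ a : D, ofConv (toConv g * toConv h) a =
      Algebra.TensorProduct.lift g h (fun _ _ => .all _ _) (comul (R := K) a) := by
    intro a
    rw [AlgHom.convMul_apply]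
  rw [h1, ← Coalgebra.coassoc_apply]
  generalize comul (R := K) x = t
  induction t using TensorProduct.induction_on with
  | zero => simp
  | add p q hp hq => simp only [map_add, hp, hq]
  | tmul a b =>
    simp only [LinearMap.rTensor_tmul, TensorProduct.lid_tmul, AlgHom.toLinearMap_apply, h2]
    generalize comul (R := K) a = s
    induction s using TensorProduct.induction_on with
    | zero => simp
    | add p q hp hq => simp only [TensorProduct.add_tmul, map_add, hp, hq, add_smul]
    | tmul c d => simp [mul_smul, smul_comm (h d) (g c)]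

theorem tr_one (x : D) : tr (ofConv (1 : WithConv (D →ₐ[K] K))) x = x := by
  rw [tr_apply]
  have h0 : ((ofConv (1 : WithConv (D →ₐ[K] K))).toLinearMap : D →ₗ[K] K) = counit := by
    ext a; simp
  rw [h0, Coalgebra.rTensor_counit_comul, TensorProduct.lid_tmul, one_smul]

theorem point_tr (g h : D →ₐ[K] K) (x : D) : g (tr h x) = ofConv (toConv h * toConv g) x := by
  rw [tr_apply, AlgHom.convMul_apply]
  generalize comul (R := K) x = t
  induction t using TensorProduct.induction_on with
  | zero => simp
  | add p q hp hq => simp only [map_add, hp, hq]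
  | tmul a b => simp

theorem map_tr_eq_zero {E : Type u} [CommRing E] [HopfAlgebra K E] (f : D →ₐc[K] E) (g : D →ₐ[K] K)
    (gE : E →ₗ[K] K) (hg : ∀ x, g x = gE (f x)) {x : D} (hx : f x = 0) : f (tr g x) = 0 := by
  have h1 : f (tr g x) = TensorProduct.lid K E (gE.rTensor E
      (TensorProduct.map (f : D →ₗ[K] E) (f : D →ₗ[K] E) (comul (R := K) x))) := by
    rw [tr_apply]
    generalize comul (R := K) x = t
    induction t using TensorProduct.induction_on with
    | zero => simp
    | add p q hp hq => simp only [map_add, hp, hq]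
    | tmul a b => simp [hg, map_smul]
  rw [h1, CoalgHomClass.map_comp_comul_apply, hx, map_zero, map_zero, map_zero]

section Main

variable {R : Type u} [CommRing R] {C B : Type u} [CommRing C] [HopfAlgebra R C] [CommRing B]
  [HopfAlgebra R B]

/-- The kernel of a split surjection of Hopf algebras which is killed by an element invertible at
the identity is idempotently generated. -/
theorem exists_idempotent_ker (f : C →ₐc[R] B) (σ : B →ₗ[R] C) (hσ : ∀ b, f (σ b) = b)
    (hfg : (RingHom.ker f).FG) (s : C) (hs : ∀ k ∈ RingHom.ker f, s * k = 0)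
    (hεs : IsUnit (counit (R := R) s)) :
    ∃ e : C, IsIdempotentElem e ∧ RingHom.ker f = Ideal.span {e} := by
  let I : Ideal C := RingHom.ker f
  suffices hdisj : I ⊔ Module.annihilator C I = ⊤ by
    have hid : IsIdempotentElem I := by
      refine le_antisymm Ideal.mul_le_left fun k hk => ?_
      obtain ⟨a, ha, b, hb, hab⟩ := Submodule.mem_sup.1
        ((Ideal.eq_top_iff_one _).1 hdisj)
      have h1 : b * k = 0 := by
        have := congrArg Subtype.val (Module.mem_annihilator.1 hb ⟨k, hk⟩)
        simpa using this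
      rw [show k = a * k by rw [← add_zero (a * k), ← h1, ← add_mul, hab, one_mul]]
      exact Ideal.mul_mem_mul ha hk
    exact (Ideal.isIdempotentElem_iff_of_fg I hfg).1 hid
  by_contra hne
  obtain ⟨P, hP, hle⟩ := Ideal.exists_le_maximal _ hne
  haveI := hP.isPrime
  rw [sup_le_iff] at hle
  haveI : Module.Finite C I := Module.Finite.iff_fg.2 hfg
  have hsupp : (⟨P, inferInstance⟩ : PrimeSpectrum C) ∈ Module.support C I := by
    rw [Module.support_eq_zeroLocus]
    exact hle.2
  rw [Module.mem_support_iff_nontrivial_residueField_tensorProduct] at hsupp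
  let κ := P.ResidueField
  let g₀ : C →ₐ[R] κ := IsScalarTower.toAlgHom R C κ
  let g : κ ⊗[R] C →ₐ[κ] κ :=
    Algebra.TensorProduct.lift (AlgHom.id κ κ) g₀ (fun _ _ => .all _ _)
  have hg : ∀ (t : κ) (c : C), g (t ⊗ₜ c) = t * algebraMap C κ c := fun t c => by simp [g, g₀]
  let h : κ ⊗[R] C →ₐ[κ] κ := ofConv (toConv g)⁻¹
  let z := tr h ((1 : κ) ⊗ₜ[R] s)
  let f' := mapBC κ f
  let σ' : κ ⊗[R] B →ₗ[κ] κ ⊗[R] C := σ.baseChange κ
  let π : C →ₗ[R] C := LinearMap.id - σ ∘ₗ (f : C →ₗ[R] B)
  have hπ : ∀ c, π c ∈ I := fun c => by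
    change f (c - σ (f c)) = 0
    rw [map_sub, hσ, sub_self]
  have hdec : ∀ x, x - σ' (f' x) = π.lTensor κ x := by
    intro x
    induction x using TensorProduct.induction_on with
    | zero => simp
    | tmul t c =>
      rw [show f' (t ⊗ₜ c) = t ⊗ₜ f c from rfl, LinearMap.baseChange_tmul, ← TensorProduct.tmul_sub,
        LinearMap.lTensor_tmul]
      rfl
    | add p q hp hq => simp only [map_add]; rw [← hp, ← hq]; abel
  have hgK : ∀ x, g (π.lTensor κ x) = 0 := by
    intro x
    induction x using TensorProduct.induction_on with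
    | zero => simp
    | tmul t c =>
      rw [LinearMap.lTensor_tmul, hg, Ideal.algebraMap_residueField_eq_zero.2 (hle.1 (hπ c)), mul_zero]
    | add p q hp hq => simp only [map_add, hp, hq, add_zero]
  have hgf : ∀ x, g x = (g.toLinearMap ∘ₗ σ') (f' x) := by
    intro x
    have h1 := hgK x
    rw [← hdec, map_sub, sub_eq_zero] at h1
    exact h1
  have hsK : ∀ x, f' x = 0 → (1 : κ) ⊗ₜ[R] s * x = 0 := by
    intro x hx
    have h1 := hdec x
    rw [hx, map_zero, sub_zero] at h1
    rw [h1]
    clear h1 hx
    induction x using TensorProduct.induction_on with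
    | zero => simp
    | tmul t c => simp [hs _ (hπ c)]
    | add p q hp hq => simp only [map_add, mul_add, hp, hq, add_zero]
  have hz : ∀ x, f' x = 0 → z * x = 0 := by
    intro x hx
    have hu : f' (tr g x) = 0 := map_tr_eq_zero f' g _ hgf hx
    have h1 := congrArg (tr h) (hsK _ hu)
    rw [map_mul, map_zero, tr_tr, show toConv g * toConv h = 1 from mul_inv_cancel _, tr_one] at h1
    exact h1
  have hgz : g z ≠ 0 := by
    rw [point_tr, show toConv h * toConv g = 1 from inv_mul_cancel _]
    change algebraMap κ κ (counit (R := κ) ((1 : κ) ⊗ₜ[R] s)) ≠ 0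
    rw [Algebra.algebraMap_self, RingHom.id_apply, TensorProduct.counit_tmul, CommSemiring.counit_apply,
      Algebra.smul_def, mul_one]
    exact (hεs.map (algebraMap R κ)).ne_zero
  have hzero : ∀ k : I, (1 : κ) ⊗ₜ[C] k = 0 := by
    intro k
    let πI : C →ₗ[R] I := π.codRestrict (I.restrictScalars R) hπ
    let Ψ : κ ⊗[R] C →ₗ[R] κ ⊗[C] I := TensorProduct.lift
      (LinearMap.mk₂ R (fun t c => t ⊗ₜ[C] πI c) (fun a b c => TensorProduct.add_tmul _ _ _)
        (fun r t c => (TensorProduct.smul_tmul' r t (πI c)).symm)
        (fun t a b => by rw [map_add, TensorProduct.tmul_add])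
        (fun r t c => by rw [map_smul, TensorProduct.tmul_smul]))
    have hπk : ∀ c : C, πI (c * k.1) = c • k := fun c => Subtype.ext <| by
      change c * k.1 - σ (f (c * k.1)) = c • k.1
      rw [map_mul, show f k.1 = 0 from k.2, mul_zero, map_zero, sub_zero, smul_eq_mul]
    have key : ∀ w : κ ⊗[R] C, Ψ (w * ((1 : κ) ⊗ₜ[R] k.1)) = g w • ((1 : κ) ⊗ₜ[C] k) := by
      intro w
      induction w using TensorProduct.induction_on with
      | zero => simp
      | add p q hp hq => simp only [add_mul, map_add, hp, hq, add_smul]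
      | tmul t c =>
        rw [Algebra.TensorProduct.tmul_mul_tmul, mul_one]
        change t ⊗ₜ[C] πI (c * k.1) = _
        rw [hπk, ← TensorProduct.smul_tmul, hg, TensorProduct.smul_tmul', smul_eq_mul, mul_one,
          Algebra.smul_def, mul_comm]
    have h1 := key z
    rw [hz _ (by rw [mapBC_tmul, show f k.1 = 0 from k.2, TensorProduct.tmul_zero]), map_zero] at h1
    exact (smul_eq_zero.1 h1.symm).resolve_left hgz
  refine not_subsingleton (κ ⊗[C] I) ⟨fun a b => ?_⟩
  have : ∀ y : κ ⊗[C] I, y = 0 := by
    intro y
    induction y using TensorProduct.induction_on with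
    | zero => rfl
    | tmul t k =>
      rw [show t ⊗ₜ[C] k = t • ((1 : κ) ⊗ₜ[C] k) by rw [TensorProduct.smul_tmul', smul_eq_mul, mul_one],
        hzero, smul_zero]
    | add p q hp hq => rw [hp, hq, add_zero]
  rw [this a, this b]

end Main

end Groth.Sga3.OpenSubgroup
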