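import Groth.Agent.Sga3.AdicHom
import Groth.Agent.Sga3.OpenSubgroup
import Groth.Agent.Sga3.DescendIsotrivial

/-!
A flat group of finite type over an adically complete Noetherian ring which is of multiplicative
type on the closed subscheme contains an isotrivial group of multiplicative type as an open and
closed subgroup.
-/

set_option autoImplicit false

universe u

open TensorProduct Coalgebra WithConv

noncomputable section

namespace Groth.Sga3.AdicCrit

open SGA3b MultType GroupAlg AdicAux HomLift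

variable {A : Type u} [CommRing A]

theorem isQuasiIsotrivial_of_isIsotrivial {X : Type u} [CommRing X] [HopfAlgebra A X]
    (h : IsIsotrivial A X) : IsQuasiIsotrivial A X := by
  obtain ⟨R', _, _, het, _, hff, hd⟩ := h
  exact ⟨{1}, Ideal.span_singleton_one, fun f _ =>
    AdicHom.isQuasiIsotrivialConst_baseChange _ ⟨R', _, _, het, hff, hd⟩⟩

theorem isIsotrivial_of_equiv {X Y : Type u} [CommRing X] [HopfAlgebra A X] [CommRing Y]
    [HopfAlgebra A Y] (e : X ≃ₐc[A] Y) (h : IsIsotrivial A X) : IsIsotrivial A Y := by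
  obtain ⟨R', _, _, het, hfin, hff, hd⟩ := h
  exact ⟨R', _, _, het, hfin, hff, isDiag_of_equiv (congrBC R' e) hd⟩

/-- A homomorphism into a group algebra whose image contains every character modulo the Jacobson
radical is surjective. -/
theorem surjective_of_mod_jacobson {S : Type u} [CommRing S] {D : Type u} [CommRing D]
    [Bialgebra S D] {M : Type u} [CommGroup M] (g : D →ₐc[S] MonoidAlgebra S M) {J : Ideal S}
    (hJ : J ≤ Ideal.jacobson (⊥ : Ideal S)) (h : ∀ m, ∃ z, cf m (g z) - 1 ∈ J) :
    Function.Surjective g := by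
  have hsingle : ∀ m, ∃ y, g y = MonoidAlgebra.single m 1 := by
    intro m
    obtain ⟨z, hz⟩ := h m
    have hu : IsUnit (cf m (g z)) := by
      have h1 := Ideal.mem_jacobson_bot.1 (hJ hz) 1
      rwa [mul_one, sub_add_cancel] at h1
    obtain ⟨u, hu⟩ := hu
    let y := TensorProduct.rid S D (((cf m) ∘ₗ (g : D →ₗ[S] MonoidAlgebra S M)).lTensor D
      (comul (R := S) z))
    have h1 : g y = TensorProduct.rid S (MonoidAlgebra S M) ((cf m).lTensor (MonoidAlgebra S M)
        (comul (R := S) (g z))) := by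
      rw [← CoalgHomClass.map_comp_comul_apply g z]
      change g (TensorProduct.rid S D _) = _
      generalize comul (R := S) z = t
      induction t using TensorProduct.induction_on with
      | zero => simp
      | add p q hp hq => simp only [map_add, hp, hq]
      | tmul a b => simp [map_smul]
    have h2 : ∀ x : MonoidAlgebra S M, TensorProduct.rid S (MonoidAlgebra S M)
        ((cf m).lTensor (MonoidAlgebra S M) (comul (R := S) x)) = cf m x • MonoidAlgebra.single m 1 := by
      classical
      intro x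
      induction x using MonoidAlgebra.induction_linear with
      | zero => simp
      | add p q hp hq => simp only [map_add, hp, hq, add_smul]
      | single n r =>
        rw [show MonoidAlgebra.single n r = r • MonoidAlgebra.single n (1 : S) by simp,
          map_smul, map_smul, map_smul, map_smul,
          (MonoidAlgebra.isGroupLikeElem_single_one n).comul_eq_tmul_self, LinearMap.lTensor_tmul,
          TensorProduct.rid_tmul, smul_eq_mul, mul_smul, cf_single]
        split_ifs with hnm
        · rw [hnm]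
        · simp
    refine ⟨(↑u⁻¹ : S) • y, ?_⟩
    rw [map_smul, h1, h2, ← hu, smul_smul, Units.inv_mul, one_smul]
  intro x
  induction x using MonoidAlgebra.induction_linear with
  | zero => exact ⟨0, map_zero g⟩
  | add p q hp hq =>
    obtain ⟨a, rfl⟩ := hp; obtain ⟨b, rfl⟩ := hq
    exact ⟨a + b, map_add g a b⟩
  | single n r =>
    obtain ⟨y, hy⟩ := hsingle n
    exact ⟨r • y, by rw [map_smul, hy]; simp⟩

theorem map_le_jacobson (I : Ideal A) [IsAdicComplete I A] (S : Type u) [CommRing S] [Algebra A S]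
    [Module.Finite A S] : I.map (algebraMap A S) ≤ Ideal.jacobson (⊥ : Ideal S) := by
  haveI : Algebra.IsIntegral A S := Algebra.IsIntegral.of_finite A S
  refine le_sInf ?_
  rintro Q ⟨-, hQ⟩
  haveI := hQ
  rw [Ideal.map_le_iff_le_comap]
  exact (IsAdicComplete.le_jacobson_bot I).trans
    (sInf_le ⟨bot_le, Ideal.isMaximal_comap_of_isIntegral_of_isMaximal Q⟩)

variable {C : Type u} [CommRing C] [HopfAlgebra A C]

/-- The open and closed isotrivial subgroup. -/
theorem exists_open_immersion [IsNoetherianRing A] (I : Ideal A) [IsAdicComplete I A]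
    (hft : Algebra.FiniteType A C)
    (hfl : ∀ (q : Ideal C) [q.IsPrime], Ideal.map (algebraMap A C) I ≤ q →
      Module.Flat A (Localization.AtPrime q))
    (h0 : IsIsotrivial (A ⧸ I) ((A ⧸ I) ⊗[A] C)) :
    ∃ (A₁ : Type u) (_ : CommRing A₁) (_ : HopfAlgebra A A₁), IsIsotrivial A A₁ ∧
      Nonempty (((A ⧸ I) ⊗[A] A₁) ≃ₐc[A ⧸ I] ((A ⧸ I) ⊗[A] C)) ∧
      ∃ f : C →ₐc[A] A₁, Function.Surjective f ∧
        ∃ e : C, IsIdempotentElem e ∧ RingHom.ker f = Ideal.span {e} ∧
          e ∈ I.map (algebraMap A C) := by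
  obtain ⟨A₁, _, _, hA₁, ⟨e₀⟩⟩ := Descend.exists_isotrivial_lift I _ h0
  obtain ⟨f, hf⟩ := AdicHom.exists_lift_adic I hA₁ hfl (isQuasiIsotrivial_of_isIsotrivial h0)
    (e₀.symm : ((A ⧸ I) ⊗[A] C) →ₐc[A ⧸ I] ((A ⧸ I) ⊗[A] A₁))
  have hf' : ∀ c : C, e₀.symm ((1 : A ⧸ I) ⊗ₜ[A] c) = (1 : A ⧸ I) ⊗ₜ[A] f c := hf
  have hmod : ∀ y : A₁, ∃ c : C, y - f c ∈ I • (⊤ : Submodule A A₁) := by
    intro y
    obtain ⟨c, hc⟩ := exists_eq_one_tmul I (e₀ ((1 : A ⧸ I) ⊗ₜ[A] y))
    refine ⟨c, sub_mem_smul_of_tmul_eq I ?_⟩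
    rw [← hf', hc, e₀.symm_apply_apply]
  have hA₁m := isMultType_of_const (isMultTypeConst_of_isIsotrivial hA₁)
  have := projective_of_isMultType hA₁m
  have hsurj : Function.Surjective f := by
    classical
    obtain ⟨S, _, _, _, hfin, hff, M, _, ⟨γ⟩⟩ := id hA₁
    have hg : Function.Surjective ((γ : S ⊗[A] A₁ →ₐc[S] MonoidAlgebra S M).comp (mapBC S f)) := by
      refine surjective_of_mod_jacobson _ (map_le_jacobson I S) fun m => ?_
      have h1 : ∀ w : S ⊗[A] A₁, ∃ z : S ⊗[A] C,
          w - mapBC S f z ∈ I.map (algebraMap A S) • (⊤ : Submodule S (S ⊗[A] A₁)) := by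
        intro w
        induction w using TensorProduct.induction_on with
        | zero => exact ⟨0, by simp⟩
        | tmul s y =>
          obtain ⟨c, hc⟩ := hmod y
          exact ⟨s ⊗ₜ c, by rw [mapBC_tmul, ← TensorProduct.tmul_sub]; exact smul_top_of_one_tmul S hc s⟩
        | add p q hp hq =>
          obtain ⟨a, ha⟩ := hp; obtain ⟨b, hb⟩ := hq
          exact ⟨a + b, by rw [map_add, add_sub_add_comm]; exact add_mem ha hb⟩
      obtain ⟨z, hz⟩ := h1 (γ.symm (MonoidAlgebra.single m 1))
      refine ⟨z, ?_⟩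
      have h2 := apply_mem_map ((cf m) ∘ₗ (γ : S ⊗[A] A₁ ≃ₐ[S] MonoidAlgebra S M).toLinearMap) hz
      rw [Algebra.algebraMap_self, Ideal.map_id, map_sub] at h2
      change cf m (γ (γ.symm (MonoidAlgebra.single m 1))) - cf m (γ (mapBC S f z)) ∈ _ at h2
      rw [γ.apply_symm_apply, cf_single, if_pos rfl] at h2
      have h3 := neg_mem h2
      rw [neg_sub] at h3
      exact h3
    have h2 : Function.Surjective ((f : C →ₗ[A] A₁).lTensor S) := fun y => by
      obtain ⟨x, hx⟩ := hg (γ y)
      exact ⟨x, γ.injective hx⟩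
    exact (Module.FaithfullyFlat.lTensor_surjective_iff_surjective A S (f : C →ₗ[A] A₁)).1 h2
  obtain ⟨σ, hσ⟩ := Module.projective_lifting_property (f : C →ₗ[A] A₁) LinearMap.id hsurj
  have hσ' : ∀ y, f (σ y) = y := fun y => LinearMap.congr_fun hσ y
  haveI : IsNoetherianRing C := Algebra.FiniteType.isNoetherianRing A C
  let K : Ideal C := RingHom.ker f
  have hKfg : K.FG := IsNoetherian.noetherian K
  have hKle : K ≤ I.map (algebraMap A C) • K := by
    intro k hk
    have h1 : k ∈ I • (⊤ : Submodule A C) := by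
      have h2 : (1 : A ⧸ I) ⊗ₜ[A] k = (1 : A ⧸ I) ⊗ₜ[A] (0 : C) := by
        refine EquivLike.injective e₀.symm ?_
        rw [hf', hf', show f k = 0 from hk, map_zero]
      simpa using sub_mem_smul_of_tmul_eq I h2
    have h3 : k - σ (f k) ∈ I.map (algebraMap A C) • K := by
      clear hk
      refine Submodule.smul_induction_on h1 (fun a ha c _ => ?_) fun p q hp hq => ?_
      · rw [map_smul, map_smul, ← smul_sub, ← algebraMap_smul C a (c - σ (f c))]
        refine Submodule.smul_mem_smul (Ideal.mem_map_of_mem _ ha) ?_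
        change f (c - σ (f c)) = 0
        rw [map_sub, hσ', sub_self]
      · rw [map_add, map_add, add_sub_add_comm]; exact add_mem hp hq
    rwa [show f k = 0 from hk, map_zero, sub_zero] at h3
  obtain ⟨s, hs1, hs⟩ := Submodule.exists_sub_one_mem_and_smul_eq_zero_of_fg_of_le_smul _ K hKfg hKle
  have hεs : IsUnit (counit (R := A) s) := by
    have h1 : counit (R := A) (s - 1) ∈ I := by
      have h2 : I.map (algebraMap A C) ≤ Ideal.comap (Bialgebra.counitAlgHom A C) I :=
        Ideal.map_le_iff_le_comap.2 fun a ha => by simpa using ha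
      exact h2 hs1
    rw [map_sub, Bialgebra.counit_one] at h1
    have h2 := Ideal.mem_jacobson_bot.1 (IsAdicComplete.le_jacobson_bot I h1) 1
    rwa [mul_one, sub_add_cancel] at h2
  obtain ⟨e, hid, he⟩ := OpenSubgroup.exists_idempotent_ker f σ hσ' hKfg s hs hεs
  refine ⟨A₁, _, _, hA₁, ⟨e₀⟩, f, hsurj, e, hid, he, ?_⟩
  have heK : e ∈ RingHom.ker f := by rw [he]; exact Ideal.mem_span_singleton_self e
  exact (Submodule.smul_le.2 fun r hr x _ => Ideal.mul_mem_right x _ hr) (hKle heK)

theorem counit_eq_zero {A₁ : Type u} [CommRing A₁] [HopfAlgebra A A₁] (f : C →ₐc[A] A₁) {e : C}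
    (he : RingHom.ker f = Ideal.span {e}) : counit (R := A) e = 0 := by
  have h1 : f e = 0 := by
    have : e ∈ RingHom.ker f := he ▸ Ideal.mem_span_singleton_self e
    exact this
  rw [← CoalgHomClass.counit_comp_apply f e, h1, map_zero]

theorem eq_zero_or_one {R : Type u} [CommRing R] [PreconnectedSpace (PrimeSpectrum R)] {e : R}
    (he : IsIdempotentElem e) : e = 0 ∨ e = 1 := by
  have hc : IsClopen (PrimeSpectrum.basicOpen e : Set (PrimeSpectrum R)) :=
    PrimeSpectrum.isClopen_basicOpen_of_mul_add e (1 - e) he.mul_one_sub_self (add_sub_cancel e (1 : R))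
  rcases isClopen_iff.1 hc with h | h
  · exact Or.inl (he.eq_zero_of_isNilpotent
      ((PrimeSpectrum.basicOpen_eq_bot_iff e).1 (SetLike.coe_injective (by simpa using h))))
  · refine Or.inr ?_
    have hu : IsUnit e := by
      by_contra hne
      obtain ⟨m, hm, hem⟩ := Ideal.exists_le_maximal (Ideal.span {e}) (by rwa [Ne, Ideal.span_singleton_eq_top])
      have h2 : (⟨m, hm.isPrime⟩ : PrimeSpectrum R) ∈ (PrimeSpectrum.basicOpen e : Set (PrimeSpectrum R)) :=
        h ▸ Set.mem_univ _
      exact h2 (hem (Ideal.mem_span_singleton_self e))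
    exact hu.mul_left_cancel (by rw [he.eq, mul_one])

/-- With connected fibres the subgroup is everything. -/
theorem eq_zero_of_connected
    (hconn : ∀ (p : Ideal A) [p.IsPrime], ConnectedSpace (PrimeSpectrum (p.ResidueField ⊗[A] C)))
    {e : C} (hid : IsIdempotentElem e) (hε : counit (R := A) e = 0) : e = 0 := by
  refine hid.eq_zero_of_isNilpotent ?_
  rw [← mem_nilradical, nilradical_eq_sInf, Ideal.mem_sInf]
  intro Q hQ
  haveI : Q.IsPrime := hQ
  let p := Q.comap (algebraMap A C)
  let k := p.ResidueField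
  haveI := hconn p
  have h1 : IsIdempotentElem ((1 : k) ⊗ₜ[A] e) :=
    hid.map (Algebra.TensorProduct.includeRight : C →ₐ[A] k ⊗[A] C)
  have h2 : (1 : k) ⊗ₜ[A] e = 0 := by
    rcases eq_zero_or_one h1 with h | h
    · exact h
    · have h3 := congrArg (counit (R := k)) h
      rw [TensorProduct.counit_tmul, hε, zero_smul, Bialgebra.counit_one] at h3
      exact absurd h3 zero_ne_one
  let φ : k ⊗[A] C →ₐ[A] Q.ResidueField := Algebra.TensorProduct.lift
    (Ideal.ResidueField.mapₐ p Q (Algebra.ofId A C) rfl) (IsScalarTower.toAlgHom A C Q.ResidueField)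
    (fun _ _ => .all _ _)
  have h3 := congrArg φ h2
  rw [map_zero] at h3
  simp only [φ, Algebra.TensorProduct.lift_tmul, map_one, one_mul] at h3
  exact Ideal.algebraMap_residueField_eq_zero.1 h3

theorem isIsotrivial_of_eq_zero {A₁ : Type u} [CommRing A₁] [HopfAlgebra A A₁]
    (hA₁ : IsIsotrivial A A₁) (f : C →ₐc[A] A₁) (hs : Function.Surjective f) {e : C}
    (he : RingHom.ker f = Ideal.span {e}) (h : e = 0) : IsIsotrivial A C := by
  have hinj : Function.Injective f := by
    rw [injective_iff_map_eq_zero]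
    intro x hx
    have h1 : x ∈ RingHom.ker f := hx
    rw [he, h, Ideal.mem_span_singleton] at h1
    exact zero_dvd_iff.1 h1
  exact isIsotrivial_of_equiv (BialgEquiv.ofBijective f ⟨hinj, hs⟩).symm hA₁

end Groth.Sga3.AdicCrit
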