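import Groth.Agent.Sga3.TorsionIdeal
import Groth.Agent.OortTate.Killed
import Mathlib.RingTheory.LocalRing.ResidueField.Fiber
import Mathlib.RingTheory.QuasiFinite.Basic
import Mathlib.Order.Zorn

/-!
An affine group scheme of finite type all of whose fibres are killed by some integer is killed by
some integer.  In particular a commutative quasi-finite one is.
-/

set_option autoImplicit false

universe u

open TensorProduct Coalgebra WithConv

noncomputable section

namespace Groth.Sga3.Killed

open SGA3b MultType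

variable {R : Type u} [CommRing R] {C : Type u} [CommRing C] [HopfAlgebra R C]

theorem comp_pow {A : Type u} [CommRing A] [Algebra R A] {B : Type u} [CommRing B] [Algebra R B]
    (h : A →ₐ[R] B) (f : WithConv (C →ₐ[R] A)) (n : ℕ) :
    toConv (h.comp (f ^ n).ofConv) = toConv (h.comp f.ofConv) ^ n := by
  induction n with
  | zero =>
    rw [pow_zero, pow_zero]
    refine WithConv.ofConv_injective (AlgHom.ext fun c => ?_)
    change h ((1 : WithConv (C →ₐ[R] A)) c) = (1 : WithConv (C →ₐ[R] B)) c
    rw [AlgHom.convOne_apply, AlgHom.convOne_apply, AlgHom.commutes]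
  | succ n ih => rw [pow_succ, pow_succ, ← ih, AlgHom.comp_convMul_distrib, toConv_ofConv]

theorem powConv_powConv (a b : ℕ) (c : C) :
    powConv R C b (powConv R C a c) = powConv R C (b * a) c := by
  have h := comp_pow (powConv R C b) (toConv (AlgHom.id R C)) a
  have h2 : (powConv R C b).comp (toConv (AlgHom.id R C)).ofConv = powConv R C b :=
    AlgHom.comp_id _
  rw [h2, show toConv (powConv R C b) = toConv (AlgHom.id R C) ^ b from toConv_ofConv _, ← pow_mul]
    at h
  exact DFunLike.congr_fun (congrArg WithConv.ofConv h) c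

theorem counit_powConv (n : ℕ) (c : C) : counit (R := R) (powConv R C n c) = counit (R := R) c := by
  have h := comp_pow (Bialgebra.counitAlgHom R C) (toConv (AlgHom.id R C)) n
  have h2 : toConv ((Bialgebra.counitAlgHom R C).comp (toConv (AlgHom.id R C)).ofConv) =
      (1 : WithConv (C →ₐ[R] R)) := by
    refine WithConv.ofConv_injective (AlgHom.ext fun x => ?_)
    change counit (R := R) x = (1 : WithConv (C →ₐ[R] R)) x
    simp
  rw [h2, one_pow] at h
  refine (DFunLike.congr_fun (congrArg WithConv.ofConv h) c).trans ?_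
  simp

variable (R C) in
/-- the augmentation ideal -/
abbrev aug : Ideal C := RingHom.ker (Bialgebra.counitAlgHom R C)

theorem fg_aug (hft : Algebra.FiniteType R C) : (aug R C).FG := by
  classical
  obtain ⟨s, hs⟩ := hft.out
  refine ⟨s.image fun x => x - algebraMap R C (counit x), le_antisymm (Ideal.span_le.2 ?_) fun x hx => ?_⟩
  · intro y hy
    obtain ⟨x, -, rfl⟩ := Finset.mem_image.1 (Finset.mem_coe.1 hy)
    simp [RingHom.mem_ker]
  · set T := Ideal.span ((s.image fun x => x - algebraMap R C (counit x) : Finset C) : Set C)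
    have key : ∀ z : C, z - algebraMap R C (counit z) ∈ T := by
      intro z
      have hz : z ∈ Algebra.adjoin R (s : Set C) := hs ▸ Algebra.mem_top
      induction hz using Algebra.adjoin_induction with
      | mem x hx => exact Ideal.subset_span (Finset.mem_coe.2 (Finset.mem_image_of_mem _ hx))
      | algebraMap r => rw [Bialgebra.counit_algebraMap, sub_self]; exact zero_mem _
      | add x y _ _ hx hy => rw [map_add, map_add, add_sub_add_comm]; exact add_mem hx hy
      | mul x y _ _ hx hy =>
        rw [Bialgebra.counit_mul, map_mul,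
          show x * y - algebraMap R C (counit x) * algebraMap R C (counit y) =
            (x - algebraMap R C (counit x)) * y + algebraMap R C (counit x) *
              (y - algebraMap R C (counit y)) by ring]
        exact add_mem (Ideal.mul_mem_right _ _ hx) (Ideal.mul_mem_left _ _ hy)
    simpa [show counit (R := R) x = 0 from hx] using key x

variable (R C) in
/-- the ideals modulo which the group is killed by some integer -/
def kills : Set (Ideal R) :=
  {I | ∃ n : ℕ, 0 < n ∧ ∀ c ∈ aug R C, powConv R C n c ∈ I.map (algebraMap R C)}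

theorem top_mem_kills : ⊤ ∈ kills R C :=
  ⟨1, one_pos, fun c _ => by rw [Ideal.map_top]; exact Submodule.mem_top⟩

theorem kills_mono {I J : Ideal R} (h : I ≤ J) (hI : I ∈ kills R C) : J ∈ kills R C := by
  obtain ⟨n, hn, hc⟩ := hI
  exact ⟨n, hn, fun c hc' => Ideal.map_mono h (hc c hc')⟩

/-- the product property -/
theorem mem_kills_of_mul {I J K : Ideal R} (hI : I ∈ kills R C) (hJ : J ∈ kills R C)
    (h : I * J ≤ K) : K ∈ kills R C := by
  obtain ⟨n₁, hn₁, h₁⟩ := hI
  obtain ⟨n₂, hn₂, h₂⟩ := hJ
  refine ⟨n₂ * n₁, Nat.mul_pos hn₂ hn₁, fun c hc => ?_⟩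
  rw [← powConv_powConv]
  have hε : counit (R := R) (powConv R C n₁ c) = 0 := (counit_powConv n₁ c).trans hc
  let π : C →ₗ[R] C := LinearMap.id - Algebra.linearMap R C ∘ₗ counit
  have h3 : powConv R C n₁ c ∈ (I.map (algebraMap R C)).restrictScalars R := h₁ c hc
  rw [← Ideal.smul_top_eq_map] at h3
  have h4 := Submodule.mem_map_of_mem (f := (powConv R C n₂).toLinearMap ∘ₗ π) h3
  have h5 : π (powConv R C n₁ c) = powConv R C n₁ c := by simp [π, hε]
  rw [LinearMap.comp_apply, h5, Submodule.map_smul'', Submodule.map_top] at h4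
  have h6 : LinearMap.range ((powConv R C n₂).toLinearMap ∘ₗ π) ≤
      (J.map (algebraMap R C)).restrictScalars R := by
    rintro _ ⟨x, rfl⟩
    exact h₂ _ (by simp [π, RingHom.mem_ker])
  have h7 := Submodule.smul_mono (le_refl I) h6 h4
  rw [← Ideal.smul_top_eq_map, ← Submodule.smul_assoc, Ideal.smul_eq_mul, Ideal.smul_top_eq_map] at h7
  exact Ideal.map_mono h h7

theorem exists_mem_kills_of_chain (hft : Algebra.FiniteType R C) {c : Set (Ideal R)}
    (hc : IsChain (· ≤ ·) c) (hne : c.Nonempty) (h : sSup c ∈ kills R C) :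
    ∃ I ∈ c, I ∈ kills R C := by
  classical
  obtain ⟨n, hn, hC⟩ := h
  obtain ⟨t, ht⟩ := fg_aug (R := R) (C := C) hft
  have hmem : ∀ x ∈ t, ∃ I ∈ c, powConv R C n x ∈ I.map (algebraMap R C) := by
    intro x hx
    have h1 := hC x (by rw [← ht]; exact Ideal.subset_span hx)
    rw [sSup_eq_iSup', Ideal.map_iSup] at h1
    haveI : Nonempty c := hne.to_subtype
    have hd : Directed (· ≤ ·) fun I : c => (I : Ideal R).map (algebraMap R C) := fun a b => by
      rcases hc.total a.2 b.2 with hab | hab
      · exact ⟨b, Ideal.map_mono hab, le_rfl⟩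
      · exact ⟨a, le_rfl, Ideal.map_mono hab⟩
    obtain ⟨⟨I, hI⟩, hxI⟩ := (Submodule.mem_iSup_of_directed _ hd).1 h1
    exact ⟨I, hI, hxI⟩
  choose f hf hfx using hmem
  obtain ⟨I, hI, hle⟩ : ∃ I ∈ c, ∀ x (hx : x ∈ t), f x hx ≤ I := by
    obtain ⟨I₀, hI₀⟩ := hne
    haveI : Nonempty c := ⟨⟨I₀, hI₀⟩⟩
    have hd : Directed (· ≤ ·) fun I : c => (I : Ideal R) := fun a b => by
      rcases hc.total a.2 b.2 with hab | hab
      · exact ⟨b, hab, le_rfl⟩
      · exact ⟨a, le_rfl, hab⟩
    let g : t → c := fun x => ⟨f x.1 x.2, hf x.1 x.2⟩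
    obtain ⟨z, hle⟩ := hd.finset_le (Finset.univ.image g)
    exact ⟨z.1, z.2, fun x hx => hle (g ⟨x, hx⟩) (Finset.mem_image_of_mem g (Finset.mem_univ _))⟩
  refine ⟨I, hI, n, hn, fun x hx => ?_⟩
  rw [← ht] at hx
  induction hx using Submodule.span_induction with
  | mem y hy => exact Ideal.map_mono (hle y hy) (hfx y hy)
  | zero => rw [map_zero]; exact zero_mem _
  | add a b _ _ ha hb => rw [map_add]; exact add_mem ha hb
  | smul a b _ hb => rw [smul_eq_mul, map_mul]; exact Ideal.mul_mem_left _ _ hb

/-- A group of finite type all of whose fibres are killed by some integer is killed by an integer. -/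
theorem exists_kill (hft : Algebra.FiniteType R C)
    (hfib : ∀ (p : Ideal R) [p.IsPrime], ∃ e : ℕ, 0 < e ∧ ∀ c ∈ aug R C,
      (1 : p.ResidueField) ⊗ₜ[R] powConv R C e c = 0) :
    ∃ n : ℕ, 0 < n ∧ ∀ c : C, powConv R C n c = algebraMap R C (counit c) := by
  classical
  suffices h : ⊥ ∈ kills R C by
    obtain ⟨n, hn, hc⟩ := h
    refine ⟨n, hn, fun c => ?_⟩
    have h1 := hc (c - algebraMap R C (counit c)) (by simp [RingHom.mem_ker])
    rw [Ideal.map_bot, Ideal.mem_bot, map_sub, AlgHom.commutes, sub_eq_zero] at h1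
    exact h1
  by_contra hbot
  obtain ⟨p, -, hp⟩ := zorn_le_nonempty₀ (kills R C)ᶜ (fun c hcs hc y hy =>
    ⟨sSup c, fun hk => by
      obtain ⟨I, hI, hk'⟩ := exists_mem_kills_of_chain hft hc ⟨y, hy⟩ hk
      exact hcs hI hk', fun z hz => le_sSup hz⟩) ⊥ hbot
  have hmax : ∀ J : Ideal R, p < J → J ∈ kills R C := fun J hJ => by
    by_contra hJk
    exact (lt_iff_le_not_ge.1 hJ).2 (hp.2 hJk hJ.le)
  have hpk : p ∉ kills R C := hp.1
  have hprime : p.IsPrime := by
    refine Ideal.isPrime_iff.2 ⟨fun h => hpk (h ▸ top_mem_kills), fun {a b} hab => ?_⟩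
    by_contra hor
    rw [not_or] at hor
    refine hpk (mem_kills_of_mul (hmax (p ⊔ Ideal.span {a}) ?_) (hmax (p ⊔ Ideal.span {b}) ?_) ?_)
    · exact left_lt_sup.2 fun h => hor.1 (h (Ideal.mem_span_singleton_self a))
    · exact left_lt_sup.2 fun h => hor.2 (h (Ideal.mem_span_singleton_self b))
    · rw [Ideal.sup_mul, Ideal.mul_sup, Ideal.mul_sup, Ideal.span_singleton_mul_span_singleton]
      exact sup_le (sup_le Ideal.mul_le_left Ideal.mul_le_left)
        (sup_le Ideal.mul_le_right ((Ideal.span_singleton_le_iff_mem _).2 hab))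
  obtain ⟨e, he, hec⟩ := hfib p
  obtain ⟨t, ht⟩ := fg_aug (R := R) (C := C) hft
  -- from the fibre to a basic open of the closed subscheme
  have hloc : ∀ z : C, (1 : p.ResidueField) ⊗ₜ[R] z = 0 →
      ∃ f ∉ p, algebraMap R C f * z ∈ p.map (algebraMap R C) := by
    intro z hz
    let Q := C ⧸ p.map (algebraMap R C)
    let S := Algebra.algebraMapSubmonoid Q p.primeCompl
    let L := Localization S
    let f₀ : p.ResidueField →ₐ[R] L := Ideal.ResidueField.liftₐ (R := R) (A := R) (B := L) p
      (Algebra.ofId R L)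
      (fun r hr => by
        rw [RingHom.mem_ker]
        change algebraMap R L r = 0
        rw [IsScalarTower.algebraMap_apply R Q L, IsScalarTower.algebraMap_apply R C Q,
          Ideal.Quotient.algebraMap_eq, Ideal.Quotient.eq_zero_iff_mem.2 (Ideal.mem_map_of_mem _ hr),
          map_zero])
      (fun r hr => by
        change IsUnit (algebraMap R L r)
        rw [IsScalarTower.algebraMap_apply R Q L]
        exact IsLocalization.map_units L (⟨algebraMap R Q r, ⟨r, hr, rfl⟩⟩ : S))
    let F : p.ResidueField ⊗[R] C →ₐ[R] L := Algebra.TensorProduct.lift f₀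
      (((IsScalarTower.toAlgHom R Q L).comp (Ideal.Quotient.mkₐ R _))) fun x y => mul_comm (f₀ x) _
    have hF := congrArg F hz
    simp only [F, Algebra.TensorProduct.lift_tmul, map_one, one_mul, map_zero, AlgHom.comp_apply,
      IsScalarTower.coe_toAlgHom', Ideal.Quotient.mkₐ_eq_mk] at hF
    obtain ⟨⟨_, f, hf, rfl⟩, hf0⟩ := (IsLocalization.map_eq_zero_iff S L _).1 hF
    refine ⟨f, hf, ?_⟩
    rw [← Ideal.Quotient.eq_zero_iff_mem, map_mul]
    exact hf0
  choose f hfp hfz using fun x : t => hloc _ (hec x.1 (by rw [← ht]; exact Ideal.subset_span x.2))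
  let F := ∏ x : t, f x
  have hF : F ∉ p := fun h => by
    obtain ⟨x, -, hx⟩ := (hprime.prod_mem_iff).1 h
    exact hfp x hx
  have hker : ∀ c ∈ aug R C, algebraMap R C F * powConv R C e c ∈ p.map (algebraMap R C) := by
    intro c hc
    rw [← ht] at hc
    induction hc using Submodule.span_induction with
    | mem y hy =>
      obtain ⟨d, hd⟩ := Finset.dvd_prod_of_mem f (Finset.mem_univ (⟨y, hy⟩ : t))
      rw [show F = f ⟨y, hy⟩ * d from hd, map_mul, mul_comm (algebraMap R C (f _)), mul_assoc]
      exact Ideal.mul_mem_left _ _ (hfz ⟨y, hy⟩)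
    | zero => simp
    | add a b _ _ ha hb => rw [map_add, mul_add]; exact add_mem ha hb
    | smul a b _ hb =>
      rw [smul_eq_mul, map_mul, mul_left_comm]
      exact Ideal.mul_mem_left _ _ hb
  obtain ⟨n, hn, hnc⟩ := hmax (p ⊔ Ideal.span {F})
    (left_lt_sup.2 fun h => hF (h (Ideal.mem_span_singleton_self F)))
  refine hpk ⟨e * n, Nat.mul_pos he hn, fun c hc => ?_⟩
  rw [← powConv_powConv]
  have h1 := hnc c hc
  rw [Ideal.map_sup, Ideal.map_span, Set.image_singleton] at h1
  obtain ⟨x, hx, y, hy, hxy⟩ := Submodule.mem_sup.1 h1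
  obtain ⟨w, rfl⟩ := Ideal.mem_span_singleton'.1 hy
  have hx' : powConv R C e x ∈ p.map (algebraMap R C) := by
    refine (Ideal.map_le_iff_le_comap.2 (fun r hr => ?_) :
      p.map (algebraMap R C) ≤ (p.map (algebraMap R C)).comap (powConv R C e)) hx
    rw [Ideal.mem_comap, Ideal.mem_comap, AlgHom.commutes]
    exact Ideal.mem_map_of_mem _ hr
  -- reduce `w` modulo constants
  have hw : algebraMap R C F * powConv R C e w - algebraMap R C (F * counit (R := R) w) ∈
      p.map (algebraMap R C) := by
    have h2 := hker (w - algebraMap R C (counit w)) (by simp [RingHom.mem_ker])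
    rwa [map_sub, AlgHom.commutes, mul_sub, ← map_mul] at h2
  have hcw : F * counit (R := R) w ∈ p := by
    have h3 : counit (R := R) (powConv R C n c) = 0 := (counit_powConv n c).trans hc
    rw [← hxy, map_add, Bialgebra.counit_mul, Bialgebra.counit_algebraMap, mul_comm] at h3
    have hεx : counit (R := R) x ∈ p := by
      refine (Ideal.map_le_iff_le_comap.2 (fun r hr => ?_) :
        p.map (algebraMap R C) ≤ p.comap (Bialgebra.counitAlgHom R C)) hx
      rw [Ideal.mem_comap, Ideal.mem_comap, AlgHom.commutes]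
      exact hr
    rw [add_eq_zero_iff_eq_neg] at h3
    rw [h3] at hεx
    exact neg_mem_iff.1 hεx
  rw [← hxy, map_add, map_mul, AlgHom.commutes, mul_comm]
  refine add_mem hx' ?_
  have h4 := add_mem hw (Ideal.mem_map_of_mem (algebraMap R C) hcw)
  rwa [sub_add_cancel] at h4

/-- A commutative quasi-finite group of finite type is killed by some integer. -/
theorem exists_kill_of_quasiFinite [Coalgebra.IsCocomm R C] (hft : Algebra.FiniteType R C)
    [Algebra.QuasiFinite R C] :
    ∃ n : ℕ, 0 < n ∧ ∀ c : C, powConv R C n c = algebraMap R C (counit c) := by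
  refine exists_kill hft fun p _ => ?_
  let k := p.ResidueField
  haveI : Module.Finite k (k ⊗[R] C) := Algebra.QuasiFinite.finite_fiber p
  haveI : Nontrivial (k ⊗[R] C) := (Bialgebra.counitAlgHom k (k ⊗[R] C)).domain_nontrivial
  have h := Groth.Agent.OortTate.convPow_card_eq_one (A := k ⊗[R] C) (Module.finBasis k (k ⊗[R] C))
  rw [Fintype.card_fin] at h
  refine ⟨Module.finrank k (k ⊗[R] C), Module.finrank_pos, fun c hc => ?_⟩
  rw [← powConv_tmul, powConv, h, AlgHom.convOne_apply, TensorProduct.counit_tmul,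
    show counit (R := R) c = 0 from hc]
  simp

end Groth.Sga3.Killed
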