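import Groth.Agent.Sga3.HomLift
import Groth.Agent.Sga3.HensIsotrivial

/-!
Homomorphisms between finite groups of multiplicative type over a henselian local ring.
-/

set_option autoImplicit false

universe u

open TensorProduct IsLocalRing

noncomputable section

namespace Groth.Sga3.HensHom

open SGA3b MultType GroupAlg HomLift AdicIso

variable {R : Type u} [CommRing R]

theorem exists_local_split [HenselianLocalRing R] {A : Type u} [CommRing A] [HopfAlgebra R A]
    (hft : Algebra.FiniteType R A) (h : IsMultType R A) :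
    ∃ (B : Type u) (_ : CommRing B) (_ : Algebra R B), HenselianLocalRing B ∧ Module.Finite R B ∧
      Algebra.Etale R B ∧ Module.FaithfullyFlat R B ∧ IsDiag B (B ⊗[R] A) := by
  let k := ResidueField R
  have hk : IsMultType k (k ⊗[R] A) := isMultType_baseChange k h
  obtain ⟨k', _, _, _, _, M, _, -, ⟨e⟩⟩ :=
    CharLift.exists_finite_separable_isDiagFT (k := k) (A := k ⊗[R] A) inferInstance hk
  obtain ⟨B, _, _, _, _, hfin, het, hffl, ψ, hψ⟩ := CharLift.exists_local_lift (R := R) k'
  let : Algebra k' (ResidueField B) := ψ.toAlgebra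
  let : Algebra R k' := Algebra.compHom k' (residue R)
  haveI : IsScalarTower R k k' := IsScalarTower.of_algebraMap_eq fun _ => rfl
  haveI : IsScalarTower R k' (ResidueField B) := IsScalarTower.of_algebraMap_eq fun r => (hψ r).symm
  have h1 : IsDiag k' (k' ⊗[R] A) := isDiag_trans k k' A ⟨M, _, ⟨e⟩⟩
  have h2 : IsDiag (ResidueField B) (ResidueField B ⊗[R] A) :=
    isDiag_trans k' (ResidueField B) A (isDiag_baseChange (ResidueField B) (k' ⊗[R] A) h1)
  have h3 : IsDiag (ResidueField B) (ResidueField B ⊗[B] (B ⊗[R] A)) :=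
    isDiag_of_equiv (cancelBC R B (ResidueField B) A).symm h2
  exact ⟨B, _, _, inferInstance, hfin, het, hffl, CharLift.isDiag_of_henselian inferInstance
    (isMultType_baseChange B h) h3⟩

theorem exists_local_split_pair [HenselianLocalRing R] {X Y : Type u} [CommRing X] [HopfAlgebra R X]
    [CommRing Y] [HopfAlgebra R Y] (hX : IsMultType R X) (hY : IsMultType R Y)
    (hfX : Algebra.FiniteType R X) (hfY : Algebra.FiniteType R Y) :
    ∃ (S : Type u) (_ : CommRing S) (_ : Algebra R S), HenselianLocalRing S ∧ Module.Finite R S ∧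
      Algebra.Etale R S ∧ Module.FaithfullyFlat R S ∧ IsDiag S (S ⊗[R] X) ∧ IsDiag S (S ⊗[R] Y) := by
  obtain ⟨R₁, _, _, hh₁, hf₁, he₁, hff₁, hd₁⟩ := exists_local_split hfX hX
  obtain ⟨R₂, _, _, hh₂, hf₂, he₂, hff₂, hd₂⟩ :=
    exists_local_split (R := R₁) (A := R₁ ⊗[R] Y) inferInstance (isMultType_baseChange R₁ hY)
  let : Algebra R R₂ := ((algebraMap R₁ R₂).comp (algebraMap R R₁)).toAlgebra
  haveI : IsScalarTower R R₁ R₂ := IsScalarTower.of_algebraMap_eq' rfl
  exact ⟨R₂, _, _, hh₂, Module.Finite.trans R₁ R₂, Algebra.Etale.comp R R₁ R₂,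
    Module.FaithfullyFlat.trans R R₁ R₂,
    isDiag_trans R₁ R₂ X (isDiag_baseChange R₂ (R₁ ⊗[R] X) hd₁), isDiag_trans R₁ R₂ Y hd₂⟩

/-- group-like elements congruent modulo the Jacobson radical are equal -/
theorem groupLike_eq_jacobson {S : Type u} [CommRing S] {M : Type u} [CommGroup M]
    {g h : MonoidAlgebra S M} (hg : IsGroupLikeElem S g) (hh : IsGroupLikeElem S h)
    (hd : ∀ n, cf n g - cf n h ∈ Ideal.jacobson (⊥ : Ideal S)) : g = h := by
  refine ext_cf fun n => ?_
  have he := (groupLike_coeff_idem hg n).eq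
  have hf := (groupLike_coeff_idem hh n).eq
  set e := cf n g
  set f := cf n h
  have h3 : (e - f) * ((e - f) * (-(e - f)) + 1) = 0 := by
    have : (e - f) * (e - f) * (e - f) = e - f := by
      linear_combination (e - 3 * f + 1) * he + (3 * e - f - 1) * hf
    linear_combination -this
  obtain hu := Ideal.mem_jacobson_bot.1 (hd n) (-(e - f))
  exact sub_eq_zero.1 (hu.mul_left_eq_zero.1 h3)

theorem eq_of_sub_mem_jacobson {X Y : Type u} [CommRing X] [HopfAlgebra R X] [CommRing Y]
    [HopfAlgebra R Y] (hX : IsDiag R X) (hY : IsDiag R Y) {I : Ideal R}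
    (hI : I ≤ Ideal.jacobson (⊥ : Ideal R)) {φ ψ : X →ₐc[R] Y}
    (h : ∀ x, φ x - ψ x ∈ I • (⊤ : Submodule R Y)) : φ = ψ := by
  obtain ⟨N, _, ⟨e⟩⟩ := hX
  obtain ⟨M, _, ⟨e'⟩⟩ := hY
  have key : ∀ w : MonoidAlgebra R N, φ (e.symm w) = ψ (e.symm w) := by
    intro w
    induction w using MonoidAlgebra.induction_linear with
    | zero => simp
    | add p q hp hq => simp only [map_add, hp, hq]
    | single n r =>
      rw [show MonoidAlgebra.single n r = r • MonoidAlgebra.single n (1 : R) by simp,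
        map_smul, map_smul, map_smul]
      congr 1
      have hgl := (MonoidAlgebra.isGroupLikeElem_single_one (R := R) n).map
        (e.symm : MonoidAlgebra R N →ₐc[R] X)
      refine e'.injective (groupLike_eq_jacobson ((hgl.map φ).map e') ((hgl.map ψ).map e') fun m => hI ?_)
      have h1 := apply_mem_map ((cf m) ∘ₗ (e' : Y ≃ₐ[R] MonoidAlgebra R M).toLinearMap)
        (h (e.symm (MonoidAlgebra.single n (1 : R))))
      rw [Algebra.algebraMap_self, Ideal.map_id, map_sub] at h1
      exact h1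
  refine BialgHom.ext fun x => ?_
  have h1 := key (e x)
  rwa [e.symm_apply_apply] at h1

/-- Between diagonalisable groups over a local ring homomorphisms lift from the residue field. -/
theorem exists_lift_local [IsLocalRing R] {X Y : Type u} [CommRing X] [HopfAlgebra R X]
    [CommRing Y] [HopfAlgebra R Y] (hX : IsDiag R X) (hY : IsDiag R Y) {I : Ideal R}
    (hI : I = maximalIdeal R)
    (φ₀ : ((R ⧸ I) ⊗[R] X) →ₐc[R ⧸ I] ((R ⧸ I) ⊗[R] Y)) :
    ∃ φ : X →ₐc[R] Y, ∀ x, φ₀ ((1 : R ⧸ I) ⊗ₜ x) = (1 : R ⧸ I) ⊗ₜ φ x := by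
  subst hI
  obtain ⟨N, _, ⟨e⟩⟩ := hX
  obtain ⟨M, _, ⟨e'⟩⟩ := hY
  let k := R ⧸ maximalIdeal R
  haveI : IsLocalRing k := IsLocalRing.of_surjective' (Ideal.Quotient.mk (maximalIdeal R))
    Ideal.Quotient.mk_surjective
  let E := (congrBC k e').trans (monAlgBC R k M)
  have hE : ∀ m, E ((1 : k) ⊗ₜ e'.symm (MonoidAlgebra.single m 1)) = MonoidAlgebra.single m 1 := by
    intro m
    change MonoidAlgebra.scalarTensorEquiv R k ((1 : k) ⊗ₜ[R] e' (e'.symm (MonoidAlgebra.single m 1))) = _
    rw [e'.apply_symm_apply]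
    simp [MonoidAlgebra.scalarTensorEquiv_tmul]
  have hx : ∀ n, IsGroupLikeElem k (E (φ₀ ((1 : k) ⊗ₜ e.symm (MonoidAlgebra.single n 1)))) :=
    fun n => ((isGroupLikeElem_one_tmul k ((MonoidAlgebra.isGroupLikeElem_single_one n).map
      (e.symm : MonoidAlgebra R N →ₐc[R] X))).map φ₀).map E
  choose σ hσ using fun n => exists_eq_single_local (hx n)
  have hinj : Function.Injective fun m : M => MonoidAlgebra.single m (1 : k) :=
    MonoidAlgebra.single_left_injective one_ne_zero
  let σh : N →* M :=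
    { toFun := σ
      map_one' := hinj <| by
        dsimp only
        rw [← hσ, show e.symm (MonoidAlgebra.single 1 1) = 1 from map_one e.symm,
          ← Algebra.TensorProduct.one_def, map_one, map_one]
        rfl
      map_mul' := fun a b => hinj <| by
        dsimp only
        rw [← hσ, show e.symm (MonoidAlgebra.single (a * b) 1) =
            e.symm (MonoidAlgebra.single a 1) * e.symm (MonoidAlgebra.single b 1) by
          rw [← map_mul, MonoidAlgebra.single_mul_single, mul_one],
          ← one_mul (1 : k), ← Algebra.TensorProduct.tmul_mul_tmul, map_mul, map_mul, hσ, hσ,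
          MonoidAlgebra.single_mul_single, mul_one] }
  let φ : X →ₐc[R] Y := (e'.symm : MonoidAlgebra R M →ₐc[R] Y).comp
    ((MonoidAlgebra.mapDomainBialgHom R σh).comp (e : X →ₐc[R] MonoidAlgebra R N))
  have key : ∀ w : MonoidAlgebra R N, φ₀ ((1 : k) ⊗ₜ e.symm w) =
      (1 : k) ⊗ₜ e'.symm (MonoidAlgebra.mapDomainBialgHom R σh w) := by
    intro w
    induction w using MonoidAlgebra.induction_linear with
    | zero => simp
    | add p q hp hq => simp only [map_add, TensorProduct.tmul_add, hp, hq]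
    | single n r =>
      rw [show MonoidAlgebra.single n r = r • MonoidAlgebra.single n (1 : R) by simp,
        map_smul, map_smul, map_smul, TensorProduct.tmul_smul, TensorProduct.tmul_smul,
        ← algebraMap_smul k r, ← algebraMap_smul k r, map_smul]
      congr 1
      refine EquivLike.injective E ?_
      rw [hσ, show MonoidAlgebra.mapDomainBialgHom R σh (MonoidAlgebra.single n (1 : R)) =
        MonoidAlgebra.single (σ n) 1 by simp [σh], hE]
  refine ⟨φ, fun x => ?_⟩
  have h1 := key (e x)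
  rw [e.symm_apply_apply] at h1
  exact h1

theorem map_le_jacobson [IsLocalRing R] (S : Type u) [CommRing S] [Algebra R S] [Module.Finite R S] :
    (maximalIdeal R).map (algebraMap R S) ≤ Ideal.jacobson (⊥ : Ideal S) := by
  haveI : Algebra.IsIntegral R S := Algebra.IsIntegral.of_finite R S
  refine le_sInf ?_
  rintro Q ⟨-, hQ⟩
  haveI := hQ
  rw [Ideal.map_le_iff_le_comap]
  exact (IsLocalRing.eq_maximalIdeal (Ideal.isMaximal_comap_of_isIntegral_of_isMaximal Q)).ge

section Main

variable [HenselianLocalRing R] {X Y : Type u} [CommRing X] [HopfAlgebra R X] [CommRing Y]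
  [HopfAlgebra R Y]

theorem eq_of_congr (hX : IsMultType R X) (hY : IsMultType R Y) (hfX : Algebra.FiniteType R X)
    (hfY : Algebra.FiniteType R Y) {φ ψ : X →ₐc[R] Y}
    (h : ∀ x, φ x - ψ x ∈ maximalIdeal R • (⊤ : Submodule R Y)) : φ = ψ := by
  obtain ⟨S, _, _, hh, hf, he, hff, hdX, hdY⟩ := exists_local_split_pair hX hY hfX hfY
  have h1 : mapBC S φ = mapBC S ψ := eq_of_sub_mem_jacobson hdX hdY (map_le_jacobson S) fun z => by
    induction z using TensorProduct.induction_on with
    | zero => simp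
    | tmul s x =>
      rw [mapBC_tmul, mapBC_tmul, ← TensorProduct.tmul_sub]
      exact smul_top_of_one_tmul S (h x) s
    | add p q hp hq => simp only [map_add]; rw [add_sub_add_comm]; exact add_mem hp hq
  refine BialgHom.ext fun x => one_tmul_injective_of_faithfullyFlat (R := R) S Y ?_
  exact DFunLike.congr_fun h1 ((1 : S) ⊗ₜ x)

theorem exists_hom (hX : IsMultType R X) (hY : IsMultType R Y) (hfX : Algebra.FiniteType R X)
    (hfY : Algebra.FiniteType R Y)
    (φ₀ : ((R ⧸ maximalIdeal R) ⊗[R] X) →ₐc[R ⧸ maximalIdeal R] ((R ⧸ maximalIdeal R) ⊗[R] Y)) :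
    ∃ φ : X →ₐc[R] Y, ∀ x,
      φ₀ ((1 : R ⧸ maximalIdeal R) ⊗ₜ x) = (1 : R ⧸ maximalIdeal R) ⊗ₜ φ x := by
  have := projective_of_isMultType hY
  obtain ⟨S, _, _, hh, hf, he, hff, hdX, hdY⟩ := exists_local_split_pair hX hY hfX hfY
  haveI : IsLocalHom (algebraMap R S) := ⟨fun r hr => by
    by_contra hnr
    refine (maximalIdeal.isMaximal S).ne_top (Ideal.eq_top_of_isUnit_mem _ ?_ hr)
    exact (map_le_jacobson (R := R) S).trans (IsLocalRing.jacobson_eq_maximalIdeal ⊥ bot_ne_top).le
      (Ideal.mem_map_of_mem _ ((mem_maximalIdeal r).mpr hnr))⟩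
  have hJ : (maximalIdeal R).map (algebraMap R S) = maximalIdeal S :=
    Algebra.FormallyUnramified.map_maximalIdeal
  obtain ⟨ψ₀, hψ₀⟩ := exists_red φ₀ S
  obtain ⟨ψ, hψ⟩ := exists_lift_local hdX hdY hJ ψ₀
  have hψL : IsLift φ₀ S ψ := fun x y hxy =>
    sub_mem_smul_of_tmul_eq _ ((hψ _).symm.trans (hψ₀ x y hxy))
  haveI : Module.FaithfullyFlat R (PUnit.{u + 1} → S) :=
    Module.FaithfullyFlat.of_linearEquiv R S (LinearEquiv.funUnique PUnit.{u + 1} R S)
  refine exists_hom_of_compat (fun _ : PUnit.{u + 1} => S) (fun _ => ψ) (fun _ => hψL)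
    fun _ _ ω ω' h h' => ?_
  let T := S ⊗[R] S
  refine eq_of_sub_mem_jacobson (R := T) (isDiag_trans S T X (isDiag_baseChange T (S ⊗[R] X) hdX))
    (isDiag_trans S T Y (isDiag_baseChange T (S ⊗[R] Y) hdY)) (map_le_jacobson (R := R) T) fun z => ?_
  induction z using TensorProduct.induction_on with
  | zero => simp
  | add p q hp hq => simp only [map_add]; rw [add_sub_add_comm]; exact add_mem hp hq
  | tmul s x =>
    obtain ⟨y, hy⟩ := AdicAux.exists_eq_one_tmul _ (φ₀ ((1 : R ⧸ maximalIdeal R) ⊗ₜ x))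
    have h1 := sub_mem (h x y hy.symm) (h' x y hy.symm)
    rw [sub_sub_sub_cancel_right] at h1
    rw [show s ⊗ₜ[R] x = s • ((1 : T) ⊗ₜ[R] x) by rw [TensorProduct.smul_tmul', smul_eq_mul, mul_one],
      map_smul, map_smul, ← smul_sub]
    exact Submodule.smul_mem _ s h1

end Main

end Groth.Sga3.HensHom
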