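import Groth.Agent.Sga3.HopfModel

/-!
Models of finitely presented Hopf algebras over a local ring, flat along the closed fibre.
-/

set_option autoImplicit false
set_option synthInstance.maxHeartbeats 400000

universe u

open TensorProduct Coalgebra Groth.FlatMorOne

noncomputable section

namespace Groth.Sga3.HopfModel

section

attribute [local instance] Algebra.TensorProduct.rightAlgebra

/-- Flatness of the module of a stage gives flatness of the algebra of the stage. -/
theorem flat_atPrime_SOf {A S₀ : Type u} [CommRing A] [CommRing S₀] [Algebra A S₀] (B : Type u)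
    [CommRing B] [Algebra A B] (q : Ideal (SOf A S₀ B)) [q.IsPrime]
    [Module.Flat B (LocalizedModule q.primeCompl (MOf A S₀ S₀ B))] :
    Module.Flat B (Localization.AtPrime q) := by
  let e : MOf A S₀ S₀ B ≃ₗ[SOf A S₀ B] SOf A S₀ B :=
    TensorProduct.AlgebraTensorModule.rid S₀ (SOf A S₀ B) (SOf A S₀ B)
  have hq : Module.Flat B (LocalizedModule (q.comap (RingHom.id (SOf A S₀ B))).primeCompl (MOf A S₀ S₀ B)) :=
    ‹_›
  exact flat_localized_baseChange (RingHom.id (SOf A S₀ B)) (β := (e.restrictScalars B).toLinearMap)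
    (IsBaseChange.of_equiv
      ((TensorProduct.lid B (MOf A S₀ S₀ B)).trans (e.restrictScalars B)) fun x => by simp)
    (fun s m => map_smul e s m) q

/-- A common point of two algebras over a prime of the base. -/
theorem exists_common_point {B R D : Type u} [CommRing B] [CommRing R] [CommRing D] [Algebra B R]
    [Algebra B D] (m : Ideal R) [m.IsPrime] (q : Ideal D) [q.IsPrime]
    (h : q.comap (algebraMap B D) = m.comap (algebraMap B R)) :
    ∃ (K : Type u) (_ : Field K) (g : R →+* K) (f : D →+* K),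
      (∀ r ∈ m, g r = 0) ∧ RingHom.ker f = q ∧ ∀ b, g (algebraMap B R b) = f (algebraMap B D b) := by
  let p := m.comap (algebraMap B R)
  let i₁ : p.ResidueField →ₐ[B] q.ResidueField := Ideal.ResidueField.mapₐ p q (Algebra.ofId B D) h.symm
  let i₂ : p.ResidueField →ₐ[B] m.ResidueField := Ideal.ResidueField.mapₐ p m (Algebra.ofId B R) rfl
  letI : Algebra p.ResidueField q.ResidueField := i₁.toRingHom.toAlgebra
  letI : Algebra p.ResidueField m.ResidueField := i₂.toRingHom.toAlgebra
  let T := q.ResidueField ⊗[p.ResidueField] m.ResidueField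
  haveI : Nontrivial T := (FaithfulSMul.algebraMap_injective q.ResidueField T).nontrivial
  obtain ⟨P, hP⟩ := Ideal.exists_maximal T
  letI : Field (T ⧸ P) := Ideal.Quotient.field P
  let j₁ : q.ResidueField →+* T ⧸ P := (Ideal.Quotient.mk P).comp Algebra.TensorProduct.includeLeftRingHom
  let j₂ : m.ResidueField →+* T ⧸ P := (Ideal.Quotient.mk P).comp
    (Algebra.TensorProduct.includeRight : m.ResidueField →ₐ[p.ResidueField] T).toRingHom
  refine ⟨T ⧸ P, inferInstance, j₂.comp (algebraMap R m.ResidueField), j₁.comp (algebraMap D q.ResidueField),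
    fun r hr => ?_, ?_, fun b => ?_⟩
  · rw [RingHom.comp_apply, Ideal.algebraMap_residueField_eq_zero.2 hr, map_zero]
  · rw [RingHom.ker_comp_of_injective _ j₁.injective, Ideal.ker_algebraMap_residueField]
  · change j₂ (algebraMap R m.ResidueField (algebraMap B R b)) =
      j₁ (algebraMap D q.ResidueField (algebraMap B D b))
    rw [← IsScalarTower.algebraMap_apply B R m.ResidueField,
      ← IsScalarTower.algebraMap_apply B D q.ResidueField, ← i₁.commutes b, ← i₂.commutes b]
    change Ideal.Quotient.mk P ((1 : q.ResidueField) ⊗ₜ[p.ResidueField]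
        algebraMap p.ResidueField m.ResidueField (algebraMap B p.ResidueField b)) =
      Ideal.Quotient.mk P (algebraMap p.ResidueField q.ResidueField (algebraMap B p.ResidueField b)
        ⊗ₜ[p.ResidueField] (1 : m.ResidueField))
    generalize algebraMap B p.ResidueField b = c
    rw [Algebra.algebraMap_eq_smul_one, Algebra.algebraMap_eq_smul_one, TensorProduct.smul_tmul]

set_option maxHeartbeats 2000000 in
/-- A stage flat along the part of it under the closed fibre. -/
theorem exists_stage_flat_closed (R : Type u) [CommRing R] [IsLocalRing R] (C : Type u) [CommRing C]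
    [Algebra R C] (A : Type u) [CommRing A] [IsNoetherianRing A] [Algebra A R] (S₀ : Type u)
    [CommRing S₀] [Algebra A S₀] [Algebra.FiniteType A S₀] (χ : R ⊗[A] S₀ ≃ₐ[R] C)
    (hfl : ∀ (Q : Ideal C) [Q.IsPrime],
      Ideal.map (algebraMap R C) (IsLocalRing.maximalIdeal R) ≤ Q → Module.Flat R (Localization.AtPrime Q)) :
    ∃ B : Subalgebra A R, B.FG ∧ ∀ (q : Ideal (B ⊗[A] S₀)) [q.IsPrime],
      q.comap (algebraMap B (B ⊗[A] S₀)) = (IsLocalRing.maximalIdeal R).comap B.val →
        Module.Flat B (Localization.AtPrime q) := by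
  classical
  letI : Algebra S₀ C :=
    ((χ : R ⊗[A] S₀ →+* C).comp (Algebra.TensorProduct.includeRight : S₀ →ₐ[A] R ⊗[A] S₀).toRingHom).toAlgebra
  letI : Algebra A C := ((algebraMap R C).comp (algebraMap A R)).toAlgebra
  haveI : IsScalarTower A R C := IsScalarTower.of_algebraMap_eq' rfl
  haveI : IsScalarTower A S₀ C := IsScalarTower.of_algebraMap_eq fun a => by
    change algebraMap R C (algebraMap A R a) = χ ((1 : R) ⊗ₜ[A] algebraMap A S₀ a)
    rw [Algebra.algebraMap_eq_smul_one (A := S₀), ← TensorProduct.smul_tmul,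
      ← Algebra.algebraMap_eq_smul_one (A := R)]
    exact (χ.commutes _).symm
  haveI hpush : Algebra.IsPushout A R S₀ C :=
    Algebra.IsPushout.of_equiv (h := TensorProduct.isPushout) χ rfl
  have hf₀ : IsBaseChange C (Algebra.linearMap S₀ C) := IsBaseChange.linearMap ..
  let K : Set (PrimeSpectrum C) :=
    PrimeSpectrum.zeroLocus (Ideal.map (algebraMap R C) (IsLocalRing.maximalIdeal R) : Set C)
  choose A' hA' hflat using fun Q : K =>
    exists_stage_flat_at (R₀ := A) (R := R) (M₀ := S₀) hf₀ Q.1 (hfl Q.1.asIdeal Q.2)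
  have hN : ∀ Q, IsNoetherianRing (A' Q) := fun Q => isNoetherianRing_of_fg (hA' Q)
  let U : ∀ Q, Set (PrimeSpectrum (SOf A S₀ (A' Q))) := fun Q =>
    {b | Module.Flat (A' Q) (LocalizedModule b.asIdeal.primeCompl (MOf A S₀ S₀ (A' Q)))}
  let V : K → Set (PrimeSpectrum C) := fun Q =>
    PrimeSpectrum.comap (stageAlgHom A R S₀ C (A' Q)).toRingHom ⁻¹' U Q
  obtain ⟨t, ht⟩ := (PrimeSpectrum.isClosed_zeroLocus _).isCompact.elim_finite_subcover V
    (fun Q => by
      have := hN Q
      exact isOpen_flatLocus_of_isNoetherianRing.preimage (PrimeSpectrum.continuous_comap _))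
    (fun Q (hQ : Q ∈ K) => Set.mem_iUnion.mpr ⟨⟨Q, hQ⟩, hflat ⟨Q, hQ⟩ _ (hA' _) le_rfl⟩)
  let B := t.sup A'
  refine ⟨B, Finset.sup_induction Subalgebra.fg_bot (fun A hA B hB => hA.sup hB) fun Q _ => hA' Q,
    fun q _ hq => ?_⟩
  -- a point of the closed fibre over `q`
  let m := IsLocalRing.maximalIdeal R
  obtain ⟨L, _, g, f, hg, hf, hgf⟩ := exists_common_point (B := B) (R := R) (D := B ⊗[A] S₀) m q hq
  letI : Algebra A L := (g.comp (algebraMap A R)).toAlgebra
  haveI : IsScalarTower A A L := IsScalarTower.left A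
  let gR : R →ₐ[A] L := { g with commutes' := fun _ => rfl }
  let gS : S₀ →ₐ[A] L :=
    { f.comp (Algebra.TensorProduct.includeRight : S₀ →ₐ[A] B ⊗[A] S₀).toRingHom with
      commutes' := fun a => by
        change f ((Algebra.TensorProduct.includeRight : S₀ →ₐ[A] B ⊗[A] S₀) (algebraMap A S₀ a)) = _
        rw [AlgHom.commutes, IsScalarTower.algebraMap_apply A B (B ⊗[A] S₀), ← hgf]
        rfl }
  let G : C →+* L :=
    (Algebra.TensorProduct.lift gR gS fun _ _ => .all _ _).toRingHom.comp (χ.symm : C →+* R ⊗[A] S₀)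
  let Q : Ideal C := RingHom.ker G
  haveI : Q.IsPrime := RingHom.ker_isPrime _
  have hQm : (⟨Q, inferInstance⟩ : PrimeSpectrum C) ∈ K := by
    change Ideal.map (algebraMap R C) m ≤ Q
    rw [Ideal.map_le_iff_le_comap]
    intro r hr
    change Algebra.TensorProduct.lift gR gS (fun _ _ => .all _ _) (χ.symm (algebraMap R C r)) = 0
    rw [AlgEquiv.commutes, Algebra.TensorProduct.algebraMap_apply, Algebra.algebraMap_self,
      RingHom.id_apply, Algebra.TensorProduct.lift_tmul, map_one, mul_one]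
    exact hg r hr
  obtain ⟨i, hi, hQi⟩ := Set.mem_iUnion₂.mp (ht hQm)
  let : Algebra (A' i) B := (Subalgebra.inclusion (Finset.le_sup hi : A' i ≤ B)).toRingHom.toAlgebra
  have : IsScalarTower A (A' i) B := IsScalarTower.of_algebraMap_eq fun r => rfl
  have hst : ∀ (b : B) (s : S₀),
      stageAlgHom A R S₀ C B (b ⊗ₜ[A] s) = χ ((b : R) ⊗ₜ[A] s) := by
    intro b s
    simp only [stageAlgHom, AlgHom.comp_apply, sMap_tmul, AlgEquiv.coe_toAlgHom, pushoutAlgEquiv_tmul]
    change algebraMap R C (b : R) * χ ((1 : R) ⊗ₜ[A] s) = _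
    rw [← χ.commutes, ← map_mul, Algebra.TensorProduct.algebraMap_apply, Algebra.algebraMap_self,
      RingHom.id_apply, Algebra.TensorProduct.tmul_mul_tmul, mul_one, one_mul]
  have hGst : ∀ x, G (stageAlgHom A R S₀ C B x) = f x := by
    intro x
    induction x using TensorProduct.induction_on with
    | zero => simp
    | add a b ha hb => simp only [map_add, ha, hb]
    | tmul b s =>
      rw [hst]
      change Algebra.TensorProduct.lift gR gS (fun _ _ => .all _ _) (χ.symm (χ ((b : R) ⊗ₜ[A] s))) = _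
      rw [AlgEquiv.symm_apply_apply, Algebra.TensorProduct.lift_tmul,
        show (b ⊗ₜ[A] s : B ⊗[A] S₀) = algebraMap B (B ⊗[A] S₀) b * ((1 : B) ⊗ₜ[A] s) by simp,
        map_mul, ← hgf]
      rfl
  have hQq : Q.comap (stageAlgHom A R S₀ C B).toRingHom = q := by
    ext x
    change G (stageAlgHom A R S₀ C B x) = 0 ↔ _
    rw [hGst, ← RingHom.mem_ker, hf]
  have hcomp : (stageAlgHom A R S₀ C B).toRingHom.comp
      (sMap A S₀ (IsScalarTower.toAlgHom A (A' i) B)).toRingHom =
        (stageAlgHom A R S₀ C (A' i)).toRingHom := by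
    refine RingHom.ext fun x => ?_
    show pushoutAlgEquiv A R S₀ C (sMap A S₀ _ (sMap A S₀ _ x)) = pushoutAlgEquiv A R S₀ C (sMap A S₀ _ x)
    rw [sMap_sMap]
    rfl
  have : Module.Flat (A' i) (LocalizedModule ((Q.comap (stageAlgHom A R S₀ C B).toRingHom).comap
      (sMap A S₀ (IsScalarTower.toAlgHom A (A' i) B)).toRingHom).primeCompl (MOf A S₀ S₀ (A' i))) :=
    flat_localized_of_eq (hq := hQi) (by rw [Ideal.comap_comap, hcomp]; rfl)
  have hMB : Module.Flat B
      (LocalizedModule (Q.comap (stageAlgHom A R S₀ C B).toRingHom).primeCompl (MOf A S₀ S₀ B)) :=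
    flat_localized_stage (A := A' i) _
  haveI : Module.Flat B (LocalizedModule q.primeCompl (MOf A S₀ S₀ B)) :=
    flat_localized_of_eq (hq := hMB) hQq
  exact flat_atPrime_SOf B q

end

/-- A Hopf model over a noetherian stage of an algebra model. -/
theorem exists_hopf_stage (R : Type u) [CommRing R] (C : Type u) [CommRing C] [HopfAlgebra R C]
    (R₁ : Type u) [CommRing R₁] [Algebra R₁ R] (hZ : Algebra.FiniteType ℤ R₁) (S₁ : Type u) [CommRing S₁]
    [Algebra R₁ S₁] [Algebra.FinitePresentation R₁ S₁] (ψ : R ⊗[R₁] S₁ ≃ₐ[R] C) :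
    ∃ (A : Type u) (_ : CommRing A) (_ : Algebra A R) (CA : Type u) (_ : CommRing CA)
      (_ : HopfAlgebra A CA), Algebra.FiniteType ℤ A ∧ Algebra.FiniteType A CA ∧
        Nonempty (R ⊗[A] CA ≃ₐc[R] C) := by
  classical
  haveI : IsNoetherianRing R₁ := Algebra.FiniteType.isNoetherianRing ℤ R₁
  obtain ⟨B₁, hBfg, S, χ, hΔ, hε, hσ⟩ := exists_pre R C R₁ S₁ ψ
  have hR : (S.bc R).IsHopf := (S.bc R).isHopf_of_equiv (ofHopf R C) χ hΔ hε hσ (isHopf_ofHopf R C)
  haveI : Algebra.FiniteType R₁ B₁ := (Subalgebra.fg_iff_finiteType B₁).1 hBfg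
  obtain ⟨A, hAfg, hA⟩ := S.exists_stage_isHopf hR
  haveI : Algebra.FiniteType B₁ A := (Subalgebra.fg_iff_finiteType A).1 hAfg
  exact ⟨A, inferInstance, inferInstance, A ⊗[B₁] (B₁ ⊗[R₁] S₁), inferInstance, (S.bc A).toHopf hA,
    ((hZ.trans inferInstance : Algebra.FiniteType ℤ B₁).trans inferInstance),
    inferInstance, exists_bialgEquiv R C B₁ _ S χ hΔ hε A hA⟩

/-- Hopf models over rings of finite type over the integers, flat along the closed fibre. -/
theorem exists_hopf_model_local (R : Type u) [CommRing R] [IsLocalRing R] (C : Type u) [CommRing C]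
    [HopfAlgebra R C] [Algebra.FinitePresentation R C]
    (hfl : ∀ (Q : Ideal C) [Q.IsPrime],
      Ideal.map (algebraMap R C) (IsLocalRing.maximalIdeal R) ≤ Q → Module.Flat R (Localization.AtPrime Q)) :
    ∃ (R₀ : Type u) (_ : CommRing R₀) (_ : Algebra R₀ R) (C₀ : Type u) (_ : CommRing C₀)
      (_ : HopfAlgebra R₀ C₀), Algebra.FiniteType ℤ R₀ ∧ Algebra.FiniteType R₀ C₀ ∧
        (∀ (q : Ideal C₀) [q.IsPrime], q.comap (algebraMap R₀ C₀) =
          (IsLocalRing.maximalIdeal R).comap (algebraMap R₀ R) →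
            Module.Flat R₀ (Localization.AtPrime q)) ∧
        Nonempty (R ⊗[R₀] C₀ ≃ₐc[R] C) := by
  classical
  obtain ⟨R₁, hZ, S₁, _, _, _, _, hfp, hpush, -⟩ := exists_models R C C
  obtain ⟨A, _, _, CA, _, _, hAZ, hAft, ⟨χA⟩⟩ :=
    exists_hopf_stage R C R₁ hZ S₁ (Algebra.IsPushout.equiv R₁ R S₁ C)
  haveI : IsNoetherianRing A := Algebra.FiniteType.isNoetherianRing ℤ A
  obtain ⟨B, hB, hflat⟩ := exists_stage_flat_closed R C A CA (χA : R ⊗[A] CA ≃ₐ[R] C) hfl
  haveI : Algebra.FiniteType A B := (Subalgebra.fg_iff_finiteType B).1 hB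
  exact ⟨B, inferInstance, inferInstance, B ⊗[A] CA, inferInstance, inferInstance,
    hAZ.trans inferInstance, inferInstance, fun q _ hq => hflat q hq,
    ⟨(MultType.cancelBC A B R CA).trans χA⟩⟩

end Groth.Sga3.HopfModel
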