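import Groth.Agent.Sga3.Density
import Groth.Agent.Sga3.Killed
import Groth.Agent.Sga3.AdicTorsion
import Groth.Agent.Sga3.CharField
import Groth.Agent.Sga3.NilIsotrivial

/-!
The kernels of the power maps of a commutative algebraic group with an open subgroup of
multiplicative type are schematically dense.
-/

set_option autoImplicit false

universe u

open TensorProduct Coalgebra WithConv

noncomputable section

namespace Groth.Sga3.DensityOpen

open SGA3b MultType GroupAlg

section Translate

variable {k : Type u} [CommRing k] {C : Type u} [CommRing C] [HopfAlgebra k C]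

theorem tr_eq_mul (t : C →ₐ[k] k) :
    toConv (OpenSubgroup.tr t) = toConv ((Algebra.ofId k C).comp t) * toConv (AlgHom.id k C) := by
  refine WithConv.ofConv_injective (AlgHom.ext fun x => ?_)
  change OpenSubgroup.tr t x = _
  rw [AlgHom.convMul_apply, OpenSubgroup.tr_apply]
  generalize comul (R := k) x = z
  induction z using TensorProduct.induction_on with
  | zero => simp
  | add p q hp hq => simp only [map_add, hp, hq]
  | tmul a b => simp [Algebra.smul_def]

/-- A translation by a torsion point fixes the powers it is killed by. -/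
theorem tr_powConv [Coalgebra.IsCocomm k C] (t : C →ₐ[k] k) {n : ℕ} (ht : toConv t ^ n = 1) (c : C) :
    OpenSubgroup.tr t (powConv k C n c) = powConv k C n c := by
  have h := Killed.comp_pow (OpenSubgroup.tr t) (toConv (AlgHom.id k C)) n
  have h2 : (OpenSubgroup.tr t).comp (toConv (AlgHom.id k C)).ofConv = OpenSubgroup.tr t :=
    AlgHom.comp_id _
  have h3 : toConv ((Algebra.ofId k C).comp t) ^ n = 1 := by
    have h4 := Killed.comp_pow (Algebra.ofId k C) (toConv t) n
    rw [ht] at h4
    refine h4.symm.trans (WithConv.ofConv_injective (AlgHom.ext fun x => ?_))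
    change algebraMap k C ((1 : WithConv (C →ₐ[k] k)) x) = (1 : WithConv (C →ₐ[k] C)) x
    simp
  rw [h2, tr_eq_mul, mul_pow, h3, one_mul] at h
  exact DFunLike.congr_fun (congrArg WithConv.ofConv h) c

theorem tr_torsionIdeal [Coalgebra.IsCocomm k C] (t : C →ₐ[k] k) {n : ℕ} (ht : toConv t ^ n = 1)
    {x : C} (hx : x ∈ torsionIdeal k C n) : OpenSubgroup.tr t x ∈ torsionIdeal k C n := by
  refine (Ideal.map_le_iff_le_comap.2 fun c hc => ?_ :
    torsionIdeal k C n ≤ (torsionIdeal k C n).comap (OpenSubgroup.tr t)) hx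
  rw [Ideal.mem_comap, Ideal.mem_comap, tr_powConv t ht]
  exact Ideal.mem_map_of_mem _ hc

end Translate

section Field

variable {K : Type u} [Field K] [IsAlgClosed K]

/-- Every point has a torsion point in its coset. -/
theorem exists_torsion_translate {D : Type u} [CommRing D] [HopfAlgebra K D]
    [Coalgebra.IsCocomm K D] [Algebra.FiniteType K D] {M : Type u} [CommGroup M]
    (f : D →ₐc[K] MonoidAlgebra K M) (hf : Function.Surjective f) {e : D} (hid : IsIdempotentElem e)
    (hker : RingHom.ker f = Ideal.span {e}) (g : WithConv (D →ₐ[K] K)) :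
    ∃ (t : WithConv (D →ₐ[K] K)) (n : ℕ), 0 < n ∧ t ^ n = 1 ∧ (t⁻¹ * g) e = 0 := by
  haveI : Algebra.FiniteType K (MonoidAlgebra K M) :=
    Algebra.FiniteType.of_surjective (f : D →ₐ[K] MonoidAlgebra K M) hf
  haveI : Group.FG M := Group.fg_iff_monoid_fg.2 (MonoidAlgebra.finiteType_iff_fg.1 ‹_›)
  haveI : IsNoetherianRing D := Algebra.FiniteType.isNoetherianRing K D
  let ι : WithConv (MonoidAlgebra K M →ₐ[K] K) →* WithConv (D →ₐ[K] K) :=
    { toFun := fun a => toConv ((ofConv a).comp (f : D →ₐ[K] MonoidAlgebra K M))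
      map_one' := by
        apply WithConv.ofConv_injective
        refine AlgHom.ext fun x => ?_
        change (1 : WithConv (MonoidAlgebra K M →ₐ[K] K)) (f x) = (1 : WithConv (D →ₐ[K] K)) x
        rw [AlgHom.convOne_apply, AlgHom.convOne_apply, CoalgHomClass.counit_comp_apply]
      map_mul' := fun a b => congrArg toConv (AlgHom.convMul_comp_bialgHom_distrib a b f) }
  have hι : ∀ a, ι a e = 0 := fun a => by
    have h1 : f e = 0 := by
      have : e ∈ RingHom.ker f := hker ▸ Ideal.mem_span_singleton_self e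
      exact this
    change ofConv a (f e) = 0
    rw [h1, map_zero]
  have hmemι : ∀ g : WithConv (D →ₐ[K] K), g e = 0 → ∃ a, ι a = g := by
    intro g hg
    have hle : RingHom.ker (f : D →ₐ[K] MonoidAlgebra K M) ≤ RingHom.ker (ofConv g) := by
      change RingHom.ker f ≤ _
      rw [hker, Ideal.span_le, Set.singleton_subset_iff]
      exact hg
    refine ⟨toConv (AlgHom.liftOfSurjective (f : D →ₐ[K] MonoidAlgebra K M) hf (ofConv g) hle),
      WithConv.ofConv_injective (AlgHom.ext fun x => ?_)⟩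
    change AlgHom.liftOfSurjective (f : D →ₐ[K] MonoidAlgebra K M) hf (ofConv g) hle
      ((f : D →ₐ[K] MonoidAlgebra K M) x) = _
    exact AlgHom.liftOfSurjective_apply _ _ _ _ x
  have h01 : ∀ g : WithConv (D →ₐ[K] K), g e = 0 ∨ g e = 1 := fun g =>
    IsIdempotentElem.iff_eq_zero_or_one.1 (hid.map (ofConv g))
  -- a power lies in the subgroup
  obtain ⟨N, hN, hgN⟩ : ∃ N : ℕ, 0 < N ∧ (g ^ N) e = 0 := by
    by_contra hne
    push Not at hne
    let u : ℕ → D := fun i => OpenSubgroup.tr (ofConv (g ^ i)) (1 - e)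
    have hu : ∀ i (y : D →ₐ[K] K), y (u i) = 1 - (g ^ i * toConv y) e := by
      intro i y
      rw [OpenSubgroup.point_tr, map_sub, map_one]
    have horth : ∀ i j, i < j → u i * u j = 0 := by
      intro i j hij
      refine AdicTorsion.eq_zero_of_points (K := K) ((hid.one_sub.map _).mul (hid.one_sub.map _))
        fun y => ?_
      change y (u i * u j) = 0
      rw [map_mul, hu, hu]
      rcases h01 (g ^ i * toConv y) with h | h
      swap
      · rw [h, sub_self, zero_mul]
      rcases h01 (g ^ j * toConv y) with h' | h'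
      swap
      · rw [h', sub_self, mul_zero]
      obtain ⟨a, ha⟩ := hmemι _ h
      obtain ⟨b, hb⟩ := hmemι _ h'
      have h1 : g ^ (j - i) * ι a = ι b := by
        rw [ha, hb, ← mul_assoc, ← pow_add, Nat.sub_add_cancel hij.le]
      have h2 : g ^ (j - i) = ι (b * a⁻¹) := by
        rw [map_mul, ← h1, mul_assoc, ← map_mul, mul_inv_cancel, map_one, mul_one]
      exact absurd (h2 ▸ hι _) (hne (j - i) (by omega))
    have hnz : ∀ i, u i ≠ 0 := by
      intro i h
      have h1 := hu i (ofConv ((g ^ i)⁻¹))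
      rw [h, map_zero, WithConv.toConv_ofConv, mul_inv_cancel] at h1
      have h2 : (1 : WithConv (D →ₐ[K] K)) e = 0 := by rw [← map_one ι]; exact hι 1
      rw [h2, sub_zero] at h1
      exact zero_ne_one h1
    obtain ⟨n, hn⟩ := monotone_stabilizes_iff_noetherian.2 (inferInstance : IsNoetherian D D)
      ⟨fun n => Ideal.span (u '' Set.Iic n), fun a b hab =>
        Ideal.span_mono (Set.image_mono (Set.Iic_subset_Iic.2 hab))⟩
    have h1 : u (n + 1) ∈ Ideal.span (u '' Set.Iic n) := by
      rw [show Ideal.span (u '' Set.Iic n) = Ideal.span (u '' Set.Iic (n + 1)) from hn (n + 1) n.le_succ]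
      exact Ideal.subset_span ⟨n + 1, Set.mem_Iic.2 le_rfl, rfl⟩
    have h2 : u (n + 1) * u (n + 1) = 0 := by
      refine Submodule.span_induction (p := fun z _ => z * u (n + 1) = 0) ?_ (zero_mul _)
        (fun a b _ _ ha hb => by rw [add_mul, ha, hb, add_zero])
        (fun a b _ hb => by rw [smul_eq_mul, mul_assoc, hb, mul_zero]) h1
      rintro _ ⟨i, hi, rfl⟩
      exact horth i (n + 1) (Nat.lt_succ_of_le hi)
    exact hnz (n + 1) ((hid.one_sub.map _).eq.symm.trans h2)
  obtain ⟨a, ha⟩ := hmemι _ hgN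
  let χ : M →* Kˣ := ((ofConv a).toMonoidHom.comp (MonoidAlgebra.of K M)).toHomUnits
  obtain ⟨d, ψ, hd, hψ⟩ := AdicTorsion.exists_root χ hN
  let pt : (M →* Kˣ) → WithConv (MonoidAlgebra K M →ₐ[K] K) := fun θ =>
    toConv (MonoidAlgebra.lift K K M ((Units.coeHom K).comp θ))
  have hpt : ∀ θ m, pt θ (MonoidAlgebra.single m 1) = (θ m : K) := fun θ m => by simp [pt]
  have hext : ∀ a b : WithConv (MonoidAlgebra K M →ₐ[K] K),
      (∀ m, a (MonoidAlgebra.single m 1) = b (MonoidAlgebra.single m 1)) → a = b := fun a b h =>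
    WithConv.ofConv_injective (by ext m; exact h m)
  have hmulpt : ∀ (a b : WithConv (MonoidAlgebra K M →ₐ[K] K)) m,
      (a * b) (MonoidAlgebra.single m 1) = a (MonoidAlgebra.single m 1) * b (MonoidAlgebra.single m 1) := by
    intro a b m
    rw [AlgHom.convMul_apply, (MonoidAlgebra.isGroupLikeElem_single_one m).comul_eq_tmul_self,
      Algebra.TensorProduct.lift_tmul]
  have hpowpt : ∀ (a : WithConv (MonoidAlgebra K M →ₐ[K] K)) (k : ℕ) m,
      (a ^ k) (MonoidAlgebra.single m 1) = a (MonoidAlgebra.single m 1) ^ k := by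
    intro a k m
    induction k with
    | zero =>
      rw [pow_zero, pow_zero, AlgHom.convOne_apply,
        (MonoidAlgebra.isGroupLikeElem_single_one m).counit_eq_one, map_one]
    | succ k ih => rw [pow_succ, pow_succ, hmulpt, ih]
  let b := pt ψ
  have hab : b ^ (N * d) = a ^ d := hext _ _ fun m => by
    rw [hpowpt, hpowpt, hpt, ← Units.val_pow_eq_pow_val, hψ]
    rfl
  refine ⟨g * ι b⁻¹, N * d, Nat.mul_pos hN hd, ?_, ?_⟩
  · rw [mul_pow, pow_mul g, ← ha, ← map_pow, ← map_pow, ← map_mul, inv_pow, hab, mul_inv_cancel,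
      map_one]
  · rw [mul_inv_rev, ← map_inv, inv_inv, mul_assoc, inv_mul_cancel, mul_one]
    exact hι _

/-- Density over an algebraically closed field. -/
theorem eq_zero_of_algClosed {D : Type u} [CommRing D] [HopfAlgebra K D]
    [Coalgebra.IsCocomm K D] [Algebra.FiniteType K D] {M : Type u} [CommGroup M]
    (f : D →ₐc[K] MonoidAlgebra K M) (hf : Function.Surjective f) {e : D} (hid : IsIdempotentElem e)
    (hker : RingHom.ker f = Ideal.span {e}) (a y : D)
    (hy : ∀ n : ℕ, 0 < n → ∃ j : ℕ, a ^ j * y ∈ torsionIdeal K D n) : ∃ N : ℕ, a ^ N * y = 0 := by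
  haveI : Algebra.FiniteType K (MonoidAlgebra K M) :=
    Algebra.FiniteType.of_surjective (f : D →ₐ[K] MonoidAlgebra K M) hf
  haveI : Group.FG M := MonoidAlgebra.finiteType_iff_group_fg.1 ‹_›
  haveI : IsJacobsonRing D := isJacobsonRing_of_finiteType (A := K) (B := D)
  let I : Ideal D := LinearMap.ker (LinearMap.toSpanSingleton D D y)
  have hI : ∀ x, x ∈ I ↔ x * y = 0 := fun x => Iff.rfl
  suffices h : a ∈ I.radical by
    obtain ⟨N, hN⟩ := h
    exact ⟨N, (hI _).1 hN⟩
  rw [Ideal.radical_eq_jacobson, Ideal.jacobson, Submodule.mem_sInf]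
  rintro P ⟨hIP, hP⟩
  haveI := hP
  letI : Field (D ⧸ P) := Ideal.Quotient.field P
  haveI : Module.Finite K (D ⧸ P) := finite_of_finite_type_of_isJacobsonRing K (D ⧸ P)
  haveI : Algebra.IsIntegral K (D ⧸ P) := Algebra.IsIntegral.of_finite K _
  let ε : K ≃ₐ[K] (D ⧸ P) := AlgEquiv.ofBijective (Algebra.ofId K _)
    (IsAlgClosed.algebraMap_bijective_of_isIntegral (k := K) (K := D ⧸ P))
  let x : D →ₐ[K] K := (ε.symm : (D ⧸ P) →ₐ[K] K).comp (Ideal.Quotient.mkₐ K P)
  have hxP : ∀ z, x z = 0 → z ∈ P := fun z hz => Ideal.Quotient.eq_zero_iff_mem.1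
    (ε.symm.injective (hz.trans (map_zero ε.symm).symm))
  have hPx : ∀ z ∈ P, x z = 0 := fun z hz => by
    change ε.symm (Ideal.Quotient.mk P z) = 0
    rw [Ideal.Quotient.eq_zero_iff_mem.2 hz, map_zero]
  by_contra haP
  obtain ⟨t, d, hd, htd, hte⟩ := exists_torsion_translate f hf hid hker (toConv x)
  let τ := OpenSubgroup.tr (ofConv t)
  obtain ⟨N, hN⟩ := Density.eq_zero_monoidAlgebra (f (τ a)) (f (τ y)) fun n hn => by
    obtain ⟨j, hj⟩ := hy (d * n) (Nat.mul_pos hd hn)
    refine ⟨j, ?_⟩
    rw [← map_pow, ← map_pow, ← map_mul, ← map_mul]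
    have h1 : τ (a ^ j * y) ∈ torsionIdeal K D (d * n) :=
      tr_torsionIdeal (ofConv t) (by rw [WithConv.toConv_ofConv, pow_mul, htd, one_pow]) hj
    refine (Ideal.map_le_iff_le_comap.2 fun c hc => ?_ :
      torsionIdeal K D (d * n) ≤ (torsionIdeal K (MonoidAlgebra K M) n).comap f) h1
    rw [Ideal.mem_comap, Ideal.mem_comap,
      show powConv K D (d * n) c = powConv K D n (powConv K D d c) by
        rw [Killed.powConv_powConv, mul_comm], map_powConv f]
    refine Ideal.mem_map_of_mem _ ?_
    rw [RingHom.mem_ker, Bialgebra.counitAlgHom_apply, CoalgHomClass.counit_comp_apply,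
      Killed.counit_powConv]
    exact hc
  rw [← map_pow, ← map_pow, ← map_mul, ← map_mul] at hN
  have hmem : τ (a ^ N * y) ∈ RingHom.ker f := hN
  rw [hker, Ideal.mem_span_singleton'] at hmem
  obtain ⟨v, hv⟩ := hmem
  let τ' := OpenSubgroup.tr (ofConv t⁻¹)
  have hback : ∀ z, τ' (τ z) = z := fun z => by
    change OpenSubgroup.tr _ (OpenSubgroup.tr _ z) = z
    rw [OpenSubgroup.tr_tr, WithConv.toConv_ofConv, WithConv.toConv_ofConv, mul_inv_cancel,
      OpenSubgroup.tr_one]
  have h2 : (τ' (1 - e) * a ^ N) * y = 0 := by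
    rw [mul_assoc, ← hback (a ^ N * y), ← map_mul, ← hv,
      show (1 - e) * (v * e) = v * ((1 - e) * e) by ring, hid.one_sub_mul_self, mul_zero, map_zero]
  have h3 := hPx _ (hIP ((hI _).2 h2))
  rw [map_mul, OpenSubgroup.point_tr, WithConv.toConv_ofConv, map_sub, map_one, map_pow] at h3
  change (1 - (t⁻¹ * toConv x) e) * x a ^ N = 0 at h3
  rw [hte, sub_zero, one_mul] at h3
  exact haP (hxP a (eq_zero_of_pow_eq_zero h3))

end Field

/-- Density for a commutative algebraic group with an open subgroup of multiplicative type. -/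
theorem exists_pow_mul_eq_zero {k : Type u} [Field k] {C : Type u} [CommRing C] [HopfAlgebra k C]
    [Coalgebra.IsCocomm k C] (hft : Algebra.FiniteType k C) {e : C} (he : IsIdempotentElem e)
    [(Ideal.span {e}).IsHopfIdeal k] (hG : IsMultType k (C ⧸ Ideal.span {e})) (a y : C)
    (hy : ∀ n : ℕ, 0 < n → ∃ j : ℕ, a ^ j * y ∈ torsionIdeal k C n) : ∃ N : ℕ, a ^ N * y = 0 := by
  let K := AlgebraicClosure k
  let Q := C ⧸ Ideal.span {e}
  let q : C →ₐc[k] Q := Bialgebra.Quotient.mkBialgHom (R := k) (Ideal.span {e})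
  haveI : Algebra.FiniteType k Q :=
    Algebra.FiniteType.of_surjective (Ideal.Quotient.mkₐ k _) Ideal.Quotient.mk_surjective
  obtain ⟨M, _, ⟨E⟩⟩ := CharLift.isDiag_of_isSepClosed (k := K) (A := K ⊗[k] Q) inferInstance
    (isMultType_baseChange K hG)
  let F : K ⊗[k] C →ₐc[K] MonoidAlgebra K M :=
    (E : K ⊗[k] Q →ₐc[K] MonoidAlgebra K M).comp (mapBC K q)
  have hmap : ∀ x, mapBC K q x = Algebra.TensorProduct.map (AlgHom.id k K) (q : C →ₐ[k] Q) x := by
    intro x
    induction x using TensorProduct.induction_on with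
    | zero => simp
    | add u v hu hv => simp only [map_add, hu, hv]
    | tmul t c => rfl
  have hF : Function.Surjective F := fun z => by
    obtain ⟨x, hx⟩ := LinearMap.lTensor_surjective K (g := (q : C →ₗ[k] Q))
      Ideal.Quotient.mk_surjective (E.symm z)
    refine ⟨x, ?_⟩
    change E (mapBC K q x) = z
    rw [hmap x]
    exact (congrArg E hx).trans (E.apply_symm_apply z)
  have hker : RingHom.ker F = Ideal.span {(1 : K) ⊗ₜ[k] e} := by
    have h1 := Algebra.TensorProduct.lTensor_ker (A := K) (q : C →ₐ[k] Q) Ideal.Quotient.mk_surjective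
    rw [show RingHom.ker (q : C →ₐ[k] Q) = Ideal.span {e} from Ideal.mk_ker, Ideal.map_span,
      Set.image_singleton] at h1
    refine le_antisymm (fun x hx => ?_) ?_
    · refine h1.le ?_
      change Algebra.TensorProduct.map _ (q : C →ₐ[k] Q) x = 0
      rw [← hmap]
      exact EquivLike.injective E ((show E (mapBC K q x) = 0 from hx).trans (map_zero E).symm)
    · rw [Ideal.span_le, Set.singleton_subset_iff]
      change E (mapBC K q ((1 : K) ⊗ₜ[k] e)) = 0
      rw [mapBC_tmul, show q e = 0 from Ideal.Quotient.eq_zero_iff_mem.2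
        (Ideal.mem_span_singleton_self e), TensorProduct.tmul_zero, map_zero]
  let i : C →ₐ[k] K ⊗[k] C := Algebra.TensorProduct.includeRight
  obtain ⟨N, hN⟩ := eq_zero_of_algClosed F hF (he.map i) hker (i a) (i y) fun n hn => by
    obtain ⟨j, hj⟩ := hy n hn
    refine ⟨j, ?_⟩
    rw [← map_pow, ← map_mul, torsionIdeal_baseChange]
    exact Ideal.mem_map_of_mem i hj
  refine ⟨N, one_tmul_injective_of_faithfullyFlat (R := k) K C ?_⟩
  rw [← map_pow, ← map_mul] at hN
  exact hN.trans (TensorProduct.tmul_zero _ _).symm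

end Groth.Sga3.DensityOpen
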