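import Groth.Agent.AlgGrp1.Points
import Groth.Agent.AlgGrp1.Basic
import Mathlib.GroupTheory.Solvable
import Mathlib.GroupTheory.Nilpotent

/-!
Iterated commutator morphisms of a group scheme; vanishing of the derived and lower central series is
detected on points over an algebraically closed field.
-/

set_option autoImplicit false

universe u v

open CategoryTheory MonoidalCategory CartesianMonoidalCategory MonObj GrpObj AlgebraicGeometry
open scoped commutatorElement

namespace Groth.Sga3.PointsSolvable

section Abstract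

variable {H : Type v} [Group H]

/-- Commutators of two sets generate the commutator of the subgroups they generate, up to
normal closure. -/
theorem commutator_closure_le {A B : Set H} {N : Subgroup H} [N.Normal]
    (h : ∀ a ∈ A, ∀ b ∈ B, ⁅a, b⁆ ∈ N) : ⁅Subgroup.closure A, Subgroup.closure B⁆ ≤ N := by
  have hmap : (⁅Subgroup.closure A, Subgroup.closure B⁆).map (QuotientGroup.mk' N) = ⊥ := by
    rw [Subgroup.map_commutator, MonoidHom.map_closure, MonoidHom.map_closure,
      Subgroup.commutator_eq_bot_iff_le_centralizer, Subgroup.centralizer_closure,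
      Subgroup.closure_le]
    rintro _ ⟨a, ha, rfl⟩
    rw [SetLike.mem_coe, Subgroup.mem_centralizer_iff]
    rintro _ ⟨b, hb, rfl⟩
    have := (QuotientGroup.eq_one_iff (N := N) _).2 (h a ha b hb)
    exact (commutatorElement_eq_one_iff_mul_comm.1
      ((map_commutatorElement (QuotientGroup.mk' N) a b).symm.trans this)).symm
  exact ((Subgroup.map_eq_bot_iff _).1 hmap).trans (QuotientGroup.ker_mk' N).le

/-- The subgroup generated by a conjugation invariant set is normal. -/
theorem normal_closure_of_invariant {A : Set H} (h : ∀ a ∈ A, ∀ g : H, g * a * g⁻¹ ∈ A) :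
    (Subgroup.closure A).Normal where
  conj_mem a ha g := by
    have : MulAut.conj g a ∈ (Subgroup.closure A).map (MulAut.conj g).toMonoidHom :=
      Subgroup.mem_map_of_mem _ ha
    rw [MonoidHom.map_closure] at this
    refine Subgroup.closure_mono ?_ (by simpa using this)
    rintro _ ⟨b, hb, rfl⟩
    simpa using h b hb g

end Abstract

variable {k : Type u} [Field k]

local notation "Sk" => Over (Spec (CommRingCat.of k))

variable (G : Over (Spec (CommRingCat.of k))) [GrpObj G]

theorem comp_commutator {T T' : Sk} (f : T' ⟶ T) (a b : T ⟶ G) :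
    f ≫ ⁅a, b⁆ = ⁅f ≫ a, f ≫ b⁆ := by
  simp only [commutatorElement_def, MonObj.comp_mul, GrpObj.comp_inv]

/-- A binary word: the sources and the morphisms of iterated commutators. -/
structure Word where
  P : Sk
  w : P ⟶ G

/-- the identity word -/
noncomputable def Word.id : Word G := ⟨G, 𝟙 G⟩

/-- the commutator of two words -/
noncomputable def Word.comm (a b : Word G) : Word G := ⟨a.P ⊗ b.P, ⁅fst a.P b.P ≫ a.w, snd a.P b.P ≫ b.w⁆⟩

/-- values of a word at `T` -/
def Word.values (a : Word G) (T : Sk) : Set (T ⟶ G) := Set.range fun x : T ⟶ a.P => x ≫ a.w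

theorem values_id (T : Sk) : (Word.id G).values G T = Set.univ :=
  Set.eq_univ_of_forall fun g => ⟨g, Category.comp_id g⟩

theorem values_comm (a b : Word G) (T : Sk) :
    (a.comm G b).values G T = Set.image2 (fun p q => ⁅p, q⁆) (a.values G T) (b.values G T) := by
  ext g
  constructor
  · rintro ⟨x, rfl⟩
    refine ⟨_, ⟨x ≫ fst a.P b.P, rfl⟩, _, ⟨x ≫ snd a.P b.P, rfl⟩, ?_⟩
    simp only [Word.comm, Category.assoc]
    exact (comp_commutator G x _ _).symm
  · rintro ⟨_, ⟨y, rfl⟩, _, ⟨z, rfl⟩, rfl⟩
    refine ⟨lift y z, ?_⟩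
    simp only [Word.comm]
    refine (comp_commutator G (lift y z) _ _).trans ?_
    rw [lift_fst_assoc, lift_snd_assoc]

theorem conj_values_comm (a b : Word G) (T : Sk)
    (ha : ∀ p ∈ a.values G T, ∀ g : T ⟶ G, g * p * g⁻¹ ∈ a.values G T)
    (hb : ∀ p ∈ b.values G T, ∀ g : T ⟶ G, g * p * g⁻¹ ∈ b.values G T) :
    ∀ p ∈ (a.comm G b).values G T, ∀ g : T ⟶ G, g * p * g⁻¹ ∈ (a.comm G b).values G T := by
  rw [values_comm]
  rintro _ ⟨p, hp, q, hq, rfl⟩ g
  exact ⟨_, ha p hp g, _, hb q hq g, (conjugate_commutatorElement p q g).symm⟩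

/-- the derived words -/
noncomputable def dWord : ℕ → Word G
  | 0 => Word.id G
  | n + 1 => (dWord n).comm G (dWord n)

/-- the lower central words -/
noncomputable def lWord : ℕ → Word G
  | 0 => Word.id G
  | n + 1 => (lWord n).comm G (Word.id G)

theorem conj_id (T : Sk) : ∀ p ∈ (Word.id G).values G T, ∀ g : T ⟶ G,
    g * p * g⁻¹ ∈ (Word.id G).values G T := fun _ _ _ => (values_id G T) ▸ Set.mem_univ _

theorem conj_dWord (T : Sk) : ∀ n, ∀ p ∈ (dWord G n).values G T, ∀ g : T ⟶ G,
    g * p * g⁻¹ ∈ (dWord G n).values G T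
  | 0 => conj_id G T
  | n + 1 => conj_values_comm G _ _ T (conj_dWord T n) (conj_dWord T n)

theorem conj_lWord (T : Sk) : ∀ n, ∀ p ∈ (lWord G n).values G T, ∀ g : T ⟶ G,
    g * p * g⁻¹ ∈ (lWord G n).values G T
  | 0 => conj_id G T
  | n + 1 => conj_values_comm G _ _ T (conj_lWord T n) (conj_id G T)

theorem derivedSeries_eq (T : Sk) : ∀ n,
    derivedSeries (T ⟶ G) n = Subgroup.closure ((dWord G n).values G T)
  | 0 => by rw [derivedSeries_zero, dWord, values_id, Subgroup.closure_univ]
  | n + 1 => by
    rw [derivedSeries_succ, derivedSeries_eq T n]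
    refine le_antisymm ?_ ?_
    · haveI := normal_closure_of_invariant (conj_dWord G T (n + 1))
      refine commutator_closure_le fun a ha b hb => Subgroup.subset_closure ?_
      rw [dWord, values_comm]
      exact ⟨a, ha, b, hb, rfl⟩
    · rw [Subgroup.closure_le, dWord, values_comm]
      rintro _ ⟨a, ha, b, hb, rfl⟩
      exact Subgroup.commutator_mem_commutator (Subgroup.subset_closure ha) (Subgroup.subset_closure hb)

theorem lowerCentralSeries_eq (T : Sk) : ∀ n,
    Subgroup.lowerCentralSeries (⊤ : Subgroup (T ⟶ G)) n = Subgroup.closure ((lWord G n).values G T)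
  | 0 => by rw [Subgroup.lowerCentralSeries_zero, lWord, values_id, Subgroup.closure_univ]
  | n + 1 => by
    rw [Subgroup.lowerCentralSeries_succ, lowerCentralSeries_eq T n]
    refine le_antisymm ?_ ?_
    · rw [← Subgroup.closure_univ]
      haveI := normal_closure_of_invariant (conj_lWord G T (n + 1))
      refine commutator_closure_le fun a ha b hb => Subgroup.subset_closure ?_
      rw [lWord, values_comm]
      exact ⟨a, ha, b, (values_id G T) ▸ hb, rfl⟩
    · rw [Subgroup.closure_le, lWord, values_comm]
      rintro _ ⟨a, ha, b, hb, rfl⟩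
      exact Subgroup.commutator_mem_commutator (Subgroup.subset_closure ha) (Subgroup.mem_top _)

variable [Smooth G.hom]

theorem smooth_word_comm (a b : Word G) [Smooth a.P.hom] [Smooth b.P.hom] :
    Smooth (a.comm G b).P.hom :=
  inferInstanceAs (Smooth (Limits.pullback.fst a.P.hom b.P.hom ≫ a.P.hom))

theorem smooth_dWord : ∀ n, Smooth (dWord G n).P.hom
  | 0 => ‹_›
  | n + 1 => haveI := smooth_dWord n; smooth_word_comm G _ _

theorem smooth_lWord : ∀ n, Smooth (lWord G n).P.hom
  | 0 => ‹_›
  | n + 1 => by
    haveI := smooth_lWord n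
    haveI : Smooth (Word.id G).P.hom := ‹Smooth G.hom›
    exact smooth_word_comm G _ _

variable (Ω : Type u) [Field Ω] [Algebra k Ω] [IsAlgClosed Ω]

/-- A word which is trivial on points over an algebraically closed field is trivial. -/
theorem word_eq_one (a : Word G) [Smooth a.P.hom]
    (h : ∀ x : Groth.AlgGrp1.specAlg k Ω ⟶ a.P, x ≫ a.w = 1) : a.w = 1 := by
  haveI := Groth.AlgGrp1.isSeparated_grpObj G
  haveI := Groth.AlgGrp1.geometricallyReduced_of_smooth a.P.hom
  exact Groth.AlgGrp1.eq_of_sepClosed_points (K := Ω) a.w 1 fun t => by rw [h, MonObj.comp_one]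

/-- A word is trivial on all points if it is on points over an algebraically closed field. -/
theorem closure_values_eq_bot (a : Word G) [Smooth a.P.hom]
    (h : Subgroup.closure (a.values G (Groth.AlgGrp1.specAlg k Ω)) = ⊥) (T : Sk) :
    Subgroup.closure (a.values G T) = ⊥ := by
  have h1 : a.w = 1 := word_eq_one G Ω a fun x =>
    Subgroup.mem_bot.1 (h ▸ Subgroup.subset_closure ⟨x, rfl⟩)
  refine (Subgroup.closure_eq_bot_iff (k := a.values G T)).2 ?_
  rintro _ ⟨x, rfl⟩
  show x ≫ a.w = 1
  rw [h1, MonObj.comp_one]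

end Groth.Sga3.PointsSolvable
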