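import Groth.Agent.Misc7.AffineGroupPoints
import Groth.Agent.Sga3.SubHopfStruct

/-!
Homomorphisms of affine groups factor as a faithfully flat one followed by a closed immersion.
-/

set_option autoImplicit false

universe u

open CategoryTheory AlgebraicGeometry MonoidalCategory CartesianMonoidalCategory Opposite
open scoped TensorProduct
open Groth.Misc7.AffineGroupPoints

noncomputable section

namespace Groth.Sga3.AffineHomFactor

variable {k : Type u} [Field k]

theorem isHopfSubalgebra_range {A B : Type u} [CommRing A] [HopfAlgebra k A] [CommRing B] [HopfAlgebra k B]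
    (ψ : A →ₐc[k] B) : SGA3.IsHopfSubalgebra k B (ψ : A →ₐ[k] B).range := by
  refine ⟨?_, ?_⟩
  · rintro _ ⟨a, rfl⟩
    refine ⟨TensorProduct.map (ψ : A →ₐ[k] B).rangeRestrict.toLinearMap
      (ψ : A →ₐ[k] B).rangeRestrict.toLinearMap (Coalgebra.comul (R := k) a), ?_⟩
    refine Eq.trans ?_ (CoalgHomClass.map_comp_comul_apply ψ a)
    generalize Coalgebra.comul (R := k) a = z
    induction z using TensorProduct.induction_on with
    | zero => simp
    | tmul p q => rfl
    | add p q hp hq => simp only [map_add, hp, hq]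
  · rintro _ ⟨a, rfl⟩
    exact ⟨HopfAlgebra.antipode k a, Groth.Sga3.SubHopfFlat.map_antipode ψ a⟩

/-- the map onto the image -/
def rangeHom {A B : Type u} [CommRing A] [HopfAlgebra k A] [CommRing B] [HopfAlgebra k B]
    (ψ : A →ₐc[k] B) :
    letI := Groth.Sga3.SubHopfStruct.hopfAlgebra (isHopfSubalgebra_range ψ)
    A →ₐc[k] (ψ : A →ₐ[k] B).range :=
  letI := Groth.Sga3.SubHopfStruct.hopfAlgebra (isHopfSubalgebra_range ψ)
  BialgHom.ofAlgHom (ψ : A →ₐ[k] B).rangeRestrict
    (AlgHom.ext fun a => CoalgHomClass.counit_comp_apply ψ a)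
    (AlgHom.ext fun a => Groth.Sga3.SubHopfStruct.jj_injective _ (by
      change Groth.Sga3.SubHopfStruct.jj (ψ : A →ₐ[k] B).range (Algebra.TensorProduct.map (ψ : A →ₐ[k] B).rangeRestrict
          (ψ : A →ₐ[k] B).rangeRestrict (Coalgebra.comul (R := k) a)) =
        Groth.Sga3.SubHopfStruct.jj (ψ : A →ₐ[k] B).range (Groth.Sga3.SubHopfStruct.comulB (isHopfSubalgebra_range ψ)
          ((ψ : A →ₐ[k] B).rangeRestrict a))
      rw [Groth.Sga3.SubHopfStruct.jj_comulB]
      refine Eq.trans ?_ (CoalgHomClass.map_comp_comul_apply ψ a)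
      generalize Coalgebra.comul (R := k) a = z
      induction z using TensorProduct.induction_on with
      | zero => simp
      | tmul p q => rfl
      | add p q hp hq => simp only [map_add, hp, hq]))

/-- factorisation of a homomorphism of affine groups -/
theorem exists_factor (E G' : Over (Spec (CommRingCat.of k))) [GrpObj E] [GrpObj G'] [IsAffine E.left]
    [IsAffine G'.left] (h : E ⟶ G') [IsMonHom h] :
    ∃ (C : Over (Spec (CommRingCat.of k))) (_ : GrpObj C) (p : E ⟶ C) (i : C ⟶ G'), IsMonHom p ∧ IsMonHom i ∧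
      p ≫ i = h ∧ Surjective p.left ∧ Flat p.left ∧ IsClosedImmersion i.left ∧ IsAffine C.left ∧
      (Function.Injective h.left.appTop.hom → IsIso i) := by
  obtain ⟨A, ⟨e⟩⟩ := exists_hopf E
  obtain ⟨A₀, ⟨e₁⟩⟩ := exists_hopf G'
  let hg : (⟨E⟩ : Grp (Over (Spec (CommRingCat.of k)))) ⟶ ⟨G'⟩ := Grp.homMk h
  have := (hopfSpec.fullyFaithful (R := CommRingCat.of k)).full
  obtain ⟨ψ', hψ'⟩ := (hopfSpec (CommRingCat.of k)).map_surjective (e.hom ≫ hg ≫ e₁.inv)
  let ψ : A₀ →ₐc[k] A := ψ'.unop.hom
  let e' : specObj A ≅ E := (Grp.forget _).mapIso e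
  let e₁' : specObj A₀ ≅ G' := (Grp.forget _).mapIso e₁
  have : IsMonHom e'.inv := inferInstanceAs (IsMonHom e.inv.hom.hom)
  have : IsMonHom e₁'.hom := inferInstanceAs (IsMonHom e₁.hom.hom.hom)
  have hmap : (e'.hom ≫ h ≫ e₁'.inv).left = Spec.map (CommRingCat.ofHom (ψ : A₀ →ₐ[k] A).toRingHom) := by
    have := congrArg (fun t => ((Grp.forget (Over (Spec (CommRingCat.of k)))).map t).left) hψ'
    exact this.symm
  let B := (ψ : A₀ →ₐ[k] A).range
  have hB := isHopfSubalgebra_range ψ
  letI := Groth.Sga3.SubHopfStruct.hopfAlgebra hB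
  let C := specObj (CommHopfAlgCat.of k B)
  let P : specObj A ⟶ C := ((hopfSpec (CommRingCat.of k)).map
      (CommHopfAlgCat.ofHom (Groth.Sga3.SubHopfStruct.incl hB) : CommHopfAlgCat.of k B ⟶ A).op).hom.hom
  let Q : C ⟶ specObj A₀ := ((hopfSpec (CommRingCat.of k)).map
      (CommHopfAlgCat.ofHom (rangeHom ψ) : A₀ ⟶ CommHopfAlgCat.of k B).op).hom.hom
  have : IsMonHom P := inferInstanceAs (IsMonHom
    ((hopfSpec (CommRingCat.of k)).map
      (CommHopfAlgCat.ofHom (Groth.Sga3.SubHopfStruct.incl hB) : CommHopfAlgCat.of k B ⟶ A).op).hom.hom)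
  have : IsMonHom Q := inferInstanceAs (IsMonHom
    ((hopfSpec (CommRingCat.of k)).map
      (CommHopfAlgCat.ofHom (rangeHom ψ) : A₀ ⟶ CommHopfAlgCat.of k B).op).hom.hom)
  have hP : P.left = Spec.map (CommRingCat.ofHom B.val.toRingHom) := rfl
  have hQ : Q.left = Spec.map (CommRingCat.ofHom (ψ : A₀ →ₐ[k] A).rangeRestrict.toRingHom) := rfl
  have hPQ : P ≫ Q = e'.hom ≫ h ≫ e₁'.inv := by
    apply Over.OverMorphism.ext
    rw [hmap, Over.comp_left, hP, hQ]
    exact (Spec.map_comp _ _).symm
  have hflat : Module.FaithfullyFlat B A := Groth.Sga3.SubHopfFlat.faithfullyFlat_range ψ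
  have : IsIso e'.inv.left := inferInstanceAs (IsIso ((Over.forget _).map e'.inv))
  have : IsIso e₁'.hom.left := inferInstanceAs (IsIso ((Over.forget _).map e₁'.hom))
  refine ⟨C, inferInstance, e'.inv ≫ P, Q ≫ e₁'.hom, inferInstance, inferInstance, ?_, ?_, ?_, ?_, ?_, ?_⟩
  · rw [Category.assoc, ← Category.assoc P, hPQ]
    simp
  · rw [Over.comp_left]
    have hs : Surjective P.left := by
      rw [hP]
      constructor
      exact PrimeSpectrum.comap_surjective_of_faithfullyFlat (A := B) (B := A)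
    exact (MorphismProperty.cancel_left_of_respectsIso @Surjective e'.inv.left P.left).2 hs
  · rw [Over.comp_left]
    have hf : Flat P.left := by
      rw [hP]
      exact (HasRingHomProperty.Spec_iff (P := @Flat)).2
        (RingHom.flat_algebraMap_iff.2 (inferInstance : Module.Flat B A))
    exact (MorphismProperty.cancel_left_of_respectsIso @Flat e'.inv.left P.left).2 hf
  · rw [Over.comp_left]
    have : IsClosedImmersion Q.left := by
      rw [hQ]
      exact IsClosedImmersion.spec_of_surjective _ (ψ : A₀ →ₐ[k] A).rangeRestrict_surjective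
    infer_instance
  · exact inferInstanceAs (IsAffine (Spec _))
  · intro hinj
    have hψ : Function.Injective ψ := by
      have h1 : Function.Injective (e'.hom ≫ h ≫ e₁'.inv).left.appTop.hom := by
        have : IsIso e'.hom.left := inferInstanceAs (IsIso ((Over.forget _).map e'.hom))
        have : IsIso e₁'.inv.left := inferInstanceAs (IsIso ((Over.forget _).map e₁'.inv))
        rw [Over.comp_left, Over.comp_left, Scheme.Hom.comp_appTop, Scheme.Hom.comp_appTop]
        have : IsIso e'.hom.left.appTop := inferInstanceAs (IsIso (e'.hom.left.app ⊤))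
        have : IsIso e₁'.inv.left.appTop := inferInstanceAs (IsIso (e₁'.inv.left.app ⊤))
        exact ((ConcreteCategory.bijective_of_isIso e'.hom.left.appTop).1.comp hinj).comp
          (ConcreteCategory.bijective_of_isIso e₁'.inv.left.appTop).1
      rw [hmap] at h1
      intro x y hxy
      have hx := ConcreteCategory.congr_hom
        (Scheme.ΓSpecIso_inv_naturality (CommRingCat.ofHom (ψ : A₀ →ₐ[k] A).toRingHom)) x
      have hy := ConcreteCategory.congr_hom
        (Scheme.ΓSpecIso_inv_naturality (CommRingCat.ofHom (ψ : A₀ →ₐ[k] A).toRingHom)) y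
      refine (ConcreteCategory.bijective_of_isIso (Scheme.ΓSpecIso (CommRingCat.of A₀)).inv).1 (h1 ?_)
      refine hx.symm.trans (Eq.trans ?_ hy)
      exact congrArg (Scheme.ΓSpecIso (CommRingCat.of A)).inv hxy
    have : IsIso Q.left := by
      rw [hQ]
      have : IsIso (CommRingCat.ofHom (ψ : A₀ →ₐ[k] A).rangeRestrict.toRingHom) :=
        (ConcreteCategory.isIso_iff_bijective _).2
          ⟨fun x y hxy => hψ (congrArg Subtype.val hxy), (ψ : A₀ →ₐ[k] A).rangeRestrict_surjective⟩
      exact inferInstanceAs (IsIso (Spec.map (CommRingCat.ofHom (ψ : A₀ →ₐ[k] A).rangeRestrict.toRingHom)))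
    have : IsIso Q := (isIso_iff_of_reflects_iso Q (Over.forget _)).1 this
    infer_instance

end Groth.Sga3.AffineHomFactor
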