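import Groth.Agent.GrpLCI.Group
import Groth.Agent.Syntomic.CMSkLocal
import Groth.Agent.S1349
import Mathlib.RingTheory.QuasiFinite.Basic
import Mathlib.RingTheory.LocalRing.Module

/-!
After a finite free local extension of an artinian base, the points over a given closed point of a flat
group scheme are strictly rational.
-/

set_option autoImplicit false
set_option linter.style.haveILetI false
universe u

open CategoryTheory CategoryTheory.Limits AlgebraicGeometry IsLocalRing
open scoped TensorProduct

noncomputable section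

namespace Groth.Sga3.StrictlyRational

variable {A : Type u} [CommRing A] [IsArtinianRing A] [IsLocalRing A]

omit [IsArtinianRing A] in
theorem isMaximal_ker {B K : Type u} [CommRing B] [Algebra A B] [Module.Finite A B] [IsArtinianRing B]
    [CommRing K] [IsDomain K] [Algebra A K] (c : B →ₐ[A] K) : (RingHom.ker c).IsMaximal :=
  haveI := RingHom.ker_isPrime c
  IsArtinianRing.isMaximal_of_isPrime _

/-- finitely many field valued points of a finite free algebra come from one finite free local extension -/
theorem exists_local_lift {B K : Type u} [CommRing B] [Algebra A B] [Module.Finite A B] [Module.Free A B]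
    [Field K] [Algebra A K] (s : Finset (B →ₐ[A] K)) :
    ∃ (A' : Type u) (_ : CommRing A') (_ : IsLocalRing A') (_ : Algebra A A') (_ : Module.Finite A A')
      (_ : Module.Free A A') (χ : A' →ₐ[A] K), ∀ c ∈ s, ∃ φ : B →ₐ[A] A', χ.comp φ = c := by
  classical
  induction s using Finset.induction_on with
  | empty =>
    exact ⟨A, inferInstance, inferInstance, inferInstance, inferInstance, inferInstance, Algebra.ofId A K,
      fun c hc => absurd hc (Finset.notMem_empty c)⟩
  | insert c t _ ih =>
    obtain ⟨A₁, _, _, _, _, _, χ, hχ⟩ := ih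
    let X : A₁ ⊗[A] B →ₐ[A] K := Algebra.TensorProduct.productMap χ c
    haveI : IsArtinianRing (A₁ ⊗[A] B) := IsArtinianRing.of_finite A _
    haveI : (RingHom.ker X).IsMaximal := isMaximal_ker X
    let T := Localization.AtPrime (RingHom.ker X)
    have hloc : Function.Surjective (algebraMap (A₁ ⊗[A] B) T) :=
      IsArtinianRing.localization_surjective (RingHom.ker X).primeCompl T
    haveI : Module.Finite (A₁ ⊗[A] B) T := Module.Finite.of_surjective (Algebra.linearMap _ T) hloc
    haveI : Module.Finite A T := Module.Finite.trans (A₁ ⊗[A] B) T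
    haveI : Module.Flat (A₁ ⊗[A] B) T := IsLocalization.flat T (RingHom.ker X).primeCompl
    haveI : Module.Flat A T := Module.Flat.trans A (A₁ ⊗[A] B) T
    haveI : Module.Free A T := Module.free_of_flat_of_isLocalRing
    let χ' : T →ₐ[A] K := IsLocalization.liftAlgHom (M := (RingHom.ker X).primeCompl) (f := X)
      fun y => isUnit_iff_ne_zero.2 y.2
    have hχ' : ∀ z, χ' (algebraMap (A₁ ⊗[A] B) T z) = X z := fun z => IsLocalization.lift_eq _ _
    let q : A₁ ⊗[A] B →ₐ[A] T := IsScalarTower.toAlgHom A _ T
    refine ⟨T, inferInstance, inferInstance, inferInstance, inferInstance, inferInstance, χ', fun d hd => ?_⟩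
    rcases Finset.mem_insert.1 hd with rfl | hd
    · exact ⟨q.comp Algebra.TensorProduct.includeRight, AlgHom.ext fun b => (hχ' _).trans (by simp [X])⟩
    · obtain ⟨φ, hφ⟩ := hχ d hd
      refine ⟨q.comp (Algebra.TensorProduct.includeLeft.comp φ), AlgHom.ext fun b => (hχ' _).trans ?_⟩
      simp [X, ← hφ]

/-- all field valued points of a finite free algebra become rational over one extension -/
theorem exists_split (B : Type u) [CommRing B] [Algebra A B] [Module.Finite A B] [Module.Free A B] :
    ∃ (A' : Type u) (_ : CommRing A') (_ : IsLocalRing A') (_ : Algebra A A') (_ : Module.Finite A A')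
      (_ : Module.Free A A'), ∀ (L : Type u) [Field L] [IsAlgClosed L] [Algebra A L] (a : A' →ₐ[A] L)
        (b : B →ₐ[A] L), ∃ φ : B →ₐ[A] A', a.comp φ = b := by
  classical
  let k := ResidueField A
  let K := AlgebraicClosure k
  haveI : Algebra.IsIntegral A k := inferInstance
  haveI : Algebra.IsIntegral A K := Algebra.IsIntegral.trans k
  haveI : Finite (B →ₐ[A] K) := by
    haveI : Module.Finite K (K ⊗[A] B) := inferInstance
    exact Finite.of_equiv _ (AlgHom.liftEquiv A K B K).symm
  haveI := Fintype.ofFinite (B →ₐ[A] K)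
  obtain ⟨A', _, _, _, _, _, χ, hχ⟩ := exists_local_lift (Finset.univ : Finset (B →ₐ[A] K))
  refine ⟨A', inferInstance, inferInstance, inferInstance, inferInstance, inferInstance, ?_⟩
  intro L _ _ _ a b
  haveI : IsArtinianRing A' := IsArtinianRing.of_finite A A'
  let κ := ResidueField A'
  have hker : ∀ {M : Type u} [Field M] [Algebra A M] (g : A' →ₐ[A] M), IsLocalHom g.toRingHom := by
    intro M _ _ g
    refine ⟨fun x hx => ?_⟩
    by_contra h
    have h1 := IsLocalRing.eq_maximalIdeal (isMaximal_ker g)
    have h2 : g x = 0 := by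
      have : x ∈ RingHom.ker g := h1 ▸ h
      exact this
    exact hx.ne_zero h2
  haveI := hker χ
  haveI := hker a
  letI : Algebra κ K := (ResidueField.lift χ.toRingHom).toAlgebra
  letI : Algebra κ L := (ResidueField.lift a.toRingHom).toAlgebra
  haveI : IsScalarTower A κ K := IsScalarTower.of_algebraMap_eq fun r => (χ.commutes r).symm
  haveI : IsScalarTower A κ L := IsScalarTower.of_algebraMap_eq fun r => (a.commutes r).symm
  haveI : Algebra.IsIntegral κ K := Algebra.IsIntegral.tower_top A
  haveI : Algebra.IsAlgebraic κ K := Algebra.IsIntegral.isAlgebraic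
  let τ₀ : K →ₐ[κ] L := IsAlgClosed.lift
  let τ : K →ₐ[A] L := τ₀.restrictScalars A
  have hτ : ∀ x, τ (χ x) = a x := fun x => τ₀.commutes (residue A' x)
  have hr : ∀ y : B, ∃ z : K, τ z = b y := by
    intro y
    letI : Algebra K L := τ.toRingHom.toAlgebra
    haveI : IsScalarTower A K L := IsScalarTower.of_algebraMap_eq fun r => (τ.commutes r).symm
    have hint : IsIntegral K (b y) := ((Algebra.IsIntegral.isIntegral (R := A) y).map b).tower_top
    exact minpoly.mem_range_of_degree_eq_one K _
      (IsAlgClosed.degree_eq_one_of_irreducible K (minpoly.irreducible hint))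
  choose f hf using hr
  let c : B →ₐ[A] K := AlgHom.ofLinearMap
    { toFun := f
      map_add' := fun x y => τ.toRingHom.injective (by
        change τ (f (x + y)) = τ (f x + f y); rw [map_add, hf, hf, hf, map_add])
      map_smul' := fun r x => τ.toRingHom.injective (by
        change τ (f (r • x)) = τ (r • f x); rw [map_smul, hf, hf, map_smul]) }
    (τ.toRingHom.injective (by change τ (f 1) = τ 1; rw [hf, map_one, map_one]))
    (fun x y => τ.toRingHom.injective (by
      change τ (f (x * y)) = τ (f x * f y); rw [map_mul, hf, hf, hf, map_mul]))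
  obtain ⟨φ, hφ⟩ := hχ c (Finset.mem_univ c)
  refine ⟨φ, AlgHom.ext fun y => ?_⟩
  have := congrArg τ (AlgHom.congr_fun hφ y)
  rw [AlgHom.comp_apply, hτ] at this
  exact this.trans (hf y)

/-- a finite free local quasi-section through a closed point -/
theorem exists_finite_free_point (G : Over (Spec (CommRingCat.of A))) [GrpObj G] [Flat G.hom]
    [LocallyOfFiniteType G.hom] (x : G.left) (hx : IsClosed ({x} : Set G.left)) :
    ∃ (B : Type u) (_ : CommRing B) (_ : Algebra A B) (_ : Module.Finite A B) (_ : Module.Free A B)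
      (p : Spec (CommRingCat.of B) ⟶ G.left), p ≫ G.hom = Spec.map (CommRingCat.ofHom (algebraMap A B)) ∧
        ∀ (L : Type u) [Field L] (P : Spec (CommRingCat.of L) ⟶ G.left),
          Set.range P.base ⊆ {x} → ∃ Q, Q ≫ p = P := by
  haveI : LocallyOfFinitePresentation G.hom :=
    LocallyOfFinitePresentation.iff_locallyOfFiniteType.mpr inferInstance
  haveI hsub : Subsingleton (Spec (CommRingCat.of A)) := ⟨fun a b => PrimeSpectrum.ext
    ((IsLocalRing.eq_maximalIdeal (IsArtinianRing.isMaximal_of_isPrime a.asIdeal)).trans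
      (IsLocalRing.eq_maximalIdeal (IsArtinianRing.isMaximal_of_isPrime b.asIdeal)).symm)⟩
  have hcm : MoreMor.IsCMAt G.hom x := by
    haveI : LocallyOfFiniteType (G.hom.fiberToSpecResidueField (G.hom x)) :=
      inferInstanceAs (LocallyOfFiniteType (pullback.snd G.hom ((Spec (CommRingCat.of A)).fromSpecResidueField (G.hom x))))
    haveI : IsLocallyNoetherian (G.hom.fiber (G.hom x)) :=
      LocallyOfFiniteType.isLocallyNoetherian (G.hom.fiberToSpecResidueField (G.hom x))
    exact ⟨Flat.stalkMap G.hom x,
      Groth.Syntomic.isCM_of_isCompleteIntersection (Groth.GrpLCI.isCompleteIntersection_fiberStalk G x)⟩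
  have hcl : IsClosed ({G.hom.asFiber x} : Set ↑(G.hom.fiber (G.hom x))) := by
    have h : ({G.hom.asFiber x} : Set ↑(G.hom.fiber (G.hom x))) = G.hom.fiberι (G.hom x) ⁻¹' {x} := by
      ext w
      constructor
      · rintro rfl; exact G.hom.fiberι_asFiber x
      · intro hw
        exact (G.hom.fiberι (G.hom x)).isEmbedding.injective (hw.trans (G.hom.fiberι_asFiber x).symm)
    rw [h]
    exact hx.preimage (G.hom.fiberι (G.hom x)).continuous
  obtain ⟨V, Z, i, hi, ⟨z₀, hz₀⟩, hfl, hfp, hqf, huniq⟩ := Groth.Agent.S1349.result G.hom x hcm hcl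
  haveI : IsClosedImmersion i := hi.1
  haveI : Subsingleton Z := ⟨fun a b => by
    have ha := huniq a (Subsingleton.elim _ _)
    have hb := huniq b (Subsingleton.elim _ _)
    exact i.isEmbedding.injective (V.ι.isEmbedding.injective (ha.trans hb.symm))⟩
  haveI : IsAffine Z := by
    obtain ⟨_, ⟨U, hU, rfl⟩, hzU, -⟩ :=
      Z.isBasis_affineOpens.exists_subset_of_mem_open (Set.mem_univ z₀) isOpen_univ
    have hU' : U = ⊤ := top_le_iff.1 fun w _ => Subsingleton.elim z₀ w ▸ hzU
    haveI : IsAffine (U : Scheme.{u}) := hU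
    subst hU'
    exact IsAffine.of_isIso Z.topIso.inv
  let h := i ≫ V.ι ≫ G.hom
  let f := Spec.preimage (Z.isoSpec.inv ≫ h)
  letI : Algebra A Γ(Z, ⊤) := f.hom.toAlgebra
  have hf : Spec.map (CommRingCat.ofHom (algebraMap A Γ(Z, ⊤))) = Z.isoSpec.inv ≫ h := Spec.map_preimage _
  haveI : Algebra.QuasiFinite A Γ(Z, ⊤) := by
    have h1 : LocallyQuasiFinite (Z.isoSpec.inv ≫ h) := by
      haveI : LocallyQuasiFinite h := hqf
      infer_instance
    rw [← hf] at h1
    exact (RingHom.quasiFinite_algebraMap).1 ((HasRingHomProperty.Spec_iff (P := @LocallyQuasiFinite)).1 h1)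
  haveI : Module.Finite A Γ(Z, ⊤) := Module.Finite.of_quasiFinite
  haveI : Module.Flat A Γ(Z, ⊤) := by
    have h1 : Flat (Z.isoSpec.inv ≫ h) := MorphismProperty.comp_mem @Flat _ _ inferInstance hfl
    rw [← hf] at h1
    exact RingHom.flat_algebraMap_iff.1 ((HasRingHomProperty.Spec_iff (P := @Flat)).1 h1)
  haveI : Module.Free A Γ(Z, ⊤) := Module.free_of_flat_of_isLocalRing
  refine ⟨Γ(Z, ⊤), inferInstance, inferInstance, inferInstance, inferInstance, Z.isoSpec.inv ≫ i ≫ V.ι, ?_, ?_⟩
  · rw [hf]; simp [h]
  · intro L _ P hP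
    let j := i ≫ V.ι
    have hxj : x ∈ Set.range j := ⟨z₀, hz₀⟩
    have hPV : Set.range P ⊆ Set.range V.ι := hP.trans (Set.singleton_subset_iff.2
      ⟨i z₀, by rw [← Scheme.Hom.comp_apply]; exact hz₀⟩)
    let P' := IsOpenImmersion.lift V.ι P hPV
    have hP' : P' ≫ V.ι = P := IsOpenImmersion.lift_fac _ _ _
    haveI : Surjective (pullback.fst P' i) := ⟨fun w => by
      obtain ⟨y, hy, -⟩ := Scheme.Pullback.exists_preimage_pullback (f := P') (g := i) w z₀ (by
        apply V.ι.isEmbedding.injective
        rw [← Scheme.Hom.comp_apply, ← Scheme.Hom.comp_apply, hP']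
        exact (hP ⟨w, rfl⟩ : P w = x).trans hz₀.symm)
      exact ⟨y, hy⟩⟩
    haveI : IsIso (pullback.fst P' i) := isIso_of_isClosedImmersion_of_surjective _
    refine ⟨inv (pullback.fst P' i) ≫ pullback.snd P' i ≫ Z.isoSpec.hom, ?_⟩
    simp only [Category.assoc, Iso.hom_inv_id_assoc]
    rw [← pullback.condition_assoc, IsIso.inv_hom_id_assoc, hP']

/-- strict rationality over a finite free local extension -/
theorem exists_base (G : Over (Spec (CommRingCat.of A))) [GrpObj G] [Flat G.hom]
    [LocallyOfFiniteType G.hom] (x : G.left) (hx : IsClosed ({x} : Set G.left)) :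
    ∃ (A' : Type u) (_ : CommRing A') (_ : IsLocalRing A') (_ : Algebra A A') (_ : Module.Finite A A') (_ : Module.Free A A'),
      ∀ x' : ↥(pullback G.hom (Spec.map (CommRingCat.ofHom (algebraMap A A')))),
        (pullback.fst G.hom (Spec.map (CommRingCat.ofHom (algebraMap A A')))).base x' = x →
        ∃ s : Spec (CommRingCat.of A') ⟶ pullback G.hom (Spec.map (CommRingCat.ofHom (algebraMap A A'))),
          s ≫ pullback.snd G.hom (Spec.map (CommRingCat.ofHom (algebraMap A A'))) = 𝟙 _ ∧ x' ∈ Set.range s.base := by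
  obtain ⟨B, _, _, _, _, p, hp, hlift⟩ := exists_finite_free_point G x hx
  obtain ⟨A', _, _, _, _, _, hsplit⟩ := exists_split (A := A) B
  refine ⟨A', inferInstance, inferInstance, inferInstance, inferInstance, inferInstance, fun x' hx' => ?_⟩
  let g := Spec.map (CommRingCat.ofHom (algebraMap A A'))
  let P := pullback G.hom g
  let L := AlgebraicClosure (P.residueField x')
  let Q : Spec (CommRingCat.of L) ⟶ P :=
    Spec.map (CommRingCat.ofHom (algebraMap (P.residueField x') L)) ≫ P.fromSpecResidueField x'
  have hQ : ∀ w, Q w = x' := fun w => Scheme.fromSpecResidueField_apply x' _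
  obtain ⟨R, hR⟩ := hlift L (Q ≫ pullback.fst G.hom g) (by
    rintro _ ⟨w, rfl⟩
    rw [Set.mem_singleton_iff, Scheme.Hom.comp_apply, hQ]
    exact hx')
  let α := Spec.preimage (Q ≫ pullback.snd G.hom g)
  let β := Spec.preimage R
  have hcomm : CommRingCat.ofHom (algebraMap A A') ≫ α = CommRingCat.ofHom (algebraMap A B) ≫ β := by
    apply Spec.map_injective
    rw [Spec.map_comp, Spec.map_comp, Spec.map_preimage, Spec.map_preimage, ← hp, ← Category.assoc R, hR]
    simp only [Category.assoc]
    rw [pullback.condition]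
  letI : Algebra A L := (α.hom.comp (algebraMap A A')).toAlgebra
  let a : A' →ₐ[A] L := ⟨α.hom, fun r => rfl⟩
  let b : B →ₐ[A] L := ⟨β.hom, fun r => (congrArg (fun t => t.hom r) hcomm).symm⟩
  obtain ⟨φ, hφ⟩ := hsplit L a b
  let s : Spec (CommRingCat.of A') ⟶ P :=
    pullback.lift (Spec.map (CommRingCat.ofHom φ.toRingHom) ≫ p) (𝟙 _) (by
      rw [Category.assoc, hp, Category.id_comp, ← Spec.map_comp]
      congr 1
      ext r
      exact φ.commutes r)
  refine ⟨s, pullback.lift_snd _ _ _, ?_⟩
  have hs : Spec.map α ≫ s = Q := by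
    apply pullback.hom_ext
    · rw [Category.assoc, pullback.lift_fst, ← Category.assoc, ← Spec.map_comp,
        show CommRingCat.ofHom φ.toRingHom ≫ α = β from CommRingCat.hom_ext (congrArg AlgHom.toRingHom hφ),
        Spec.map_preimage, hR]
    · rw [Category.assoc, pullback.lift_snd, Category.comp_id, Spec.map_preimage]
  exact ⟨(Spec.map α) (IsLocalRing.closedPoint L), by rw [← Scheme.Hom.comp_apply, hs, hQ]⟩

end Groth.Sga3.StrictlyRational
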