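import Mathlib

/-!
A localisation whose base change is reduced has a basic open neighbourhood with the same property.
-/

set_option autoImplicit false

universe u

open TensorProduct

namespace Groth.Sga3.GeomRedNbhd

variable {k K B S : Type u} [Field k] [Field K] [Algebra k K] [CommRing B] [Algebra k B]
  [CommRing S] [Algebra k S] [Algebra B S] [IsScalarTower k B S]

theorem exists_kill (M : Submonoid B) [IsLocalization M S] {x : K ⊗[k] B}
    (hx : Algebra.TensorProduct.map (AlgHom.id k K) (IsScalarTower.toAlgHom k B S) x = 0) :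
    ∃ s ∈ M, (1 ⊗ₜ[k] s : K ⊗[k] B) * x = 0 := by
  classical
  let b := Module.Basis.ofVectorSpace k K
  let E := TensorProduct.equivFinsuppOfBasisLeft (N := B) b
  let E' := TensorProduct.equivFinsuppOfBasisLeft (N := S) b
  have hmap : ∀ (y : K ⊗[k] B) i,
      E' (Algebra.TensorProduct.map (AlgHom.id k K) (IsScalarTower.toAlgHom k B S) y) i = algebraMap B S (E y i) := by
    intro y i
    induction y using TensorProduct.induction_on with
    | zero => simp
    | tmul a c =>
      simp only [E, E', Algebra.TensorProduct.map_tmul, AlgHom.id_apply,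
        TensorProduct.equivFinsuppOfBasisLeft_apply_tmul_apply, IsScalarTower.coe_toAlgHom',
        Algebra.smul_def, map_mul, ← IsScalarTower.algebraMap_apply]
    | add p q hp hq => simp only [map_add, Finsupp.add_apply, hp, hq]
  have hsmul : ∀ (s : B) (y : K ⊗[k] B) i, E ((1 ⊗ₜ[k] s) * y) i = s * E y i := by
    intro s y i
    induction y using TensorProduct.induction_on with
    | zero => simp
    | tmul a c =>
      simp only [E, Algebra.TensorProduct.tmul_mul_tmul, one_mul,
        TensorProduct.equivFinsuppOfBasisLeft_apply_tmul_apply, mul_smul_comm]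
    | add p q hp hq => simp only [mul_add, map_add, Finsupp.add_apply, hp, hq]
  have hi : ∀ i, ∃ s : M, (s : B) * E x i = 0 := fun i => by
    have h := hmap x i
    rw [hx, map_zero, Finsupp.zero_apply, eq_comm, IsLocalization.map_eq_zero_iff M S] at h
    exact h
  choose s hs using hi
  refine ⟨∏ i ∈ (E x).support, (s i : B), prod_mem fun i _ => (s i).2, E.injective (Finsupp.ext fun i => ?_)⟩
  rw [hsmul, map_zero, Finsupp.zero_apply]
  by_cases h : i ∈ (E x).support
  · rw [← Finset.mul_prod_erase _ _ h, mul_comm (s i : B), mul_assoc, hs, mul_zero]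
  · rw [Finsupp.notMem_support_iff.1 h, mul_zero]

theorem exists_frac (M : Submonoid B) [IsLocalization M S] (x : K ⊗[k] S) :
    ∃ m ∈ M, ∃ y : K ⊗[k] B, (1 ⊗ₜ[k] algebraMap B S m : K ⊗[k] S) * x =
      Algebra.TensorProduct.map (AlgHom.id k K) (IsScalarTower.toAlgHom k B S) y := by
  induction x using TensorProduct.induction_on with
  | zero => exact ⟨1, M.one_mem, 0, by simp⟩
  | tmul a c =>
    obtain ⟨⟨r, m⟩, h⟩ := IsLocalization.surj M c
    refine ⟨m, m.2, a ⊗ₜ r, ?_⟩
    simp only [Algebra.TensorProduct.tmul_mul_tmul, one_mul, Algebra.TensorProduct.map_tmul, AlgHom.id_apply,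
      IsScalarTower.coe_toAlgHom', mul_comm _ c, h]
  | add p q hp hq =>
    obtain ⟨m, hm, y, hy⟩ := hp
    obtain ⟨m', hm', y', hy'⟩ := hq
    refine ⟨m * m', M.mul_mem hm hm', (1 ⊗ₜ[k] m') * y + (1 ⊗ₜ[k] m) * y', ?_⟩
    simp only [map_add, map_mul, Algebra.TensorProduct.map_tmul, AlgHom.id_apply,
      IsScalarTower.coe_toAlgHom']
    rw [← hy, ← hy']
    have e : (1 ⊗ₜ[k] (algebraMap B S m * algebraMap B S m') : K ⊗[k] S) =
        (1 ⊗ₜ[k] algebraMap B S m) * (1 ⊗ₜ[k] algebraMap B S m') := by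
      rw [Algebra.TensorProduct.tmul_mul_tmul, one_mul]
    rw [e]
    ring

/-- reducedness of the base change spreads from a local ring to a basic open -/
theorem exists_reduced_away [Algebra.FiniteType k B] (q : Ideal B) [q.IsPrime] [IsLocalization.AtPrime S q]
    (hred : IsReduced (K ⊗[k] S)) :
    ∃ f ∉ q, IsReduced (K ⊗[k] Localization.Away f) := by
  classical
  have : IsNoetherianRing (K ⊗[k] B) := Algebra.FiniteType.isNoetherianRing K _
  obtain ⟨t, ht⟩ := IsNoetherian.noetherian (nilradical (K ⊗[k] B))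
  have hker : ∀ n ∈ t, ∃ s ∈ q.primeCompl, (1 ⊗ₜ[k] s : K ⊗[k] B) * n = 0 := fun n hn => by
    have hn' : IsNilpotent n := by
      rw [← mem_nilradical, ← ht]
      exact Ideal.subset_span hn
    refine exists_kill (K := K) (S := S) q.primeCompl (x := n) ?_
    exact (hn'.map (Algebra.TensorProduct.map (AlgHom.id k K) (IsScalarTower.toAlgHom k B S))).eq_zero
  choose! s hs hs0 using hker
  let f : B := ∏ n ∈ t, s n
  refine ⟨f, fun hf => (prod_mem fun n hn => hs n hn : f ∈ q.primeCompl) hf, ⟨fun x hx => ?_⟩⟩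
  have hf0 : ∀ n ∈ nilradical (K ⊗[k] B), (1 ⊗ₜ[k] f : K ⊗[k] B) * n = 0 := by
    intro n hn
    rw [← ht] at hn
    induction hn using Submodule.span_induction with
    | mem n hn =>
      have e : (1 ⊗ₜ[k] f : K ⊗[k] B) = (1 ⊗ₜ[k] (∏ i ∈ t.erase n, s i)) * (1 ⊗ₜ[k] s n) := by
        rw [Algebra.TensorProduct.tmul_mul_tmul, one_mul, Finset.prod_erase_mul _ _ hn]
      rw [e, mul_assoc, hs0 n hn, mul_zero]
    | zero => simp
    | add a c _ _ ha hc => rw [mul_add, ha, hc, add_zero]
    | smul r a _ ha => rw [smul_eq_mul, mul_left_comm, ha, mul_zero]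
  let φ := Algebra.TensorProduct.map (AlgHom.id k K) (IsScalarTower.toAlgHom k B (Localization.Away f))
  have hunit : ∀ m ∈ Submonoid.powers f, IsUnit (1 ⊗ₜ[k] algebraMap B (Localization.Away f) m : K ⊗[k] _) :=
    fun m hm => ((IsLocalization.map_units (Localization.Away f) ⟨m, hm⟩).map
      (Algebra.TensorProduct.includeRight : Localization.Away f →ₐ[k] K ⊗[k] Localization.Away f))
  obtain ⟨m, hm, y, hy⟩ := exists_frac (K := K) (S := Localization.Away f) (Submonoid.powers f) x
  have hy0 : IsNilpotent (φ y) := by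
    rw [show φ y = _ from hy.symm]
    exact (Commute.all _ _).isNilpotent_mul_left hx
  obtain ⟨N, hN⟩ := hy0
  rw [← map_pow] at hN
  obtain ⟨j, hj, hjy⟩ := exists_kill (K := K) (S := Localization.Away f) (Submonoid.powers f) hN
  have hnil : IsNilpotent ((1 ⊗ₜ[k] j : K ⊗[k] B) * y) := ⟨N + 1, by
    rw [mul_pow, pow_succ (1 ⊗ₜ[k] j : K ⊗[k] B), pow_succ y, mul_mul_mul_comm]
    calc _ = ((1 ⊗ₜ[k] j : K ⊗[k] B) ^ N * y) * ((1 ⊗ₜ[k] j : K ⊗[k] B) * y ^ N) := by ring
      _ = 0 := by rw [hjy, mul_zero]⟩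
  have h1 := congrArg φ (hf0 _ (mem_nilradical.2 hnil))
  rw [map_zero, map_mul, map_mul] at h1
  simp only [φ, Algebra.TensorProduct.map_tmul, AlgHom.id_apply, IsScalarTower.coe_toAlgHom'] at h1
  rw [(hunit f (Submonoid.mem_powers f)).mul_right_eq_zero, (hunit j hj).mul_right_eq_zero] at h1
  have h2 : (1 ⊗ₜ[k] algebraMap B (Localization.Away f) m : K ⊗[k] _) * x = 0 := hy.trans h1
  exact (hunit m hm).mul_right_eq_zero.1 h2

end Groth.Sga3.GeomRedNbhd
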