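import Groth.Agent.GrpschSep.HomogeneousFibre
import Groth.Agent.Calg4.MonoFactor.Over
import Mathlib.AlgebraicGeometry.Fiber

/-!
Products of two copies of a map hitting every maximal point of every fibre of a flat group scheme
cover it.
-/

set_option autoImplicit false
set_option linter.style.haveILetI false
universe u

open CategoryTheory MonoidalCategory CartesianMonoidalCategory MonObj GrpObj AlgebraicGeometry
open CategoryTheory.Limits

noncomputable section

namespace Groth.Sga3.MulFppfCover

variable {S : Scheme.{u}} {G : Over S} [GrpObj G]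

/-- an open set meeting every fibre densely has square everything -/
theorem exists_mul (O : Set G.left) (hO : IsOpen O)
    (hd : ∀ s, Dense ((G.hom.fiberι s) ⁻¹' O)) (g : G.left) :
    ∃ z : ↥(G ⊗ G).left, (fst G G).left.base z ∈ O ∧ (snd G G).left.base z ∈ O ∧ μ[G].left.base z = g := by
  let K := AlgebraicClosure (G.left.residueField g)
  let P : Spec (CommRingCat.of K) ⟶ G.left :=
    Spec.map (CommRingCat.ofHom (algebraMap (G.left.residueField g) K)) ≫ G.left.fromSpecResidueField g
  let t : Spec (CommRingCat.of K) ⟶ S := P ≫ G.hom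
  let gT : Over.mk t ⟶ G := Over.homMk P rfl
  let s : S := t (IsLocalRing.closedPoint K)
  obtain ⟨q, hq, -, -, hqo⟩ := Groth.GrpschSep.exists_toFibre G t s
    (Spec.map (Scheme.descResidueField (Scheme.stalkClosedPointTo t)))
    (Scheme.descResidueField_stalkClosedPointTo_fromSpecResidueField _ _ _)
  have hdf : Dense ((fst G (Over.mk t)).left ⁻¹' O) := by
    rw [← hq, show ((q ≫ G.hom.fiberι s) ⁻¹' O : Set _) = q ⁻¹' ((G.hom.fiberι s) ⁻¹' O) from rfl]
    exact (hd s).preimage q.isOpenMap
  let b : G ⊗ Over.mk t ⟶ G := (fst _ _)⁻¹ * (snd _ _ ≫ gT)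
  let L : G ⊗ Over.mk t ≅ G ⊗ Over.mk t :=
    { hom := lift b (snd _ _)
      inv := lift ((snd _ _ ≫ gT) * (fst _ _)⁻¹) (snd _ _)
      hom_inv_id := by
        apply CartesianMonoidalCategory.hom_ext <;> simp [b, MonObj.comp_mul, GrpObj.comp_inv]
      inv_hom_id := by
        apply CartesianMonoidalCategory.hom_ext <;> simp [b, MonObj.comp_mul, GrpObj.comp_inv] }
  haveI : IsIso L.hom.left := ((Over.forget _).mapIso L).isIso_hom
  have hb : b = L.hom ≫ fst _ _ := (lift_fst _ _).symm
  have hdb : Dense (b.left ⁻¹' O) := by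
    rw [hb, Over.comp_left]
    exact hdf.preimage L.hom.left.isOpenEmbedding.isOpenMap
  haveI : Nonempty (G ⊗ Over.mk t).left :=
    ⟨(lift gT (𝟙 _)).left (IsLocalRing.closedPoint K)⟩
  obtain ⟨w, hwU, hwV⟩ := hdb.inter_open_nonempty _
    (hO.preimage (fst G (Over.mk t)).left.continuous) hdf.nonempty
  let y : G ⊗ Over.mk t ⟶ G ⊗ G := lift (fst _ _) b
  refine ⟨y.left w, ?_, ?_, ?_⟩
  · rw [← Scheme.Hom.comp_apply, ← Over.comp_left, lift_fst]; exact hwU
  · rw [← Scheme.Hom.comp_apply, ← Over.comp_left, lift_snd]; exact hwV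
  · have h : y ≫ μ[G] = snd _ _ ≫ gT := by
      rw [show y ≫ μ[G] = fst _ _ * b from rfl]; simp [b]
    rw [← Scheme.Hom.comp_apply, ← Over.comp_left, h, Over.comp_left, Scheme.Hom.comp_apply]
    exact Scheme.fromSpecResidueField_apply g _

/-- multiplication inherits properties of the structure map -/
theorem mul_left_prop (P : MorphismProperty Scheme.{u}) [P.IsStableUnderBaseChange]
    [P.RespectsIso] (hG : P G.hom) : P μ[G].left := by
  let L : G ⊗ G ≅ G ⊗ G :=
    { hom := lift (fst _ _ * snd _ _) (snd _ _)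
      inv := lift (fst _ _ * (snd _ _)⁻¹) (snd _ _)
      hom_inv_id := by
        apply CartesianMonoidalCategory.hom_ext <;> simp [MonObj.comp_mul, GrpObj.comp_inv]
      inv_hom_id := by
        apply CartesianMonoidalCategory.hom_ext <;> simp [MonObj.comp_mul, GrpObj.comp_inv] }
  haveI : IsIso L.hom.left := ((Over.forget _).mapIso L).isIso_hom
  have h : μ[G] = L.hom ≫ fst G G := by
    rw [lift_fst, Hom.mul_def]; simp
  rw [h, Over.comp_left]
  exact (P.cancel_left_of_respectsIso L.hom.left _).2 (Groth.Calg4.MonoFactor.fst_left_prop P G hG)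

/-- the product map of a map hitting the maximal points of all fibres -/
theorem mul_comp_prod_cover {X : Over S} [LocallyOfFinitePresentation G.hom] [Flat G.hom]
    [LocallyOfFinitePresentation X.hom] (f : X ⟶ G)
    (hf : ∀ (s : S) (g : ↥(G.hom.base ⁻¹' {s})), closure {g} ∈ irreducibleComponents ↥(G.hom.base ⁻¹' {s}) →
      ∃ x : X.left, f.left.base x = g.1 ∧ (f.left.stalkMap x).hom.Flat)
    [Flat f.left] :
    Flat ((f ⊗ₘ f) ≫ μ[G]).left ∧ LocallyOfFinitePresentation ((f ⊗ₘ f) ≫ μ[G]).left ∧
      Surjective ((f ⊗ₘ f) ≫ μ[G]).left := by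
  have hl : LocallyOfFinitePresentation f.left := Groth.Calg4.MonoFactor.lfp_left f
  refine ⟨?_, ?_, ⟨fun g => ?_⟩⟩
  · exact MorphismProperty.comp_mem @Flat _ _
      (Groth.Calg4.MonoFactor.tensorHom_left_prop @Flat ‹Flat f.left› ‹Flat f.left›)
      (mul_left_prop @Flat ‹Flat G.hom›)
  · exact MorphismProperty.comp_mem @LocallyOfFinitePresentation _ _
      (Groth.Calg4.MonoFactor.tensorHom_left_prop @LocallyOfFinitePresentation hl hl)
      (mul_left_prop @LocallyOfFinitePresentation ‹LocallyOfFinitePresentation G.hom›)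
  · haveI := hl
    have hO : IsOpen (Set.range f.left.base) := f.left.isOpenMap.isOpen_range
    have hd : ∀ s, Dense ((G.hom.fiberι s) ⁻¹' Set.range f.left.base) := by
      intro s p
      obtain ⟨p₀, hp₀⟩ := QuasiSober.sober (isIrreducible_irreducibleComponent (x := p))
        isClosed_irreducibleComponent
      let e := G.hom.fiberHomeo s
      have hc : closure {e p₀} ∈ irreducibleComponents ↥(G.hom.base ⁻¹' {s}) := by
        rw [show closure {e p₀} = e '' closure {p₀} by rw [e.image_closure, Set.image_singleton], hp₀.def]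
        obtain ⟨hi, hmax⟩ := irreducibleComponent_mem_irreducibleComponents p
        refine ⟨hi.image e e.continuous.continuousOn, fun t ht hle z hz => ⟨e.symm z, ?_, e.apply_symm_apply z⟩⟩
        refine hmax (ht.image e.symm e.symm.continuous.continuousOn) (fun y hy => ?_) ⟨z, hz, rfl⟩
        exact ⟨e y, hle ⟨y, hy, rfl⟩, e.symm_apply_apply y⟩
      obtain ⟨x, hx, -⟩ := hf s (e p₀) hc
      refine closure_mono (Set.singleton_subset_iff.2 ?_) (hp₀.def.symm ▸ mem_irreducibleComponent : p ∈ closure {p₀})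
      exact ⟨x, hx.trans (G.hom.fiberHomeo_apply s p₀)⟩
    obtain ⟨z, hz₁, hz₂, hz⟩ := exists_mul _ hO hd g
    obtain ⟨z', hz'⟩ : z ∈ Set.range (f ⊗ₘ f).left.base := by
      rw [Over.tensorHom_left, Scheme.Pullback.range_map]
      exact ⟨hz₁, hz₂⟩
    exact ⟨z', by rw [Over.comp_left, Scheme.Hom.comp_apply]; exact (congrArg _ hz').trans hz⟩

end Groth.Sga3.MulFppfCover
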