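import Groth.Agent.Sga3.FrobDescent
import Groth.Agent.Sga3.ConvPoints
import Mathlib.FieldTheory.Perfect
import Mathlib.Algebra.Polynomial.Expand

/-!
Conjugacy of the sections of an extension of a diagonalisable group by a unipotent group over an
algebraically closed field (SGA 3 XVII 5.1.1), in Hopf form, when the quotient or the kernel is
smooth.
-/

set_option autoImplicit false
set_option linter.unusedSectionVars false

universe u

open TensorProduct Coalgebra WithConv
open Groth.ComodLib (lslice lslice_tmul lslice_lTensor eq_zero_of_lslice slice slice_tmul)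
open Groth.Sga3.UnipotentExt

noncomputable section

namespace Groth.Sga3.SectionConj

variable {k : Type u} [Field k]

section Points

variable {A : Type u} [CommRing A] [HopfAlgebra k A] {T T' : Type u} [CommRing T] [Algebra k T]
  [CommRing T'] [Algebra k T']

theorem eq_pinv {f : A →ₐ[k] T} {g : WithConv (A →ₐ[k] T)} (h : toConv f * g = 1) : g = pinv f :=
  (left_inv_eq_right_inv (pinv_mul f) h).symm

theorem pinv_one : pinv (1 : WithConv (A →ₐ[k] T)).ofConv = 1 :=
  (eq_pinv (f := (1 : WithConv (A →ₐ[k] T)).ofConv) (mul_one _)).symm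

theorem pinv_mul_rev (f g : A →ₐ[k] T) :
    pinv (toConv f * toConv g).ofConv = pinv g * pinv f :=
  (eq_pinv (f := (toConv f * toConv g).ofConv) (by
    change toConv f * toConv g * (pinv g * pinv f) = 1
    rw [mul_assoc, ← mul_assoc (toConv g), mul_pinv, one_mul, mul_pinv])).symm

theorem postcomp_pinv (h : T →ₐ[k] T') (f : A →ₐ[k] T) :
    toConv (h.comp (pinv f).ofConv) = pinv (h.comp f) := rfl

theorem postcomp_one' (h : T →ₐ[k] T') :
    toConv (h.comp (1 : WithConv (A →ₐ[k] T)).ofConv) = 1 :=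
  WithConv.ofConv_injective (AlgHom.ext fun a => h.commutes _)

/-- a rational point as a point over `T` -/
def pt (T : Type u) [CommRing T] [Algebra k T] (u : A →ₐ[k] k) : WithConv (A →ₐ[k] T) :=
  toConv ((Algebra.ofId k T).comp u)

theorem postcomp_pt (h : T →ₐ[k] T') (u : A →ₐ[k] k) : toConv (h.comp (pt T u).ofConv) = pt T' u :=
  WithConv.ofConv_injective (AlgHom.ext fun _ => h.commutes _)

theorem pt_mul (u v : A →ₐ[k] k) : pt T (toConv u * toConv v).ofConv = pt T u * pt T v :=
  postcomp_mul (Algebra.ofId k T) (toConv u) (toConv v)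

theorem pt_counit : pt T (Bialgebra.counitAlgHom k A) = 1 := rfl

theorem comp_pinv {A' : Type u} [CommRing A'] [HopfAlgebra k A'] (q : A →ₐc[k] A') (f : A' →ₐ[k] T) :
    precomp q (pinv f) = pinv (f.comp (q : A →ₐ[k] A')) :=
  WithConv.ofConv_injective (AlgHom.ext fun a => congrArg f (HopfKer.map_antipode q a).symm)

theorem mul_apply_crossed {χ g : A} (hg : comul (R := k) g = g ⊗ₜ 1 + χ ⊗ₜ g)
    (f h : WithConv (A →ₐ[k] T)) :
    (f * h).ofConv g = f.ofConv g + f.ofConv χ * h.ofConv g := by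
  change (Algebra.TensorProduct.lmul' k).comp (Algebra.TensorProduct.map f.ofConv h.ofConv)
    (comul (R := k) g) = _
  rw [hg, map_add]
  simp

theorem mul_apply_grouplike {χ : A} (hχ : IsGroupLikeElem k χ) (f h : WithConv (A →ₐ[k] T)) :
    (f * h).ofConv χ = f.ofConv χ * h.ofConv χ := by
  change (Algebra.TensorProduct.lmul' k).comp (Algebra.TensorProduct.map f.ofConv h.ofConv)
    (comul (R := k) χ) = _
  rw [hχ.comul_eq_tmul_self]
  simp

/-- a conjugate of a point by a rational point -/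
def conjP (u : A →ₐ[k] k) (f : WithConv (A →ₐ[k] T)) : WithConv (A →ₐ[k] T) :=
  pt T u * f * pinv (pt T u).ofConv

theorem postcomp_conjP (h : T →ₐ[k] T') (u : A →ₐ[k] k) (f : WithConv (A →ₐ[k] T)) :
    toConv (h.comp (conjP u f).ofConv) = conjP u (toConv (h.comp f.ofConv)) := by
  rw [conjP, postcomp_mul, postcomp_mul, postcomp_pt, postcomp_pinv, conjP]
  congr 2
  exact congrArg WithConv.ofConv (postcomp_pt h u)

theorem conjP_conjP (u v : A →ₐ[k] k) (f : WithConv (A →ₐ[k] T)) :
    conjP u (conjP v f) = conjP (toConv u * toConv v).ofConv f := by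
  rw [conjP, conjP, conjP, pt_mul,
    show (pt T u * pt T v) = toConv (pt T u).ofConv * toConv (pt T v).ofConv from rfl, pinv_mul_rev]
  simp only [toConv_ofConv, mul_assoc]

theorem conjP_counit (f : WithConv (A →ₐ[k] T)) : conjP (Bialgebra.counitAlgHom k A) f = f := by
  rw [conjP, pt_counit, pinv_one, one_mul, mul_one]

theorem precomp_conjP {A' : Type u} [CommRing A'] [HopfAlgebra k A'] (q : A →ₐc[k] A')
    (u : A' →ₐ[k] k) (f : WithConv (A' →ₐ[k] T)) :
    precomp q (conjP u f) = conjP (u.comp (q : A →ₐ[k] A')) (precomp q f) := by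
  rw [conjP, map_mul, map_mul, comp_pinv, conjP]
  rfl

theorem conjP_apply {χ g : A} (hχ : IsGroupLikeElem k χ) (hg : comul (R := k) g = g ⊗ₜ 1 + χ ⊗ₜ g)
    (hεg : counit (R := k) g = 0) {u : A →ₐ[k] k} (hu : u χ = 1) (f : WithConv (A →ₐ[k] T)) :
    (conjP u f).ofConv g = u g • 1 + f.ofConv g - u g • f.ofConv χ := by
  have hi : (pinv (pt T u).ofConv).ofConv g = -(u g • 1) := by
    have h := congrArg (fun x : WithConv (A →ₐ[k] T) => x.ofConv g) (mul_pinv (pt T u).ofConv)
    rw [mul_apply_crossed hg] at h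
    have h1 : (1 : WithConv (A →ₐ[k] T)).ofConv g = 0 := by
      change algebraMap k T (counit (R := k) g) = 0
      rw [hεg, map_zero]
    rw [h1] at h
    simp only [pt, ofConv_toConv, AlgHom.comp_apply, hu, map_one, one_mul] at h
    rw [eq_neg_iff_add_eq_zero, add_comm, ← Algebra.algebraMap_eq_smul_one]
    exact h
  rw [conjP, mul_apply_crossed hg, mul_apply_crossed hg, mul_apply_grouplike hχ, hi]
  simp only [pt, ofConv_toConv, AlgHom.comp_apply, Algebra.ofId_apply, hu, map_one, one_mul,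
    Algebra.algebraMap_eq_smul_one]
  rw [mul_neg, mul_smul_comm, mul_one, sub_eq_add_neg]

/-- conjugation by a rational point, as a bialgebra map -/
def conjHom (u : A →ₐ[k] k) : A →ₐc[k] A := BialgHom.ofAlgHom (conjP u (toConv (AlgHom.id k A))).ofConv
  (by
    refine congrArg WithConv.ofConv (?_ : toConv ((Bialgebra.counitAlgHom k A).comp
      (conjP u (toConv (AlgHom.id k A))).ofConv) = toConv (Bialgebra.counitAlgHom k A))
    rw [postcomp_conjP, ofConv_toConv, AlgHom.comp_id, conjP,
      show toConv (Bialgebra.counitAlgHom k A) = (1 : WithConv (A →ₐ[k] k)) from rfl, mul_one]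
    exact mul_pinv _)
  (by
    let iL : A →ₐ[k] A ⊗[k] A := Algebra.TensorProduct.includeLeft
    let iR : A →ₐ[k] A ⊗[k] A := Algebra.TensorProduct.includeRight
    let c := (conjP u (toConv (AlgHom.id k A))).ofConv
    have hΔ : toConv (Bialgebra.comulAlgHom k A) = toConv iL * toConv iR := by
      refine WithConv.ofConv_injective (AlgHom.ext fun a => ?_)
      change comul (R := k) a = (Algebra.TensorProduct.lmul' k).comp (Algebra.TensorProduct.map iL iR)
        (comul (R := k) a)
      generalize comul (R := k) a = z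
      induction z using TensorProduct.induction_on with
      | zero => simp
      | add x y hx hy => simp only [map_add, ← hx, ← hy]
      | tmul x y => simp [iL, iR]
    have hcc : toConv ((Algebra.TensorProduct.map c c).comp (Bialgebra.comulAlgHom k A)) =
        toConv (iL.comp c) * toConv (iR.comp c) := by
      refine WithConv.ofConv_injective (AlgHom.ext fun a => ?_)
      change Algebra.TensorProduct.map c c (comul (R := k) a) =
        (Algebra.TensorProduct.lmul' k).comp (Algebra.TensorProduct.map (iL.comp c) (iR.comp c))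
          (comul (R := k) a)
      generalize comul (R := k) a = z
      induction z using TensorProduct.induction_on with
      | zero => simp
      | add x y hx hy => simp only [map_add, ← hx, ← hy]
      | tmul x y => simp [iL, iR]
    refine congrArg WithConv.ofConv (?_ : toConv ((Algebra.TensorProduct.map c c).comp
      (Bialgebra.comulAlgHom k A)) = toConv ((Bialgebra.comulAlgHom k A).comp c))
    rw [hcc, postcomp_conjP, postcomp_conjP, postcomp_conjP, ofConv_toConv, AlgHom.comp_id,
      AlgHom.comp_id, AlgHom.comp_id, hΔ, conjP, conjP, conjP]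
    simp only [mul_assoc]
    congr 2
    rw [← mul_assoc (pinv _), show pinv (pt (A ⊗[k] A) u).ofConv * pt (A ⊗[k] A) u = 1 from pinv_mul _,
      one_mul])

theorem comp_conjHom {B : Type u} [CommRing B] [HopfAlgebra k B] (r : A →ₐc[k] B) (u : A →ₐ[k] k) :
    toConv ((r.comp (conjHom u) : A →ₐc[k] B) : A →ₐ[k] B) = conjP u (toConv (r : A →ₐ[k] B)) :=
  postcomp_conjP (r : A →ₐ[k] B) u (toConv (AlgHom.id k A))

end Points

section Kernel

variable {A B : Type u} [CommRing A] [HopfAlgebra k A] [CommRing B] [HopfAlgebra k B]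
  {ψ : B →ₐc[k] A} {J : Ideal A}
  (hJ : J = Ideal.map (ψ : B →+* A) (RingHom.ker (Bialgebra.counitAlgHom k B)))

include hJ in
/-- The kernel of a group map is a closed subgroup. -/
theorem isHopfIdeal_aug : J.IsHopfIdeal k := by
  have hco : (J.restrictScalars k).IsCoideal :=
    ⟨fun x hx => ker_counit hJ x hx, fun x hx => ker_delta hJ x hx⟩
  refine { hco with antipode_mem := fun y hy => ?_ }
  have hle : J ≤ J.comap (HopfAlgebra.antipodeAlgHom k A) := by
    conv_lhs => rw [hJ]
    rw [Ideal.map_le_iff_le_comap]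
    intro b hb
    change HopfAlgebra.antipode k (ψ b) ∈ J
    rw [← HopfKer.map_antipode, hJ]
    refine Ideal.mem_map_of_mem _ ?_
    change counit (R := k) (HopfAlgebra.antipode k b) = 0
    rw [HopfAlgebra.counit_antipode]
    exact hb
  exact hle hy

include hJ in
theorem comul_mk [J.IsHopfIdeal k] (a : A) :
    comul (R := k) (Ideal.Quotient.mk J a) = deltaQ hJ (Ideal.Quotient.mk J a) :=
  (CoalgHomClass.map_comp_comul_apply (Bialgebra.Quotient.mkBialgHom (R := k) J) a).symm

variable {M : Type u} [CommGroup M] {μ : M →* A} (hμ : ∀ m, IsGroupLikeElem k (μ m))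
  (hli : LinearIndependent k μ) (hspan : ∀ b, ψ b ∈ Submodule.span k (Set.range μ))
  (hμψ : ∀ m, ∃ b, ψ b = μ m)

local notation "π" => Ideal.Quotient.mkₐ k J

include hμ hli in
/-- A crossed homomorphism on the quotient is a coboundary. -/
theorem eq_smul_of_crossed {χ : M} {c : A} (hc : c ∈ Submodule.span k (Set.range μ))
    (hΔ : comul (R := k) c = c ⊗ₜ 1 + μ χ ⊗ₜ c) : ∃ a : k, c = a • (μ χ - 1) := by
  classical
  obtain ⟨φ, hφ⟩ := exists_dual hli χ
  refine ⟨φ c, ?_⟩
  have h := lslice_span hμ φ hφ hc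
  rw [hΔ, map_add, lslice_tmul, lslice_tmul, hφ, if_pos rfl, one_smul] at h
  rw [smul_sub]
  exact eq_sub_of_add_eq ((add_comm _ _).trans h)

/-- the part in the kernel of a point, given a section -/
def proj (r : A →ₐc[k] B) (hr : ∀ b, r (ψ b) = b) : A ⧸ J →ₐ[k] A :=
  Ideal.Quotient.liftₐ J (toConv (AlgHom.id k A) * pinv ((ψ : B →ₐ[k] A).comp (r : A →ₐ[k] B))).ofConv
    (lift_ratio hJ _ (by
      rw [map_mul, precomp_pinv (i₂ := AlgHom.id k A) (fun b => congrArg ψ (hr b)), ← map_mul, mul_pinv,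
        map_one]))

variable (r : A →ₐc[k] B) (hr : ∀ b, r (ψ b) = b)

local notation "Θ" => (Algebra.TensorProduct.map (Ideal.Quotient.mkₐ k J) (r : A →ₐ[k] B))

theorem retract_Θ (a : A) :
    (Algebra.TensorProduct.lmul' k).comp (Algebra.TensorProduct.map (proj hJ r hr) (ψ : B →ₐ[k] A))
      (Θ (comul (R := k) a)) = a := by
  let κ := toConv (AlgHom.id k A) * pinv ((ψ : B →ₐ[k] A).comp (r : A →ₐ[k] B))
  let s : A →ₐ[k] A := (ψ : B →ₐ[k] A).comp (r : A →ₐ[k] B)
  have h1 : (κ * toConv s).ofConv a = a := by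
    change (toConv (AlgHom.id k A) * pinv s * toConv s).ofConv a = a
    rw [mul_assoc, pinv_mul, mul_one]
    rfl
  refine Eq.trans ?_ h1
  change _ = (Algebra.TensorProduct.lmul' k).comp (Algebra.TensorProduct.map κ.ofConv s) (comul (R := k) a)
  generalize comul (R := k) a = z
  induction z using TensorProduct.induction_on with
  | zero => simp
  | add x y hx hy => simp only [map_add, hx, hy]
  | tmul x y => simp [proj, κ, s]

theorem mk_proj (x : A ⧸ J) : π (proj hJ r hr x) = x := by
  obtain ⟨a, rfl⟩ := Ideal.Quotient.mk_surjective x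
  let s : A →ₐ[k] A := (ψ : B →ₐ[k] A).comp (r : A →ₐ[k] B)
  change ((π).comp (toConv (AlgHom.id k A) * pinv s).ofConv) a = π a
  have h : toConv ((π).comp (toConv (AlgHom.id k A) * pinv s).ofConv) = toConv π := by
    rw [postcomp_mul, postcomp_pinv, ofConv_toConv, AlgHom.comp_id]
    have hs : (π).comp s = (1 : WithConv (A →ₐ[k] A ⧸ J)).ofConv := AlgHom.ext fun y => by
      change π (ψ (r y)) = algebraMap k (A ⧸ J) (counit (R := k) y)
      rw [mk_ψ hJ, CoalgHomClass.counit_comp_apply]
    rw [hs, pinv_one, mul_one]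
  exact congrArg (fun f : WithConv (A →ₐ[k] A ⧸ J) => f.ofConv a) h

theorem right_proj (x : A ⧸ J) :
    Algebra.TensorProduct.map (AlgHom.id k A) (r : A →ₐ[k] B) (comul (R := k) (proj hJ r hr x)) =
      proj hJ r hr x ⊗ₜ 1 := by
  obtain ⟨a, rfl⟩ := Ideal.Quotient.mk_surjective x
  let s : A →ₐ[k] A := (ψ : B →ₐ[k] A).comp (r : A →ₐ[k] B)
  let Ξ : A →ₐ[k] A ⊗[k] B :=
    (Algebra.TensorProduct.map (AlgHom.id k A) (r : A →ₐ[k] B)).comp (Bialgebra.comulAlgHom k A)
  let iL : A →ₐ[k] A ⊗[k] B := Algebra.TensorProduct.includeLeft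
  let iR : B →ₐ[k] A ⊗[k] B := Algebra.TensorProduct.includeRight
  change (Ξ.comp (toConv (AlgHom.id k A) * pinv s).ofConv) a =
    (iL.comp (toConv (AlgHom.id k A) * pinv s).ofConv) a
  have hΞ : toConv Ξ = toConv iL * toConv (iR.comp (r : A →ₐ[k] B)) := by
    refine WithConv.ofConv_injective (AlgHom.ext fun y => ?_)
    change Algebra.TensorProduct.map (AlgHom.id k A) (r : A →ₐ[k] B) (comul (R := k) y) =
      (Algebra.TensorProduct.lmul' k).comp (Algebra.TensorProduct.map iL (iR.comp (r : A →ₐ[k] B)))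
        (comul (R := k) y)
    generalize comul (R := k) y = z
    induction z using TensorProduct.induction_on with
    | zero => simp
    | add x y hx hy => simp only [map_add, hx, hy]
    | tmul x y => simp [iL, iR]
  have hΞs : toConv (Ξ.comp s) = toConv (iL.comp s) * toConv (iR.comp (r : A →ₐ[k] B)) := by
    have h1 : toConv (Ξ.comp s) = precomp r (precomp ψ (toConv Ξ)) := rfl
    rw [h1, hΞ, map_mul, map_mul]
    congr 1
    exact WithConv.ofConv_injective (AlgHom.ext fun y => congrArg iR (hr (r y)))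
  have h : toConv (Ξ.comp (toConv (AlgHom.id k A) * pinv s).ofConv) =
      toConv (iL.comp (toConv (AlgHom.id k A) * pinv s).ofConv) := by
    rw [postcomp_mul, postcomp_mul, postcomp_pinv, postcomp_pinv, ofConv_toConv, AlgHom.comp_id,
      AlgHom.comp_id, show Ξ.comp s = (toConv (iL.comp s) * toConv (iR.comp (r : A →ₐ[k] B))).ofConv from
        congrArg WithConv.ofConv hΞs, pinv_mul_rev, hΞ, mul_assoc,
      ← mul_assoc (toConv (iR.comp (r : A →ₐ[k] B))), mul_pinv, one_mul]
  exact congrArg (fun f : WithConv (A →ₐ[k] A ⊗[k] B) => f.ofConv a) h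

include hμ hli in
theorem exists_finsupp {z : A ⊗[k] A}
    (hz : z ∈ LinearMap.range ((Submodule.span k (Set.range μ)).subtype.rTensor A)) :
    ∃ s : M →₀ A, s.sum (fun m x => μ m ⊗ₜ[k] x) = z := by
  obtain ⟨y, rfl⟩ := hz
  induction y using TensorProduct.induction_on with
  | zero => exact ⟨0, by simp⟩
  | add x y hx hy =>
    obtain ⟨v, hv⟩ := hx; obtain ⟨v', hv'⟩ := hy
    refine ⟨v + v', ?_⟩
    rw [Finsupp.sum_add_index' (h := fun m x => μ m ⊗ₜ[k] x) (fun _ => TensorProduct.tmul_zero _ _)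
      (fun _ _ _ => TensorProduct.tmul_add _ _ _), hv, hv', map_add]
  | tmul x y =>
    refine ⟨(hli.repr x).mapRange (fun c => c • y) (zero_smul _ _), ?_⟩
    rw [Finsupp.sum_mapRange_index (h := fun m x => μ m ⊗ₜ[k] x) fun _ => TensorProduct.tmul_zero _ _,
      LinearMap.rTensor_tmul]
    simp only [Finsupp.sum, TensorProduct.tmul_smul, TensorProduct.smul_tmul', ← TensorProduct.sum_tmul]
    congr 1
    have h := hli.linearCombination_repr x
    rw [Finsupp.linearCombination_apply, Finsupp.sum] at h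
    exact h

include hJ hμ hli hspan hr in
/-- A primitive function on the kernel is a sum of restrictions of crossed homomorphisms. -/
theorem exists_components {x : A ⧸ J} (hx : deltaQ hJ x = x ⊗ₜ 1 + 1 ⊗ₜ x) (hεx : counitQ hJ x = 0) :
    ∃ s : M →₀ A, (∀ m, comul (R := k) (s m) = s m ⊗ₜ 1 + μ m ⊗ₜ s m) ∧
      s.sum (fun _ a => π a) = x := by
  classical
  set y := proj hJ r hr x with hy
  have hπy : π y = x := mk_proj hJ r hr x
  have hεy : counit (R := k) y = 0 := by
    rw [show counit (R := k) y = counitQ hJ (π y) from rfl, hπy, hεx]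
  have hright := right_proj hJ r hr x
  rw [← hy] at hright
  have hF : ∀ a : A, Algebra.TensorProduct.map (AlgHom.id k A) (r : A →ₐ[k] B) (comul (R := k) a) = a ⊗ₜ 1 →
      a = proj hJ r hr (π a) := by
    intro a ha
    have e : ∀ z, Θ z = Algebra.TensorProduct.map π (AlgHom.id k B)
        (Algebra.TensorProduct.map (AlgHom.id k A) (r : A →ₐ[k] B) z) := by
      intro z
      induction z using TensorProduct.induction_on with
      | zero => simp
      | add x y hx hy => simp only [map_add, hx, hy]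
      | tmul x y => simp
    have h := retract_Θ hJ r hr a
    rw [e, ha] at h
    conv_lhs => rw [← h]
    simp
  let rl : A →ₗ[k] B := (r : A →ₐ[k] B).toLinearMap
  let πl : A →ₗ[k] A ⧸ J := (π).toLinearMap
  let L : A →ₗ[k] B ⊗[k] A := rl.rTensor A ∘ₗ comul (R := k)
  have hcoinv : ∀ θ : A →ₗ[k] k,
      Algebra.TensorProduct.map (AlgHom.id k A) (r : A →ₐ[k] B)
        (comul (R := k) (lslice θ (comul (R := k) y))) = lslice θ (comul (R := k) y) ⊗ₜ 1 := by
    intro θ
    have e0 : ∀ z, Algebra.TensorProduct.map (AlgHom.id k A) (r : A →ₐ[k] B) z = rl.lTensor A z := by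
      intro z
      induction z using TensorProduct.induction_on with
      | zero => simp
      | add x y hx hy => simp only [map_add, hx, hy]
      | tmul x y => simp [rl]
    rw [e0, ← lslice_lTensor, ← lslice_lTensor, ← Coalgebra.coassoc_apply]
    have e1 : ∀ z, LinearMap.lTensor A (rl.lTensor A)
        (TensorProduct.assoc k A A A ((comul (R := k)).rTensor A z)) =
        TensorProduct.assoc k A A B ((comul (R := k)).rTensor B (rl.lTensor A z)) := by
      intro z
      induction z using TensorProduct.induction_on with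
      | zero => simp
      | add x y hx hy => simp only [map_add, hx, hy]
      | tmul a b =>
        simp only [LinearMap.rTensor_tmul, LinearMap.lTensor_tmul]
        generalize comul (R := k) a = w
        induction w using TensorProduct.induction_on with
        | zero => simp
        | add x y hx hy => simp only [TensorProduct.add_tmul, map_add, hx, hy]
        | tmul x y => simp
    rw [e1, ← e0, hright, LinearMap.rTensor_tmul]
    generalize comul (R := k) y = w
    induction w using TensorProduct.induction_on with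
    | zero => simp
    | add x y hx hy => simp only [TensorProduct.add_tmul, map_add, hx, hy]
    | tmul x y => simp [TensorProduct.smul_tmul']
  have hw : πl.rTensor A (comul (R := k) y) = x ⊗ₜ 1 + 1 ⊗ₜ y := by
    refine sub_eq_zero.1 (eq_zero_of_lslice fun φ => ?_)
    rw [map_sub, sub_eq_zero]
    rw [ComodLib.lslice_rTensor, hF _ (hcoinv _)]
    have e2 : π (lslice (φ ∘ₗ πl) (comul (R := k) y)) = φ x • 1 + φ 1 • x := by
      have e3 : ∀ z, π (lslice (φ ∘ₗ πl) z) = lslice φ (Algebra.TensorProduct.map π π z) := by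
        intro z
        induction z using TensorProduct.induction_on with
        | zero => simp
        | add x y hx hy => simp only [map_add, hx, hy]
        | tmul x y => simp [πl]
      rw [e3, show Algebra.TensorProduct.map π π (comul (R := k) y) = deltaQ hJ (π y) from rfl, hπy, hx,
        map_add, lslice_tmul, lslice_tmul]
    rw [e2, map_add, map_smul, map_smul, map_one, map_add, lslice_tmul, lslice_tmul]
  let ψl : B →ₗ[k] A := (ψ : B →ₐ[k] A).toLinearMap
  set z : A ⊗[k] A := ψl.rTensor A (L y) with hz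
  have hΘψ : ∀ b, Θ (comul (R := k) (ψ b)) = (1 : A ⧸ J) ⊗ₜ b := by
    intro b
    have e : ∀ z, Θ z = Algebra.TensorProduct.map (AlgHom.id k (A ⧸ J)) (r : A →ₐ[k] B)
        (Algebra.TensorProduct.map π (AlgHom.id k A) z) := by
      intro z
      induction z using TensorProduct.induction_on with
      | zero => simp
      | add x y hx hy => simp only [map_add, hx, hy]
      | tmul x y => simp
    rw [e, left_ψ hJ, Algebra.TensorProduct.map_tmul, map_one]
    exact congrArg _ (hr b)
  let Θl : A →ₗ[k] (A ⧸ J) ⊗[k] B := (Θ).toLinearMap ∘ₗ comul (R := k)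
  have hΘinj : Function.Injective (Θl.rTensor A) := by
    refine Function.HasLeftInverse.injective ⟨((Algebra.TensorProduct.lmul' k).comp
      (Algebra.TensorProduct.map (proj hJ r hr) (ψ : B →ₐ[k] A))).toLinearMap.rTensor A, fun w => ?_⟩
    rw [← LinearMap.rTensor_comp_apply]
    conv_rhs => rw [← LinearMap.id_apply (R := k) w, ← LinearMap.rTensor_id]
    congr 2
    exact LinearMap.ext fun a => retract_Θ hJ r hr a
  have hΔy : comul (R := k) y = y ⊗ₜ 1 + z := by
    refine hΘinj ?_
    rw [map_add, LinearMap.rTensor_tmul]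
    have hΘy : Θl y = x ⊗ₜ 1 := by
      have e : ∀ z, Θ z = Algebra.TensorProduct.map π (AlgHom.id k B)
          (Algebra.TensorProduct.map (AlgHom.id k A) (r : A →ₐ[k] B) z) := by
        intro z
        induction z using TensorProduct.induction_on with
        | zero => simp
        | add x y hx hy => simp only [map_add, hx, hy]
        | tmul x y => simp
      change Θ (comul (R := k) y) = _
      rw [e, hright, Algebra.TensorProduct.map_tmul, map_one, hπy]
    have hΘz : Θl.rTensor A z = (TensorProduct.assoc k (A ⧸ J) B A).symm ((1 : A ⧸ J) ⊗ₜ L y) := by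
      rw [hz]
      generalize L y = w
      induction w using TensorProduct.induction_on with
      | zero => simp
      | add x y hx hy => simp only [map_add, TensorProduct.tmul_add, hx, hy]
      | tmul b a =>
        rw [LinearMap.rTensor_tmul, LinearMap.rTensor_tmul, TensorProduct.assoc_symm_tmul]
        exact congrArg (· ⊗ₜ[k] a) (hΘψ b)
    have e1 : Θl.rTensor A (comul (R := k) y) = (TensorProduct.assoc k (A ⧸ J) B A).symm
        (LinearMap.lTensor (A ⧸ J) L (πl.rTensor A (comul (R := k) y))) := by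
      have hco := Coalgebra.coassoc_symm_apply (R := k) y
      have e3 : ∀ w, Θl.rTensor A w = (TensorProduct.map πl rl).rTensor A ((comul (R := k)).rTensor A w) := by
        intro w
        rw [← LinearMap.rTensor_comp_apply]
        congr 2
      rw [e3, ← hco]
      generalize comul (R := k) y = w
      induction w using TensorProduct.induction_on with
      | zero => simp
      | add x y hx hy => simp only [map_add, hx, hy]
      | tmul a b =>
        simp only [LinearMap.rTensor_tmul, LinearMap.lTensor_tmul, L, LinearMap.comp_apply]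
        generalize comul (R := k) b = t
        induction t using TensorProduct.induction_on with
        | zero => simp
        | add x y hx hy => simp only [TensorProduct.tmul_add, map_add, hx, hy]
        | tmul x y => simp
    rw [e1, hw, map_add, LinearMap.lTensor_tmul, LinearMap.lTensor_tmul, map_add, hΘy, hΘz]
    congr 1
    simp [L, rl, Algebra.TensorProduct.one_def]
  obtain ⟨s, hs⟩ := exists_finsupp hμ hli (z := z) (by
    rw [ComodLib.mem_range_rTensor_iff]
    intro φ
    rw [hz, ComodLib.slice_rTensor]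
    exact hspan _)
  rw [← hs] at hΔy
  refine ⟨s, fun m => ?_, ?_⟩
  · obtain ⟨φ, hφ⟩ := exists_dual hli m
    have hco := Coalgebra.coassoc_apply (R := k) y
    rw [hΔy] at hco
    simp only [map_add, map_finsuppSum, LinearMap.rTensor_tmul, LinearMap.lTensor_tmul, hΔy,
      Bialgebra.comul_one, fun n => (hμ n).comul_eq_tmul_self, TensorProduct.add_tmul,
      Algebra.TensorProduct.one_def] at hco
    have h := congrArg (lslice φ) hco
    simp only [Finsupp.sum, map_add, map_sum, TensorProduct.sum_tmul, TensorProduct.assoc_tmul,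
      lslice_tmul, hφ, ite_smul, one_smul, zero_smul, Finset.sum_ite_eq'] at h
    split_ifs at h with hm
    · rw [add_assoc] at h
      exact (add_left_cancel h).symm
    · simp [Finsupp.notMem_support_iff.1 hm]
  · have h := congrArg (fun w => π (TensorProduct.lid k A ((counit (R := k)).rTensor A w))) hΔy
    simp only [Coalgebra.rTensor_counit_comul, TensorProduct.lid_tmul, one_smul, map_add,
      LinearMap.rTensor_tmul, hεy, zero_smul, zero_add, map_finsuppSum, map_zero,
      fun n => (hμ n).counit_eq_one] at h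
    rw [← hπy]
    exact h.symm

include hJ in
/-- A point of the kernel where a homomorphism to the additive group takes a given value. -/
theorem exists_point [IsAlgClosed k] [Algebra.FiniteType k A] {g : A}
    (hg : deltaQ hJ (π g) = π g ⊗ₜ 1 + 1 ⊗ₜ π g) (a : k)
    (hcond : ∀ f : Polynomial k, Polynomial.aeval (π g) f = 0 → f.eval a = 0) :
    ∃ u : A →ₐ[k] k, (∀ x ∈ J, u x = 0) ∧ u g = a := by
  classical
  haveI := isHopfIdeal_aug hJ
  haveI : Algebra.FiniteType k (A ⧸ J) :=
    Algebra.FiniteType.of_surjective π Ideal.Quotient.mk_surjective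
  set x := π g with hx
  have hΔx : comul (R := k) x = x ⊗ₜ 1 + 1 ⊗ₜ x := (comul_mk hJ g).trans hg
  let C : Subalgebra k (A ⧸ J) := Algebra.adjoin k {x}
  have hxC : x ∈ C := Algebra.self_mem_adjoin_singleton k x
  haveI : Module.FaithfullyFlat C (A ⧸ J) := by
    refine SubHopfFlat.faithfullyFlat C (fun y hy => ?_) (fun y hy => ?_)
    · have hle : C ≤ (Algebra.TensorProduct.map C.val C.val).range.comap
          (Bialgebra.comulAlgHom k (A ⧸ J)) := by
        refine Algebra.adjoin_le (Set.singleton_subset_iff.2 ?_)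
        exact ⟨(⟨x, hxC⟩ : C) ⊗ₜ 1 + 1 ⊗ₜ (⟨x, hxC⟩ : C), by
          change _ = comul (R := k) x
          rw [hΔx, map_add]
          rfl⟩
      exact hle hy
    · have hle : C ≤ C.comap (HopfAlgebra.antipodeAlgHom k (A ⧸ J)) := by
        refine Algebra.adjoin_le (Set.singleton_subset_iff.2 ?_)
        change HopfAlgebra.antipode k x ∈ C
        have h := HopfAlgebra.mul_antipode_rTensor_comul_apply (R := k) x
        rw [hΔx, map_add, map_add, LinearMap.rTensor_tmul, LinearMap.rTensor_tmul, LinearMap.mul'_apply,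
          LinearMap.mul'_apply, mul_one, HopfAlgebra.antipode_one, one_mul] at h
        rw [eq_sub_of_add_eq h]
        exact sub_mem (C.algebraMap_mem _) hxC
      exact hle hy
  have heval : ∀ f : Polynomial k, Polynomial.aeval x f ∈ C := fun f =>
    Polynomial.aeval_mem_adjoin_singleton k x
  let I : Ideal C := Ideal.span {(⟨x, hxC⟩ : C) - algebraMap k C a}
  have hI : I ≠ ⊤ := by
    intro htop
    obtain ⟨c, hc⟩ := Ideal.mem_span_singleton'.1 ((Ideal.eq_top_iff_one I).1 htop)
    have hc2 : (c : A ⧸ J) ∈ (Polynomial.aeval (R := k) x).range := by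
      rw [← Algebra.adjoin_singleton_eq_range_aeval]
      exact c.2
    obtain ⟨f, hf⟩ := hc2
    have h := hcond (f * (Polynomial.X - Polynomial.C a) - 1) (by
      rw [map_sub, map_mul, map_sub, map_one, Polynomial.aeval_X, Polynomial.aeval_C]
      change (Polynomial.aeval (R := k) x).toRingHom f * _ - 1 = 0
      rw [show (Polynomial.aeval (R := k) x).toRingHom f = (c : A ⧸ J) from hf, sub_eq_zero]
      exact congrArg Subtype.val hc)
    simp at h
  have hI' : I.map (algebraMap C (A ⧸ J)) ≠ ⊤ := fun htop => hI (by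
    rw [← Ideal.comap_map_eq_self_of_faithfullyFlat (B := A ⧸ J) I, htop, Ideal.comap_top])
  obtain ⟨m, hm, hle⟩ := Ideal.exists_le_maximal _ hI'
  obtain ⟨v, hv⟩ := FrobDescent.exists_point_of_isMaximal (k := k) m
  refine ⟨v.comp π, fun y hy => ?_, ?_⟩
  · change v (π y) = 0
    rw [Ideal.Quotient.mkₐ_eq_mk, Ideal.Quotient.eq_zero_iff_mem.2 hy, map_zero]
  · have h : v (x - algebraMap k (A ⧸ J) a) = 0 := by
      rw [← RingHom.mem_ker, hv]
      exact hle (Ideal.mem_map_of_mem (algebraMap C (A ⧸ J)) (Ideal.mem_span_singleton_self _))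
    rw [map_sub, AlgHom.commutes, sub_eq_zero] at h
    exact h

end Kernel

section Descent

variable [IsAlgClosed k] (p : ℕ) [Fact p.Prime] [CharP k p]
variable {A B : Type u} [CommRing A] [HopfAlgebra k A] [Algebra.FiniteType k A] [CommRing B] [HopfAlgebra k B]
  {ψ : B →ₐc[k] A} {J : Ideal A}
  (hJ : J = Ideal.map (ψ : B →+* A) (RingHom.ker (Bialgebra.counitAlgHom k B)))
  {M : Type u} [CommGroup M] {μ : M →* A} (hμ : ∀ m, IsGroupLikeElem k (μ m))
  (hli : LinearIndependent k μ) (hspan : ∀ b, ψ b ∈ Submodule.span k (Set.range μ))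
  (hμψ : ∀ m, ∃ b, ψ b = μ m) (r : A →ₐc[k] B) (hr : ∀ b, r (ψ b) = b)

include p hJ hμ hli hspan hμψ r hr in
/-- In a smooth kernel some crossed homomorphism has smooth zero locus. -/
theorem exists_smooth_crossed [IsReduced (A ⧸ J)] {χ : M} {g : A}
    (hg : comul (R := k) g = g ⊗ₜ 1 + μ χ ⊗ₜ g) (hg0 : Ideal.Quotient.mkₐ k J g ≠ 0) :
    ∃ (χ' : M) (g' : A), comul (R := k) g' = g' ⊗ₜ 1 + μ χ' ⊗ₜ g' ∧
      Ideal.Quotient.mkₐ k J g' ≠ 0 ∧
      IsReduced ((A ⧸ J) ⧸ Ideal.span {Ideal.Quotient.mkₐ k J g'}) := by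
  classical
  haveI := isHopfIdeal_aug hJ
  haveI : Algebra.FiniteType k (A ⧸ J) :=
    Algebra.FiniteType.of_surjective (Ideal.Quotient.mkₐ k J) Ideal.Quotient.mk_surjective
  haveI := FrobDescent.charP p (K := k) (A ⧸ J)
  let 𝔪 := RingHom.ker (Bialgebra.counitAlgHom k (A ⧸ J))
  have hprim : ∀ {χ : M} {g : A}, comul (R := k) g = g ⊗ₜ 1 + μ χ ⊗ₜ g →
      deltaQ hJ (Ideal.Quotient.mkₐ k J g) =
        Ideal.Quotient.mkₐ k J g ⊗ₜ 1 + 1 ⊗ₜ Ideal.Quotient.mkₐ k J g := by
    intro χ g hg
    change Algebra.TensorProduct.map (Ideal.Quotient.mkₐ k J) (Ideal.Quotient.mkₐ k J)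
      (comul (R := k) g) = _
    rw [hg, map_add, Algebra.TensorProduct.map_tmul, Algebra.TensorProduct.map_tmul, mk_μ hJ hμ hμψ,
      map_one]
  by_cases hloc : FrobDescent.LocZero (k := k) (Ideal.Quotient.mkₐ k J g)
  · exact ⟨χ, g, hg, hg0,
      FrobDescent.isReduced_quot_of_locZero ((comul_mk hJ g).trans (hprim hg)) hloc⟩
  obtain ⟨N, hN⟩ := FrobDescent.exists_not_mem_pow hloc
  clear hg0 hloc
  induction N using Nat.strong_induction_on generalizing χ g with
  | _ N ih =>
    set x := Ideal.Quotient.mkₐ k J g with hx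
    have hx0 : x ≠ 0 := fun h => hN (h ▸ zero_mem _)
    have hεx : counit (R := k) x = 0 := by
      change counit (R := k) g = 0
      exact counit_crossed hμ hg
    have hΔx : comul (R := k) x = x ⊗ₜ 1 + 1 ⊗ₜ x := (comul_mk hJ g).trans (hprim hg)
    by_cases hloc : FrobDescent.LocZero (k := k) x
    · exact ⟨χ, g, hg, hx0, FrobDescent.isReduced_quot_of_locZero hΔx hloc⟩
    by_cases htan : ∃ ξ : A ⧸ J →ₗ[k] k, FrobDescent.IsTangent ξ ∧ ξ x ≠ 0
    · obtain ⟨ξ, hξ, hξx⟩ := htan
      exact ⟨χ, g, hg, hx0, FrobDescent.isReduced_quot_of_tangent p hΔx hξ hξx⟩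
    push Not at htan
    obtain ⟨y, hy⟩ := FrobDescent.exists_root (k := k) p (x := x) fun ξ hξ => by
      rw [hΔx, map_add, slice_tmul, slice_tmul, htan ξ hξ, hξ.map_one, zero_smul, zero_smul, add_zero]
    have hN2 : 2 ≤ N := by
      by_contra hlt
      refine hN ?_
      rcases (by omega : N = 0 ∨ N = 1) with rfl | rfl
      · rw [pow_zero, Ideal.one_eq_top]; trivial
      · rw [pow_one]; exact hεx
    have hεy : counitQ hJ y = 0 := by
      have h := congrArg (counitQ hJ) hy
      rw [map_pow] at h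
      exact eq_zero_of_pow_eq_zero (h.trans hεx)
    have hδy : deltaQ hJ y = y ⊗ₜ 1 + 1 ⊗ₜ y := by
      haveI : IsReduced ((A ⧸ J) ⊗[k] (A ⧸ J)) := FrobDescent.isReduced_tensor
      haveI : Nontrivial ((A ⧸ J) ⊗[k] (A ⧸ J)) := ⟨⟨1, 0, fun h => by
        simpa using congrArg (Algebra.TensorProduct.lift (counitQ hJ) (counitQ hJ) fun _ _ => .all _ _) h⟩⟩
      haveI : CharP ((A ⧸ J) ⊗[k] (A ⧸ J)) p :=
        charP_of_injective_algebraMap (algebraMap k ((A ⧸ J) ⊗[k] (A ⧸ J))).injective p
      refine sub_eq_zero.1 (IsReduced.eq_zero _ ⟨p, ?_⟩)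
      rw [sub_pow_char, add_pow_char, ← map_pow, hy, hx, hprim hg, Algebra.TensorProduct.tmul_pow,
        Algebra.TensorProduct.tmul_pow, one_pow, hy, hx, sub_self]
    obtain ⟨s, hs, hsum⟩ := exists_components hJ hμ hli hspan r hr hδy hεy
    obtain ⟨m, hm⟩ : ∃ m, Ideal.Quotient.mkₐ k J (s m) ∉ 𝔪 ^ (N - 1) := by
      by_contra! hall
      refine hN ?_
      rw [← hy, ← hsum]
      have hmem : (s.sum fun _ a => Ideal.Quotient.mkₐ k J a) ∈ 𝔪 ^ (N - 1) :=
        Submodule.sum_mem _ fun m _ => hall m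
      have h2 := Ideal.pow_mem_pow hmem p
      rw [← pow_mul] at h2
      refine Ideal.pow_le_pow_right ?_ h2
      have := (Fact.out : p.Prime).two_le
      calc N ≤ (N - 1) * 2 := by omega
        _ ≤ (N - 1) * p := by exact Nat.mul_le_mul_left _ this
    exact ih (N - 1) (by omega) (hs m) hm

end Descent

section Main

/-- the reducedness of the kernel, or a substitute for it -/
def Smoothish (k B : Type u) [Field k] [CommRing B] {A : Type u} [CommRing A] (J : Ideal A) : Prop :=
  CharZero k ∨ IsReduced B ∨ J.IsRadical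

theorem isRadical_ker_iff {A R : Type u} [CommRing A] [CommRing R] (f : A →+* R)
    (hf : Function.Surjective f) : (RingHom.ker f).IsRadical ↔ IsReduced R := by
  refine ⟨fun h => ⟨fun x hx => ?_⟩, fun h => ?_⟩
  · obtain ⟨a, rfl⟩ := hf x
    obtain ⟨n, hn⟩ := hx
    exact h ⟨n, by rwa [RingHom.mem_ker, map_pow]⟩
  · intro a ⟨n, hn⟩
    rw [RingHom.mem_ker, map_pow] at hn
    exact IsReduced.eq_zero _ ⟨n, hn⟩

variable {A B : Type u} [CommRing A] [HopfAlgebra k A] [CommRing B] [HopfAlgebra k B]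
  {ψ : B →ₐc[k] A} {J : Ideal A}
  (hJ : J = Ideal.map (ψ : B →+* A) (RingHom.ker (Bialgebra.counitAlgHom k B)))
  {M : Type u} [CommGroup M] {μ : M →* A} (hμ : ∀ m, IsGroupLikeElem k (μ m))
  (hli : LinearIndependent k μ) (hspan : ∀ b, ψ b ∈ Submodule.span k (Set.range μ))
  (hμψ : ∀ m, ∃ b, ψ b = μ m)

include hJ hμ hli hspan hμψ in
/-- The value to be attained is attained by the kernel. -/
theorem cond_of_smoothish [IsAlgClosed k] (hinj : Function.Injective ψ) {χ : M} (hχ : χ ≠ 1) {g : A}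
    (hg : comul (R := k) g = g ⊗ₜ 1 + μ χ ⊗ₜ g) (r₁ r₂ : A →ₐc[k] B)
    (hr₁ : ∀ b, r₁ (ψ b) = b) (hr₂ : ∀ b, r₂ (ψ b) = b) (a : k)
    (h₁ : ψ (r₁ g) = a • (μ χ - 1)) (h₂ : r₂ g = 0)
    (hsm : Smoothish k B J) :
    ∀ f : Polynomial k, Polynomial.aeval (Ideal.Quotient.mkₐ k J g) f = 0 → f.eval a = 0 := by
  classical
  set x := Ideal.Quotient.mkₐ k J g with hxdef
  intro f hf
  have haev : ∀ (f : Polynomial k) (n : ℕ), f.natDegree < n →
      Polynomial.aeval x f = ∑ i : Fin n, f.coeff i • x ^ (i : ℕ) := fun f n hn =>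
    (Polynomial.aeval_eq_sum_range' hn x).trans (Finset.sum_range _)
  by_cases hall : ∀ d, LinearIndependent k (fun i : Fin d => x ^ (i : ℕ))
  · have hf0 : f = 0 := by
      refine Polynomial.ext fun i => ?_
      rw [Polynomial.coeff_zero]
      by_cases hi : i < f.natDegree + 1
      · rw [haev f _ (Nat.lt_succ_self _)] at hf
        exact Fintype.linearIndependent_iff.1 (hall _) _ hf ⟨i, hi⟩
      · exact Polynomial.coeff_eq_zero_of_natDegree_lt (by omega)
    rw [hf0, Polynomial.eval_zero]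
  obtain ⟨d, p, c, hd0, hd, hpd, hp0, hp, hadd, hpow, hc⟩ :=
    exists_relation hJ hμ hli hspan hμψ hg hall
  have hlt : ∀ f : Polynomial k, Polynomial.aeval x f = 0 → f.natDegree < d → f = 0 := by
    intro f hf hn
    refine Polynomial.ext fun i => ?_
    rw [Polynomial.coeff_zero]
    by_cases hi : i < d
    · rw [haev f d hn] at hf
      exact Fintype.linearIndependent_iff.1 hd _ hf ⟨i, hi⟩
    · exact Polynomial.coeff_eq_zero_of_natDegree_lt (by omega)
  let P : Polynomial k := ∑ i ∈ Finset.range (d + 1), Polynomial.C (p i) * Polynomial.X ^ i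
  have hPcoeff : ∀ i, P.coeff i = if i ≤ d then p i else 0 := by
    intro i
    simp [P, Polynomial.finsetSum_coeff, Polynomial.coeff_X_pow]
  have hPdeg : P.natDegree = d := by
    refine le_antisymm ?_ (Polynomial.le_natDegree_of_ne_zero (by rw [hPcoeff, if_pos le_rfl, hpd]; exact one_ne_zero))
    exact Polynomial.natDegree_le_iff_coeff_eq_zero.2 fun i hi => by rw [hPcoeff, if_neg (by omega)]
  have hPmon : P.Monic := by
    rw [Polynomial.Monic, Polynomial.leadingCoeff, hPdeg, hPcoeff, if_pos le_rfl, hpd]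
  have hPx : Polynomial.aeval x P = 0 := by
    simp only [P, map_sum, map_mul, map_pow, Polynomial.aeval_C, Polynomial.aeval_X, ← Algebra.smul_def]
    exact hp
  -- the value is a root
  have hμd : χ ^ d ≠ 1 := by
    intro hd1
    have hμd1 : μ χ ^ d = 1 := by rw [← map_pow, hd1, map_one]
    by_cases hp1 : p 1 = 0
    · have h2d : 2 ≤ d := by
        by_contra h
        have : d = 1 := by omega
        subst this
        exact one_ne_zero (hpd.symm.trans hp1)
      have hip : ∀ i ≤ d, p i * (i : k) = 0 := by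
        intro i hi
        rcases (by omega : i = 0 ∨ i = 1 ∨ 2 ≤ i) with rfl | rfl | h
        · simp
        · simp [hp1]
        · have := hadd i hi 1 one_pos (by omega)
          simpa using this
      rcases hsm with h0 | hB | hJr
      · haveI := h0
        have := hip d le_rfl
        rw [hpd, one_mul, Nat.cast_eq_zero] at this
        exact hd0 this
      · haveI := hB
        obtain ⟨b, hb⟩ := hμψ χ
        refine hχ ?_
        have hdiff : (μ χ - 1) ^ d = 0 := by
          have h := smul_add_pow (c := p d) (i := d) (fun h => absurd h hd0) (hadd d le_rfl) (μ χ - 1) (1 : A)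
          rw [hpd, one_smul, one_smul, one_smul, sub_add_cancel, one_pow, hμd1] at h
          exact add_right_cancel (h.symm.trans (zero_add 1).symm)
        have hb1 : b - 1 = 0 := IsReduced.eq_zero _ ⟨d, hinj (by
          rw [map_pow, map_sub, map_one, hb, hdiff, map_zero])⟩
        rw [sub_eq_zero] at hb1
        refine hli.injective ?_
        rw [← hb, hb1, map_one, map_one]
      · haveI : IsReduced (A ⧸ J) := (Ideal.isRadical_iff_quotient_reduced J).1 hJr
        obtain ⟨q, hqp⟩ := CharP.exists k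
        rcases CharP.char_is_prime_or_zero k q with hq | hq
        · haveI := Fact.mk hq
          haveI : ExpChar k q := ExpChar.prime hq
          haveI : PerfectRing k q := PerfectField.toPerfectRing q
          haveI : Nontrivial (A ⧸ J) := ⟨⟨0, 1, fun h => by simpa using congrArg (counitQ hJ) h⟩⟩
          have hder : Polynomial.derivative P = 0 := by
            refine Polynomial.ext fun i => ?_
            rw [Polynomial.coeff_derivative, Polynomial.coeff_zero, hPcoeff]
            split_ifs with hi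
            · exact_mod_cast hip (i + 1) hi
            · rw [zero_mul]
          let Q : Polynomial k := (Polynomial.contract q P).map ((frobeniusEquiv k q).symm : k →+* k)
          have hPQ : P = Q ^ q := by
            rw [← Polynomial.map_frobenius_expand, ← Polynomial.map_expand, Polynomial.map_map,
              show (frobenius k q).comp ((frobeniusEquiv k q).symm : k →+* k) = RingHom.id k from
                RingHom.ext fun t => by
                  simp [frobenius_def],
              Polynomial.map_id, Polynomial.expand_contract q hder hq.ne_zero]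
          have hQdeg : Q.natDegree < d := by
            have : P.natDegree = q * Q.natDegree := by rw [hPQ, Polynomial.natDegree_pow]
            rw [hPdeg] at this
            have := hq.two_le
            nlinarith
          have hQ0 := hlt Q (IsReduced.eq_zero _ ⟨q, by rw [← map_pow, ← hPQ, hPx]⟩) hQdeg
          rw [hQ0, zero_pow hq.ne_zero] at hPQ
          exact hPmon.ne_zero hPQ
        · subst hq
          haveI := CharP.charP_to_charZero k
          have := hip d le_rfl
          rw [hpd, one_mul, Nat.cast_eq_zero] at this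
          exact hd0 this
    · refine hχ (hli.injective ?_)
      have h := hpow 1 (by omega)
      rw [pow_one, hμd1] at h
      rw [map_one]
      exact (smul_right_injective A hp1) h
  have hroot : ∑ i ∈ Finset.range (d + 1), p i * a ^ i = 0 := by
    have hr2c : r₂ (∑ i ∈ Finset.range (d + 1), p i • g ^ i) = 0 := by
      rw [map_sum]
      refine Finset.sum_eq_zero fun i _ => ?_
      rcases Nat.eq_zero_or_pos i with rfl | hi
      · simp [hp0]
      · rw [map_smul, map_pow, h₂, zero_pow hi.ne', smul_zero]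
    obtain ⟨b, hb⟩ : ∃ b, ψ b = c • (μ χ ^ d - 1) := by
      obtain ⟨b, hb⟩ := hμψ (χ ^ d)
      exact ⟨c • (b - 1), by rw [map_smul, map_sub, map_one, hb, map_pow]⟩
    have hb0 : b = 0 := by rw [← hr₂ b, hb, ← hc, hr2c]
    rw [hb0, map_zero] at hb
    have h3 : ψ (r₁ (∑ i ∈ Finset.range (d + 1), p i • g ^ i)) = 0 := by
      rw [hc, ← hb, map_zero, map_zero]
    have h4 : ∀ i ∈ Finset.range (d + 1), ψ (r₁ (p i • g ^ i)) = (p i * a ^ i) • (μ χ ^ d - 1) := by
      intro i hi
      have hid := Nat.lt_succ_iff.1 (Finset.mem_range.1 hi)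
      rcases Nat.eq_zero_or_pos i with rfl | hi0
      · simp [hp0]
      have h2 : p i • (μ χ - 1) ^ i = p i • (μ χ ^ d - 1) := by
        have h := smul_add_pow (fun h => h ▸ hp0) (hadd i hid) (μ χ - 1) (1 : A)
        rw [sub_add_cancel, one_pow] at h
        rw [smul_sub, ← hpow i hid, h, add_sub_cancel_right]
      rw [map_smul, map_smul, map_pow, map_pow, h₁, smul_pow, smul_comm, h2, smul_smul, mul_comm]
    rw [map_sum, map_sum, Finset.sum_congr rfl h4, ← Finset.sum_smul] at h3
    rcases smul_eq_zero.1 h3 with h | h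
    · exact h
    · exact absurd (hli.injective (by rw [map_pow, map_one]; exact sub_eq_zero.1 h)) hμd
  have hPa : P.eval a = 0 := by
    rw [← hroot]
    simp [P, Polynomial.eval_finsetSum]
  have hmod : f %ₘ P = 0 := by
    refine hlt _ ?_ ?_
    · have h := congrArg (Polynomial.aeval x) (Polynomial.modByMonic_add_div f P)
      rw [map_add, map_mul, hPx, zero_mul, add_zero, hf] at h
      exact h
    · rw [← hPdeg]
      exact Polynomial.natDegree_modByMonic_lt f hPmon fun h => hd0 (by rw [← hPdeg, h, Polynomial.natDegree_one])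
  rw [← Polynomial.modByMonic_add_div f P, hmod, Polynomial.eval_add, Polynomial.eval_mul, hPa,
    zero_mul, Polynomial.eval_zero, add_zero]

end Main

/-- composition with a map injective on the quotient group keeps the characters independent -/
theorem linearIndependent_comp {A B C : Type u} [CommRing A] [HopfAlgebra k A] [CommRing B]
    [HopfAlgebra k B] [CommRing C] [HopfAlgebra k C] {ψ : B →ₐc[k] A} {M : Type u} [CommGroup M]
    {μ : M →* A} (hli : LinearIndependent k μ) (hμψ : ∀ m, ∃ b, ψ b = μ m) (q : A →ₐc[k] C)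
    (hq : Function.Injective (q ∘ ψ)) : LinearIndependent k (fun m => q (μ m)) := by
  choose b hb using hμψ
  have hlb : LinearIndependent k b := by
    refine LinearIndependent.of_comp ((ψ : B →ₐ[k] A).toLinearMap) ?_
    rwa [show ((ψ : B →ₐ[k] A).toLinearMap ∘ b) = μ from funext hb]
  have := hlb.map' ((q : A →ₐ[k] C).toLinearMap ∘ₗ (ψ : B →ₐ[k] A).toLinearMap)
    (LinearMap.ker_eq_bot.2 hq)
  rwa [show (fun m => q (μ m)) = ((q : A →ₐ[k] C).toLinearMap ∘ₗ (ψ : B →ₐ[k] A).toLinearMap) ∘ b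
    from funext fun m => (congrArg q (hb m)).symm]

theorem isRadical_of_reduced {A : Type u} [CommRing A] (I J : Ideal A) (K J₁ : Ideal (A ⧸ I))
    (hJ₁ : J₁ = J.map (Ideal.Quotient.mk I))
    (h : IsReduced (((A ⧸ I) ⧸ J₁) ⧸ K.map (Ideal.Quotient.mk J₁))) :
    Ideal.IsRadical (K.comap (Ideal.Quotient.mk I) ⊔ J) := by
  have hk : RingHom.ker (((Ideal.Quotient.mk (K.map (Ideal.Quotient.mk J₁))).comp
      (Ideal.Quotient.mk J₁)).comp (Ideal.Quotient.mk I)) = K.comap (Ideal.Quotient.mk I) ⊔ J := by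
    rw [← RingHom.comap_ker, ← RingHom.comap_ker, Ideal.mk_ker,
      Ideal.comap_map_of_surjective _ Ideal.Quotient.mk_surjective, ← RingHom.ker_eq_comap_bot,
      Ideal.mk_ker, hJ₁]
    refine le_antisymm ?_ (sup_le (Ideal.comap_mono le_sup_left) ?_)
    · intro x hx
      obtain ⟨y, hy, z, hz, hyz⟩ := Submodule.mem_sup.1 (Ideal.mem_comap.1 hx)
      obtain ⟨z', hz', rfl⟩ := (Ideal.mem_map_iff_of_surjective _ Ideal.Quotient.mk_surjective).1 hz
      refine Submodule.mem_sup.2 ⟨x - z', ?_, z', hz', sub_add_cancel x z'⟩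
      rw [Ideal.mem_comap, map_sub, ← hyz, add_sub_cancel_right]
      exact hy
    · exact le_trans Ideal.le_comap_map (Ideal.comap_mono le_sup_right)
  intro a ha
  obtain ⟨n, hn⟩ := ha
  rw [← hk, RingHom.mem_ker] at hn ⊢
  rw [map_pow] at hn
  exact @IsReduced.eq_zero _ _ _ h _ ⟨n, hn⟩

section Step

variable [IsAlgClosed k] {A B : Type u} [CommRing A] [HopfAlgebra k A] [Algebra.FiniteType k A]
  [CommRing B] [HopfAlgebra k B] {ψ : B →ₐc[k] A} {J : Ideal A}
  (hJ : J = Ideal.map (ψ : B →+* A) (RingHom.ker (Bialgebra.counitAlgHom k B)))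
  {M : Type u} [CommGroup M] {μ : M →* A} (hμ : ∀ m, IsGroupLikeElem k (μ m))
  (hli : LinearIndependent k μ) (hspan : ∀ b, ψ b ∈ Submodule.span k (Set.range μ))
  (hμψ : ∀ m, ∃ b, ψ b = μ m)

include hJ hμ hli hspan hμψ in
theorem exists_choice (R₂ : A →ₐc[k] B) (hR₂ : ∀ b, R₂ (ψ b) = b) {χ : M} {g : A}
    (hg : comul (R := k) g = g ⊗ₜ 1 + μ χ ⊗ₜ g) (hgB : ∀ b, ψ b ≠ g) (hsm₁ : Smoothish k B J) :
    ∃ (χ : M) (g : A), comul (R := k) g = g ⊗ₜ 1 + μ χ ⊗ₜ g ∧ (∀ b, ψ b ≠ g) ∧
      (CharZero k ∨ IsReduced B ∨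
        IsReduced ((A ⧸ J) ⧸ Ideal.span {Ideal.Quotient.mkₐ k J g})) := by
  rcases hsm₁ with h | h | h
  · exact ⟨χ, g, hg, hgB, Or.inl h⟩
  · exact ⟨χ, g, hg, hgB, Or.inr (Or.inl h)⟩
  · obtain ⟨p, hp⟩ := CharP.exists k
    rcases CharP.char_is_prime_or_zero k p with hp' | hp'
    · haveI := Fact.mk hp'
      haveI : IsReduced (A ⧸ J) := (Ideal.isRadical_iff_quotient_reduced J).1 h
      have hg0 : Ideal.Quotient.mkₐ k J g ≠ 0 := by
        intro h0
        obtain ⟨b, hb⟩ := mem_range_of_tmul ψ fun T _ _ i₁ i₂ h12 =>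
          eq_of_coinv_left hJ i₁ i₂ h12 (x := g) (by
            have := left_crossed hJ hμ hμψ hg
            rwa [h0, TensorProduct.zero_tmul, zero_add] at this)
        exact hgB b hb
      obtain ⟨χ', g', hg', hg'0, hred⟩ := exists_smooth_crossed p hJ hμ hli
        hspan hμψ R₂ hR₂ hg hg0
      refine ⟨χ', g', hg', fun b hb => hg'0 ?_, Or.inr (Or.inr hred)⟩
      rw [← hb, mk_ψ hJ, show counit (R := k) b = 0 from ?_, map_zero]
      rw [← CoalgHomClass.counit_comp_apply ψ b, hb]
      exact counit_crossed hμ hg'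
    · subst hp'
      exact ⟨χ, g, hg, hgB, Or.inl (CharP.charP_to_charZero k)⟩

/-- a closed subgroup containing one section and a conjugate of the other, with smoothish kernel -/
def Good (ψ : B →ₐc[k] A) (J : Ideal A) (r' r'' : A →ₐc[k] B) (I : Ideal A) : Prop :=
  I.IsHopfIdeal k ∧ (∀ x ∈ I, r'' x = 0) ∧ Smoothish k B (I ⊔ J) ∧
    ∃ u : A →ₐ[k] k, (∀ a ∈ J, u a = 0) ∧ ∀ x ∈ I, (r'.comp (conjHom u)) x = 0

include hJ in
/-- a conjugate of a section is a section -/
theorem conj_section (u : A →ₐ[k] k) (hu : ∀ a ∈ J, u a = 0) (r : A →ₐc[k] B) (hr : ∀ b, r (ψ b) = b)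
    (b : B) : (r.comp (conjHom u)) (ψ b) = b := by
  have h : precomp ψ (toConv ((r.comp (conjHom u) : A →ₐc[k] B) : A →ₐ[k] B)) =
      precomp ψ (toConv (r : A →ₐ[k] B)) := by
    rw [comp_conjHom, precomp_conjP]
    have hu1 : u.comp (ψ : B →ₐ[k] A) = Bialgebra.counitAlgHom k B := AlgHom.ext fun c => by
      change u (ψ c) = counit (R := k) c
      have h0 : ψ c - algebraMap k A (counit (R := k) c) ∈ J := by
        rw [← Ideal.Quotient.eq_zero_iff_mem, ← Ideal.Quotient.mkₐ_eq_mk k, map_sub, mk_ψ hJ,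
          AlgHom.commutes, sub_self]
      have := hu _ h0
      rwa [map_sub, AlgHom.commutes, sub_eq_zero] at this
    rw [hu1, conjP_counit]
  exact (congrArg (fun f : WithConv (B →ₐ[k] B) => f.ofConv b) h).trans (hr b)

include hJ hμ hli hspan hμψ in
/-- A larger good ideal exists unless the sections agree. -/
theorem exists_bigger [J.IsHopfIdeal k] (hU : HopfRep.IsUnipotent k (A ⧸ J)) (r' r'' : A →ₐc[k] B)
    (hr'b : ∀ b, r' (ψ b) = b) (hr''b : ∀ b, r'' (ψ b) = b) (I : Ideal A) [I.IsHopfIdeal k]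
    (hI'' : ∀ x ∈ I, r'' x = 0) (hIsm : Smoothish k B (I ⊔ J)) (u : A →ₐ[k] k)
    (huJ : ∀ a ∈ J, u a = 0) (hI' : ∀ x ∈ I, (r'.comp (conjHom u)) x = 0) (a : A)
    (hy : ¬ ∃ b, (Ideal.Quotient.mk I ∘ ψ) b = Ideal.Quotient.mk I a) :
    ∃ I', Good (k := k) ψ J r' r'' I' ∧ I < I' := by
  classical
  let q : A →ₐc[k] A ⧸ I := Bialgebra.Quotient.mkBialgHom I
  let r₁ : A →ₐc[k] B := r'.comp (conjHom u)
  have hr₁ : ∀ b, r₁ (ψ b) = b := conj_section hJ u huJ r' hr'b
  have hIinj : Function.Injective (Ideal.Quotient.mk I ∘ ψ) := by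
    intro b b' hbb
    have := hI'' _ (Ideal.Quotient.eq.1 hbb)
    rwa [map_sub, hr''b, hr''b, sub_eq_zero] at this
  obtain ⟨χ, g, hg, hgB⟩ := exists_crossed hJ hμ hli hspan hμψ hU I hIinj a (fun b hb => hy ⟨b, hb⟩)
  let ψ₁ : B →ₐc[k] A ⧸ I := q.comp ψ
  let μ₁ : M →* A ⧸ I := ((Ideal.Quotient.mk I : A →+* A ⧸ I) : A →* A ⧸ I).comp μ
  have hμ₁ : ∀ m, IsGroupLikeElem k (μ₁ m) := fun m => (hμ m).map q
  have hli₁ : LinearIndependent k μ₁ := linearIndependent_comp hli hμψ q hIinj
  have hspan₁ : ∀ b, ψ₁ b ∈ Submodule.span k (Set.range μ₁) := by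
    intro b
    have h := Submodule.apply_mem_span_image_of_mem_span (q : A →ₐ[k] A ⧸ I).toLinearMap (hspan b)
    rw [← Set.range_comp] at h
    exact h
  have hμψ₁ : ∀ m, ∃ b, ψ₁ b = μ₁ m := fun m => (hμψ m).imp fun b hb => congrArg q hb
  let J₁ : Ideal (A ⧸ I) := Ideal.map (ψ₁ : B →+* A ⧸ I) (RingHom.ker (Bialgebra.counitAlgHom k B))
  have hJ₁ : J₁ = J.map (Ideal.Quotient.mk I) := by
    rw [hJ, Ideal.map_map]
    rfl
  haveI : Algebra.FiniteType k (A ⧸ I) :=
    Algebra.FiniteType.of_surjective (Ideal.Quotient.mkₐ k I) Ideal.Quotient.mk_surjective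
  let lift : ∀ r : A →ₐc[k] B, (∀ x ∈ I, r x = 0) → (A ⧸ I →ₐc[k] B) := fun r hr =>
    BialgHom.ofAlgHom (Ideal.Quotient.liftₐ I (r : A →ₐ[k] B) hr)
      (AlgHom.ext fun x => by
        obtain ⟨x, rfl⟩ := Ideal.Quotient.mk_surjective x
        change counit (R := k) (r x) = counit (R := k) (Ideal.Quotient.mk I x)
        rw [CoalgHomClass.counit_comp_apply]
        rfl)
      (AlgHom.ext fun x => by
        obtain ⟨x, rfl⟩ := Ideal.Quotient.mk_surjective x
        change Algebra.TensorProduct.map _ _ (comul (R := k) (q x)) = comul (R := k) (r x)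
        rw [← CoalgHomClass.map_comp_comul_apply q x, ← CoalgHomClass.map_comp_comul_apply r x]
        generalize comul (R := k) x = z
        induction z using TensorProduct.induction_on with
        | zero => simp
        | add x y hx hy => simp only [map_add, hx, hy]
        | tmul x y => rfl)
  let R₁ := lift r₁ hI'
  let R₂ := lift r'' hI''
  have hR₁ : ∀ b, R₁ (ψ₁ b) = b := hr₁
  have hR₂ : ∀ b, R₂ (ψ₁ b) = b := hr''b
  have hradiff : ∀ {R : Type u} [CommRing R] (f : A ⧸ I →+* R), Function.Surjective f →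
      RingHom.ker f = J₁ → ((I ⊔ J).IsRadical ↔ IsReduced R) := by
    intro R _ f hf hk
    rw [← isRadical_ker_iff (f.comp (Ideal.Quotient.mk I)) (hf.comp Ideal.Quotient.mk_surjective),
      ← RingHom.comap_ker, hk, hJ₁, Ideal.comap_map_of_surjective _ Ideal.Quotient.mk_surjective,
      ← RingHom.ker_eq_comap_bot, Ideal.mk_ker, sup_comm]
  have hsm₁ : Smoothish k B J₁ := by
    rcases hIsm with h | h | h
    · exact Or.inl h
    · exact Or.inr (Or.inl h)
    · exact Or.inr (Or.inr ((Ideal.isRadical_iff_quotient_reduced J₁).2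
        ((hradiff (Ideal.Quotient.mk J₁) Ideal.Quotient.mk_surjective Ideal.mk_ker).1 h)))
  -- choose the crossed homomorphism
  obtain ⟨χ, g, hg, hgB, hred⟩ : ∃ (χ : M) (g : A ⧸ I),
      comul (R := k) g = g ⊗ₜ 1 + μ₁ χ ⊗ₜ g ∧ (∀ b, ψ₁ b ≠ g) ∧
      (CharZero k ∨ IsReduced B ∨
        IsReduced (((A ⧸ I) ⧸ J₁) ⧸ Ideal.span {Ideal.Quotient.mkₐ k J₁ g})) :=
    exists_choice (ψ := ψ₁) (J := J₁) rfl hμ₁ hli₁ hspan₁ hμψ₁ R₂ hR₂ hg hgB hsm₁
  -- both sections evaluated
  have hval : ∀ (R : A ⧸ I →ₐc[k] B), (∀ b, R (ψ₁ b) = b) → ∀ g : A ⧸ I,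
      comul (R := k) g = g ⊗ₜ 1 + μ₁ χ ⊗ₜ g → ∃ a : k, ψ₁ (R g) = a • (μ₁ χ - 1) := by
    intro R hR g hg
    refine eq_smul_of_crossed hμ₁ hli₁ (hspan₁ _) ?_
    rw [← CoalgHomClass.map_comp_comul_apply ψ₁, ← CoalgHomClass.map_comp_comul_apply R, hg]
    simp only [map_add, TensorProduct.map_tmul, LinearMap.coe_coe, map_one]
    obtain ⟨b, hb⟩ := hμψ₁ χ
    rw [← hb]
    congr 2
    exact congrArg ψ₁ (hR b)
  obtain ⟨a₂, ha₂⟩ := hval R₂ hR₂ g hg
  set g' := g + (-a₂) • (μ₁ χ - 1) with hg'def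
  have hg' : comul (R := k) g' = g' ⊗ₜ 1 + μ₁ χ ⊗ₜ g' := crossed_add hμ₁ hg _
  obtain ⟨bχ, hbχ⟩ := hμψ₁ χ
  have hR₂g : R₂ g' = 0 := by
    refine hIinj ?_
    change ψ₁ (R₂ g') = ψ₁ 0
    rw [hg'def, map_add R₂, map_smul R₂, map_sub R₂, map_one R₂, ← hbχ, hR₂ bχ, map_add ψ₁,
      map_smul ψ₁, map_sub ψ₁, map_one ψ₁, ha₂, hbχ, ← add_smul, add_neg_cancel, zero_smul, map_zero]
  have hg'B : g' ≠ 0 := fun h0 => hgB (a₂ • (bχ - 1)) (by
    rw [map_smul, map_sub, map_one, hbχ]
    rw [hg'def, neg_smul, ← sub_eq_add_neg, sub_eq_zero] at h0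
    exact h0.symm)
  obtain ⟨a₁, ha₁⟩ := hval R₁ hR₁ g' hg'
  obtain ⟨v, hvJ, hv⟩ : ∃ v : A ⧸ I →ₐ[k] k, (∀ x ∈ J₁, v x = 0) ∧
      ∀ b, v g' • (1 : B) + b - v g' • bχ = b - a₁ • (bχ - 1) := by
    by_cases hχ : χ = 1
    · refine ⟨Bialgebra.counitAlgHom k (A ⧸ I), fun x hx => ker_counit (ψ := ψ₁) rfl x hx, fun b => ?_⟩
      have hbχ1 : bχ = 1 := hIinj (by
        change ψ₁ bχ = ψ₁ 1
        rw [hbχ, hχ, map_one, map_one])
      rw [show (Bialgebra.counitAlgHom k (A ⧸ I)) g' = 0 from counit_crossed hμ₁ hg', hbχ1]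
      simp
    · obtain ⟨v, hv1, hv2⟩ := exists_point (ψ := ψ₁) (J := J₁) rfl (g := g')
        (show deltaQ (ψ := ψ₁) rfl (Ideal.Quotient.mkₐ k J₁ g') = _ by
          change Algebra.TensorProduct.map (Ideal.Quotient.mkₐ k J₁) (Ideal.Quotient.mkₐ k J₁)
            (comul (R := k) g') = _
          rw [hg', map_add, Algebra.TensorProduct.map_tmul, Algebra.TensorProduct.map_tmul,
            mk_μ (ψ := ψ₁) (J := J₁) rfl hμ₁ hμψ₁, map_one])
        a₁ (cond_of_smoothish (ψ := ψ₁) (J := J₁) rfl hμ₁ hli₁ hspan₁ hμψ₁ hIinj hχ hg' R₁ R₂ hR₁ hR₂ a₁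
          ha₁ hR₂g hsm₁)
      refine ⟨v, hv1, fun b => ?_⟩
      rw [hv2, smul_sub]
      abel
  have hvχ : v (μ₁ χ) = 1 := by
    have h0 : μ₁ χ - 1 ∈ J₁ := by
      rw [← Ideal.Quotient.eq_zero_iff_mem, ← Ideal.Quotient.mkₐ_eq_mk k, map_sub,
        mk_μ (ψ := ψ₁) (J := J₁) rfl hμ₁ hμψ₁, map_one, sub_self]
    have := hvJ _ h0
    rwa [map_sub, map_one, sub_eq_zero] at this
  have hR₁g : R₁ g' = a₁ • (bχ - 1) := hIinj (by
    change ψ₁ (R₁ g') = ψ₁ (a₁ • (bχ - 1))
    rw [ha₁, map_smul, map_sub, map_one, hbχ])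
  have hkill : (R₁.comp (conjHom v)) g' = 0 := by
    change ((R₁.comp (conjHom v) : A ⧸ I →ₐc[k] B) : A ⧸ I →ₐ[k] B) g' = 0
    rw [show ((R₁.comp (conjHom v) : A ⧸ I →ₐc[k] B) : A ⧸ I →ₐ[k] B) =
      (conjP v (toConv (R₁ : A ⧸ I →ₐ[k] B))).ofConv from congrArg WithConv.ofConv (comp_conjHom R₁ v),
      conjP_apply (hμ₁ χ) hg' (counit_crossed hμ₁ hg') hvχ, ofConv_toConv]
    change v g' • 1 + R₁ g' - v g' • R₁ (μ₁ χ) = 0
    rw [show R₁ (μ₁ χ) = bχ by rw [← hbχ, hR₁], hv, hR₁g, sub_self]
  -- the new subgroup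
  let K : Ideal (A ⧸ I) := Ideal.span {g'}
  haveI : K.IsHopfIdeal k := isHopfIdeal_span_skew (hμ₁ χ) hg'
  let q' : A →ₐc[k] (A ⧸ I) ⧸ K := (Bialgebra.Quotient.mkBialgHom K).comp q
  have hq' : Function.Surjective q' := Ideal.Quotient.mk_surjective.comp Ideal.Quotient.mk_surjective
  let I' : Ideal A := RingHom.ker q'
  have hI'K : I' = K.comap (Ideal.Quotient.mk I) :=
    Ideal.ext fun x => Ideal.Quotient.eq_zero_iff_mem
  have hkillK : ∀ R : A ⧸ I →ₐc[k] B, R g' = 0 → ∀ x ∈ I', R (q x) = 0 := by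
    intro R hR x hx
    rw [hI'K, Ideal.mem_comap, Ideal.mem_span_singleton'] at hx
    obtain ⟨c, hc⟩ := hx
    change R (Ideal.Quotient.mk I x) = 0
    rw [← hc, map_mul, hR, mul_zero]
  refine ⟨I', ⟨HopfKer.isHopfIdeal_ker q' hq' rfl, fun x hx => hkillK R₂ hR₂g x hx, ?_,
    (toConv (v.comp (q : A →ₐ[k] A ⧸ I)) * toConv u).ofConv, fun x hx => ?_, fun x hx => ?_⟩, ?_⟩
  · rcases hred with h | h | h
    · exact Or.inl h
    · exact Or.inr (Or.inl h)
    · refine Or.inr (Or.inr ?_)
      rw [show Ideal.span {Ideal.Quotient.mkₐ k J₁ g} = K.map (Ideal.Quotient.mk J₁) by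
        rw [Ideal.map_span, Set.image_singleton]
        congr 2
        exact (mk_crossed_add (ψ := ψ₁) (J := J₁) rfl hμ₁ hμψ₁ χ g (-a₂)).symm] at h
      rw [hI'K]
      exact isRadical_of_reduced I J K J₁ hJ₁ h
  · have hle : J ≤ RingHom.ker (toConv (v.comp (q : A →ₐ[k] A ⧸ I)) * toConv u).ofConv := by
      intro y hy
      refine lift_ratio hJ (toConv (v.comp (q : A →ₐ[k] A ⧸ I)) * toConv u) ?_ y hy
      have hone : ∀ w : A →ₐ[k] k, (∀ a ∈ J, w a = 0) → precomp ψ (toConv w) = 1 := fun w hw =>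
        WithConv.ofConv_injective (AlgHom.ext fun c => by
          change w (ψ c) = algebraMap k k (counit (R := k) c)
          have h0 : ψ c - algebraMap k A (counit (R := k) c) ∈ J := by
            rw [← Ideal.Quotient.eq_zero_iff_mem, ← Ideal.Quotient.mkₐ_eq_mk k, map_sub, mk_ψ hJ,
              AlgHom.commutes, sub_self]
          have := hw _ h0
          rwa [map_sub, AlgHom.commutes, sub_eq_zero] at this)
      rw [map_mul, hone _ (fun a ha => hvJ _ (hJ₁ ▸ Ideal.mem_map_of_mem _ ha)), hone u huJ, one_mul]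
    exact hle hx
  · have e : toConv ((r'.comp (conjHom (toConv (v.comp (q : A →ₐ[k] A ⧸ I)) * toConv u).ofConv) :
          A →ₐc[k] B) : A →ₐ[k] B) =
        precomp q (toConv ((R₁.comp (conjHom v) : A ⧸ I →ₐc[k] B) : A ⧸ I →ₐ[k] B)) := by
      rw [comp_conjHom, comp_conjHom, precomp_conjP, ← conjP_conjP]
      congr 1
      exact (comp_conjHom r' u).symm
    have := hkillK (R₁.comp (conjHom v)) hkill x hx
    exact (congrArg (fun f : WithConv (A →ₐ[k] B) => f.ofConv x) e).trans this
  · have hle : I ≤ I' := fun x hx => by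
      change Ideal.Quotient.mk K (Ideal.Quotient.mk I x) = 0
      rw [Ideal.Quotient.eq_zero_iff_mem.2 hx, map_zero]
    refine lt_of_le_of_ne hle fun hII => hg'B ?_
    obtain ⟨a', ha'⟩ := Ideal.Quotient.mk_surjective g'
    rw [← ha', Ideal.Quotient.eq_zero_iff_mem, hII]
    change Ideal.Quotient.mk K (Ideal.Quotient.mk I a') = 0
    rw [ha', Ideal.Quotient.eq_zero_iff_mem]
    exact Ideal.mem_span_singleton_self g'

end Step

/-- Sections of an extension of a diagonalisable group by a unipotent group are conjugate. -/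
theorem exists_conjugating [IsAlgClosed k] (A B : Type u) [CommRing A] [HopfAlgebra k A]
    [Algebra.FiniteType k A] [CommRing B] [HopfAlgebra k B] (hB : SGA3b.IsDiag k B)
    (ψ : B →ₐc[k] A) (hψ : Function.Injective ψ) (J : Ideal A) [J.IsHopfIdeal k]
    (hJ : J = Ideal.map (ψ : B →+* A) (RingHom.ker (Bialgebra.counitAlgHom k B)))
    (hU : HopfRep.IsUnipotent k (A ⧸ J)) (hsm : Smoothish k B J) (r' r'' : A →ₐc[k] B)
    (hr' : r'.comp ψ = BialgHom.id k B) (hr'' : r''.comp ψ = BialgHom.id k B) :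
    ∃ u : A →ₐ[k] k, (∀ a ∈ J, u a = 0) ∧
      toConv (r'' : A →ₐ[k] B) = conjP u (toConv (r' : A →ₐ[k] B)) := by
  classical
  obtain ⟨M, _, ⟨e⟩⟩ := hB
  let μ : M →* A := ((ψ : B →+* A) : B →* A).comp
    (((e.symm : MonoidAlgebra k M ≃ₐ[k] B) : MonoidAlgebra k M →* B).comp (MonoidAlgebra.of k M))
  have hμe : ∀ m, μ m = ψ (e.symm (MonoidAlgebra.single m 1)) := fun m => rfl
  have hμ : ∀ m, IsGroupLikeElem k (μ m) := fun m =>
    ((MonoidAlgebra.isGroupLikeElem_single_one m).map (e.symm : MonoidAlgebra k M →ₐc[k] B)).map ψ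
  let L : MonoidAlgebra k M →ₗ[k] A := (ψ : B →ₐ[k] A).toLinearMap ∘ₗ
    (e.symm : MonoidAlgebra k M ≃ₐ[k] B).toLinearEquiv.toLinearMap
  let bM : Module.Basis M k (MonoidAlgebra k M) :=
    Module.Basis.ofRepr (MonoidAlgebra.coeffLinearEquiv k)
  have hμL : (μ : M → A) = L ∘ bM := funext fun m => rfl
  have hli : LinearIndependent k μ := by
    rw [hμL]
    exact bM.linearIndependent.map' L (LinearMap.ker_eq_bot.2
      (hψ.comp (e.symm : MonoidAlgebra k M ≃ₐ[k] B).injective))
  have hspan : ∀ b, ψ b ∈ Submodule.span k (Set.range μ) := by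
    intro b
    rw [hμL, Set.range_comp, Submodule.span_image, bM.span_eq, Submodule.map_top]
    exact ⟨e b, congrArg ψ ((e : B ≃ₐ[k] MonoidAlgebra k M).symm_apply_apply b)⟩
  have hμψ : ∀ m, ∃ b, ψ b = μ m := fun m => ⟨_, (hμe m).symm⟩
  have hr'b : ∀ b, r' (ψ b) = b := fun b => DFunLike.congr_fun hr' b
  have hr''b : ∀ b, r'' (ψ b) = b := fun b => DFunLike.congr_fun hr'' b
  haveI : IsNoetherianRing A := Algebra.FiniteType.isNoetherianRing k A
  have hbot : Good (k := k) ψ J r' r'' (⊥ : Ideal A) := by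
    refine ⟨HopfKer.isHopfIdeal_ker (BialgHom.id k A) (fun x => ⟨x, rfl⟩)
      ((RingHom.injective_iff_ker_eq_bot _).1 fun _ _ h => h), fun x hx => ?_, ?_,
      Bialgebra.counitAlgHom k A, fun a ha => ker_counit hJ a ha, fun x hx => ?_⟩
    · rw [Ideal.mem_bot.1 hx, map_zero]
    · rwa [bot_sup_eq]
    · rw [Ideal.mem_bot.1 hx, map_zero]
  obtain ⟨(I : Ideal A), ⟨hIH, hI'', hIsm, u, huJ, hI'⟩, hmax⟩ :=
    set_has_maximal_iff_noetherian.2 inferInstance {I : Ideal A | Good (k := k) ψ J r' r'' I} ⟨⊥, hbot⟩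
  haveI := hIH
  let r₁ : A →ₐc[k] B := r'.comp (conjHom u)
  have hr₁ : ∀ b, r₁ (ψ b) = b := conj_section hJ u huJ r' hr'b
  by_cases hsurj : Function.Surjective (Ideal.Quotient.mk I ∘ ψ)
  · refine ⟨u, huJ, ?_⟩
    rw [← comp_conjHom]
    refine WithConv.ofConv_injective (AlgHom.ext fun a => ?_)
    obtain ⟨b, hb⟩ := hsurj (Ideal.Quotient.mk I a)
    have hmem : a - ψ b ∈ I := Ideal.Quotient.eq.1 hb.symm
    have h1 := hI'' _ hmem
    have h2 := hI' _ hmem
    rw [map_sub, sub_eq_zero] at h1 h2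
    change r'' a = r₁ a
    rw [h1, h2, hr''b]
    exact (hr₁ b).symm
  exfalso
  obtain ⟨y, hy⟩ := not_forall.1 hsurj
  obtain ⟨a, rfl⟩ := Ideal.Quotient.mk_surjective y
  obtain ⟨I', hI'g, hlt⟩ := exists_bigger hJ hμ hli hspan hμψ hU r' r'' hr'b hr''b I hI'' hIsm u huJ hI' a hy
  exact hmax I' hI'g hlt

end Groth.Sga3.SectionConj
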