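import Groth.Agent.Sga3.UnipotentDiag
import Groth.Agent.Misc1.Unip.CharPart
import Mathlib.FieldTheory.Perfect
import Mathlib.FieldTheory.IsAlgClosed.AlgebraicClosure
import Mathlib.RingTheory.TensorProduct.Finite

/-!
A commutative cocommutative Hopf algebra over a perfect field is the tensor product of its unipotent
part and its multiplicative part.
-/

set_option autoImplicit false

universe u

open TensorProduct WithConv Groth.ComodLib Groth.Misc1.Unip Groth.Sga3.UnipotentPart

noncomputable section

namespace Groth.Sga3.UnipMultDecomp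

section Independence

variable {K : Type u} [Field K] {A : Type u} [CommRing A] [HopfAlgebra K A]

/-- distinct characters are separated by functionals -/
theorem exists_dual {g g₀ : A} (hg : IsGroupLikeElem K g) (hg₀ : IsGroupLikeElem K g₀) (hne : g ≠ g₀) :
    ∃ φ : A →ₗ[K] K, φ g₀ = 0 ∧ φ g = 1 := by
  have hmem : g ∉ Submodule.span K {g₀} := by
    intro h
    obtain ⟨c, hc⟩ := Submodule.mem_span_singleton.1 h
    have := congrArg (Coalgebra.counit (R := K)) hc
    rw [map_smul, hg.counit_eq_one, hg₀.counit_eq_one, smul_eq_mul, mul_one] at this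
    rw [this, one_smul] at hc
    exact hne hc.symm
  obtain ⟨f, hf, hle⟩ := Submodule.exists_le_ker_of_notMem hmem
  refine ⟨(f g)⁻¹ • f, ?_, ?_⟩
  · rw [LinearMap.smul_apply, LinearMap.mem_ker.1 (hle (Submodule.mem_span_singleton_self g₀)), smul_zero]
  · rw [LinearMap.smul_apply, smul_eq_mul, inv_mul_cancel₀ hf]

/-- translates of the unipotent part by distinct characters are independent, by induction on the stages -/
theorem eq_zero_of_sum_aux (s : Finset A) (hs : ∀ g ∈ s, IsGroupLikeElem K g) :
    ∀ (N : ℕ) (n : A → ℕ) (b : A → A), ∑ g ∈ s, n g ≤ N → (∀ g ∈ s, b g ∈ U K A (n g)) →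
      ∑ g ∈ s, b g * g = 0 → ∀ g ∈ s, b g = 0 := by
  classical
  intro N
  induction N with
  | zero =>
    intro n b hN hb _ g hg
    have h := hb g hg
    rw [Finset.sum_eq_zero_iff.1 (Nat.le_zero.1 hN) g hg] at h
    exact (Submodule.mem_bot K).1 h
  | succ N ih =>
    intro n b hN hb hsum
    have hlow : ∀ g₀ ∈ s, 0 < n g₀ → ∑ g ∈ s, Function.update n g₀ (n g₀ - 1) g ≤ N := by
      intro g₀ hg₀ hpos
      have h : ∑ g ∈ s, Function.update n g₀ (n g₀ - 1) g < ∑ g ∈ s, n g := by
        refine Finset.sum_lt_sum (fun g _ => ?_) ⟨g₀, hg₀, ?_⟩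
        · rcases eq_or_ne g g₀ with rfl | h
          · rw [Function.update_self]; omega
          · rw [Function.update_of_ne h]
        · rw [Function.update_self]; omega
      omega
    by_cases h0 : ∃ g₀ ∈ s, 0 < n g₀
    · obtain ⟨g₀, hg₀, hn₀⟩ := h0
      by_cases h1 : ∃ g ∈ s, g ≠ g₀ ∧ 0 < n g
      · obtain ⟨g, hg, hne, hng⟩ := h1
        obtain ⟨φ, hφ₀, hφ⟩ := exists_dual (hs g hg) (hs g₀ hg₀) hne
        let b' : A → A := fun h => slice (φ ∘ₗ LinearMap.mulRight K h) (Coalgebra.comul (R := K) (b h))
        have hstep : ∀ h ∈ s, ∀ j, n h = j + 1 → b' h - φ h • b h ∈ U K A j := by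
          intro h hh j hj
          have := mem_U_succ.1 (hj ▸ hb h hh) (φ ∘ₗ LinearMap.mulRight K h)
          simpa [b'] using this
        have hz : ∀ h ∈ s, b' h = 0 := by
          refine ih (Function.update n g₀ (n g₀ - 1)) b' (hlow g₀ hg₀ hn₀) (fun h hh => ?_) ?_
          · rcases eq_or_ne h g₀ with rfl | hh'
            · rw [Function.update_self]
              have := hstep h hh (n h - 1) (by omega)
              rwa [hφ₀, zero_smul, sub_zero] at this
            · rw [Function.update_of_ne hh']
              exact mem_U_of_slice (hb h hh) _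
          · have h2 := congrArg (fun x => slice φ (Coalgebra.comul (R := K) x)) hsum
            simp only [map_sum, map_zero] at h2
            rw [← h2]
            exact Finset.sum_congr rfl fun h hh => (slice_mul_grouplike (hs h hh) φ (b h)).symm
        refine ih (Function.update n g (n g - 1)) b (hlow g hg hng) (fun h hh => ?_) hsum
        rcases eq_or_ne h g with rfl | hh'
        · rw [Function.update_self]
          have := hstep h hh (n h - 1) (by omega)
          rwa [hz h hh, hφ, one_smul, zero_sub, Submodule.neg_mem_iff] at this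
        · rw [Function.update_of_ne hh']
          exact hb h hh
      · push Not at h1
        have hz : ∀ h ∈ s, h ≠ g₀ → b h = 0 := fun h hh hne => by
          have := hb h hh
          rw [Nat.le_zero.1 (h1 h hh hne)] at this
          exact (Submodule.mem_bot K).1 this
        rw [Finset.sum_eq_single g₀ (fun h hh hne => by rw [hz h hh hne, zero_mul])
          (fun h => absurd hg₀ h)] at hsum
        intro h hh
        rcases eq_or_ne h g₀ with rfl | hne
        · calc b h = b h * (h * HopfAlgebra.antipode K h) := by rw [(hs h hh).mul_antipode_cancel, mul_one]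
            _ = 0 := by rw [← mul_assoc, hsum, zero_mul]
        · exact hz h hh hne
    · push Not at h0
      intro g hg
      have h := hb g hg
      rw [Nat.le_zero.1 (h0 g hg)] at h
      exact (Submodule.mem_bot K).1 h

/-- translates of the unipotent part by distinct characters are independent -/
theorem eq_zero_of_sum (s : Finset A) (hs : ∀ g ∈ s, IsGroupLikeElem K g) (b : A → A)
    (hb : ∀ g ∈ s, b g ∈ unip K A) (hsum : ∑ g ∈ s, b g * g = 0) : ∀ g ∈ s, b g = 0 := by
  classical
  have : ∀ g, ∃ n, g ∈ s → b g ∈ U K A n := fun g => by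
    by_cases hg : g ∈ s
    · obtain ⟨n, hn⟩ := mem_unip.1 (hb g hg)
      exact ⟨n, fun _ => hn⟩
    · exact ⟨0, fun h => absurd h hg⟩
  choose n hn using this
  exact eq_zero_of_sum_aux s hs _ n b le_rfl hn hsum

end Independence

section Field

variable {k : Type u} [Field k] {A : Type u} [CommRing A] [HopfAlgebra k A]
variable {K : Type u} [Field K] [Algebra k K]

/-- the unipotent filtration goes up under extension of scalars -/
theorem incl_mem_U : ∀ (n : ℕ) (a : A), a ∈ U k A n → incl K a ∈ U K (K ⊗[k] A) n
  | 0, a, ha => by
    rw [(Submodule.mem_bot k).1 ha, map_zero]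
    exact Submodule.zero_mem _
  | n + 1, a, ha => by
    rw [U, LinearMap.mem_ker, stepMap, LinearMap.comp_apply] at ha ⊢
    obtain ⟨w, hw⟩ := ((_root_.rTensor_exact A (LinearMap.exact_subtype_mkQ _)
      (Submodule.mkQ_surjective _)) _).1 ha
    have e : ((Coalgebra.comul (R := K) (A := K ⊗[k] A)) - (TensorProduct.mk K (K ⊗[k] A) (K ⊗[k] A)).flip 1)
        (incl K a) = nat k K A ((U k A n).subtype.rTensor A w) := by
      rw [hw]
      simp [comul_incl, nat_tmul]
    rw [e]
    clear hw e
    induction w using TensorProduct.induction_on with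
    | zero => simp
    | add p q hp hq => simp only [map_add, hp, hq, add_zero]
    | tmul p q =>
      rw [LinearMap.rTensor_tmul, Submodule.subtype_apply, nat_tmul, LinearMap.rTensor_tmul,
        Submodule.mkQ_apply, (Submodule.Quotient.mk_eq_zero _).2 (incl_mem_U n p p.2), TensorProduct.zero_tmul]

theorem incl_mem_unip {a : A} (ha : a ∈ unip k A) : incl K a ∈ unip K (K ⊗[k] A) := by
  obtain ⟨n, hn⟩ := mem_unip.1 ha
  exact mem_unip.2 ⟨n, incl_mem_U n a hn⟩

variable (k A) in
/-- the multiplication of the unipotent part and the multiplicative part -/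
def mulMap (K : Type u) [Field K] [Algebra k K] : unip k A ⊗[k] charPart k K A →ₐ[k] A :=
  Algebra.TensorProduct.productMap (unip k A).val (charPart k K A).val

theorem mulMap_tmul (b : unip k A) (c : charPart k K A) : mulMap k A K (b ⊗ₜ c) = (b : A) * (c : A) := by
  simp [mulMap]

/-- the unipotent part and the multiplicative part are linearly disjoint -/
theorem mulMap_injective : Function.Injective (mulMap k A K) := by
  classical
  rw [injective_iff_map_eq_zero]
  intro z hz
  let e := Module.Basis.ofVectorSpace k (charPart k K A)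
  obtain ⟨β, hβ⟩ := TensorProduct.eq_repr_basis_right e z
  suffices h : ∀ i ∈ β.support, β i = 0 by
    have h0 : β = 0 := Finsupp.ext fun i => by
      by_cases hi : i ∈ β.support
      · exact h i hi
      · exact Finsupp.notMem_support_iff.1 hi
    rw [← hβ, h0, Finsupp.sum_zero_index]
  let c : Module.Basis.ofVectorSpaceIndex k (charPart k K A) → K ⊗[k] A := fun i => incl K (e i : A)
  have hli : LinearIndependent K c := by
    have h1 : LinearMap.ker ((charPart k K A).val.toLinearMap.baseChange K) = ⊥ := LinearMap.ker_eq_bot.2
      (Module.Flat.lTensor_preserves_injective_linearMap (M := K) (charPart k K A).val.toLinearMap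
        Subtype.val_injective)
    have h2 := (e.baseChange K).linearIndependent.map' _ h1
    have h3 : c = (charPart k K A).val.toLinearMap.baseChange K ∘ e.baseChange K := funext fun i => by
      simp [c, incl_apply]
    rw [h3]
    exact h2
  have hex : ∀ i, ∃ l : (K ⊗[k] A) →₀ K, (∀ g ∈ l.support, IsGroupLikeElem K g) ∧ c i = l.sum fun g r => r • g := by
    intro i
    obtain ⟨l, hl, hlx⟩ := Submodule.mem_span_set.1 (mem_charPart.1 (e i).2)
    exact ⟨l, hl, hlx.symm⟩
  choose l hl hlx using hex
  let s := β.support.biUnion fun i => (l i).support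
  have hs : ∀ g ∈ s, IsGroupLikeElem K g := fun g hg => by
    obtain ⟨i, _, hi⟩ := Finset.mem_biUnion.1 hg
    exact hl i g hi
  let b : (K ⊗[k] A) → K ⊗[k] A := fun g => ∑ i ∈ β.support, l i g • incl K (β i : A)
  have hzero : ∀ g ∈ s, b g = 0 := by
    refine eq_zero_of_sum s hs b (fun g _ => Subalgebra.sum_mem _ fun i _ =>
      Subalgebra.smul_mem _ (incl_mem_unip (β i).2) _) ?_
    have h1 := congrArg (incl (k := k) K) hz
    rw [← hβ, Finsupp.sum, map_sum, map_sum, map_zero] at h1
    rw [← h1]
    simp only [b, Finset.sum_mul]
    rw [Finset.sum_comm]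
    refine Finset.sum_congr rfl fun i hi => ?_
    rw [mulMap_tmul, map_mul]
    conv_rhs => rw [show incl K (e i : A) = (l i).sum fun g r => r • g from hlx i,
      Finsupp.sum_of_support_subset (l i) (Finset.subset_biUnion_of_mem (fun i => (l i).support) hi) (fun g r => r • g) (fun g _ => zero_smul K g),
      Finset.mul_sum]
    exact Finset.sum_congr rfl fun g _ => by rw [smul_mul_assoc, mul_smul_comm]
  intro i hi
  apply Subtype.ext
  apply (Algebra.TensorProduct.includeRight_injective (algebraMap k K).injective :
    Function.Injective (Algebra.TensorProduct.includeRight : A →ₐ[k] K ⊗[k] A))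
  rw [ZeroMemClass.coe_zero, map_zero]
  refine (Module.forall_dual_apply_eq_zero_iff K _).1 fun φ => ?_
  refine linearIndependent_iff'.1 hli β.support (fun j => φ (incl K (β j : A))) ?_ i hi
  have h3 : ∀ g ∈ s, ∑ j ∈ β.support, l j g * φ (incl K (β j : A)) = 0 := fun g hg => by
    have := congrArg φ (hzero g hg)
    simpa [b, map_sum] using this
  calc ∑ j ∈ β.support, φ (incl K (β j : A)) • c j
      = ∑ j ∈ β.support, ∑ g ∈ s, (l j g * φ (incl K (β j : A))) • g := by
        refine Finset.sum_congr rfl fun j hj => ?_
        rw [hlx j, Finsupp.sum_of_support_subset (l j) (Finset.subset_biUnion_of_mem (fun i => (l i).support) hj) (fun g r => r • g) (fun g _ => zero_smul K g),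
          Finset.smul_sum]
        exact Finset.sum_congr rfl fun g _ => by rw [smul_smul, mul_comm]
    _ = ∑ g ∈ s, (∑ j ∈ β.support, l j g * φ (incl K (β j : A))) • g := by
        rw [Finset.sum_comm]
        exact Finset.sum_congr rfl fun g _ => (Finset.sum_smul).symm
    _ = 0 := Finset.sum_eq_zero fun g hg => by rw [h3 g hg, zero_smul]

/-- the inclusion of a smaller scalar extension -/
def up (E : IntermediateField k K) : E ⊗[k] A →ₐ[k] K ⊗[k] A :=
  Algebra.TensorProduct.map E.val (AlgHom.id k A)

theorem up_tmul (E : IntermediateField k K) (r : E) (a : A) : up E (r ⊗ₜ[k] a) = (r : K) ⊗ₜ[k] a := rfl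

theorem exists_finite_subfield [Algebra.IsAlgebraic k K] (z : K ⊗[k] A) :
    ∃ E : IntermediateField k K, FiniteDimensional k E ∧ z ∈ Set.range (up (A := A) E) := by
  induction z using TensorProduct.induction_on with
  | zero => exact ⟨⊥, inferInstance, 0, map_zero _⟩
  | tmul r a =>
    exact ⟨IntermediateField.adjoin k {r}, IntermediateField.adjoin.finiteDimensional (Algebra.IsIntegral.isIntegral r),
      (⟨r, IntermediateField.mem_adjoin_simple_self k r⟩ : IntermediateField.adjoin k {r}) ⊗ₜ a, rfl⟩
  | add p q hp hq =>
    obtain ⟨E, hE, x, rfl⟩ := hp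
    obtain ⟨F, hF, y, rfl⟩ := hq
    haveI := hE
    haveI := hF
    refine ⟨E ⊔ F, inferInstance, ?_⟩
    have h : ∀ {E' : IntermediateField k K} (h : E' ≤ E ⊔ F) (x : E' ⊗[k] A), up E' x ∈ (up (A := A) (E ⊔ F)).range := by
      intro E' h x
      refine ⟨Algebra.TensorProduct.map (IntermediateField.inclusion h) (AlgHom.id k A) x, ?_⟩
      induction x using TensorProduct.induction_on with
      | zero => simp
      | add p q hp hq => simp only [map_add] at hp hq ⊢; rw [hp, hq]
      | tmul r a => rfl
    exact add_mem (h le_sup_left x) (h le_sup_right y)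

theorem comul_baseChange (R : Type u) [Field R] [Algebra k R] (z : R ⊗[k] A) :
    Coalgebra.comul (R := R) z = TensorProduct.AlgebraTensorModule.distribBaseChange k R A A
      ((Coalgebra.comul (R := k) (A := A)).lTensor R z) := by
  induction z using TensorProduct.induction_on with
  | zero => simp
  | add p q hp hq => simp only [map_add, hp, hq]
  | tmul r a =>
    have h : ∀ t : A ⊗[k] A, TensorProduct.AlgebraTensorModule.distribBaseChange k R A A (r ⊗ₜ[k] t) =
        r • nat k R A t := by
      intro t
      induction t using TensorProduct.induction_on with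
      | zero => simp
      | tmul p q => simp [nat_tmul, incl_apply, TensorProduct.smul_tmul']
      | add p q hp hq => rw [TensorProduct.tmul_add, map_add, map_add, hp, hq, smul_add]
    rw [LinearMap.lTensor_tmul, h, smul_incl, map_smul, comul_incl]

/-- being a character descends to a smaller field -/
theorem isGroupLike_of_up {E : IntermediateField k K} {g : E ⊗[k] A} (hg : IsGroupLikeElem K (up E g)) :
    IsGroupLikeElem E g := by
  have hε : ∀ z : E ⊗[k] A, Coalgebra.counit (R := K) (up E z) = ((Coalgebra.counit (R := E) z : E) : K) := by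
    intro z
    induction z using TensorProduct.induction_on with
    | zero => simp
    | add p q hp hq => simp only [map_add, hp, hq, AddMemClass.coe_add]
    | tmul r a => simp [up_tmul, TensorProduct.counit_tmul, CommSemiring.counit_apply]
  refine ⟨Subtype.ext (by rw [← hε]; exact hg.counit_eq_one), ?_⟩
  let D := TensorProduct.AlgebraTensorModule.distribBaseChange k E A A
  let D' := TensorProduct.AlgebraTensorModule.distribBaseChange k K A A
  let ι := (E.val.toLinearMap).rTensor (A ⊗[k] A)
  have hι : Function.Injective ι := Module.Flat.rTensor_preserves_injective_linearMap _ E.val.injective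
  have h1 : ∀ x y : E ⊗[k] A, ι (D.symm (x ⊗ₜ y)) = D'.symm (up E x ⊗ₜ up E y) := by
    intro x y
    induction x using TensorProduct.induction_on with
    | zero => simp
    | add p q hp hq => simp only [TensorProduct.add_tmul, map_add, hp, hq]
    | tmul r a =>
      induction y using TensorProduct.induction_on with
      | zero => simp
      | add p q hp hq => simp only [TensorProduct.tmul_add, map_add, hp, hq]
      | tmul s b => simp [D, D', ι, up_tmul]
  have h2 : ι ((Coalgebra.comul (R := k) (A := A)).lTensor E g) =
      (Coalgebra.comul (R := k) (A := A)).lTensor K (up E g) := by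
    clear hg
    induction g using TensorProduct.induction_on with
    | zero => simp
    | add p q hp hq => simp only [map_add, hp, hq]
    | tmul r a => rfl
  rw [comul_baseChange]
  refine D.symm.injective (hι ?_)
  rw [D.symm_apply_apply, h2, h1]
  apply D'.injective
  rw [D'.apply_symm_apply, ← comul_baseChange]
  exact hg.comul_eq_tmul_self

/-- over a perfect field the characters lie in the extension of the multiplicative part -/
theorem groupLike_mem [PerfectField k] [IsAlgClosed K] [Algebra.IsAlgebraic k K] {g : K ⊗[k] A}
    (hg : IsGroupLikeElem K g) : g ∈ LinearMap.range ((charPart k K A).val.toLinearMap.lTensor K) := by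
  obtain ⟨E, hE, g', rfl⟩ := exists_finite_subfield g
  haveI := hE
  obtain ⟨y, hy⟩ := groupLike_mem_range (L := K) E (isGroupLike_of_up hg)
  rw [← hy]
  clear hy hg
  induction y using TensorProduct.induction_on with
  | zero => simp
  | add p q hp hq => rw [map_add, map_add]; exact add_mem hp hq
  | tmul r c => exact ⟨(r : K) ⊗ₜ ⟨c, c.2⟩, rfl⟩

variable [Coalgebra.IsCocomm k A]

/-- over a perfect field the unipotent part and the multiplicative part generate -/
theorem mulMap_surjective [PerfectField k] [IsAlgClosed K] [Algebra.IsAlgebraic k K] :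
    Function.Surjective (mulMap k A K) := by
  apply (Module.FaithfullyFlat.lTensor_surjective_iff_surjective k K (mulMap k A K).toLinearMap).1
  rw [← LinearMap.range_eq_top, eq_top_iff]
  rintro x -
  have hx : x ∈ mulSpan K (K ⊗[k] A) := mulSpan_eq_top (K := K) (A := K ⊗[k] A) ▸ Submodule.mem_top
  let L := ((mulMap k A K).toLinearMap).baseChange K
  suffices x ∈ LinearMap.range L from this
  induction hx using Submodule.span_induction with
  | zero => exact Submodule.zero_mem _
  | add p q _ _ hp hq => exact Submodule.add_mem _ hp hq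
  | smul c p _ hp => exact Submodule.smul_mem _ c hp
  | mem x hx =>
    obtain ⟨b, hb, g, hg, rfl⟩ := hx
    obtain ⟨n, hn⟩ := mem_unip.1 hb
    obtain ⟨t, rfl⟩ := U_baseChange_le n b hn
    obtain ⟨y, rfl⟩ := groupLike_mem hg
    clear hb hn hg
    induction t using TensorProduct.induction_on with
    | zero => simp
    | add p q hp hq => rw [map_add, add_mul]; exact Submodule.add_mem _ hp hq
    | tmul r a =>
      induction y using TensorProduct.induction_on with
      | zero => simp
      | add p q hp hq => rw [map_add, mul_add]; exact Submodule.add_mem _ hp hq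
      | tmul s c =>
        exact ⟨(r * s) ⊗ₜ (⟨a, mem_unip.2 ⟨n, a.2⟩⟩ ⊗ₜ c), by simp [L, mulMap_tmul]⟩

omit [Coalgebra.IsCocomm k A] in
/-- elements of the multiplicative part are scalars in a unipotent quotient -/
theorem map_charPart {Q : Type u} [CommRing Q] [HopfAlgebra k Q] (f : A →ₐc[k] Q)
    (hU : ∀ q : Q, ∃ m, q ∈ fixSeries k Q Q m) {c : A} (hc : c ∈ charPart k K A) :
    f c = algebraMap k Q (Coalgebra.counit (R := k) c) := by
  let f' := Groth.Sga3.MultType.mapBC K f
  have key : ∀ z ∈ Submodule.span K {a : K ⊗[k] A | IsGroupLikeElem K a},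
      f' z = algebraMap K (K ⊗[k] Q) (Coalgebra.counit (R := K) z) := by
    intro z hz
    induction hz using Submodule.span_induction with
    | mem g hg =>
      rw [(hg : IsGroupLikeElem K g).counit_eq_one, map_one]
      exact groupLike_eq_one (exhaustive_baseChange K hU) ((hg : IsGroupLikeElem K g).map f')
    | zero => simp
    | add p q _ _ hp hq => simp only [map_add, hp, hq]
    | smul r p _ hp => rw [map_smul, map_smul, hp, smul_eq_mul, map_mul, Algebra.smul_def]
  have h := key _ (mem_charPart.1 hc)
  rw [incl_apply, Groth.Sga3.MultType.mapBC_tmul, ← incl_apply, ← incl_apply, counit_incl,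
    ← IsScalarTower.algebraMap_apply, ← (incl (A := Q) (k := k) K).commutes] at h
  exact (Algebra.TensorProduct.includeRight_injective (algebraMap k K).injective :
    Function.Injective (Algebra.TensorProduct.includeRight : Q →ₐ[k] K ⊗[k] Q)) h

end Field

end Groth.Sga3.UnipMultDecomp
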