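import Groth.Agent.GrpschAbsch.PerfectReduced
import Mathlib

/-!
The étale quotient of an algebraic group over a perfect field by a radiciel kernel lifts uniquely.
-/

set_option autoImplicit false

universe u

open TensorProduct Coalgebra WithConv

noncomputable section

namespace Groth.Sga3.RadicielLift

/-- over an algebraically closed field, a map into a reduced algebra of finite type which is injective on
points and has finitely many points on the source is surjective -/
theorem surjective_of_points_injective {K B C : Type u} [Field K] [IsAlgClosed K] [CommRing B] [Algebra K B]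
    [Algebra.FiniteType K B] [IsReduced B] [CommRing C] [Algebra K C] [Finite (C →ₐ[K] K)] (φ : C →ₐ[K] B)
    (h : ∀ x y : B →ₐ[K] K, x.comp φ = y.comp φ → x = y) : Function.Surjective φ := by
  classical
  haveI : Finite (B →ₐ[K] K) := Finite.of_injective (fun x => x.comp φ) fun x y => h x y
  intro b
  let I : (B →ₐ[K] K) → Ideal C := fun x => RingHom.ker (x.comp φ)
  have hsurj : ∀ x : B →ₐ[K] K, Function.Surjective (x.comp φ) := fun x r =>
    ⟨algebraMap K C r, by simp⟩
  have hI : Pairwise fun i j => IsCoprime (I i) (I j) := by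
    intro i j hij
    haveI : (I i).IsMaximal := RingHom.ker_isMaximal_of_surjective _ (hsurj i)
    haveI : (I j).IsMaximal := RingHom.ker_isMaximal_of_surjective _ (hsurj j)
    refine Ideal.isCoprime_of_isMaximal fun he => hij (h i j (AlgHom.ext fun c => ?_))
    have h1 : c - algebraMap K C (i (φ c)) ∈ I j := he ▸ (by simp [I, RingHom.mem_ker])
    simp [I, RingHom.mem_ker] at h1
    simp only [AlgHom.comp_apply]
    linear_combination -h1
  obtain ⟨c, hc⟩ := Ideal.exists_forall_sub_mem_ideal hI fun x => algebraMap K C (x b)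
  refine ⟨c, ?_⟩
  have h1 : ∀ x : B →ₐ[K] K, x b = x (φ c) := fun x => by
    have h1 := hc x
    simp [I, RingHom.mem_ker] at h1
    linear_combination -h1
  haveI : IsJacobsonRing B := isJacobsonRing_of_finiteType (A := K)
  have h2 : φ c - b ∈ (⊥ : Ideal B).jacobson := by
    rw [Ideal.jacobson, Ideal.mem_sInf]
    rintro M ⟨-, hM⟩
    haveI := hM
    letI := Ideal.Quotient.field M
    haveI : Module.Finite K (B ⧸ M) := finite_of_finite_type_of_isJacobsonRing K (B ⧸ M)
    let x : B →ₐ[K] K := (IsAlgClosed.lift : B ⧸ M →ₐ[K] K).comp (Ideal.Quotient.mkₐ K M)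
    have h3 : x (φ c - b) = 0 := by rw [map_sub, h1 x, sub_self]
    rw [← Ideal.Quotient.eq_zero_iff_mem]
    exact (IsAlgClosed.lift : B ⧸ M →ₐ[K] K).toRingHom.injective (by simpa [x] using h3)
  rw [← Ideal.radical_eq_jacobson] at h2
  obtain ⟨n, hn⟩ := h2
  exact sub_eq_zero.1 (IsReduced.eq_zero _ ⟨n, by simpa using hn⟩)

variable {k : Type u} [Field k] {A C : Type u} [CommRing A] [HopfAlgebra k A] [CommRing C] [HopfAlgebra k C]
  (ψ : C →ₐc[k] A)

/-- a point trivial on the étale quotient is trivial -/
theorem point_eq_one {K : Type u} [Field K] [Algebra k K] [Algebra.IsAlgebraic k K] {J : Ideal A}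
    (hJ : J = Ideal.map (ψ : C →+* A) (RingHom.ker (Bialgebra.counitAlgHom k C)))
    [IsLocalRing (A ⧸ J)] (z : A →ₐ[k] K) (hz : ∀ c, z (ψ c) = algebraMap k K (counit c)) (a : A) :
    z a = algebraMap k K (counit a) := by
  have hzJ : ∀ a ∈ J, z a = 0 := by
    intro a ha
    rw [hJ] at ha
    refine (Ideal.map_le_iff_le_comap (K := RingHom.ker z)).2 ?_ ha
    intro c hc
    simp only [Ideal.mem_comap, RingHom.mem_ker] at hc ⊢
    change z (ψ c) = 0
    rw [hz, show counit (R := k) c = 0 from hc, map_zero]
  have hεJ : ∀ a ∈ J, Bialgebra.counitAlgHom k A a = 0 := by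
    intro a ha
    rw [hJ] at ha
    refine (Ideal.map_le_iff_le_comap (K := RingHom.ker (Bialgebra.counitAlgHom k A))).2 ?_ ha
    intro c hc
    simp only [Ideal.mem_comap, RingHom.mem_ker] at hc ⊢
    change counit (R := k) (ψ c) = 0
    rw [CoalgHomClass.counit_comp_apply]
    exact hc
  let z' : A ⧸ J →ₐ[k] K := Ideal.Quotient.liftₐ J z hzJ
  let ε' : A ⧸ J →ₐ[k] k := Ideal.Quotient.liftₐ J (Bialgebra.counitAlgHom k A) hεJ
  have hε' : (RingHom.ker ε').IsMaximal :=
    RingHom.ker_isMaximal_of_surjective _ fun r => ⟨algebraMap k _ r, by simp⟩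
  have hz' : (RingHom.ker z').IsMaximal := by
    have : Algebra.IsIntegral k K := inferInstance
    have hf : IsField z'.range := Subalgebra.isField_of_algebraic _
    letI := hf.toField
    have hk := RingHom.ker_isMaximal_of_surjective z'.rangeRestrict.toRingHom z'.rangeRestrict_surjective
    have he : RingHom.ker z' = RingHom.ker z'.rangeRestrict.toRingHom := by
      ext q
      simp [RingHom.mem_ker, Subtype.ext_iff]
    rw [he]
    exact hk
  have h1 : Ideal.Quotient.mk J (a - algebraMap k A (counit a)) ∈ RingHom.ker ε' := by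
    simp [ε', RingHom.mem_ker, ← Ideal.Quotient.mk_algebraMap]
  rw [IsLocalRing.eq_maximalIdeal hε', ← IsLocalRing.eq_maximalIdeal hz', RingHom.mem_ker] at h1
  simpa [z', sub_eq_zero, ← Ideal.Quotient.mk_algebraMap] using h1

/-- two points agreeing on the étale quotient are equal -/
theorem points_injective {K : Type u} [Field K] [Algebra k K] [Algebra.IsAlgebraic k K] {J : Ideal A}
    (hJ : J = Ideal.map (ψ : C →+* A) (RingHom.ker (Bialgebra.counitAlgHom k C)))
    [IsLocalRing (A ⧸ J)] (x y : A →ₐ[k] K) (h : ∀ c, x (ψ c) = y (ψ c)) : x = y := by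
  let res : WithConv (A →ₐ[k] K) → WithConv (C →ₐ[k] K) := fun w => toConv (w.ofConv.comp ψ.toAlgHom)
  have hmul : ∀ v w, res (v * w) = res v * res w := fun v w =>
    WithConv.ofConv_injective (AlgHom.convMul_comp_bialgHom_distrib v w ψ)
  let w : WithConv (A →ₐ[k] K) := toConv (y.comp (HopfAlgebra.antipodeAlgHom k A))
  have hid : toConv (AlgHom.id k A) * toConv (HopfAlgebra.antipodeAlgHom k A) = 1 :=
    by
      apply WithConv.ofConv_injective
      apply AlgHom.toLinearMap_injective
      apply WithConv.toConv_injective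
      rw [AlgHom.toLinearMap_convMul, AlgHom.toLinearMap_convOne]
      simp [LinearMap.id_mul_antipode]
  have key : ∀ u v : WithConv (A →ₐ[k] A), u * v = 1 →
      toConv (y.comp u.ofConv) * toConv (y.comp v.ofConv) = (1 : WithConv (A →ₐ[k] K)) := fun u v huv => by
    refine WithConv.ofConv_injective ?_
    rw [← AlgHom.comp_convMul_distrib, huv]
    ext a
    simp [AlgHom.convOne_apply]
  have hyw : toConv y * w = 1 := by
    have := key _ _ hid
    simp only [ofConv_toConv, AlgHom.comp_id] at this
    exact this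
  have hwy : w * toConv y = 1 := by
    have := key _ _ (AlgHom.antipode_id_cancel (R := k) (A := A))
    simp only [ofConv_toConv, AlgHom.comp_id] at this
    exact this
  have h1 : res (toConv x) = res (toConv y) := by
    simp only [res]
    exact congrArg toConv (AlgHom.ext fun c => h c)
  have h2 : res (toConv x * w) = res 1 := by
    rw [hmul, h1, ← hmul, hyw]
  have h3 : toConv x * w = 1 := by
    refine WithConv.ofConv_injective (AlgHom.ext fun a => ?_)
    rw [AlgHom.convOne_apply]
    refine point_eq_one ψ hJ (toConv x * w).ofConv (fun c => ?_) a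
    have := congrArg (fun t : WithConv (C →ₐ[k] K) => t.ofConv c) h2
    simp only [res, ofConv_toConv, AlgHom.comp_apply] at this
    refine this.trans ((AlgHom.convOne_apply _).trans ?_)
    rw [show ψ.toAlgHom c = ψ c from rfl, CoalgHomClass.counit_comp_apply]
  have h4 := congrArg (· * toConv y) h3
  simp only [one_mul, mul_assoc, hwy, mul_one] at h4
  exact congrArg WithConv.ofConv h4

/-- modulo nilpotents, the étale quotient is everything -/
theorem surjective_mod_nilradical [PerfectField k] [Algebra.FiniteType k A] [Algebra.Etale k C] {J : Ideal A}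
    (hJ : J = Ideal.map (ψ : C →+* A) (RingHom.ker (Bialgebra.counitAlgHom k C)))
    [IsLocalRing (A ⧸ J)] : Function.Surjective ((Ideal.Quotient.mkₐ k (nilradical A)).comp ψ.toAlgHom) := by
  let φ := (Ideal.Quotient.mkₐ k (nilradical A)).comp ψ.toAlgHom
  let K := AlgebraicClosure k
  haveI : IsReduced (A ⧸ nilradical A) :=
    (Ideal.isRadical_iff_quotient_reduced _).1 (Ideal.radical_isRadical _)
  haveI : Algebra.IsGeometricallyReduced k (A ⧸ nilradical A) :=
    Groth.GrpschAbsch.isGeometricallyReduced_of_perfectField k _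
  haveI : Module.Finite k C := Algebra.FormallyUnramified.finite_of_free k C
  haveI : IsReduced (K ⊗[k] (A ⧸ nilradical A)) := inferInstance
  let φK : K ⊗[k] C →ₐ[K] K ⊗[k] (A ⧸ nilradical A) := Algebra.TensorProduct.map (AlgHom.id K K) φ
  have hK : Function.Surjective φK := by
    refine surjective_of_points_injective φK fun x y hxy => ?_
    apply Algebra.TensorProduct.ext (Subsingleton.elim _ _)
    apply Ideal.Quotient.algHom_ext
    refine points_injective ψ hJ _ _ fun c => ?_
    have := AlgHom.congr_fun hxy ((1 : K) ⊗ₜ c)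
    simpa [φK, φ] using this
  have : Function.Surjective (φ.toLinearMap.lTensor K) := by
    intro q
    obtain ⟨p, rfl⟩ := hK q
    exact ⟨p, by induction p using TensorProduct.induction_on with
      | zero => simp
      | tmul => simp [φK]
      | add a b ha hb => simp [map_add, ha, hb]⟩
  exact (Module.FaithfullyFlat.lTensor_surjective_iff_surjective k K φ.toLinearMap).1 this

/-- the unique lifting -/
theorem existsUnique_retraction [PerfectField k] [Algebra.FiniteType k A] [Algebra.Etale k C]
    (hψ : Function.Injective ψ) {J : Ideal A}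
    (hJ : J = Ideal.map (ψ : C →+* A) (RingHom.ker (Bialgebra.counitAlgHom k C)))
    [IsLocalRing (A ⧸ J)] :
    (∃! r : A →ₐc[k] C, r.comp ψ = BialgHom.id k C) ∧
    ∀ r : A →ₐc[k] C, r.comp ψ = BialgHom.id k C → RingHom.ker (r : A →+* C) = nilradical A := by
  let π := Ideal.Quotient.mkₐ k (nilradical A)
  let φ := π.comp ψ.toAlgHom
  haveI : IsReduced C := Algebra.FormallyUnramified.isReduced_of_field k C
  haveI : Algebra.EssFiniteType k (C ⊗[k] C) := Algebra.EssFiniteType.comp k C (C ⊗[k] C)
  haveI : Algebra.FormallyUnramified k (C ⊗[k] C) := Algebra.FormallyUnramified.comp k C (C ⊗[k] C)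
  haveI : IsReduced (C ⊗[k] C) := Algebra.FormallyUnramified.isReduced_of_field k (C ⊗[k] C)
  have hs : Function.Surjective φ := surjective_mod_nilradical ψ hJ
  have hi : Function.Injective φ := by
    refine (injective_iff_map_eq_zero _).2 fun c hc => ?_
    obtain ⟨n, hn⟩ := mem_nilradical.1 (Ideal.Quotient.eq_zero_iff_mem.1 hc)
    exact IsReduced.eq_zero c ⟨n, hψ (by simpa using hn)⟩
  have huniq : ∀ {D : Type u} [CommRing D] [Algebra k D] [IsReduced D] (f g : A →ₐ[k] D),
      (∀ c, f (ψ c) = g (ψ c)) → f = g := by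
    intro D _ _ _ f g hfg
    ext a
    obtain ⟨c, hc⟩ := hs (π a)
    have hn : IsNilpotent (a - ψ c) := mem_nilradical.1 (Ideal.Quotient.eq.1 hc.symm)
    have hf := IsReduced.eq_zero _ (hn.map f)
    have hg := IsReduced.eq_zero _ (hn.map g)
    rw [map_sub, sub_eq_zero] at hf hg
    rw [hf, hg, hfg]
  let e := AlgEquiv.ofBijective φ ⟨hi, hs⟩
  let r : A →ₐ[k] C := e.symm.toAlgHom.comp π
  have hr : ∀ c, r (ψ c) = c := fun c => e.symm_apply_apply c
  let r' : A →ₐc[k] C := BialgHom.ofAlgHom r
    (huniq _ _ fun c => by simp [hr, CoalgHomClass.counit_comp_apply])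
    (huniq _ _ fun c => by
      have h1 : (Algebra.TensorProduct.map r r).comp (Algebra.TensorProduct.map ψ.toAlgHom ψ.toAlgHom) =
          AlgHom.id k (C ⊗[k] C) := by
        ext x <;> simp [hr]
      have h2 := AlgHom.congr_fun (BialgHomClass.map_comp_comulAlgHom ψ) c
      simp only [AlgHom.comp_apply] at h2 ⊢
      erw [← h2, hr]
      exact AlgHom.congr_fun h1 _)
  refine ⟨⟨r', BialgHom.ext hr, fun s hsψ => BialgHom.ext fun a => AlgHom.congr_fun
    (huniq (s : A →ₐ[k] C) r fun c => (BialgHom.congr_fun hsψ c).trans (hr c).symm) a⟩, fun s hsψ => ?_⟩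
  have hsr : ∀ a, s a = r a := fun a =>
    AlgHom.congr_fun (huniq (s : A →ₐ[k] C) r fun c => (BialgHom.congr_fun hsψ c).trans (hr c).symm) a
  ext a
  rw [RingHom.mem_ker]
  change s a = 0 ↔ _
  rw [hsr]
  exact (map_eq_zero_iff e.symm e.symm.injective).trans Ideal.Quotient.eq_zero_iff_mem

end Groth.Sga3.RadicielLift
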