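import Groth.Agent.Sga3.KernelType

/-!
The kernel of a homomorphism of groups of multiplicative type, the target of finite type, is of
multiplicative type.
-/

set_option autoImplicit false

universe u

open TensorProduct Coalgebra

noncomputable section

namespace Groth.Sga3.KernelMultType

open SGA3b MultType GroupAlg
open Groth.Sga3.Descend (mp cf_mp mp_mp)
open Groth.Sga3.Killed (aug fg_aug)
open Groth.Sga3.KernelType (proj proj_phi ptKer isDiag_of_kernel)

section Local

variable {R : Type u} [CommRing R] {A : Type u} [CommRing A] [HopfAlgebra R A]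
  {C : Type u} [CommRing C] [HopfAlgebra R C] (φ : C →ₐc[R] A)
  {J : Ideal A} [J.IsHopfIdeal R] (hJ : J = Ideal.map φ (aug R C))
  {S : Type u} [CommRing S] [Algebra R S] {M N : Type u} [CommGroup M] [CommGroup N]
  (e : S ⊗[R] A ≃ₐc[S] MonoidAlgebra S M) (f : S ⊗[R] C ≃ₐc[S] MonoidAlgebra S N)

/-- the homomorphism in coordinates -/
def hom : MonoidAlgebra S N →ₐc[S] MonoidAlgebra S M :=
  (e : S ⊗[R] A →ₐc[S] MonoidAlgebra S M).comp
    ((mapBC S φ).comp (f.symm : MonoidAlgebra S N →ₐc[S] S ⊗[R] C))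

/-- an idempotent which is a unit -/
theorem eq_single_of_isUnit {T : Type u} [CommRing T] {h : MonoidAlgebra T M} (hh : IsGroupLikeElem T h)
    {m : M} (hu : IsUnit (cf m h)) : h = MonoidAlgebra.single m 1 := by
  classical
  have h1 : cf m h = 1 := by
    have := (groupLike_coeff_idem hh m).eq
    exact hu.mul_left_cancel (this.trans (mul_one _).symm)
  refine ext_cf fun n => ?_
  rw [cf_single]
  have h2 := groupLike_coeff_mul hh n m
  rw [h1, mul_one] at h2
  by_cases hn : m = n
  · subst hn
    rw [if_pos rfl, h1]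
  · rw [if_neg hn, h2, if_neg (Ne.symm hn)]

include hJ

/-- elements of the base change of the source minus their counit die on the kernel -/
theorem proj_hom (T : Type u) [CommRing T] [Algebra R T] [Algebra S T] [IsScalarTower R S T]
    (z : S ⊗[R] C) :
    proj J e T (mp (algebraMap S T) (e (mapBC S φ z))) =
      algebraMap T _ (algebraMap S T (counit (R := S) z)) := by
  induction z using TensorProduct.induction_on with
  | zero => simp
  | add p q hp hq => simp only [map_add, hp, hq]
  | tmul s c =>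
    have hc : c - algebraMap R C (counit (R := R) c) ∈ aug R C := by simp [RingHom.mem_ker]
    have h1 := proj_phi e T hJ hc
    have h4 : φ (algebraMap R C (counit (R := R) c)) = algebraMap R A (counit (R := R) c) :=
      AlgHomClass.commutes φ _
    have h5 : (1 : S) ⊗ₜ[R] algebraMap R A (counit (R := R) c) =
        algebraMap S (S ⊗[R] A) (algebraMap R S (counit (R := R) c)) := by
      rw [← Algebra.TensorProduct.includeRight_apply, AlgHom.commutes, ← IsScalarTower.algebraMap_apply]
    rw [map_sub φ, h4, TensorProduct.tmul_sub, map_sub, h5, map_sub, AlgHomClass.commutes,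
      KernelType.mp_algebraMap, map_sub, AlgHomClass.commutes, sub_eq_zero] at h1
    have hs : s ⊗ₜ[R] φ c = s • ((1 : S) ⊗ₜ[R] φ c) := by
      rw [TensorProduct.smul_tmul', smul_eq_mul, mul_one]
    rw [mapBC_tmul, hs, map_smul e, Descend.mp_smul, map_smul, h1, TensorProduct.counit_tmul,
      Algebra.smul_def]
    refine (Algebra.smul_def (R := T) (A := T ⊗[R] (A ⧸ J)) _ _).trans ?_
    simp [mul_comm]

include e f

/-- near a prime, the kernel is diagonalisable -/
theorem exists_away [Group.FG N] (Q : Ideal S) [Q.IsPrime] :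
    ∃ g : S, g ∉ Q ∧ IsDiag (Localization.Away g) (Localization.Away g ⊗[R] (A ⧸ J)) := by
  classical
  obtain ⟨s, hs⟩ := (Group.fg_iff.1 ‹Group.FG N›)
  obtain ⟨hs, hsf⟩ := hs
  let F := hom φ e f
  have hgl : ∀ n, IsGroupLikeElem S (F (MonoidAlgebra.single n 1)) := fun n =>
    (MonoidAlgebra.isGroupLikeElem_single_one n).map F
  have hm : ∀ n : N, ∃ m : M, cf m (F (MonoidAlgebra.single n 1)) ∉ Q := by
    intro n
    by_contra! hall
    refine (inferInstance : Q.IsPrime).ne_top ((Ideal.eq_top_iff_one Q).2 ?_)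
    rw [← groupLike_coeff_sum (hgl n)]
    exact Q.sum_mem fun m _ => hall m
  choose θ hθ using hm
  let g : S := ∏ n ∈ hsf.toFinset, cf (θ n) (F (MonoidAlgebra.single n 1))
  refine ⟨g, fun hg => (prod_mem fun n _ => hθ n : g ∈ Q.primeCompl) hg, ?_⟩
  let T := Localization.Away g
  let L : Subgroup M := Subgroup.closure (θ '' s)
  let Φ : MonoidAlgebra S N →+* MonoidAlgebra T M :=
    (mp (algebraMap S T)).comp (F : MonoidAlgebra S N →+* MonoidAlgebra S M)
  have hΦ : ∀ n, ∃ m ∈ L, Φ (MonoidAlgebra.single n 1) = MonoidAlgebra.single m 1 := by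
    intro n
    have hn : n ∈ Subgroup.closure s := by rw [hs]; trivial
    induction hn using Subgroup.closure_induction with
    | mem n hn =>
      refine ⟨θ n, Subgroup.subset_closure ⟨n, hn, rfl⟩, eq_single_of_isUnit
        (Descend.isGroupLikeElem_mp _ (hgl n)) ?_⟩
      change IsUnit (cf (θ n) (mp (algebraMap S T) (F (MonoidAlgebra.single n 1))))
      rw [cf_mp]
      exact isUnit_of_dvd_unit (map_dvd (algebraMap S T) (Finset.dvd_prod_of_mem (fun n => cf (θ n) (F (MonoidAlgebra.single n 1))) (hsf.mem_toFinset.2 hn)))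
        (IsLocalization.Away.algebraMap_isUnit g)
    | one => exact ⟨1, one_mem _, by rw [← MonoidAlgebra.one_def, map_one]; exact MonoidAlgebra.one_def⟩
    | mul a b _ _ ha hb =>
      obtain ⟨m, hm, hm'⟩ := ha
      obtain ⟨m', hm₁, hm₁'⟩ := hb
      refine ⟨m * m', mul_mem hm hm₁, ?_⟩
      rw [show MonoidAlgebra.single (a * b) (1 : S) = MonoidAlgebra.single a 1 * MonoidAlgebra.single b 1 by simp,
        map_mul, hm', hm₁', MonoidAlgebra.single_mul_single, one_mul]
    | inv a _ ha =>
      obtain ⟨m, hm, hm'⟩ := ha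
      refine ⟨m⁻¹, inv_mem hm, ?_⟩
      have h1 : Φ (MonoidAlgebra.single a⁻¹ 1) * Φ (MonoidAlgebra.single a 1) = 1 := by
        rw [← map_mul, MonoidAlgebra.single_mul_single, inv_mul_cancel, one_mul, ← MonoidAlgebra.one_def,
          map_one]
      rw [hm'] at h1
      calc Φ (MonoidAlgebra.single a⁻¹ 1) = Φ (MonoidAlgebra.single a⁻¹ 1) *
            (MonoidAlgebra.single m 1 * MonoidAlgebra.single m⁻¹ 1) := by
              rw [MonoidAlgebra.single_mul_single, mul_inv_cancel, one_mul, ← MonoidAlgebra.one_def, mul_one]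
        _ = MonoidAlgebra.single m⁻¹ 1 := by rw [← mul_assoc, h1, one_mul]
  have hF : ∀ z, F z = e (mapBC S φ (f.symm z)) := fun z => rfl
  refine isDiag_of_kernel (φ := φ) e T hJ L (fun l hl => ?_) fun c hc => ?_
  · have key : l ∈ ptKer (proj J e T) := by
      refine (Subgroup.closure_le _).2 ?_ hl
      rintro _ ⟨n, hn, rfl⟩
      change proj J e T (MonoidAlgebra.single (θ n) 1) = 1
      obtain ⟨m, -, hm⟩ := hΦ n
      have hu : IsUnit (cf (θ n) (Φ (MonoidAlgebra.single n 1))) := by
        change IsUnit (cf (θ n) (mp (algebraMap S T) (F (MonoidAlgebra.single n 1))))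
        rw [cf_mp]
        exact isUnit_of_dvd_unit (map_dvd (algebraMap S T) (Finset.dvd_prod_of_mem (fun n => cf (θ n) (F (MonoidAlgebra.single n 1))) (hsf.mem_toFinset.2 hn)))
          (IsLocalization.Away.algebraMap_isUnit g)
      rw [← eq_single_of_isUnit (Descend.isGroupLikeElem_mp _ (hgl n)) hu, hF, proj_hom φ hJ e T]
      have h2 : counit (R := S) (f.symm (MonoidAlgebra.single n (1 : S))) = 1 := by
        rw [CoalgHomClass.counit_comp_apply]
        simp
      rw [h2, map_one, map_one]
    rw [RingHom.mem_ker, map_sub, map_one, sub_eq_zero]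
    exact key
  · let P := MonoidAlgebra.mapDomainBialgHom T (QuotientGroup.mk' L)
    have hall : ∀ y : MonoidAlgebra S N, P (Φ y) = algebraMap T _ (algebraMap S T (counit (R := S) y)) := by
      intro y
      induction y using MonoidAlgebra.induction_linear with
      | zero => simp
      | add a b ha hb => simp only [map_add, ha, hb]
      | single n r =>
        obtain ⟨m, hm, hm'⟩ := hΦ n
        have h1 : MonoidAlgebra.single n r = algebraMap S _ r * MonoidAlgebra.single n 1 := by simp
        rw [h1, map_mul Φ, hm']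
        change P (mp (algebraMap S T) (F (algebraMap S _ r)) * _) = _
        rw [AlgHomClass.commutes, KernelType.mp_algebraMap, map_mul, AlgHomClass.commutes]
        have h2 : P (MonoidAlgebra.single m (1 : T)) = 1 := by
          rw [MonoidAlgebra.mapDomainBialgHom_single, MonoidAlgebra.one_def]
          congr 1
          exact (QuotientGroup.eq_one_iff m).2 hm
        rw [h2, mul_one]
        simp
    have h := hall (f ((1 : S) ⊗ₜ c))
    change P (mp (algebraMap S T) (F (f ((1 : S) ⊗ₜ c)))) = _ at h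
    rw [hF, BialgEquiv.symm_apply_apply, mapBC_tmul, CoalgHomClass.counit_comp_apply,
      TensorProduct.counit_tmul, show counit (R := R) c = 0 from hc, zero_smul, map_zero, map_zero] at h
    exact h

end Local

/-- some prime of a tensor product lies over two compatible primes -/
theorem exists_prime_tensor {R S U : Type u} [CommRing R] [CommRing S] [CommRing U] [Algebra R S] [Algebra R U]
    {p : PrimeSpectrum R} (h₁ : p ∈ Set.range (PrimeSpectrum.comap (algebraMap R S)))
    (h₂ : p ∈ Set.range (PrimeSpectrum.comap (algebraMap R U))) :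
    p ∈ Set.range (PrimeSpectrum.comap (algebraMap R (S ⊗[R] U))) := by
  rw [← PrimeSpectrum.nontrivial_iff_mem_rangeComap] at h₁ h₂ ⊢
  let κ := p.asIdeal.ResidueField
  let e : (κ ⊗[R] S) ⊗[κ] (κ ⊗[R] U) ≃ₗ[R] κ ⊗[R] (S ⊗[R] U) :=
    ((Algebra.TensorProduct.cancelBaseChange R κ κ (κ ⊗[R] S) U).toLinearEquiv.restrictScalars R).trans
      (TensorProduct.assoc R κ S U)
  have : Nontrivial ((κ ⊗[R] S) ⊗[κ] (κ ⊗[R] U)) := by
    obtain ⟨a, b, hab⟩ := exists_pair_ne (κ ⊗[R] U)
    refine ⟨⟨1 ⊗ₜ a, 1 ⊗ₜ b, fun h => hab ?_⟩⟩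
    exact Module.FaithfullyFlat.tensorProduct_mk_injective (A := κ) (B := κ ⊗[R] S) _ h
  exact e.injective.nontrivial

/-- the kernel of a homomorphism of groups of multiplicative type is of multiplicative type -/
theorem isMultType_kernel {R : Type u} [CommRing R] {A : Type u} [CommRing A] [HopfAlgebra R A]
    (h : IsMultType R A) {C : Type u} [CommRing C] [HopfAlgebra R C] (hC : IsMultType R C)
    (hCft : Algebra.FiniteType R C) (φ : C →ₐc[R] A) {J : Ideal A} [J.IsHopfIdeal R]
    (hJ : J = Ideal.map φ (aug R C)) : IsMultType R (A ⧸ J) := by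
  classical
  obtain ⟨ι, _, S, _, _, hff, hd⟩ := exists_cover h
  obtain ⟨ι', _, U, _, _, hff', hd'⟩ := exists_cover hC
  haveI := hff; haveI := hff'
  let W : ι × ι' → Type u := fun x => S x.1 ⊗[R] U x.2
  have hdA : ∀ x, IsDiag (W x) (W x ⊗[R] A) := fun x =>
    isDiag_trans (S x.1) (W x) A (isDiag_baseChange (W x) _ (hd x.1))
  have hdC : ∀ x, IsDiag (W x) (W x ⊗[R] C) := fun x =>
    letI : Algebra (U x.2) (W x) := Algebra.TensorProduct.rightAlgebra
    haveI : IsScalarTower R (U x.2) (W x) := Algebra.TensorProduct.right_isScalarTower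
    isDiag_trans (U x.2) (W x) C (isDiag_baseChange (W x) _ (hd' x.2))
  choose M iM eM using hdA
  choose N iN fN using hdC
  have hloc : ∀ (x : ι × ι') (Q : PrimeSpectrum (W x)), ∃ g : W x, g ∉ Q.asIdeal ∧
      IsDiag (Localization.Away g) (Localization.Away g ⊗[R] (A ⧸ J)) := by
    intro x Q
    haveI : Nontrivial (W x) := (Ideal.Quotient.mk Q.asIdeal).domain_nontrivial
    haveI : Group.FG (N x) :=
      group_fg_of_finiteType (inferInstance : Algebra.FiniteType (W x) (W x ⊗[R] C)) (fN x).some
    exact exists_away φ hJ (eM x).some (fN x).some Q.asIdeal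
  choose g hg hdg using hloc
  have hcov : ∀ x, ∃ t : Finset (PrimeSpectrum (W x)), ∀ Q : PrimeSpectrum (W x),
      ∃ P ∈ t, g x P ∉ Q.asIdeal := by
    intro x
    obtain ⟨t, ht⟩ := isCompact_univ.elim_finite_subcover
      (fun P : PrimeSpectrum (W x) => (PrimeSpectrum.basicOpen (g x P) : Set (PrimeSpectrum (W x))))
      (fun P => PrimeSpectrum.isOpen_basicOpen) (fun Q _ => Set.mem_iUnion.2 ⟨Q, hg x Q⟩)
    refine ⟨t, fun Q => ?_⟩
    obtain ⟨P, hP, hPQ⟩ := Set.mem_iUnion₂.1 (ht (Set.mem_univ Q))
    exact ⟨P, hP, hPQ⟩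
  choose t ht using hcov
  let κ := Σ x, t x
  let S' : κ → Type u := fun k => Localization.Away (g k.1 k.2.1)
  have hfl : ∀ {η : Type u} [Fintype η] (V : η → Type u) [∀ i, CommRing (V i)] [∀ i, Algebra R (V i)]
      [Module.FaithfullyFlat R (∀ i, V i)] (i : η), Module.Flat R (V i) := by
    intro η _ V _ _ _ i
    refine Module.Flat.of_retract (M := ∀ i, V i) (LinearMap.single R V i) (LinearMap.proj i) ?_
    ext x
    exact Pi.single_eq_same i x
  haveI : ∀ k : κ, Module.Flat R (S' k) := fun k =>
    haveI := hfl S k.1.1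
    haveI := hfl U k.1.2
    haveI : Module.Flat R (W k.1) := inferInstance
    haveI : Module.Flat (W k.1) (S' k) := IsLocalization.flat _ (Submonoid.powers (g k.1 k.2.1))
    Module.Flat.trans R (W k.1) (S' k)
  haveI : Module.Flat R (∀ k, S' k) :=
    Module.Flat.of_linearEquiv (DFinsupp.linearEquivFunOnFintype (R := R) (M := S')).symm
  refine CoverType.isMultType_of_cover S' (Module.FaithfullyFlat.of_comap_surjective fun p => ?_)
    fun k => hdg k.1 k.2.1
  have hidx : ∀ {η : Type u} [Fintype η] (V : η → Type u) [∀ i, CommRing (V i)] [∀ i, Algebra R (V i)]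
      [Module.FaithfullyFlat R (∀ i, V i)], ∃ i, p ∈ Set.range (PrimeSpectrum.comap (algebraMap R (V i))) := by
    intro η _ V _ _ _
    obtain ⟨Q, hQ⟩ := PrimeSpectrum.comap_surjective_of_faithfullyFlat (A := R) (B := ∀ i, V i) p
    obtain ⟨i, Qi, rfl⟩ := PrimeSpectrum.exists_comap_evalRingHom_eq Q
    exact ⟨i, Qi, hQ⟩
  obtain ⟨i, hi⟩ := hidx S
  obtain ⟨i', hi'⟩ := hidx U
  obtain ⟨Qi, hQ⟩ := exists_prime_tensor hi hi'
  obtain ⟨P, hP, hPQ⟩ := ht (i, i') Qi
  let k : κ := ⟨(i, i'), P, hP⟩
  obtain ⟨Z, hZ⟩ : Qi ∈ Set.range (PrimeSpectrum.comap (algebraMap (W (i, i')) (S' k))) := by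
    rw [PrimeSpectrum.localization_away_comap_range (S' k) (g (i, i') P)]
    exact hPQ
  refine ⟨PrimeSpectrum.comap (Pi.evalRingHom S' k) Z, ?_⟩
  rw [← PrimeSpectrum.comap_comp_apply,
    show (Pi.evalRingHom S' k).comp (algebraMap R (∀ k, S' k)) = algebraMap R (S' k) from rfl,
    IsScalarTower.algebraMap_eq R (W (i, i')) (S' k), PrimeSpectrum.comap_comp_apply, hZ]
  exact hQ

end Groth.Sga3.KernelMultType
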