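import Mathlib
import Groth.Agent.Ega4Algebra1.RegularLocal
import Groth.Agent.Ega4Algebra1.PdOpen

/-!
Over a regular ring of dimension at most two the dual of a finite module is projective; maps from the
bidual of a finite module into a flat module are determined on the module.
-/

universe u

open TensorProduct

namespace Groth.Sga3.DualProjective

open Groth.Ega4Algebra1

variable {A : Type u} [CommRing A]

/-- The kernel of a map of finite free modules over a regular ring of dimension at most two is
projective. -/
lemma projective_ker [IsRegularRing A] (hdim : ringKrullDim A ≤ 2) {a b : ℕ}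
    (g : (Fin a → A) →ₗ[A] (Fin b → A)) : Module.Projective A (LinearMap.ker g) := by
  have h3 : PdLT A ((Fin b → A) ⧸ LinearMap.range g) 3 := by
    refine pdLT_of_forall_localization 2 _ fun p => ?_
    have hd : ringKrullDim (Localization.AtPrime p.asIdeal) ≤ 2 := by
      rw [IsLocalization.AtPrime.ringKrullDim_eq_height p.asIdeal]
      exact (Ideal.height_le_ringKrullDim_of_ne_top p.2.ne_top).trans hdim
    have hreg : IsRegularLocalRing (Localization.AtPrime p.asIdeal) :=
      IsRegularRing.isRegularLocalRing_localization p.asIdeal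
    rw [← IsRegularLocalRing.spanFinrank_maximalIdeal] at hd
    exact (pdLT_of_isRegularLocalRing (Localization.AtPrime p.asIdeal) _ rfl _).mono
      (by have : (IsLocalRing.maximalIdeal (Localization.AtPrime p.asIdeal)).spanFinrank ≤ 2 := by
            exact_mod_cast hd
          omega)
  have h2 : PdLT A (LinearMap.range g) 2 :=
    ((PdLT.ker_iff (LinearMap.range g).mkQ (Submodule.mkQ_surjective _) 1).mp h3).of_equiv
      (LinearEquiv.ofEq _ _ (Submodule.ker_mkQ _))
  have h1 : PdLT A (LinearMap.ker g.rangeRestrict) 1 :=
    (PdLT.ker_iff g.rangeRestrict g.surjective_rangeRestrict 0).mp h2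
  have := PdLT.one_iff.mp h1
  exact Module.Projective.of_equiv (LinearEquiv.ofEq _ _ g.ker_rangeRestrict)

/-- The dual of a finite module over a regular ring of dimension at most two is finite projective. -/
lemma finite_projective_dual [IsRegularRing A] (hdim : ringKrullDim A ≤ 2) (M : Type u)
    [AddCommGroup M] [Module A M] [Module.Finite A M] :
    Module.Finite A (Module.Dual A M) ∧ Module.Projective A (Module.Dual A M) := by
  obtain ⟨n, π, hπ⟩ := Module.Finite.exists_fin' A M
  obtain ⟨m, κ, hκ⟩ := Module.Finite.exists_fin' A (LinearMap.ker π)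
  let h : (Fin m → A) →ₗ[A] (Fin n → A) := (LinearMap.ker π).subtype ∘ₗ κ
  let e₁ := LinearEquiv.piRing A A (Fin n) A
  let e₂ := LinearEquiv.piRing A A (Fin m) A
  let g : (Fin n → A) →ₗ[A] (Fin m → A) := e₂.toLinearMap ∘ₗ h.dualMap ∘ₗ e₁.symm.toLinearMap
  let f : Module.Dual A M →ₗ[A] (Fin n → A) := e₁.toLinearMap ∘ₗ π.dualMap
  have hf : Function.Injective f :=
    e₁.injective.comp (LinearMap.dualMap_injective_of_surjective hπ)
  have hh : LinearMap.range h = LinearMap.ker π := by
    rw [LinearMap.range_comp, LinearMap.range_eq_top.2 hκ, Submodule.map_top, Submodule.range_subtype]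
  have hfg : LinearMap.range f = LinearMap.ker g := by
    refine le_antisymm ?_ fun v hv => ?_
    · rintro _ ⟨ξ, rfl⟩
      simp only [LinearMap.mem_ker, g, f, LinearMap.comp_apply, LinearEquiv.coe_coe,
        LinearEquiv.symm_apply_apply, LinearEquiv.map_eq_zero_iff]
      refine LinearMap.ext fun u => ?_
      have : π (h u) = 0 := hh.le (LinearMap.mem_range_self h u)
      simp [LinearMap.dualMap_apply, this]
    · simp only [LinearMap.mem_ker, g, LinearMap.comp_apply, LinearEquiv.coe_coe,
        LinearEquiv.map_eq_zero_iff] at hv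
      have hker : LinearMap.ker π ≤ LinearMap.ker (e₁.symm v) := by
        rw [← hh]
        rintro _ ⟨u, rfl⟩
        exact LinearMap.congr_fun hv u
      refine ⟨(LinearMap.ker π).liftQ (e₁.symm v) hker ∘ₗ
          (π.quotKerEquivOfSurjective hπ).symm.toLinearMap, e₁.symm.injective ?_⟩
      simp only [f, LinearMap.comp_apply, LinearEquiv.coe_coe, LinearEquiv.symm_apply_apply]
      refine LinearMap.ext fun u => ?_
      have : (π.quotKerEquivOfSurjective hπ).symm (π u) = Submodule.Quotient.mk u :=
        (LinearEquiv.symm_apply_eq _).2 rfl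
      simp [LinearMap.dualMap_apply, this]
  have := projective_ker hdim g
  let e : LinearMap.ker g ≃ₗ[A] Module.Dual A M :=
    ((LinearEquiv.ofInjective f hf).trans (LinearEquiv.ofEq _ _ hfg)).symm
  exact ⟨Module.Finite.equiv e, Module.Projective.of_equiv e⟩

variable {W : Type u} [AddCommGroup W] [Module A W] {X : Type*} [AddCommGroup X] [Module A X]

/-- A map into a flat module from the bidual is determined by its restriction. -/
lemma eq_zero_of_comp_eval [Module.Finite A W] [Module.Finite A (Module.Dual A W)]
    [Module.Projective A (Module.Dual A W)] [Module.Flat A X]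
    (φ : Module.Dual A (Module.Dual A W) →ₗ[A] X) (hφ : φ ∘ₗ Module.Dual.eval A W = 0) : φ = 0 := by
  obtain ⟨t, rfl⟩ := (dualTensorHom_bijective (R := A) (M := Module.Dual A (Module.Dual A W))
    (N := X)).2 φ
  obtain ⟨n, π, hπ⟩ := Module.Finite.exists_fin' A W
  let E : Module.Dual A (Module.Dual A (Module.Dual A W)) →ₗ[A] (Fin n → A) :=
    LinearMap.pi fun j => LinearMap.applyₗ (Module.Dual.eval A W (π (Pi.single j 1)))
  have hE : Function.Injective E := by
    rw [← LinearMap.ker_eq_bot, eq_bot_iff]
    intro ξ hξ
    obtain ⟨η, rfl⟩ := (Module.bijective_dual_eval A (Module.Dual A W)).2 ξ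
    have h0 : ∀ j, η (π (Pi.single j 1)) = 0 := fun j => by
      simpa [E] using congrFun (LinearMap.mem_ker.mp hξ) j
    have : η = 0 := by
      refine LinearMap.ext fun w => ?_
      obtain ⟨v, rfl⟩ := hπ w
      rw [pi_eq_sum_univ' v]
      simp [map_sum, h0]
    simp [this]
  have hEt : E.rTensor X t = 0 := by
    apply (TensorProduct.piScalarRight A A X (Fin n) |> fun e => (TensorProduct.comm A (Fin n → A) X).trans e).injective
    rw [map_zero]
    funext j
    have h1 : ∀ s : Module.Dual A (Module.Dual A (Module.Dual A W)) ⊗[A] X,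
        ((TensorProduct.comm A (Fin n → A) X).trans (TensorProduct.piScalarRight A A X (Fin n))) (E.rTensor X s) j =
        dualTensorHom A _ X s (Module.Dual.eval A W (π (Pi.single j 1))) := by
      intro s
      induction s using TensorProduct.induction_on with
      | zero => simp
      | tmul ξ x => simp [E]
      | add p q hp hq => simp only [map_add, Pi.add_apply, LinearMap.add_apply, hp, hq]
    refine (h1 t).trans ?_
    exact LinearMap.congr_fun hφ _
  have := Module.Flat.rTensor_preserves_injective_linearMap (M := X) E hE
  rw [← map_zero (E.rTensor X)] at hEt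
  rw [this hEt, map_zero]

/-- Maps into a flat module from the bidual agree if they agree on the module. -/
lemma ext_of_comp_eval [Module.Finite A W] [Module.Finite A (Module.Dual A W)]
    [Module.Projective A (Module.Dual A W)] [Module.Flat A X]
    (φ ψ : Module.Dual A (Module.Dual A W) →ₗ[A] X)
    (h : φ ∘ₗ Module.Dual.eval A W = ψ ∘ₗ Module.Dual.eval A W) : φ = ψ :=
  sub_eq_zero.mp (eq_zero_of_comp_eval _ (by rw [LinearMap.sub_comp, h, sub_self]))

/-- A map from a finite module over a Noetherian ring into a flat module extends to the bidual. -/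
lemma exists_extend [IsNoetherianRing A] [Module.Finite A W] [Module.Flat A X] (f : W →ₗ[A] X) :
    ∃ g : Module.Dual A (Module.Dual A W) →ₗ[A] X, g ∘ₗ Module.Dual.eval A W = f := by
  have : Module.FinitePresentation A W := Module.finitePresentation_of_finite A W
  obtain ⟨k, a, y, hay⟩ := Module.Flat.exists_factorization_of_finitePresentation f
  let E := LinearEquiv.ofBijective _ (Module.bijective_dual_eval A (Fin k →₀ A))
  refine ⟨y ∘ₗ E.symm.toLinearMap ∘ₗ a.dualMap.dualMap, LinearMap.ext fun w => ?_⟩
  have : E (a w) = a.dualMap.dualMap (Module.Dual.eval A W w) := by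
    refine LinearMap.ext fun ξ => ?_
    rfl
  simp only [LinearMap.comp_apply, LinearEquiv.coe_coe, ← this, LinearEquiv.symm_apply_apply, hay]

end Groth.Sga3.DualProjective
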