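import Mathlib
import Groth.Prelude.Def_HopfRep
import Groth.Prelude.Def_Hoch
import Groth.Prelude.Def_ComodTens
import Groth.Prelude.Def_ComodSub
import Groth.Agent.Sga3.DualProjective

/-!
# The resolution property for comodules over a regular base of dimension at most two

A finite comodule is a quotient of a finite subcomodule of a cofree comodule; when the comodule is
torsionless the bidual of that subcomodule is a projective comodule that still maps onto it.
-/

set_option autoImplicit false
set_option backward.isDefEq.respectTransparency false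
set_option backward.isDefEq.respectTransparency.types false
set_option linter.style.haveILetI false
set_option linter.unusedSectionVars false

universe u

open TensorProduct

noncomputable section

namespace Groth.Sga3.ComodQuotProj

variable {R : Type u} [CommRing R] {C : Type u} [AddCommGroup C] [Module R C] [Coalgebra R C]

/-- the coaction of the cofree comodule on `P ⊗ C` -/
def cofreeCoact (P : Type u) [AddCommGroup P] [Module R P] : P ⊗[R] C →ₗ[R] (P ⊗[R] C) ⊗[R] C :=
  (TensorProduct.assoc R P C C).symm.toLinearMap ∘ₗ (Coalgebra.comul (R := R) (A := C)).lTensor P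

theorem cofreeCoact_tmul (P : Type u) [AddCommGroup P] [Module R P] (x : P) (c : C) :
    cofreeCoact P (x ⊗ₜ[R] c) = (TensorProduct.assoc R P C C).symm (x ⊗ₜ[R] Coalgebra.comul (R := R) c) := by
  simp [cofreeCoact]

/-- the cofree comodule -/
@[reducible] def cofree (P : Type u) [AddCommGroup P] [Module R P] : HopfRep.Comod R C (P ⊗[R] C) where
  coact := cofreeCoact P
  coassoc := by
    refine TensorProduct.ext' fun x c => ?_
    simp only [LinearMap.comp_apply, LinearEquiv.coe_coe, cofreeCoact_tmul]
    have e1 : ∀ w : C ⊗[R] C, TensorProduct.assoc R (P ⊗[R] C) C C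
        ((cofreeCoact P).rTensor C ((TensorProduct.assoc R P C C).symm (x ⊗ₜ[R] w))) =
        (TensorProduct.assoc R P C (C ⊗[R] C)).symm
          (x ⊗ₜ[R] TensorProduct.assoc R C C C ((Coalgebra.comul (R := R)).rTensor C w)) := fun w => by
      induction w using TensorProduct.induction_on with
      | zero => simp
      | tmul a b =>
        simp only [TensorProduct.assoc_symm_tmul, LinearMap.rTensor_tmul, cofreeCoact_tmul]
        generalize Coalgebra.comul (R := R) a = v
        induction v using TensorProduct.induction_on with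
        | zero => simp
        | tmul p q => simp
        | add p q hp hq => simp only [TensorProduct.tmul_add, TensorProduct.add_tmul, map_add, hp, hq]
      | add a b ha hb => simp only [TensorProduct.tmul_add, map_add, ha, hb]
    have e2 : ∀ w : C ⊗[R] C, (Coalgebra.comul (R := R) (A := C)).lTensor (P ⊗[R] C)
        ((TensorProduct.assoc R P C C).symm (x ⊗ₜ[R] w)) =
        (TensorProduct.assoc R P C (C ⊗[R] C)).symm (x ⊗ₜ[R] (Coalgebra.comul (R := R)).lTensor C w) := fun w => by
      induction w using TensorProduct.induction_on with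
      | zero => simp
      | tmul a b => simp
      | add a b ha hb => simp only [TensorProduct.tmul_add, map_add, ha, hb]
    rw [e1, e2, Coalgebra.coassoc_apply]
  counit_comp := by
    refine TensorProduct.ext' fun x c => ?_
    simp only [LinearMap.comp_apply, cofreeCoact_tmul, LinearMap.flip_apply, TensorProduct.mk_apply]
    have e : ∀ w : C ⊗[R] C, (Coalgebra.counit (R := R) (A := C)).lTensor (P ⊗[R] C)
        ((TensorProduct.assoc R P C C).symm (x ⊗ₜ[R] w)) =
        (TensorProduct.assoc R P C R).symm (x ⊗ₜ[R] (Coalgebra.counit (R := R)).lTensor C w) := fun w => by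
      induction w using TensorProduct.induction_on with
      | zero => simp
      | tmul a b => simp
      | add a b ha hb => simp only [TensorProduct.tmul_add, map_add, ha, hb]
    rw [e, Coalgebra.lTensor_counit_comul, TensorProduct.assoc_symm_tmul]

theorem cofreeCoact_natural {P Q : Type u} [AddCommGroup P] [Module R P] [AddCommGroup Q] [Module R Q]
    (p : P →ₗ[R] Q) (y : P ⊗[R] C) :
    (p.rTensor C).rTensor C (cofreeCoact P y) = cofreeCoact Q (p.rTensor C y) := by
  induction y using TensorProduct.induction_on with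
  | zero => simp
  | tmul x c =>
    simp only [cofreeCoact_tmul, LinearMap.rTensor_tmul]
    generalize Coalgebra.comul (R := R) c = w
    induction w using TensorProduct.induction_on with
    | zero => simp
    | tmul a b => simp
    | add a b ha hb => simp only [TensorProduct.tmul_add, map_add, ha, hb]
  | add a b ha hb => simp only [map_add, ha, hb]

section Counit

variable (F : Type u) [AddCommGroup F] [Module R F]

/-- the counit on the cofree comodule -/
def eps : F ⊗[R] C →ₗ[R] F :=
  (TensorProduct.rid R F).toLinearMap ∘ₗ (Coalgebra.counit (R := R) (A := C)).lTensor F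

theorem eps_coact [HopfRep.Comod R C F] (f : F) :
    eps F (HopfRep.Comod.coact (k := R) (A := C) f) = f := by
  have h := LinearMap.congr_fun (HopfRep.Comod.counit_comp (k := R) (A := C) (V := F)) f
  simp only [LinearMap.comp_apply, LinearMap.flip_apply, TensorProduct.mk_apply] at h
  rw [eps, LinearMap.comp_apply, LinearEquiv.coe_coe, h, TensorProduct.rid_tmul, one_smul]

variable {F} in
theorem eps_rTensor_cofreeCoact {P : Type u} [AddCommGroup P] [Module R P] (p : P →ₗ[R] F) (y : P ⊗[R] C) :
    (eps F ∘ₗ p.rTensor C).rTensor C (cofreeCoact P y) = p.rTensor C y := by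
  induction y using TensorProduct.induction_on with
  | zero => simp
  | tmul x c =>
    have e : ∀ w : C ⊗[R] C, (eps F ∘ₗ p.rTensor C).rTensor C ((TensorProduct.assoc R P C C).symm (x ⊗ₜ[R] w)) =
        p x ⊗ₜ[R] TensorProduct.lid R C ((Coalgebra.counit (R := R)).rTensor C w) := fun w => by
      induction w using TensorProduct.induction_on with
      | zero => simp
      | tmul a b => simp [eps, TensorProduct.smul_tmul]
      | add a b ha hb => simp only [TensorProduct.tmul_add, map_add, ha, hb]
    rw [cofreeCoact_tmul, e, Coalgebra.rTensor_counit_comul, TensorProduct.lid_tmul, one_smul,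
      LinearMap.rTensor_tmul]
  | add a b ha hb => simp only [map_add, ha, hb]

end Counit

variable [Module.Flat R C] [IsNoetherianRing R]

/-- finite subsets lie in finitely generated subcomodules -/
theorem exists_fg_subcomod {V : Type u} [AddCommGroup V] [Module R V] [c : HopfRep.Comod R C V]
    (s : Finset V) : ∃ U : Submodule R V, U.FG ∧ (s : Set V) ⊆ U ∧
      HopfRep.IsSubcomod (k := R) (A := C) U := by
  classical
  choose S hS using fun x : V => TensorProduct.exists_finset (c.coact x)
  set N : Submodule R V := Submodule.span R ((s.biUnion fun x => (S x).image Prod.fst : Finset V) : Set V)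
  let g : V →ₗ[R] (V ⧸ N) ⊗[R] C := N.mkQ.rTensor C ∘ₗ c.coact
  set U := LinearMap.ker g
  have hUN : U ≤ N := by
    intro y hy
    have h := congrArg (eps (V ⧸ N)) (LinearMap.mem_ker.1 hy)
    simp only [g, LinearMap.comp_apply, map_zero] at h
    rw [← Submodule.Quotient.mk_eq_zero N, ← h]
    conv_lhs => rw [show y = eps V (c.coact y) from (eps_coact V y).symm]
    generalize c.coact y = z
    induction z using TensorProduct.induction_on with
    | zero => simp
    | tmul a b => simp [eps]
    | add a b ha hb => simp only [map_add, Submodule.Quotient.mk_add, ha, hb]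
  refine ⟨U, (Submodule.fg_span (Finset.finite_toSet _)).of_le hUN, fun x hx => ?_, fun y hy => ?_⟩
  · rw [SetLike.mem_coe, LinearMap.mem_ker]
    simp only [g, LinearMap.comp_apply]
    rw [hS x, map_sum]
    refine Finset.sum_eq_zero fun p hp => ?_
    rw [LinearMap.rTensor_tmul, Submodule.mkQ_apply, (Submodule.Quotient.mk_eq_zero N).2
      (Submodule.subset_span (Finset.mem_coe.2 (Finset.mem_biUnion.2 ⟨x, hx, Finset.mem_image_of_mem _ hp⟩))),
      TensorProduct.zero_tmul]
  · have hex := Module.Flat.rTensor_exact C (LinearMap.exact_subtype_ker_map g)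
    refine (hex _).1 ?_
    have hc := LinearMap.congr_fun c.coassoc y
    simp only [LinearMap.coe_comp, Function.comp_apply, LinearEquiv.coe_coe] at hc
    change (N.mkQ.rTensor C ∘ₗ c.coact).rTensor C (c.coact y) = 0
    refine (TensorProduct.assoc R (V ⧸ N) C C).injective ?_
    rw [map_zero, LinearMap.rTensor_comp, LinearMap.comp_apply, ComodTens.assoc_rTensor_rTensor, hc,
      ← ComodTens.lTensor_rTensor_comm]
    rw [show N.mkQ.rTensor C (c.coact y) = 0 from LinearMap.mem_ker.1 hy, map_zero]

/-- A finite comodule is a quotient of a finite subcomodule of a cofree comodule. -/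
theorem exists_step (F : Type u) [AddCommGroup F] [Module R F] [Module.Finite R F]
    [HopfRep.Comod R C F] :
    ∃ (n : ℕ) (p : (Fin n → R) →ₗ[R] F) (V : Type u) (_ : AddCommGroup V) (_ : Module R V)
      (d : HopfRep.Comod R C V) (ι : V →ₗ[R] (Fin n → R) ⊗[R] C),
      Module.Finite R V ∧ Function.Injective ι ∧ cofreeCoact (Fin n → R) ∘ₗ ι = ι.rTensor C ∘ₗ d.coact ∧
      Function.Surjective (eps F ∘ₗ p.rTensor C ∘ₗ ι) ∧
      HopfRep.Comod.coact (k := R) (A := C) ∘ₗ (eps F ∘ₗ p.rTensor C ∘ₗ ι) = p.rTensor C ∘ₗ ι := by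
  classical
  obtain ⟨n, p, hp⟩ := Module.Finite.exists_fin' R F
  let P := Fin n → R
  let ρ : F →ₗ[R] F ⊗[R] C := HopfRep.Comod.coact (k := R) (A := C)
  letI c : HopfRep.Comod R C (P ⊗[R] C) := cofree P
  let h : P ⊗[R] C →ₗ[R] (F ⊗[R] C) ⧸ LinearMap.range ρ := (LinearMap.range ρ).mkQ ∘ₗ p.rTensor C
  set E := LinearMap.ker h
  have hE : HopfRep.IsSubcomod (k := R) (A := C) E := by
    intro y hy
    obtain ⟨f, hf⟩ : p.rTensor C y ∈ LinearMap.range ρ :=
      (Submodule.Quotient.mk_eq_zero _).1 (LinearMap.mem_ker.1 hy)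
    have hex := Module.Flat.rTensor_exact C (N := ↥E) (N' := P ⊗[R] C)
      (N'' := (F ⊗[R] C) ⧸ LinearMap.range ρ) (f := E.subtype) (g := h) (LinearMap.exact_subtype_ker_map h)
    refine (hex _).1 ?_
    change ((LinearMap.range ρ).mkQ ∘ₗ p.rTensor C).rTensor C (cofreeCoact P y) = 0
    rw [LinearMap.rTensor_comp, LinearMap.comp_apply, cofreeCoact_natural, ← hf]
    have hc := LinearMap.congr_fun (HopfRep.Comod.coassoc (k := R) (A := C) (V := F)) f
    simp only [LinearMap.coe_comp, Function.comp_apply, LinearEquiv.coe_coe] at hc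
    have : cofreeCoact F (ρ f) = ρ.rTensor C (ρ f) := by
      simp only [cofreeCoact, LinearMap.comp_apply, LinearEquiv.coe_coe]
      rw [LinearEquiv.symm_apply_eq]
      exact hc.symm
    rw [this, ← LinearMap.comp_apply, ← LinearMap.rTensor_comp,
      LinearMap.range_mkQ_comp, LinearMap.rTensor_zero, LinearMap.zero_apply]
  letI dE : HopfRep.Comod R C E := ComodSub.Comod.restr c E hE
  have hlift : ∀ f : F, ∃ y : E, p.rTensor C (y : P ⊗[R] C) = ρ f := fun f => by
    obtain ⟨y, hy⟩ := LinearMap.rTensor_surjective C hp (ρ f)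
    exact ⟨⟨y, LinearMap.mem_ker.2 ((Submodule.Quotient.mk_eq_zero _).2 ⟨f, hy.symm⟩)⟩, hy⟩
  choose l hl using hlift
  obtain ⟨t, ht⟩ := (Module.Finite.fg_top : (⊤ : Submodule R F).FG)
  obtain ⟨U, hUfg, htU, hU⟩ := exists_fg_subcomod (R := R) (C := C) (t.image l)
  let d := ComodSub.Comod.restr dE U hU
  refine ⟨n, p, U, @Submodule.addCommGroup R (↥E) _ (Submodule.addCommGroup E) (Submodule.module E) U, ?_⟩
  refine ⟨@Submodule.module R E _ _ _ U, ?_⟩
  refine ⟨d, E.subtype ∘ₗ U.subtype, ?_, ?_, ?_, ?_, ?_⟩
  · exact Module.Finite.of_fg hUfg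
  · exact fun a b e => U.injective_subtype (E.injective_subtype e)
  · refine LinearMap.ext fun u => ?_
    simp only [LinearMap.comp_apply, LinearMap.rTensor_comp]
    rw [show U.subtype.rTensor C (d.coact u) = dE.coact (u : E) from ComodSub.restr_coact_coe dE U hU u]
    exact (ComodSub.restr_coact_coe c E hE (u : E)).symm
  · rw [← LinearMap.range_eq_top, eq_top_iff, ← ht, Submodule.span_le]
    intro f hf
    refine ⟨⟨l f, htU (Finset.mem_coe.2 (Finset.mem_image_of_mem _ hf))⟩, ?_⟩
    change eps F (p.rTensor C ((l f : E) : P ⊗[R] C)) = f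
    rw [hl]
    exact eps_coact (R := R) (C := C) F f
  · refine LinearMap.ext fun u => ?_
    change HopfRep.Comod.coact (k := R) (A := C) (eps F (p.rTensor C ((u : E) : P ⊗[R] C))) =
      p.rTensor C ((u : E) : P ⊗[R] C)
    obtain ⟨f, hf⟩ : p.rTensor C ((u : E) : P ⊗[R] C) ∈ LinearMap.range ρ :=
      (Submodule.Quotient.mk_eq_zero _).1 (LinearMap.mem_ker.1 (u : E).2)
    rw [← hf, eps_coact]

omit [IsNoetherianRing R] [Module.Flat R C] in
/-- A finite comodule which is a submodule of a free module is a quotient of a finite projective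
comodule, over a regular base of dimension at most two. -/
theorem exists_projective_of_torsionless [IsRegularRing R] [Module.Projective R C]
    (hdim : ringKrullDim R ≤ 2) (F : Type u) [AddCommGroup F] [Module R F] [Module.Finite R F]
    [HopfRep.Comod R C F] {m : ℕ} (j : F →ₗ[R] (Fin m →₀ R)) (hj : Function.Injective j) :
    ∃ (V : Type u) (_ : AddCommGroup V) (_ : Module R V) (_ : HopfRep.Comod R C V) (φ : V →ₗ[R] F),
      Module.Finite R V ∧ Module.Projective R V ∧ Function.Surjective φ ∧
      HopfRep.Comod.coact (k := R) (A := C) ∘ₗ φ = φ.rTensor C ∘ₗ HopfRep.Comod.coact (k := R) (A := C) (V := V) := by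
  obtain ⟨n, p, V, _, _, d, ι, hV, -, hιhom, hsurj, hρ⟩ := exists_step (R := R) (C := C) F
  haveI := hV
  obtain ⟨hf1, hp1⟩ := DualProjective.finite_projective_dual hdim V
  obtain ⟨hf2, hp2⟩ := DualProjective.finite_projective_dual hdim (Module.Dual R V)
  let D := Module.Dual R (Module.Dual R V)
  let η : V →ₗ[R] D := Module.Dual.eval R V
  obtain ⟨g, hg⟩ := DualProjective.exists_extend ι
  obtain ⟨σ, hσ⟩ := DualProjective.exists_extend (X := D ⊗[R] C) (η.rTensor C ∘ₗ d.coact)
  let dD : HopfRep.Comod R C D :=
    { coact := σ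
      coassoc := by
        refine DualProjective.ext_of_comp_eval (W := V) (X := D ⊗[R] (C ⊗[R] C)) _ _ (LinearMap.ext fun v => ?_)
        simpa using ComodTens.coassoc_apply_of_hom d σ η hσ v
      counit_comp := by
        refine DualProjective.ext_of_comp_eval (W := V) (X := D ⊗[R] R) _ _ (LinearMap.ext fun v => ?_)
        exact ComodTens.counit_apply_of_hom d σ η hσ v }
  have hghom : cofreeCoact (Fin n → R) ∘ₗ g = g.rTensor C ∘ₗ σ :=
    DualProjective.ext_of_comp_eval (W := V) (X := ((Fin n → R) ⊗[R] C) ⊗[R] C) _ _ (by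
      rw [LinearMap.comp_assoc, hg, hιhom, LinearMap.comp_assoc, hσ, ← LinearMap.comp_assoc,
        ← LinearMap.rTensor_comp, hg])
  let φ := eps F ∘ₗ p.rTensor C ∘ₗ g
  have hkey : HopfRep.Comod.coact (k := R) (A := C) ∘ₗ φ = p.rTensor C ∘ₗ g := by
    have : (j.rTensor C) ∘ₗ HopfRep.Comod.coact (k := R) (A := C) ∘ₗ φ = j.rTensor C ∘ₗ p.rTensor C ∘ₗ g :=
      DualProjective.ext_of_comp_eval (W := V) (X := (Fin m →₀ R) ⊗[R] C) _ _ (by simp only [φ, LinearMap.comp_assoc, hg, hρ])
    exact LinearMap.ext fun x =>
      Module.Flat.rTensor_preserves_injective_linearMap (M := C) j hj (LinearMap.congr_fun this x)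
  refine ⟨D, inferInstance, inferInstance, dD, φ, hf2, hp2, ?_, ?_⟩
  · refine Function.Surjective.of_comp (g := η) ?_
    convert hsurj using 1
    funext v
    exact congrArg (eps F) (congrArg (p.rTensor C) (LinearMap.congr_fun hg v))
  · rw [hkey]
    refine LinearMap.ext fun x => ?_
    have e : φ = (eps F ∘ₗ p.rTensor C) ∘ₗ g := rfl
    change p.rTensor C (g x) = φ.rTensor C (σ x)
    rw [e, LinearMap.rTensor_comp, LinearMap.comp_apply, ← LinearMap.comp_apply (g.rTensor C), ← hghom,
      LinearMap.comp_apply, eps_rTensor_cofreeCoact]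

omit [IsNoetherianRing R] [Module.Flat R C] in
/-- The resolution property. -/
theorem exists_projective_quotient [IsRegularRing R] [Module.Projective R C]
    (hdim : ringKrullDim R ≤ 2) (F : Type u) [AddCommGroup F] [Module R F] [Module.Finite R F]
    [HopfRep.Comod R C F] :
    ∃ (V : Type u) (_ : AddCommGroup V) (_ : Module R V) (_ : HopfRep.Comod R C V) (φ : V →ₗ[R] F),
      Module.Finite R V ∧ Module.Projective R V ∧ Function.Surjective φ ∧
      HopfRep.Comod.coact (k := R) (A := C) ∘ₗ φ = φ.rTensor C ∘ₗ HopfRep.Comod.coact (k := R) (A := C) (V := V) := by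
  obtain ⟨n, p, V, _, _, d, ι, hV, hι, hιhom, hsurj, hρ⟩ := exists_step (R := R) (C := C) F
  haveI := hV
  haveI : Module.FinitePresentation R V := Module.finitePresentation_of_finite R V
  obtain ⟨m, a, y, hay⟩ := Module.Flat.exists_factorization_of_finitePresentation ι
  have ha : Function.Injective a := fun x x' hx => hι (by simp [hay, hx])
  obtain ⟨W, _, _, dW, ψ, hWf, hWp, hψs, hψ⟩ := exists_projective_of_torsionless (C := C) hdim V a ha
  let φ := eps F ∘ₗ p.rTensor C ∘ₗ ι
  have hφ : HopfRep.Comod.coact (k := R) (A := C) ∘ₗ φ = φ.rTensor C ∘ₗ d.coact := by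
    rw [hρ]
    refine LinearMap.ext fun x => ?_
    have e : φ = (eps F ∘ₗ p.rTensor C) ∘ₗ ι := rfl
    change p.rTensor C (ι x) = φ.rTensor C (d.coact x)
    rw [e, LinearMap.rTensor_comp, LinearMap.comp_apply, ← LinearMap.comp_apply (ι.rTensor C), ← hιhom,
      LinearMap.comp_apply, eps_rTensor_cofreeCoact]
  refine ⟨W, inferInstance, inferInstance, dW, φ ∘ₗ ψ, hWf, hWp, hsurj.comp hψs, ?_⟩
  rw [← LinearMap.comp_assoc, hφ, LinearMap.comp_assoc, hψ, ← LinearMap.comp_assoc, ← LinearMap.rTensor_comp]

end Groth.Sga3.ComodQuotProj
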