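import Groth.Agent.Sga3.MultTypeIntegral
import Groth.Agent.Sga3.TrivialSubgroup
import Groth.Agent.Calg1.ProjDescent
import Groth.Agent.Hopf.Comod

/-!
The convolution algebra of a group with a faithfully flat diagonalisation, as functions on the
characters.
-/

set_option autoImplicit false

universe u

open TensorProduct Coalgebra WithConv

noncomputable section

namespace Groth.Sga3.CharFun

open SGA3b MultType GroupAlg

theorem mapDomain_mk'_surjective (R : Type u) [CommRing R] {M : Type u} [CommGroup M] (N : Subgroup M) :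
    Function.Surjective (MonoidAlgebra.mapDomainBialgHom R (QuotientGroup.mk' N)) := by
  intro y
  induction y using MonoidAlgebra.induction_linear with
  | zero => exact ⟨0, map_zero _⟩
  | add p q hp hq =>
    obtain ⟨a, rfl⟩ := hp; obtain ⟨b, rfl⟩ := hq
    exact ⟨a + b, map_add _ _ _⟩
  | single q r =>
    obtain ⟨m, rfl⟩ := QuotientGroup.mk'_surjective N q
    exact ⟨MonoidAlgebra.single m r, MonoidAlgebra.mapDomainBialgHom_single ..⟩

/-- A finitely generated commutative group is residually torsion. -/
theorem exists_pow_separating {M : Type u} [CommGroup M] [Group.FG M] (F : Finset M) :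
    ∃ n : ℕ, 0 < n ∧ ∀ z ∈ F, z ∈ (powMonoidHom (α := M) n).range → z = 1 := by
  classical
  obtain ⟨r, ι, _, p, hp, a, ⟨f⟩⟩ :=
    AddCommGroup.equiv_free_prod_directSum_zmod (G := Additive M)
  let t := ∏ i, p i ^ a i
  have ht : 0 < t := Finset.prod_pos fun i _ => pow_pos (hp i).pos _
  let B := F.sup fun z => Finset.univ.sup fun i => ((f (Additive.ofMul z)).1 i).natAbs
  refine ⟨t * (B + 1), Nat.mul_pos ht (Nat.succ_pos _), fun z hz ⟨w, hw⟩ => ?_⟩
  have hf : f (Additive.ofMul z) = (t * (B + 1)) • f (Additive.ofMul w) := by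
    rw [← map_nsmul, ← hw]; rfl
  have h1 : ∀ i, (f (Additive.ofMul z)).1 i = 0 := by
    intro i
    by_contra hne
    have hdvd : ((t * (B + 1) : ℕ) : ℤ) ∣ (f (Additive.ofMul z)).1 i :=
      ⟨(f (Additive.ofMul w)).1 i, by rw [hf]; simp⟩
    have hle := Nat.le_of_dvd (Int.natAbs_pos.2 hne) (Int.natCast_dvd.1 hdvd)
    have hB : ((f (Additive.ofMul z)).1 i).natAbs ≤ B :=
      (Finset.le_sup (f := fun i => ((f (Additive.ofMul z)).1 i).natAbs) (Finset.mem_univ i)).trans
        (Finset.le_sup (f := fun z => Finset.univ.sup fun i => ((f (Additive.ofMul z)).1 i).natAbs) hz)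
    have : B + 1 ≤ t * (B + 1) := Nat.le_mul_of_pos_left _ ht
    omega
  have h2 : ∀ i, (f (Additive.ofMul z)).2 i = 0 := by
    intro i
    rw [hf, Prod.smul_snd, DFinsupp.smul_apply, nsmul_eq_mul,
      (ZMod.natCast_eq_zero_iff _ _).2
        ((Finset.dvd_prod_of_mem (fun i => p i ^ a i) (Finset.mem_univ i)).trans (dvd_mul_right t _)),
      zero_mul]
  have h3 : f (Additive.ofMul z) = 0 := Prod.ext (Finsupp.ext h1) (DFinsupp.ext h2)
  exact Additive.ofMul.injective (f.injective (h3.trans (map_zero f).symm))

variable {R : Type u} [CommRing R] {A : Type u} [CommRing A] [HopfAlgebra R A]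
  {S : Type u} [CommRing S] [Algebra R S] {M : Type u} [CommGroup M]
  (e : S ⊗[R] A ≃ₐc[S] MonoidAlgebra S M)

/-- the element of a character -/
def chr (j : M) : S ⊗[R] A := e.symm (MonoidAlgebra.single j 1)

theorem isGroupLikeElem_chr (j : M) : IsGroupLikeElem S (chr e j) :=
  (MonoidAlgebra.isGroupLikeElem_single_one j).map e.symm

theorem e_chr (j : M) : e (chr e j) = MonoidAlgebra.single j 1 := e.apply_symm_apply _

theorem linearMap_ext {N : Type u} [AddCommGroup N] [Module S N] {f g : S ⊗[R] A →ₗ[S] N}
    (h : ∀ j, f (chr e j) = g (chr e j)) : f = g := by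
  refine LinearMap.ext fun z => ?_
  rw [← e.symm_apply_apply z]
  generalize e z = x
  induction x using MonoidAlgebra.induction_linear with
  | zero => simp
  | add p q hp hq => simp only [map_add, hp, hq]
  | single m r =>
    rw [show MonoidAlgebra.single m r = r • MonoidAlgebra.single m (1 : S) by simp, map_smul,
      map_smul, map_smul, show e.symm (MonoidAlgebra.single m 1) = chr e m from rfl, h]

theorem extendScalar_one (z : S ⊗[R] A) :
    extendScalar S ((1 : WithConv (A →ₗ[R] R)).ofConv) z = counit (R := S) z := by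
  induction z using TensorProduct.induction_on with
  | zero => simp
  | add x y hx hy => simp only [map_add, hx, hy]
  | tmul s a =>
    rw [extendScalar_tmul, TensorProduct.counit_tmul, CommSemiring.counit_apply]
    simp [LinearMap.convOne_def, Algebra.smul_def, mul_comm]

theorem extendScalar_mul (φ ψ : WithConv (A →ₗ[R] R)) (z : S ⊗[R] A) :
    extendScalar S (φ * ψ).ofConv z =
      LinearMap.mul' S S (TensorProduct.map (extendScalar S φ.ofConv) (extendScalar S ψ.ofConv)
        (comul z)) := by
  induction z using TensorProduct.induction_on with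
  | zero => simp
  | add x y hx hy => simp only [map_add, hx, hy]
  | tmul s a =>
    rw [extendScalar_tmul, TensorProduct.comul_tmul, CommSemiring.comul_apply,
      LinearMap.convMul_apply]
    generalize comul (R := R) a = t
    induction t using TensorProduct.induction_on with
    | zero => simp
    | tmul x y =>
      simp only [TensorProduct.AlgebraTensorModule.tensorTensorTensorComm_tmul, TensorProduct.map_tmul,
        LinearMap.mul'_apply, extendScalar_tmul, Algebra.smul_def, map_mul]
      ring
    | add x y hx hy => simp only [TensorProduct.tmul_add, map_add, add_smul, hx, hy]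

theorem extendScalar_smul (r : R) (φ : A →ₗ[R] R) (z : S ⊗[R] A) :
    extendScalar S (r • φ) z = algebraMap R S r * extendScalar S φ z := by
  induction z using TensorProduct.induction_on with
  | zero => simp
  | add x y hx hy => simp only [map_add, hx, hy, mul_add]
  | tmul s a =>
    rw [extendScalar_tmul, extendScalar_tmul, LinearMap.smul_apply, smul_eq_mul, mul_smul,
      Algebra.smul_def]

theorem extendScalar_add (φ ψ : A →ₗ[R] R) (z : S ⊗[R] A) :
    extendScalar S (φ + ψ) z = extendScalar S φ z + extendScalar S ψ z := by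
  induction z using TensorProduct.induction_on with
  | zero => simp
  | add x y hx hy => simp only [map_add, hx, hy]; abel
  | tmul s a => rw [extendScalar_tmul, extendScalar_tmul, extendScalar_tmul, LinearMap.add_apply, add_smul]

/-- A functional as a function on the characters. -/
def ev : WithConv (A →ₗ[R] R) →+* (M → S) where
  toFun φ j := extendScalar S φ.ofConv (chr e j)
  map_one' := funext fun j => by rw [extendScalar_one, (isGroupLikeElem_chr e j).counit_eq_one]; rfl
  map_mul' φ ψ := funext fun j => by
    rw [extendScalar_mul, (isGroupLikeElem_chr e j).comul_eq_tmul_self]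
    simp
  map_zero' := funext fun j => by
    change extendScalar S (0 : A →ₗ[R] R) (chr e j) = 0
    have := extendScalar_smul (0 : R) (0 : A →ₗ[R] R) (chr e j)
    simpa using this
  map_add' φ ψ := funext fun j => extendScalar_add φ.ofConv ψ.ofConv _

theorem ev_apply (φ : WithConv (A →ₗ[R] R)) (j : M) :
    ev e φ j = extendScalar S φ.ofConv (chr e j) := rfl

theorem ev_smul (r : R) (φ : WithConv (A →ₗ[R] R)) : ev e (r • φ) = r • ev e φ :=
  funext fun j => by
    change extendScalar S (r • φ.ofConv) (chr e j) = r • (ev e φ j : S)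
    rw [show r • (ev e φ j : S) = algebraMap R S r * ev e φ j from Algebra.smul_def r (ev e φ j)]
    exact extendScalar_smul r φ.ofConv _

theorem extendScalar_eq_sum (φ : WithConv (A →ₗ[R] R)) (z : S ⊗[R] A) :
    extendScalar S φ.ofConv z = (e z).coeff.sum (fun j c => c * ev e φ j) := by
  conv_lhs => rw [← e.symm_apply_apply z, ← MonoidAlgebra.sum_coeff_single (e z), Finsupp.sum,
    map_sum, map_sum]
  refine Finset.sum_congr rfl fun j _ => ?_
  dsimp only
  rw [show MonoidAlgebra.single j ((e z).coeff j) = (e z).coeff j • MonoidAlgebra.single j (1 : S) by simp,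
    map_smul, map_smul, smul_eq_mul]
  rfl

theorem ev_injective [Module.FaithfullyFlat R S] : Function.Injective (ev e) := by
  refine (injective_iff_map_eq_zero _).2 fun φ hφ => WithConv.ofConv_injective (LinearMap.ext fun a => ?_)
  have hinj := RingHom.FaithfullyFlat.injective
    (RingHom.faithfullyFlat_algebraMap_iff.2 (inferInstance : Module.FaithfullyFlat R S))
  apply hinj
  have h : extendScalar S φ.ofConv ((1 : S) ⊗ₜ[R] a) = 0 := by
    rw [extendScalar_eq_sum e, hφ]
    simp
  rw [extendScalar_tmul, ← Algebra.algebraMap_eq_smul_one] at h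
  simpa using h

/-- the operator of a functional is diagonal -/
theorem cf_op (φ : WithConv (A →ₗ[R] R)) (a : A) (j : M) :
    cf j (e ((1 : S) ⊗ₜ[R] Groth.ComodLib.slice φ.ofConv (comul (R := R) a))) =
      ev e φ j * cf j (e ((1 : S) ⊗ₜ[R] a)) := by
  let L : S ⊗[R] A →ₗ[S] S ⊗[R] A :=
    (TensorProduct.rid S (S ⊗[R] A)).toLinearMap ∘ₗ
      (extendScalar S φ.ofConv).lTensor (S ⊗[R] A) ∘ₗ comul
  have hL : ∀ a : A, L ((1 : S) ⊗ₜ[R] a) =
      (1 : S) ⊗ₜ[R] Groth.ComodLib.slice φ.ofConv (comul (R := R) a) := by
    intro a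
    simp only [L, LinearMap.comp_apply, LinearEquiv.coe_coe, TensorProduct.comul_tmul,
      CommSemiring.comul_apply]
    generalize comul (R := R) a = t
    induction t using TensorProduct.induction_on with
    | zero => simp
    | add x y hx hy => simp only [TensorProduct.tmul_add, map_add, hx, hy]
    | tmul x y =>
      simp [extendScalar_tmul, TensorProduct.tmul_smul, TensorProduct.smul_tmul']
  have h1 : ((cf j : MonoidAlgebra S M →ₗ[S] S) ∘ₗ (e : S ⊗[R] A ≃ₐ[S] MonoidAlgebra S M).toLinearMap) ∘ₗ L =
      ev e φ j • ((cf j : MonoidAlgebra S M →ₗ[S] S) ∘ₗ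
        (e : S ⊗[R] A ≃ₐ[S] MonoidAlgebra S M).toLinearMap) := by
    refine linearMap_ext e fun i => ?_
    classical
    simp only [L, LinearMap.comp_apply, LinearEquiv.coe_coe, (isGroupLikeElem_chr e i).comul_eq_tmul_self,
      LinearMap.lTensor_tmul, TensorProduct.rid_tmul, map_smul, LinearMap.smul_apply]
    change ev e φ i • cf j (e (chr e i)) = ev e φ j • cf j (e (chr e i))
    rw [e_chr, cf_single]
    split_ifs with hij
    · rw [hij]
    · rw [smul_zero, smul_zero]
  have := LinearMap.congr_fun h1 ((1 : S) ⊗ₜ[R] a)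
  rw [← hL]
  exact this

section Class

variable (n : ℕ)

/-- functionals constant on the classes modulo `n`-th powers -/
def classFun : Subalgebra R (WithConv (A →ₗ[R] R)) where
  carrier := {φ | ∀ i j : M, i⁻¹ * j ∈ (powMonoidHom (α := M) n).range → ev e φ i = ev e φ j}
  mul_mem' {φ ψ} hφ hψ i j h := by simp only [map_mul, Pi.mul_apply, hφ i j h, hψ i j h]
  add_mem' {φ ψ} hφ hψ i j h := by simp only [map_add, Pi.add_apply, hφ i j h, hψ i j h]
  algebraMap_mem' r i j _ := by
    rw [Algebra.algebraMap_eq_smul_one, ev_smul, map_one, Pi.smul_apply, Pi.smul_apply, Pi.one_apply,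
      Pi.one_apply]

theorem kills_iff [Module.FaithfullyFlat R S] {φ : WithConv (A →ₗ[R] R)} :
    φ ∈ classFun e n ↔ ∀ t ∈ torsionIdeal R A n, φ.ofConv t = 0 := by
  let N := (powMonoidHom (α := M) n).range
  refine ⟨fun hφ t ht => ?_, fun hφ => ?_⟩
  · have hinj := RingHom.FaithfullyFlat.injective
      (RingHom.faithfullyFlat_algebraMap_iff.2 (inferInstance : Module.FaithfullyFlat R S))
    apply hinj
    rw [map_zero, Algebra.algebraMap_eq_smul_one, ← extendScalar_tmul, extendScalar_eq_sum e]
    have ht' : e ((1 : S) ⊗ₜ[R] t) ∈ torsionIdeal S (MonoidAlgebra S M) n := by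
      rw [← map_torsionIdeal e, torsionIdeal_baseChange]
      exact Ideal.mem_map_of_mem (e : S ⊗[R] A →ₐc[S] MonoidAlgebra S M)
        (Ideal.mem_map_of_mem (Algebra.TensorProduct.includeRight : A →ₐ[R] S ⊗[R] A) ht)
    rw [torsionIdeal_monoidAlgebra, RingHom.mem_ker] at ht'
    let F : M ⧸ N → S := fun q => ev e φ q.out
    have hF : ∀ i, F (QuotientGroup.mk' N i) = ev e φ i := fun i =>
      hφ _ _ (QuotientGroup.eq.1 (QuotientGroup.out_eq' _))
    let LF : MonoidAlgebra S (M ⧸ N) →ₗ[S] S :=
      Finsupp.linearCombination S F ∘ₗ (MonoidAlgebra.coeffLinearEquiv S).toLinearMap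
    have hLF : ∀ x : MonoidAlgebra S M, x.coeff.sum (fun j c => c * ev e φ j) =
        LF (MonoidAlgebra.mapDomainBialgHom S (QuotientGroup.mk' N) x) := by
      intro x
      induction x using MonoidAlgebra.induction_linear with
      | zero => simp
      | add p q hp hq =>
        rw [map_add, map_add, ← hp, ← hq, MonoidAlgebra.coeff_add,
          Finsupp.sum_add_index' (by simp) (by intro _ _ _; ring)]
      | single m r =>
        simp [LF, ← hF, MonoidAlgebra.mapDomainBialgHom_single]
    rw [hLF, ht', map_zero]
  · intro i j hij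
    have hz : extendScalar S φ.ofConv (e.symm (MonoidAlgebra.single i (1 : S) - MonoidAlgebra.single j 1)) = 0 := by
      have hmem : MonoidAlgebra.single i (1 : S) - MonoidAlgebra.single j 1 ∈
          torsionIdeal S (MonoidAlgebra S M) n := by
        rw [torsionIdeal_monoidAlgebra, RingHom.mem_ker, map_sub,
          MonoidAlgebra.mapDomainBialgHom_single, MonoidAlgebra.mapDomainBialgHom_single, sub_eq_zero,
          show QuotientGroup.mk' N i = QuotientGroup.mk' N j from QuotientGroup.eq.2 hij]
      have hmem' : e.symm (MonoidAlgebra.single i (1 : S) - MonoidAlgebra.single j 1) ∈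
          torsionIdeal S (S ⊗[R] A) n := by
        rw [← map_torsionIdeal e.symm]
        exact Ideal.mem_map_of_mem (e.symm : MonoidAlgebra S M →ₐc[S] S ⊗[R] A) hmem
      rw [torsionIdeal_baseChange, Ideal.map, Ideal.span] at hmem'
      suffices h : ∀ c : S ⊗[R] A, extendScalar S φ.ofConv
          (c * e.symm (MonoidAlgebra.single i (1 : S) - MonoidAlgebra.single j 1)) = 0 by
        simpa using h 1
      generalize e.symm (MonoidAlgebra.single i (1 : S) - MonoidAlgebra.single j 1) = z at hmem' ⊢
      induction hmem' using Submodule.span_induction with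
      | mem x hx =>
        obtain ⟨t, ht, rfl⟩ := hx
        intro c
        induction c using TensorProduct.induction_on with
        | zero => simp
        | add p q hp hq => rw [add_mul, map_add, hp, hq, add_zero]
        | tmul s a =>
          rw [Algebra.TensorProduct.includeRight_apply, Algebra.TensorProduct.tmul_mul_tmul, mul_one,
            extendScalar_tmul, hφ _ (Ideal.mul_mem_left _ a ht), zero_smul]
      | zero => simp
      | add p q _ _ hp hq => intro c; rw [mul_add, map_add, hp, hq, add_zero]
      | smul d p _ hp => intro c; rw [smul_eq_mul, ← mul_assoc, hp]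
    rw [map_sub, map_sub, sub_eq_zero] at hz
    exact hz

end Class

end Groth.Sga3.CharFun
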