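import Groth.Agent.Hopf.CharFun
import Groth.Agent.Hopf.Simple
import Groth.Agent.Hopf.Burnside
import Groth.Agent.Hopf.Regular

/-!
Matrix coefficients of pairwise non-isomorphic simple comodules are independent; a cocommutative element
of a cosemisimple Hopf algebra is a combination of characters.
-/

set_option autoImplicit false
set_option linter.unusedSectionVars false

universe u v

open TensorProduct Groth.ComodLib

noncomputable section

namespace Groth.Sga3.CharacterSpan

variable {k : Type u} [Field k] {A : Type u} [CommRing A] [HopfAlgebra k A]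

/-- isomorphic comodules -/
def Iso (A : Type u) [CommRing A] [HopfAlgebra k A] (V W : Type u) [AddCommGroup V] [Module k V]
    [HopfRep.Comod k A V] [AddCommGroup W] [Module k W] [HopfRep.Comod k A W] : Prop :=
  ∃ e : V ≃ₗ[k] W, Hoch.IsComodHom A (e : V →ₗ[k] W)

theorem iso_refl (V : Type u) [AddCommGroup V] [Module k V] [HopfRep.Comod k A V] : Iso (k := k) A V V :=
  ⟨LinearEquiv.refl k V, (isComodHom_iff _).2 fun _ _ => rfl⟩

theorem iso_symm {V W : Type u} [AddCommGroup V] [Module k V] [HopfRep.Comod k A V] [AddCommGroup W] [Module k W]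
    [HopfRep.Comod k A W] : Iso (k := k) A V W → Iso (k := k) A W V :=
  fun ⟨e, he⟩ => ⟨e.symm, isComodHom_symm he⟩

theorem iso_trans {V W U : Type u} [AddCommGroup V] [Module k V] [HopfRep.Comod k A V] [AddCommGroup W] [Module k W]
    [HopfRep.Comod k A W] [AddCommGroup U] [Module k U] [HopfRep.Comod k A U] :
    Iso (k := k) A V W → Iso (k := k) A W U → Iso (k := k) A V U :=
  fun ⟨e, he⟩ ⟨e', he'⟩ => ⟨e.trans e', isComodHom_comp he' he⟩

/-- all endomorphisms of a simple comodule come from forms -/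
theorem exists_op_eq [IsAlgClosed k] {V : Type u} [AddCommGroup V] [Module k V] [HopfRep.Comod k A V]
    [Module.Finite k V] (hV : HopfRep.IsSimpleComod k A V) (f : Module.End k V) :
    ∃ φ : A →ₗ[k] k, op (V := V) φ = f := by
  haveI := hV.1
  obtain ⟨φ, hφ⟩ := mem_of_irreducible (rho k A V).range (fun U hU => hV.2 U ((isSubcomod_iff U).2
    fun φ x hx => hU _ ⟨WithConv.toConv φ, rfl⟩ x hx)) f
  exact ⟨φ.ofConv, hφ⟩

/-- the matrix coefficients of a simple comodule are independent -/
theorem eq_zero_of_sum_cfMat [IsAlgClosed k] {V : Type u} [AddCommGroup V] [Module k V] [HopfRep.Comod k A V]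
    [Module.Finite k V] (hV : HopfRep.IsSimpleComod k A V) {m : ℕ} (b : Module.Basis (Fin m) k V)
    (c : Fin m × Fin m → k) (hc : ∑ p, c p • cfMat (A := A) b p.1 p.2 = 0) (q : Fin m × Fin m) : c q = 0 := by
  classical
  obtain ⟨φ, hφ⟩ := exists_op_eq hV ((b.coord q.2).smulRight (b q.1))
  have h := congrArg φ hc
  rw [map_sum, map_zero, Finset.sum_eq_single q] at h
  · rw [map_smul, cfMat, apply_cf, hφ] at h
    simpa using h
  · intro p _ hp
    rw [map_smul, cfMat, apply_cf, hφ]
    by_cases h2 : p.2 = q.2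
    · by_cases h1 : q.1 = p.1
      · exact absurd (Prod.ext h1.symm h2) hp
      · simp [h1, h2]
    · simp [h2]
  · simp

section Family

variable {ι : Type v} {V : ι → Type u} [∀ i, AddCommGroup (V i)] [∀ i, Module k (V i)]
  [∀ i, HopfRep.Comod k A (V i)]

/-- the coefficient spaces of non-isomorphic simple comodules are independent -/
theorem inf_coeff_eq_bot (hs : ∀ i, HopfRep.IsSimpleComod k A (V i))
    (hne : ∀ i j, i ≠ j → ¬ Iso (k := k) A (V i) (V j)) (i : ι) :
    coeff k A (V i) ⊓ ⨆ j : {j // j ≠ i}, coeff k A (V j) = ⊥ := by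
  by_contra h
  obtain ⟨T, hT, hle, hsimp, hfin⟩ := exists_simpleSub_le
    (isSubcomod_inf isSubcomod_coeff (isSubcomod_iSup _ fun j : {j // j ≠ i} => isSubcomod_coeff)) h
  letI cT := ComodSub.Comod.restr (inferInstance : HopfRep.Comod k A A) T hT
  have hTs : HopfRep.IsSimpleComod k A T := isSimpleComod_restr _ T hT hsimp
  have hsub : Hoch.IsComodHom A T.subtype := ComodSub.isComodHom_subtype _ T hT
  have h0 : T.subtype ≠ 0 := fun e => hsimp.1 (by rw [← Submodule.range_subtype T, e, LinearMap.range_zero])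
  obtain ⟨_, e₁, he₁⟩ := exists_iso_of_le_sum (ι := V i →ₗ[k] k) (K := fun _ => V i) (fun _ => hs i)
    (fun ψ => cf (A := A) ψ) (fun ψ => isComodHom_cf ψ) hTs T.subtype hsub
    (by rw [Submodule.range_subtype]; exact hle.trans inf_le_left) h0
  obtain ⟨⟨j, _⟩, e₂, he₂⟩ := exists_iso_of_le_sum
    (ι := Σ j : {j // j ≠ i}, (V j →ₗ[k] k)) (K := fun p => V p.1) (fun p => hs p.1)
    (fun p => cf (A := A) p.2) (fun p => isComodHom_cf p.2) hTs T.subtype hsub
    (by rw [Submodule.range_subtype, iSup_sigma]; exact hle.trans inf_le_right) h0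
  exact hne i j j.2.symm (iso_trans (iso_symm ⟨e₁, he₁⟩) ⟨e₂, he₂⟩)

/-- matrix coefficients of non-isomorphic simple comodules are independent -/
theorem linearIndependent_cfMat [IsAlgClosed k] [∀ i, Module.Finite k (V i)] {d : ι → ℕ}
    (b : ∀ i, Module.Basis (Fin (d i)) k (V i)) (hs : ∀ i, HopfRep.IsSimpleComod k A (V i))
    (hne : ∀ i j, i ≠ j → ¬ Iso (k := k) A (V i) (V j)) :
    LinearIndependent k (fun p : Σ i, Fin (d i) × Fin (d i) => cfMat (A := A) (b p.1) p.2.1 p.2.2) := by
  classical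
  rw [linearIndependent_iff']
  intro s c hsum q hq
  let S : Finset ι := s.image Sigma.fst
  let c' : (Σ i, Fin (d i) × Fin (d i)) → k := fun p => if p ∈ s then c p else 0
  let y : ι → A := fun i => ∑ p : Fin (d i) × Fin (d i), c' ⟨i, p⟩ • cfMat (A := A) (b i) p.1 p.2
  have hy : ∀ i, y i ∈ coeff k A (V i) := fun i =>
    Submodule.sum_mem _ fun p _ => Submodule.smul_mem _ _ (cf_mem_coeff _ _)
  have htot : ∑ i ∈ S, y i = 0 := by
    rw [← hsum, ← Finset.sum_sigma S (fun _ => Finset.univ) fun p => c' p • cfMat (A := A) (b p.1) p.2.1 p.2.2]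
    rw [← Finset.sum_subset (fun p hp => Finset.mem_sigma.2 ⟨Finset.mem_image_of_mem _ hp, Finset.mem_univ _⟩ :
      s ⊆ S.sigma fun _ => Finset.univ) fun p _ hp => by simp [c', hp]]
    exact Finset.sum_congr rfl fun p hp => by simp [c', hp]
  have hzero : y q.1 = 0 := by
    rw [← Submodule.mem_bot k, ← inf_coeff_eq_bot hs hne q.1]
    refine ⟨hy _, ?_⟩
    rw [← Finset.add_sum_erase S y (Finset.mem_image_of_mem _ hq), add_eq_zero_iff_eq_neg] at htot
    rw [htot]
    exact Submodule.neg_mem _ (Submodule.sum_mem _ fun j hj =>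
      Submodule.mem_iSup_of_mem (⟨j, (Finset.mem_erase.1 hj).1⟩ : {j // j ≠ q.1}) (hy j))
  have h := eq_zero_of_sum_cfMat (hs q.1) (b q.1) (fun p => c' ⟨q.1, p⟩) hzero q.2
  simpa [c', hq] using h

end Family

/-- every element of a cosemisimple Hopf algebra lies in a sum of finitely many simple subcomodules -/
theorem exists_simples (hred : HopfRep.IsLinearlyReductive k A) (f : A) :
    ∃ s : Finset {T : Submodule k A //
        HopfRep.IsSubcomod (k := k) (A := A) T ∧ IsSimpleSub A T ∧ Module.Finite k T},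
      f ∈ ⨆ T ∈ s, (T : Submodule k A) := by
  classical
  obtain ⟨W, hfin, hfW, hW⟩ := exists_finite_subcomod_span (k := k) (A := A) (V := A) (Set.finite_singleton f)
  let U : Submodule k A := ⨆ T : {T : Submodule k A //
    HopfRep.IsSubcomod (k := k) (A := A) T ∧ IsSimpleSub A T ∧ Module.Finite k T}, (T : Submodule k A)
  have hU : HopfRep.IsSubcomod (k := k) (A := A) U := isSubcomod_iSup _ fun T => T.2.1
  letI cW := ComodSub.Comod.restr (inferInstance : HopfRep.Comod k A A) W hW
  have hsub : Hoch.IsComodHom A W.subtype := ComodSub.isComodHom_subtype _ W hW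
  haveI := hfin
  have hU' : HopfRep.IsSubcomod (k := k) (A := A) (U.comap W.subtype) :=
    (isSubcomod_iff _).2 fun φ x hx => by
      change W.subtype (op φ x) ∈ U
      rw [isComodHom_op hsub]
      exact (isSubcomod_iff U).1 hU φ _ hx
  obtain ⟨W', hW', hc⟩ := hred W hfin _ hU'
  have hbot : W' = ⊥ := by
    by_contra h0
    obtain ⟨T, hT, hTW, hTs, hTfin⟩ := exists_simpleSub_le (A := A) hW' h0
    have hmapsub : HopfRep.IsSubcomod (k := k) (A := A) (T.map W.subtype) :=
      (isSubcomod_iff _).2 fun φ _ ⟨x, hx, hxy⟩ =>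
        ⟨op φ x, (isSubcomod_iff T).1 hT φ x hx, by rw [isComodHom_op hsub, hxy]⟩
    have hmap : IsSimpleSub A (T.map W.subtype) := by
      refine ⟨fun e => hTs.1 (Submodule.map_injective_of_injective W.subtype_injective (e.trans (Submodule.map_bot _).symm)),
        fun T' hT' hle => ?_⟩
      have hW'' : T' ≤ LinearMap.range W.subtype := hle.trans LinearMap.map_le_range
      rcases hTs.2 (T'.comap W.subtype) ((isSubcomod_iff _).2 fun φ x hx => by
          change W.subtype (op φ x) ∈ T'
          rw [isComodHom_op hsub]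
          exact (isSubcomod_iff T').1 hT' φ _ hx)
        ((Submodule.comap_mono hle).trans (Submodule.comap_map_eq_of_injective W.subtype_injective T).le) with e | e
      · left
        rw [← Submodule.map_comap_eq_self hW'', e, Submodule.map_bot]
      · right
        rw [← Submodule.map_comap_eq_self hW'', e]
    haveI := hTfin
    have hle : T.map W.subtype ≤ U :=
      le_iSup (fun T : {T : Submodule k A // HopfRep.IsSubcomod (k := k) (A := A) T ∧ IsSimpleSub A T ∧
        Module.Finite k T} => (T : Submodule k A)) ⟨_, hmapsub, hmap, inferInstance⟩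
    exact hTs.1 (le_bot_iff.1 (hc.disjoint (Submodule.map_le_iff_le_comap.1 hle) hTW))
  have htop : U.comap W.subtype = ⊤ := by
    have := hc.sup_eq_top
    rwa [hbot, sup_bot_eq] at this
  have hfU : f ∈ U := by
    have hmem : (⟨f, hfW rfl⟩ : W) ∈ U.comap W.subtype := htop ▸ Submodule.mem_top
    exact hmem
  exact Submodule.exists_finset_of_mem_iSup _ hfU

/-- cocommutative elements of a cosemisimple Hopf algebra are combinations of characters -/
theorem mem_span_charSet [IsAlgClosed k] (hred : HopfRep.IsLinearlyReductive k A) {f : A}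
    (hf : TensorProduct.comm k A A (Coalgebra.comul (R := k) f) = Coalgebra.comul (R := k) f) :
    f ∈ Submodule.span k (charSet k A) := by
  classical
  obtain ⟨s, hs⟩ := exists_simples hred f
  let V : s → Type u := fun T => (T.1.1 : Submodule k A)
  letI : ∀ T : s, HopfRep.Comod k A (V T) := fun T =>
    ComodSub.Comod.restr (inferInstance : HopfRep.Comod k A A) T.1.1 T.1.2.1
  haveI : ∀ T : s, Module.Finite k (V T) := fun T => T.1.2.2.2
  have hsimp : ∀ T : s, HopfRep.IsSimpleComod k A (V T) := fun T => isSimpleComod_restr _ _ T.1.2.1 T.1.2.2.1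
  let r : Setoid s := ⟨fun T T' => Iso (k := k) A (V T) (V T'),
    ⟨fun T => iso_refl (V T), fun h => iso_symm h, fun h h' => iso_trans h h'⟩⟩
  let R : Quotient r → s := Quotient.out
  have hne : ∀ x y, x ≠ y → ¬ Iso (k := k) A (V (R x)) (V (R y)) := fun x y hxy h => hxy (by
    rw [← Quotient.out_eq x, ← Quotient.out_eq y]
    exact Quotient.sound h)
  let d : Quotient r → ℕ := fun x => Module.finrank k (V (R x))
  let b : ∀ x, Module.Basis (Fin (d x)) k (V (R x)) := fun x => Module.finBasis k _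
  let Q := Σ x, Fin (d x) × Fin (d x)
  let F : Q → A := fun p => cfMat (A := A) (b p.1) p.2.1 p.2.2
  have hspan : f ∈ Submodule.span k (Set.range F) := by
    refine (?_ : (⨆ T ∈ s, (T : Submodule k A)) ≤ _) hs
    refine iSup_le fun T => iSup_le fun hT => ?_
    have hiso : coeff k A (V ⟨T, hT⟩) = coeff k A (V (R (Quotient.mk r ⟨T, hT⟩))) := by
      obtain ⟨e, he⟩ := (Quotient.exact (Quotient.out_eq (Quotient.mk r ⟨T, hT⟩)) :
        Iso (k := k) A (V (R (Quotient.mk r ⟨T, hT⟩))) (V ⟨T, hT⟩))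
      exact (coeff_eq_of_iso he).symm
    have h1 : (T : Submodule k A) ≤ coeff k A (V ⟨T, hT⟩) := by
      have h2 := range_le_coeff (k := k) (A := A) (V := V ⟨T, hT⟩)
        (f := (T : Submodule k A).subtype) (ComodSub.isComodHom_subtype _ T.1 T.2.1)
      exact fun y hy => h2 ⟨⟨y, hy⟩, rfl⟩
    refine h1.trans (hiso.le.trans (iSup_le fun ψ => ?_))
    rintro _ ⟨x, rfl⟩
    refine Submodule.span_mono ?_ (cf_mem_span_cfMat (b _) ψ x)
    rintro _ ⟨p, rfl⟩
    exact ⟨⟨_, p⟩, rfl⟩
  obtain ⟨c, hc⟩ := (Submodule.mem_span_range_iff_exists_fun k).1 hspan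
  have hli : LinearIndependent k F := linearIndependent_cfMat b (fun x => hsimp _) hne
  have hdual : ∀ q : Q, ∃ φ : A →ₗ[k] k, ∀ p, φ (F p) = if p = q then 1 else 0 := fun q => by
    obtain ⟨φ, hφ⟩ := LinearMap.exists_extend ((Finsupp.lapply q) ∘ₗ hli.repr)
    refine ⟨φ, fun p => ?_⟩
    have h := LinearMap.congr_fun hφ ⟨F p, Submodule.subset_span ⟨p, rfl⟩⟩
    rw [LinearMap.comp_apply, LinearMap.comp_apply, hli.repr_eq_single p _ rfl] at h
    simpa [Finsupp.single_apply] using h
  choose δ hδ using hdual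
  have hcoef : ∀ (x : Quotient r) (a l l' a' : Fin (d x)),
      (if l = l' then c ⟨x, (a, a')⟩ else 0) = if a' = a then c ⟨x, (l', l)⟩ else 0 := by
    intro x a l l' a'
    let φ := δ ⟨x, (a, l)⟩
    let ψ := δ ⟨x, (l', a')⟩
    have h := congrArg (fun z => TensorProduct.lid k k (TensorProduct.map φ ψ z)) hf
    rw [← hc] at h
    simp only [map_sum, map_smul, F, comul_cfMat, TensorProduct.comm_tmul, TensorProduct.map_tmul,
      TensorProduct.lid_tmul, smul_eq_mul] at h
    have hφ : ∀ (y : Quotient r) (i j : Fin (d y)),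
        φ (cfMat (A := A) (b y) i j) = if (⟨y, (i, j)⟩ : Q) = ⟨x, (a, l)⟩ then 1 else 0 := fun y i j => hδ _ ⟨y, (i, j)⟩
    have hψ : ∀ (y : Quotient r) (i j : Fin (d y)),
        ψ (cfMat (A := A) (b y) i j) = if (⟨y, (i, j)⟩ : Q) = ⟨x, (l', a')⟩ then 1 else 0 := fun y i j => hδ _ ⟨y, (i, j)⟩
    have hsame : ∀ (y : Quotient r) (u v : Fin (d y) × Fin (d y)), ((⟨y, u⟩ : Q) = ⟨y, v⟩) = (u = v) :=
      fun y u v => propext (sigma_mk_injective.eq_iff)
    have hdiff : ∀ (y : Quotient r) (u : Fin (d y) × Fin (d y)) (v : Fin (d x) × Fin (d x)), y ≠ x →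
        ((⟨y, u⟩ : Q) = ⟨x, v⟩) = False := fun y u v hy => eq_false fun h => hy (congrArg Sigma.fst h)
    have e₁ : ∀ p : Q, ∑ i, φ (cfMat (A := A) (b p.1) p.2.1 i) * ψ (cfMat (A := A) (b p.1) i p.2.2) =
        if p = ⟨x, (a, a')⟩ then (if l = l' then 1 else 0) else 0 := by
      rintro ⟨y, i, j⟩
      by_cases hy : y = x
      · subst hy
        rw [Finset.sum_eq_single l (fun t _ ht => by simp [hφ, ht, hsame, hdiff]) (by simp)]
        by_cases hi : i = a <;> by_cases hj : j = a' <;> simp [hφ, hψ, hi, hj, hsame, hdiff]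
      · simp [hφ, hy, hsame, hdiff]
    have e₂ : ∀ p : Q, ∑ i, φ (cfMat (A := A) (b p.1) i p.2.2) * ψ (cfMat (A := A) (b p.1) p.2.1 i) =
        if p = ⟨x, (l', l)⟩ then (if a = a' then 1 else 0) else 0 := by
      rintro ⟨y, i, j⟩
      by_cases hy : y = x
      · subst hy
        rw [Finset.sum_eq_single a (fun t _ ht => by simp [hφ, ht, hsame, hdiff]) (by simp)]
        by_cases hi : i = l' <;> by_cases hj : j = l <;> simp [hφ, hψ, hi, hj, hsame, hdiff]
      · simp [hφ, hy, hsame, hdiff]
    simp only [e₁, e₂, mul_ite, mul_one, mul_zero, Finset.sum_ite_eq', Finset.mem_univ, if_true] at h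
    rw [Finset.sum_eq_single (⟨x, (a, a')⟩ : Q) (fun p _ hp => if_neg hp)
        (fun hn => absurd (Finset.mem_univ _) hn),
      Finset.sum_eq_single (⟨x, (l', l)⟩ : Q) (fun p _ hp => if_neg hp)
        (fun hn => absurd (Finset.mem_univ _) hn), if_pos rfl, if_pos rfl] at h
    rw [← h]
    by_cases ha : a = a'
    · rw [if_pos ha, if_pos ha.symm]
    · rw [if_neg ha, if_neg fun e => ha e.symm]
  rw [← hc, Fintype.sum_sigma]
  refine Submodule.sum_mem _ fun x _ => ?_
  rcases Nat.eq_zero_or_pos (d x) with h0 | h0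
  · rw [Finset.sum_eq_zero fun (p : Fin (d x) × Fin (d x)) _ => absurd p.1.2 (by omega)]
    exact Submodule.zero_mem _
  · let z : Fin (d x) := ⟨0, h0⟩
    have hd : ∀ p : Fin (d x) × Fin (d x), c ⟨x, p⟩ = if p.1 = p.2 then c ⟨x, (z, z)⟩ else 0 := by
      rintro ⟨a, a'⟩
      have h := hcoef x a z z a'
      rw [if_pos rfl] at h
      rw [h]
      by_cases ha : a = a'
      · rw [if_pos ha.symm, if_pos (show (a, a').1 = (a, a').2 from ha)]
      · rw [if_neg (fun e => ha e.symm), if_neg (show ¬ (a, a').1 = (a, a').2 from ha)]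
    have htr : ∑ p : Fin (d x) × Fin (d x), c ⟨x, p⟩ • F ⟨x, p⟩ =
        c ⟨x, (z, z)⟩ • Matrix.trace (cfMat (A := A) (b x)) := by
      rw [Fintype.sum_prod_type, Matrix.trace, Finset.smul_sum]
      refine Finset.sum_congr rfl fun a _ => ?_
      rw [Finset.sum_eq_single a (fun a' _ ha => by rw [hd, if_neg (Ne.symm ha), zero_smul]) (by simp), hd,
        if_pos rfl]
      rfl
    rw [htr]
    exact Submodule.smul_mem _ _ (Submodule.subset_span
      (trace_mem_charSet ((isComultMat_iff _).2 ⟨comul_cfMat (b x), counit_cfMat (b x)⟩)))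

end Groth.Sga3.CharacterSpan
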