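import Groth.Agent.Sga3.Descend
import Mathlib.RingTheory.HopfAlgebra.Convolution

/-!
The Hopf algebra obtained by descending a group algebra.
-/

set_option autoImplicit false

universe u

open TensorProduct Coalgebra MonoidAlgebra

noncomputable section

namespace Groth.Sga3.Descend

open GroupAlg SGA3b MultType

variable {R : Type u} [CommRing R] {S : Type u} [CommRing S] [Algebra R S]
variable {M N : Type u} [CommGroup M] [CommGroup N]

/-- a homomorphism of character groups compatible with the data -/
def IsHom (D : Datum R S M) (D' : Datum R S N) (q : M →* N) : Prop :=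
  ∀ m, mapDomainBialgHom (S ⊗[R] S) q (D.g m) = D'.g (q m)

theorem IsHom.θ_comm {D : Datum R S M} {D' : Datum R S N} {q : M →* N} (h : IsHom D D' q)
    (y : MonoidAlgebra (S ⊗[R] S) M) :
    mapDomainBialgHom (S ⊗[R] S) q (D.θ y) = D'.θ (mapDomainBialgHom (S ⊗[R] S) q y) := by
  induction y using MonoidAlgebra.induction_linear with
  | zero => simp
  | add a b ha hb => simp only [map_add, ha, hb]
  | single m r =>
    rw [show single m r = r • single m (1 : S ⊗[R] S) by simp, map_smul, map_smul, map_smul, map_smul,
      Datum.θ_single, h m]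
    simp [Datum.θ_single]

theorem IsHom.map_mem {D : Datum R S M} {D' : Datum R S N} {q : M →* N} (h : IsHom D D' q)
    {u : MonoidAlgebra S M} (hu : u ∈ D.A) : mapDomainBialgHom S q u ∈ D'.A := by
  rw [Datum.mem_A, mp_mapDomain, ← h.θ_comm, D.mem_A.1 hu, mp_mapDomain]

section Prod

/-- first inclusion -/
abbrev inlB (X : Type u) [CommRing X] :
    MonoidAlgebra X M →ₐc[X] MonoidAlgebra X (M × M) :=
  mapDomainBialgHom X (MonoidHom.inl M M)
/-- second inclusion -/
abbrev inrB (X : Type u) [CommRing X] :
    MonoidAlgebra X M →ₐc[X] MonoidAlgebra X (M × M) :=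
  mapDomainBialgHom X (MonoidHom.inr M M)

theorem inl_mul_inr (X : Type u) [CommRing X] (a b : M) (r s : X) :
    inlB X (single a r) * inrB X (single b s) = single (a, b) (r * s) := by
  simp [MonoidAlgebra.single_mul_single]

/-- the characters of the square -/
def Datum.g2 (D : Datum R S M) : M × M →* MonoidAlgebra (S ⊗[R] S) (M × M) where
  toFun p := inlB _ (D.g p.1) * inrB _ (D.g p.2)
  map_one' := by simp
  map_mul' a b := by
    simp only [Prod.fst_mul, Prod.snd_mul, map_mul]
    ring

theorem Datum.act_g2_inl (D : Datum R S M) {Z : Type u} [CommRing Z] (f : S ⊗[R] S →+* Z)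
    (y : MonoidAlgebra Z M) : act f D.g2 (inlB Z y) = inlB Z (act f D.g y) := by
  induction y using MonoidAlgebra.induction_linear with
  | zero => simp
  | add a b ha hb => simp only [map_add, ha, hb]
  | single m r =>
    rw [show single m r = r • single m (1 : Z) by simp, map_smul, map_smul, map_smul, map_smul,
      act_single]
    congr 1
    rw [show inlB Z (single m (1 : Z)) = single (m, 1) 1 by simp, act_single,
      show D.g2 (m, 1) = inlB _ (D.g m) * inrB _ (D.g 1) from rfl, map_one, map_one, mul_one,
      mp_mapDomain]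

theorem Datum.act_g2_inr (D : Datum R S M) {Z : Type u} [CommRing Z] (f : S ⊗[R] S →+* Z)
    (y : MonoidAlgebra Z M) : act f D.g2 (inrB Z y) = inrB Z (act f D.g y) := by
  induction y using MonoidAlgebra.induction_linear with
  | zero => simp
  | add a b ha hb => simp only [map_add, ha, hb]
  | single m r =>
    rw [show single m r = r • single m (1 : Z) by simp, map_smul, map_smul, map_smul, map_smul,
      act_single]
    congr 1
    rw [show inrB Z (single m (1 : Z)) = single (1, m) 1 by simp, act_single,
      show D.g2 (1, m) = inlB _ (D.g 1) * inrB _ (D.g m) from rfl, map_one, map_one, one_mul,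
      mp_mapDomain]

/-- the datum of the square -/
def Datum.prod (D : Datum R S M) : Datum R S (M × M) where
  g := D.g2
  gl p := ((D.gl p.1).map (inlB _)).mul ((D.gl p.2).map (inrB _))
  coc p := by
    change act _ _ (mp _ (inlB _ (D.g p.1) * inrB _ (D.g p.2))) =
      mp _ (inlB _ (D.g p.1) * inrB _ (D.g p.2))
    rw [map_mul, map_mul, map_mul, mp_mapDomain, mp_mapDomain, mp_mapDomain, mp_mapDomain,
      D.act_g2_inl, D.act_g2_inr, D.coc, D.coc]
  unit p := by
    change mp _ (inlB _ (D.g p.1) * inrB _ (D.g p.2)) = _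
    rw [map_mul, mp_mapDomain, mp_mapDomain, D.unit, D.unit, inl_mul_inr, one_mul]

theorem Datum.isHom_inl (D : Datum R S M) : IsHom D D.prod (MonoidHom.inl M M) := fun m => by
  change inlB _ (D.g m) = inlB _ (D.g m) * inrB _ (D.g 1)
  rw [map_one, map_one, mul_one]

theorem Datum.isHom_inr (D : Datum R S M) : IsHom D D.prod (MonoidHom.inr M M) := fun m => by
  change inrB _ (D.g m) = inlB _ (D.g 1) * inrB _ (D.g m)
  rw [map_one, map_one, one_mul]

theorem Datum.isHom_diag (D : Datum R S M) :
    IsHom D D.prod ((MonoidHom.id M).prod (MonoidHom.id M)) := fun m => by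
  classical
  change mapDomainBialgHom _ _ (D.g m) = inlB _ (D.g m) * inrB _ (D.g m)
  have hx := D.gl m
  rw [← MonoidAlgebra.sum_coeff_single (D.g m), Finsupp.sum, map_sum, map_sum, map_sum,
    Finset.sum_mul_sum]
  refine Finset.sum_congr rfl fun a ha => ?_
  rw [Finset.sum_eq_single_of_mem a ha fun b _ hb => ?_]
  · rw [inl_mul_inr, show (D.g m).coeff a = cf a (D.g m) from rfl, groupLike_coeff_idem hx a]
    simp
  · rw [inl_mul_inr, show (D.g m).coeff a * (D.g m).coeff b = cf a (D.g m) * cf b (D.g m) from rfl,
      groupLike_coeff_mul hx a b, if_neg hb.symm, MonoidAlgebra.single_zero]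

theorem Datum.isHom_inv (D : Datum R S M) :
    IsHom D D (invMonoidHom : M →* M) := fun m => by
  classical
  have hx := D.gl m
  have h1 : mapDomainBialgHom (S ⊗[R] S) (invMonoidHom : M →* M) (D.g m) * D.g m = 1 := by
    conv_lhs => rw [← MonoidAlgebra.sum_coeff_single (D.g m), Finsupp.sum, map_sum, Finset.sum_mul_sum]
    conv_rhs => rw [show (1 : MonoidAlgebra (S ⊗[R] S) M) = algebraMap (S ⊗[R] S) _ 1 from
      (map_one _).symm, ← groupLike_coeff_sum hx, map_sum]
    refine Finset.sum_congr rfl fun a ha => ?_
    rw [Finset.sum_eq_single_of_mem a ha fun b _ hb => ?_]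
    · simp [MonoidAlgebra.single_mul_single, show (D.g m).coeff a = cf a (D.g m) from rfl,
        (groupLike_coeff_idem hx a).eq]
    · simp [MonoidAlgebra.single_mul_single,
        show (D.g m).coeff a * (D.g m).coeff b = cf a (D.g m) * cf b (D.g m) from rfl,
        groupLike_coeff_mul hx a b, if_neg hb.symm]
  have h2 : D.g m * D.g (invMonoidHom m) = 1 := by
    rw [← map_mul, invMonoidHom_apply, mul_inv_cancel, map_one]
  exact left_inv_eq_right_inv h1 h2

end Prod

variable [Module.FaithfullyFlat R S] (D : Datum R S M)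

/-- `S ⊗ A = S[M]` -/
def Datum.μ : S ⊗[R] D.A ≃ₐ[S] MonoidAlgebra S M :=
  AlgEquiv.ofBijective
    (Algebra.TensorProduct.lift (Algebra.ofId S (MonoidAlgebra S M)) D.A.val fun _ _ => Commute.all _ _) <| by
    have h : ∀ z : S ⊗[R] D.A,
        Algebra.TensorProduct.lift (Algebra.ofId S (MonoidAlgebra S M)) D.A.val
          (fun _ _ => Commute.all _ _) z =
        ((TensorProduct.lift (Algebra.lsmul R R (MonoidAlgebra S M)).toLinearMap) ∘ₗ
          (LinearMap.lTensor S (Subalgebra.toSubmodule D.A).subtype)) z := by
      intro z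
      induction z using TensorProduct.induction_on with
      | zero => simp
      | add a b ha hb => simp only [map_add, ha, hb]
      | tmul s a =>
        rw [Algebra.TensorProduct.lift_tmul]
        change algebraMap S (MonoidAlgebra S M) s * (a : MonoidAlgebra S M) = s • (a : MonoidAlgebra S M)
        rw [Algebra.smul_def]
    rw [show ⇑(Algebra.TensorProduct.lift (Algebra.ofId S (MonoidAlgebra S M)) D.A.val
      (fun _ _ => Commute.all _ _)) = _ from funext h]
    exact D.bijective_mul

theorem Datum.μ_tmul (s : S) (a : D.A) : D.μ (s ⊗ₜ a) = s • (a : MonoidAlgebra S M) := by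
  change Algebra.TensorProduct.lift (Algebra.ofId S (MonoidAlgebra S M)) D.A.val
    (fun _ _ => Commute.all _ _) (s ⊗ₜ a) = _
  rw [Algebra.TensorProduct.lift_tmul, Algebra.smul_def]
  rfl

/-- A map into the descended module which becomes bijective after base change is bijective. -/
theorem Datum.bijective_of_bc {P : Type u} [AddCommGroup P] [Module R P] (p : P →ₗ[R] D.A)
    (h : Function.Bijective ((D.A.val.toLinearMap ∘ₗ p).liftBaseChange S)) : Function.Bijective p := by
  rw [← Module.FaithfullyFlat.lTensor_bijective_iff_bijective R S p]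
  have h1 : ⇑((D.A.val.toLinearMap ∘ₗ p).liftBaseChange S) = D.μ ∘ (p.lTensor S) := by
    funext z
    induction z using TensorProduct.induction_on with
    | zero => simp
    | add a b ha hb => simp only [map_add, Function.comp_apply] at *; rw [ha, hb]
    | tmul s x =>
      rw [LinearMap.liftBaseChange_tmul, Function.comp_apply, LinearMap.lTensor_tmul, D.μ_tmul]
      rfl
  rw [h1] at h
  exact (Function.Bijective.of_comp_iff' D.μ.bijective _).1 h

/-- `S[M] ⊗ S[M] = S[M × M]` -/
def Ψ : MonoidAlgebra S M ⊗[S] MonoidAlgebra S M →ₐ[S] MonoidAlgebra S (M × M) :=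
  Algebra.TensorProduct.lift
    ((inlB S : MonoidAlgebra S M →ₐc[S] MonoidAlgebra S (M × M)) :
      MonoidAlgebra S M →ₐ[S] MonoidAlgebra S (M × M))
    ((inrB S : MonoidAlgebra S M →ₐc[S] MonoidAlgebra S (M × M)) :
      MonoidAlgebra S M →ₐ[S] MonoidAlgebra S (M × M)) fun _ _ => Commute.all _ _

theorem bijective_Ψ : Function.Bijective (Ψ (S := S) (M := M)) := by
  let b : Module.Basis M S (MonoidAlgebra S M) := Module.Basis.ofRepr (MonoidAlgebra.coeffLinearEquiv S)
  let b2 : Module.Basis (M × M) S (MonoidAlgebra S (M × M)) :=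
    Module.Basis.ofRepr (MonoidAlgebra.coeffLinearEquiv S)
  let e := (b.tensorProduct b).equiv b2 (Equiv.refl _)
  have hb : ∀ m, b m = single m 1 := fun m => by
    apply b.repr.injective
    simp [b]
  have hb2 : ∀ m, b2 m = single m 1 := fun m => by
    apply b2.repr.injective
    simp [b2]
  have he : (Ψ (S := S) (M := M)).toLinearMap = e.toLinearMap :=
    (b.tensorProduct b).ext fun p => by
      rw [LinearEquiv.coe_coe, Module.Basis.equiv_apply, Module.Basis.tensorProduct_apply, hb, hb]
      change Ψ (single p.1 (1 : S) ⊗ₜ single p.2 1) = _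
      rw [Ψ, Algebra.TensorProduct.lift_tmul, hb2]
      simpa using inl_mul_inr S p.1 p.2 1 1
  have h2 : ⇑(Ψ (S := S) (M := M)) = e := funext fun x => LinearMap.congr_fun he x
  rw [h2]
  exact e.bijective

/-- `A ⊗ A → S[M] ⊗ S[M]` -/
def Datum.p2 : D.A ⊗[R] D.A →ₐ[R] MonoidAlgebra S M ⊗[S] MonoidAlgebra S M :=
  Algebra.TensorProduct.lift
    ((Algebra.TensorProduct.includeLeft : MonoidAlgebra S M →ₐ[R] _).comp D.A.val)
    (((Algebra.TensorProduct.includeRight : MonoidAlgebra S M →ₐ[S] _).restrictScalars R).comp D.A.val)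
    fun _ _ => Commute.all _ _

theorem Datum.p2_tmul (a b : D.A) :
    D.p2 (a ⊗ₜ b) = (a : MonoidAlgebra S M) ⊗ₜ[S] (b : MonoidAlgebra S M) := by
  simp [Datum.p2]

/-- `S ⊗ (A ⊗ A) = S[M] ⊗ S[M]` -/
def Datum.E2 : S ⊗[R] (D.A ⊗[R] D.A) ≃ₗ[S] MonoidAlgebra S M ⊗[S] MonoidAlgebra S M :=
  (TensorProduct.AlgebraTensorModule.distribBaseChange R S D.A D.A).trans
    (TensorProduct.congr D.μ.toLinearEquiv D.μ.toLinearEquiv)

theorem Datum.E2_tmul (s : S) (z : D.A ⊗[R] D.A) : D.E2 (s ⊗ₜ z) = s • D.p2 z := by
  rw [show s ⊗ₜ[R] z = s • ((1 : S) ⊗ₜ[R] z) by rw [TensorProduct.smul_tmul', smul_eq_mul, mul_one],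
    map_smul]
  congr 1
  induction z using TensorProduct.induction_on with
  | zero => simp
  | add a b ha hb => simp only [TensorProduct.tmul_add, map_add, ha, hb]
  | tmul a b =>
    rw [D.p2_tmul, Datum.E2, LinearEquiv.trans_apply,
      TensorProduct.AlgebraTensorModule.distribBaseChange_tmul, TensorProduct.congr_tmul]
    change D.μ _ ⊗ₜ[S] D.μ _ = _
    rw [D.μ_tmul, D.μ_tmul, one_smul, one_smul]

theorem Datum.p2_injective : Function.Injective D.p2 := by
  intro a b hab
  refine MultType.one_tmul_injective_of_faithfullyFlat (R := R) S (D.A ⊗[R] D.A) (D.E2.injective ?_)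
  rw [D.E2_tmul, D.E2_tmul, hab]

/-- `A ⊗ A ⊗ A → S[M] ⊗ S[M] ⊗ S[M]` -/
def Datum.p3 : D.A ⊗[R] (D.A ⊗[R] D.A) →ₐ[R]
    MonoidAlgebra S M ⊗[S] (MonoidAlgebra S M ⊗[S] MonoidAlgebra S M) :=
  Algebra.TensorProduct.lift
    ((Algebra.TensorProduct.includeLeft : MonoidAlgebra S M →ₐ[R] _).comp D.A.val)
    (((Algebra.TensorProduct.includeRight :
      MonoidAlgebra S M ⊗[S] MonoidAlgebra S M →ₐ[S] _).restrictScalars R).comp D.p2)
    fun _ _ => mul_comm (G := MonoidAlgebra S M ⊗[S] (MonoidAlgebra S M ⊗[S] MonoidAlgebra S M)) _ _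

theorem Datum.p3_tmul (a : D.A) (z : D.A ⊗[R] D.A) :
    D.p3 (a ⊗ₜ z) = (a : MonoidAlgebra S M) ⊗ₜ[S] D.p2 z := by
  simp [Datum.p3]

theorem Datum.p3_injective : Function.Injective D.p3 := by
  let E3 := (TensorProduct.AlgebraTensorModule.distribBaseChange R S D.A (D.A ⊗[R] D.A)).trans
    (TensorProduct.congr D.μ.toLinearEquiv D.E2)
  have h : ∀ z, E3 ((1 : S) ⊗ₜ z) = D.p3 z := by
    intro z
    induction z using TensorProduct.induction_on with
    | zero => simp
    | add a b ha hb => simp only [TensorProduct.tmul_add, map_add, ha, hb]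
    | tmul a w =>
      rw [D.p3_tmul]
      rw [LinearEquiv.trans_apply, TensorProduct.AlgebraTensorModule.distribBaseChange_tmul,
        TensorProduct.congr_tmul,
        D.E2_tmul, one_smul]
      change D.μ _ ⊗ₜ[S] _ = _
      rw [D.μ_tmul, one_smul]
  intro a b hab
  refine MultType.one_tmul_injective_of_faithfullyFlat (R := R) S _ (E3.injective ?_)
  rw [h, h, hab]

/-- `A ⊗ A → A_{M×M}` -/
def Datum.J2hom : D.A ⊗[R] D.A →ₐ[R] D.prod.A :=
  (((Ψ (S := S) (M := M)).restrictScalars R).comp D.p2).codRestrict D.prod.A fun z => by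
    induction z using TensorProduct.induction_on with
    | zero => simp [zero_mem]
    | add a b ha hb => rw [map_add]; exact add_mem ha hb
    | tmul a b =>
      change Ψ (D.p2 (a ⊗ₜ b)) ∈ D.prod.A
      rw [D.p2_tmul, Ψ, Algebra.TensorProduct.lift_tmul]
      exact mul_mem (D.isHom_inl.map_mem a.2) (D.isHom_inr.map_mem b.2)

/-- `A ⊗ A` is the descended algebra of the square. -/
def Datum.J2 : D.A ⊗[R] D.A ≃ₐ[R] D.prod.A :=
  AlgEquiv.ofBijective D.J2hom <| by
    refine D.prod.bijective_of_bc (P := D.A ⊗[R] D.A) D.J2hom.toLinearMap ?_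
    have h : ∀ z, Ψ (D.E2 z) =
        (D.prod.A.val.toLinearMap ∘ₗ D.J2hom.toLinearMap).liftBaseChange S z := by
      intro z
      induction z using TensorProduct.induction_on with
      | zero => simp
      | add a b ha hb => simp only [map_add, ha, hb]
      | tmul s a => rw [D.E2_tmul, map_smul, LinearMap.liftBaseChange_tmul]; rfl
    rw [← funext h]
    exact bijective_Ψ.comp D.E2.bijective

theorem Datum.val_J2 (z : D.A ⊗[R] D.A) : (D.J2 z : MonoidAlgebra S (M × M)) = Ψ (D.p2 z) := rfl

/-- comultiplication -/
def Datum.comulA : D.A →ₐ[R] D.A ⊗[R] D.A :=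
  (D.J2.symm : D.prod.A →ₐ[R] D.A ⊗[R] D.A).comp
    ((((mapDomainBialgHom S ((MonoidHom.id M).prod (MonoidHom.id M)) :
      MonoidAlgebra S M →ₐ[S] MonoidAlgebra S (M × M)).restrictScalars R).comp D.A.val).codRestrict
        D.prod.A fun a => D.isHom_diag.map_mem a.2)

theorem Ψ_comul (u : MonoidAlgebra S M) :
    Ψ (comul (R := S) u) = mapDomainBialgHom S ((MonoidHom.id M).prod (MonoidHom.id M)) u := by
  induction u using MonoidAlgebra.induction_linear with
  | zero => simp
  | add a b ha hb => simp only [map_add, ha, hb]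
  | single m r => simp [Ψ, MonoidAlgebra.single_mul_single]

theorem Datum.p2_comulA (a : D.A) : D.p2 (D.comulA a) = comul (R := S) (a : MonoidAlgebra S M) := by
  refine bijective_Ψ.injective ?_
  rw [Ψ_comul, ← D.val_J2]
  change ((D.J2 (D.J2.symm _) : D.prod.A) : MonoidAlgebra S (M × M)) = _
  rw [AlgEquiv.apply_symm_apply]
  rfl

theorem Datum.counit_mem (a : D.A) :
    ∃ r : R, algebraMap R S r = counit (R := S) (a : MonoidAlgebra S M) := by
  refine ((Algebra.IsEffective.of_faithfullyFlat R S) _).1 ?_
  rw [Algebra.TensorProduct.includeLeftSubRight_apply, sub_eq_zero]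
  have hc : ∀ (f : S →+* S ⊗[R] S) (u : MonoidAlgebra S M),
      counit (R := S ⊗[R] S) (mp f u) = f (counit (R := S) u) := by
    intro f u
    induction u using MonoidAlgebra.induction_linear with
    | zero => simp
    | add a b ha hb => simp only [map_add, ha, hb]
    | single m r => simp
  have hθ : ∀ y, counit (R := S ⊗[R] S) (D.θ y) = counit (R := S ⊗[R] S) y := by
    intro y
    induction y using MonoidAlgebra.induction_linear with
    | zero => simp
    | add a b ha hb => simp only [map_add, ha, hb]
    | single m r =>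
      rw [show single m r = r • single m (1 : S ⊗[R] S) by simp, map_smul, map_smul, map_smul,
        D.θ_single, (D.gl m).counit_eq_one, (MonoidAlgebra.isGroupLikeElem_single_one m).counit_eq_one]
  exact (hc (ι₁ R S) (a : MonoidAlgebra S M)).symm.trans
    ((hθ _).symm.trans ((congrArg _ a.2).trans (hc (ι₂ R S) _)))

/-- the counit -/
def Datum.counitA : D.A →ₐ[R] R :=
  have hinj : Function.Injective (algebraMap R S) := RingHom.FaithfullyFlat.injective
    (RingHom.faithfullyFlat_algebraMap_iff.2 ‹Module.FaithfullyFlat R S›)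
  (AlgEquiv.ofInjective (Algebra.ofId R S) hinj).symm.toAlgHom.comp
    ((((Bialgebra.counitAlgHom S (MonoidAlgebra S M)).restrictScalars R).comp D.A.val).codRestrict
      (Algebra.ofId R S).range fun a => (AlgHom.mem_range _).2 (D.counit_mem a))

theorem Datum.algebraMap_counitA (a : D.A) :
    algebraMap R S (D.counitA a) = counit (R := S) (a : MonoidAlgebra S M) :=
  congrArg Subtype.val ((AlgEquiv.ofInjective (Algebra.ofId R S)
    (RingHom.FaithfullyFlat.injective (RingHom.faithfullyFlat_algebraMap_iff.2 ‹Module.FaithfullyFlat R S›) :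
      Function.Injective (algebraMap R S))).apply_symm_apply _)

theorem antipode_eq (u : MonoidAlgebra S M) :
    HopfAlgebra.antipode S u = mapDomainBialgHom S (invMonoidHom : M →* M) u := by
  induction u using MonoidAlgebra.induction_linear with
  | zero => simp
  | add a b ha hb => simp only [map_add, ha, hb]
  | single m r => simp

/-- the antipode -/
def Datum.antipodeA : D.A →ₐ[R] D.A :=
  (((mapDomainBialgHom S (invMonoidHom : M →* M) :
    MonoidAlgebra S M →ₐ[S] MonoidAlgebra S M).restrictScalars R).comp D.A.val).codRestrict D.A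
      fun a => D.isHom_inv.map_mem a.2

/-- The bialgebra structure. -/
@[reducible] def Datum.bialgebra : Bialgebra R D.A :=
  Bialgebra.ofAlgHom D.comulA D.counitA
    (by
      refine AlgHom.ext fun a => D.p3_injective ?_
      have h := LinearMap.congr_fun (Coalgebra.coassoc (R := S) (A := MonoidAlgebra S M))
        (a : MonoidAlgebra S M)
      simp only [LinearMap.comp_apply, LinearEquiv.coe_coe] at h
      rw [← D.p2_comulA] at h
      refine Eq.trans ?_ (h.trans ?_) <;>
        simp only [AlgHom.comp_apply] <;>
        generalize D.comulA a = z <;>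
        induction z using TensorProduct.induction_on with
        | zero => simp
        | add p q hp hq => simp only [map_add, hp, hq]
        | tmul p q => ?_
      · rw [D.p2_tmul, LinearMap.rTensor_tmul, ← D.p2_comulA, Algebra.TensorProduct.map_tmul]
        generalize D.comulA p = w
        induction w using TensorProduct.induction_on with
        | zero => simp
        | tmul x y => simp [D.p3_tmul, D.p2_tmul]
        | add x y hx hy => simp only [map_add, TensorProduct.add_tmul, hx, hy]
      · rw [D.p2_tmul, LinearMap.lTensor_tmul, ← D.p2_comulA, Algebra.TensorProduct.map_tmul,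
          D.p3_tmul]
        rfl)
    (by
      refine AlgHom.ext fun a => (Algebra.TensorProduct.lid R D.A).injective (Subtype.ext ?_)
      have h := congrArg (TensorProduct.lid S (MonoidAlgebra S M))
        (Coalgebra.rTensor_counit_comul (R := S) (a : MonoidAlgebra S M))
      rw [← D.p2_comulA] at h
      refine Eq.trans ?_ (h.trans ?_)
      · simp only [AlgHom.comp_apply]
        generalize D.comulA a = z
        induction z using TensorProduct.induction_on with
        | zero => simp
        | add p q hp hq => simp only [map_add, AddMemClass.coe_add, hp, hq]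
        | tmul p q =>
          rw [D.p2_tmul, LinearMap.rTensor_tmul, Algebra.TensorProduct.map_tmul,
            TensorProduct.lid_tmul, Algebra.TensorProduct.lid_tmul, ← D.algebraMap_counitA,
            algebraMap_smul]
          rfl
      · simp)
    (by
      refine AlgHom.ext fun a => (Algebra.TensorProduct.rid R R D.A).injective (Subtype.ext ?_)
      have h := congrArg (TensorProduct.rid S (MonoidAlgebra S M))
        (Coalgebra.lTensor_counit_comul (R := S) (a : MonoidAlgebra S M))
      rw [← D.p2_comulA] at h
      refine Eq.trans ?_ (h.trans ?_)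
      · simp only [AlgHom.comp_apply]
        generalize D.comulA a = z
        induction z using TensorProduct.induction_on with
        | zero => simp
        | add p q hp hq => simp only [map_add, AddMemClass.coe_add, hp, hq]
        | tmul p q =>
          rw [D.p2_tmul, LinearMap.lTensor_tmul, Algebra.TensorProduct.map_tmul,
            TensorProduct.rid_tmul, Algebra.TensorProduct.rid_tmul, ← D.algebraMap_counitA,
            algebraMap_smul]
          rfl
      · simp)

/-- The descended Hopf algebra. -/
@[reducible] def Datum.hopfAlgebra : HopfAlgebra R D.A :=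
  letI := D.bialgebra
  { D.bialgebra with
    antipode := D.antipodeA.toLinearMap
    mul_antipode_rTensor_comul := by
      refine LinearMap.ext fun a => Subtype.ext ?_
      have h := HopfAlgebra.mul_antipode_rTensor_comul_apply (R := S) (a : MonoidAlgebra S M)
      rw [← D.p2_comulA] at h
      refine Eq.trans ?_ (h.trans ?_)
      · change ((LinearMap.mul' R D.A) (D.antipodeA.toLinearMap.rTensor D.A (D.comulA a)) :
          MonoidAlgebra S M) = _
        generalize D.comulA a = z
        induction z using TensorProduct.induction_on with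
        | zero => simp
        | add p q hp hq => simp only [map_add, AddMemClass.coe_add, hp, hq]
        | tmul p q =>
          rw [D.p2_tmul, LinearMap.rTensor_tmul, LinearMap.rTensor_tmul, LinearMap.mul'_apply,
            LinearMap.mul'_apply, antipode_eq]
          rfl
      · change _ = ((algebraMap R D.A (D.counitA a) : D.A) : MonoidAlgebra S M)
        rw [Subalgebra.coe_algebraMap, IsScalarTower.algebraMap_apply R S (MonoidAlgebra S M),
          D.algebraMap_counitA]
    mul_antipode_lTensor_comul := by
      refine LinearMap.ext fun a => Subtype.ext ?_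
      have h := HopfAlgebra.mul_antipode_lTensor_comul_apply (R := S) (a : MonoidAlgebra S M)
      rw [← D.p2_comulA] at h
      refine Eq.trans ?_ (h.trans ?_)
      · change ((LinearMap.mul' R D.A) (D.antipodeA.toLinearMap.lTensor D.A (D.comulA a)) :
          MonoidAlgebra S M) = _
        generalize D.comulA a = z
        induction z using TensorProduct.induction_on with
        | zero => simp
        | add p q hp hq => simp only [map_add, AddMemClass.coe_add, hp, hq]
        | tmul p q =>
          rw [D.p2_tmul, LinearMap.lTensor_tmul, LinearMap.lTensor_tmul, LinearMap.mul'_apply,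
            LinearMap.mul'_apply, antipode_eq]
          rfl
      · change _ = ((algebraMap R D.A (D.counitA a) : D.A) : MonoidAlgebra S M)
        rw [Subalgebra.coe_algebraMap, IsScalarTower.algebraMap_apply R S (MonoidAlgebra S M),
          D.algebraMap_counitA] }

attribute [local instance] Datum.hopfAlgebra

theorem Datum.comul_def (a : D.A) : comul (R := R) a = D.comulA a := rfl

theorem Datum.counit_def (a : D.A) : counit (R := R) a = D.counitA a := rfl

/-- The descended Hopf algebra is split by `S`. -/
def Datum.μc : S ⊗[R] D.A ≃ₐc[S] MonoidAlgebra S M :=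
  BialgEquiv.ofAlgEquiv D.μ
    (Algebra.TensorProduct.ext (by ext) (AlgHom.ext fun a => by
      change counit (R := S) (D.μ ((1 : S) ⊗ₜ a)) = counit (R := S) ((1 : S) ⊗ₜ[R] a)
      rw [D.μ_tmul, one_smul, TensorProduct.counit_tmul, ← D.algebraMap_counitA, D.counit_def,
        CommSemiring.counit_apply, Algebra.smul_def, mul_one]))
    (Algebra.TensorProduct.ext (by ext) (AlgHom.ext fun a => by
      change Algebra.TensorProduct.map (D.μ : S ⊗[R] D.A →ₐ[S] MonoidAlgebra S M)
        (D.μ : S ⊗[R] D.A →ₐ[S] MonoidAlgebra S M) (comul (R := S) ((1 : S) ⊗ₜ[R] a)) =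
          comul (R := S) (D.μ ((1 : S) ⊗ₜ a))
      rw [D.μ_tmul, one_smul, ← D.p2_comulA, TensorProduct.comul_tmul, CommSemiring.comul_apply,
        D.comul_def]
      generalize D.comulA a = z
      induction z using TensorProduct.induction_on with
      | zero => simp
      | add p q hp hq => simp only [TensorProduct.tmul_add, map_add, hp, hq]
      | tmul p q => simp [D.p2_tmul, D.μ_tmul]))

theorem Datum.isDiag : IsDiag S (S ⊗[R] D.A) := ⟨M, _, ⟨D.μc⟩⟩

/-- A Hopf algebra split by `S` with the same gluing is the descended one. -/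
theorem Datum.nonempty_bialgEquiv {P : Type u} [CommRing P] [HopfAlgebra R P]
    (E : S ⊗[R] P ≃ₐc[S] MonoidAlgebra S M)
    (h : ∀ x : P, D.θ (mp (ι₁ R S) (E ((1 : S) ⊗ₜ x))) = mp (ι₂ R S) (E ((1 : S) ⊗ₜ x))) :
    Nonempty (P ≃ₐc[R] D.A) := by
  let p : P →ₐ[R] D.A := ((((E : S ⊗[R] P ≃ₐ[S] MonoidAlgebra S M) :
    S ⊗[R] P →ₐ[S] MonoidAlgebra S M).restrictScalars R).comp Algebra.TensorProduct.includeRight).codRestrict
      D.A fun x => D.mem_A.2 (h x)
  have hp : ∀ x, (p x : MonoidAlgebra S M) = E ((1 : S) ⊗ₜ x) := fun x => rfl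
  have hb : Function.Bijective p := by
    refine D.bijective_of_bc p.toLinearMap ?_
    have h1 : ∀ z, (D.A.val.toLinearMap ∘ₗ p.toLinearMap).liftBaseChange S z = E z := by
      intro z
      induction z using TensorProduct.induction_on with
      | zero => simp
      | add a b ha hb => simp only [map_add, ha, hb]
      | tmul s x =>
        rw [LinearMap.liftBaseChange_tmul]
        change s • E ((1 : S) ⊗ₜ x) = E (s ⊗ₜ x)
        rw [← map_smul, TensorProduct.smul_tmul', smul_eq_mul, mul_one]
    rw [funext h1]
    exact E.bijective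
  refine ⟨BialgEquiv.ofAlgEquiv (AlgEquiv.ofBijective p hb) (AlgHom.ext fun x => ?_) (AlgHom.ext fun x => ?_)⟩
  · change counit (R := R) (p x) = counit (R := R) x
    refine RingHom.FaithfullyFlat.injective
      (RingHom.faithfullyFlat_algebraMap_iff.2 ‹Module.FaithfullyFlat R S›) ?_
    rw [D.counit_def, D.algebraMap_counitA, hp, CoalgHomClass.counit_comp_apply,
      TensorProduct.counit_tmul, CommSemiring.counit_apply, Algebra.smul_def, mul_one]
  · refine D.p2_injective ?_
    change D.p2 (Algebra.TensorProduct.map p p (comul (R := R) x)) = D.p2 (comul (R := R) (p x))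
    rw [D.comul_def, D.p2_comulA, hp, ← CoalgHomClass.map_comp_comul_apply, TensorProduct.comul_tmul,
      CommSemiring.comul_apply]
    generalize comul (R := R) x = z
    induction z using TensorProduct.induction_on with
    | zero => simp
    | add a b ha hb => simp only [TensorProduct.tmul_add, map_add, ha, hb]
    | tmul a b => simp [D.p2_tmul, hp]

end Groth.Sga3.Descend
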