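import Groth.Agent.Sga3.HopfDerivBasis
import Groth.Agent.Sga3.UnipotentExt
import Mathlib.RingTheory.Jacobson.Ring
import Mathlib.RingTheory.Filtration

/-!
Reduced Hopf algebras of finite type over an algebraically closed field of characteristic `p`:
elements killed by all invariant derivations are `p`-th powers, and the kernel of a homomorphism to
the additive group is again reduced when its differential is nonzero or when it is trivial near
the identity.
-/

set_option autoImplicit false
set_option linter.unusedSectionVars false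

universe u

open TensorProduct Coalgebra WithConv
open Groth.ComodLib (lslice lslice_tmul apply_lslice eq_zero_of_lslice slice slice_tmul op op_apply op_mul
  eq_zero_of_slice)

noncomputable section

namespace Groth.Sga3.FrobDescent

variable {k : Type u} [Field k]

section Points

variable [IsAlgClosed k] {B : Type u} [CommRing B] [Algebra k B] [Algebra.FiniteType k B]

/-- a point in every maximal ideal -/
theorem exists_point_of_isMaximal (m : Ideal B) [hm : m.IsMaximal] :
    ∃ u : B →ₐ[k] k, RingHom.ker u = m := by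
  have : IsJacobsonRing B := isJacobsonRing_of_finiteType (A := k)
  letI := Ideal.Quotient.field m
  have : Module.Finite k (B ⧸ m) := finite_of_finite_type_of_isJacobsonRing k (B ⧸ m)
  let e : k ≃ₐ[k] B ⧸ m := AlgEquiv.ofBijective (Algebra.ofId k (B ⧸ m))
    IsAlgClosed.algebraMap_bijective_of_isIntegral
  refine ⟨e.symm.toAlgHom.comp (Ideal.Quotient.mkₐ k m), Ideal.ext fun b => ?_⟩
  rw [RingHom.mem_ker]
  exact (map_eq_zero_iff e.symm e.symm.injective).trans Ideal.Quotient.eq_zero_iff_mem

theorem eq_zero_of_forall_point [IsReduced B] {b : B} (hb : ∀ h : B →ₐ[k] k, h b = 0) : b = 0 := by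
  have : IsJacobsonRing B := isJacobsonRing_of_finiteType (A := k)
  have h0 : b ∈ (⊥ : Ideal B).jacobson := by
    rw [Ideal.jacobson, Submodule.mem_sInf]
    rintro (m : Ideal B) ⟨-, hm⟩
    have : m.IsMaximal := hm
    obtain ⟨u, rfl⟩ := exists_point_of_isMaximal (k := k) m
    exact hb u
  rw [IsJacobsonRing.out inferInstance (Ideal.isRadical_bot_iff.2 inferInstance)] at h0
  exact h0

theorem isReduced_tensor {B' : Type u} [CommRing B'] [Algebra k B'] [Algebra.FiniteType k B']
    [IsReduced B] [IsReduced B'] : IsReduced (B ⊗[k] B') := by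
  refine ⟨fun z hz => eq_zero_of_slice fun φ => eq_zero_of_forall_point (k := k) fun u => ?_⟩
  have h1 : lslice u.toLinearMap z = 0 := by
    let f : B ⊗[k] B' →ₐ[k] B' :=
      (Algebra.TensorProduct.lid k B').toAlgHom.comp (Algebra.TensorProduct.map u (AlgHom.id k B'))
    have hf : ∀ w, f w = lslice u.toLinearMap w := by
      intro w
      induction w using TensorProduct.induction_on with
      | zero => simp
      | tmul a b => simp [f]
      | add a b ha hb => simp only [map_add, ha, hb]
    rw [← hf]
    exact (hz.map f).eq_zero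
  rw [show u (slice φ z) = u.toLinearMap (slice φ z) from rfl, ← apply_lslice φ u.toLinearMap z, h1,
    map_zero]

end Points

section Tangent

variable {Q : Type u} [CommRing Q] [HopfAlgebra k Q]

/-- a tangent vector at the identity -/
def IsTangent (ξ : Q →ₗ[k] k) : Prop :=
  ∀ a b, ξ (a * b) = counit (R := k) a * ξ b + counit (R := k) b * ξ a

theorem IsTangent.map_one {ξ : Q →ₗ[k] k} (h : IsTangent ξ) : ξ 1 = 0 := by
  have := h 1 1
  simpa using this

/-- the invariant derivation of a tangent vector -/
def invDeriv {ξ : Q →ₗ[k] k} (h : IsTangent ξ) : Derivation k Q Q :=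
  Derivation.mk' (slice ξ ∘ₗ comul (R := k) (A := Q)) fun a b => by
    have key : ∀ z w : Q ⊗[k] Q, slice ξ (z * w) =
        slice (counit (R := k)) z * slice ξ w + slice (counit (R := k)) w * slice ξ z := by
      intro z w
      induction z with
      | zero => simp
      | add z₁ z₂ h₁ h₂ => simp only [add_mul, map_add, h₁, h₂]; ring
      | tmul a b =>
        induction w with
        | zero => simp
        | add w₁ w₂ h₁ h₂ => simp only [mul_add, map_add, h₁, h₂]; ring
        | tmul c d =>
          simp only [Algebra.TensorProduct.tmul_mul_tmul, slice_tmul, h b d, Algebra.smul_def,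
            map_add, map_mul]
          ring
    have hr : ∀ c : Q, slice (counit (R := k)) (comul (R := k) c) = c := fun c => by
      rw [slice, LinearMap.comp_apply, Coalgebra.lTensor_counit_comul]
      simp
    simp only [LinearMap.comp_apply, Bialgebra.comul_mul, key, hr, smul_eq_mul]

theorem invDeriv_apply {ξ : Q →ₗ[k] k} (h : IsTangent ξ) (a : Q) :
    invDeriv h a = slice ξ (comul (R := k) a) := rfl

theorem op_lslice (ξ φ : Q →ₗ[k] k) (x : Q) :
    slice ξ (comul (R := k) (lslice φ (comul (R := k) x))) =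
      lslice φ (comul (R := k) (slice ξ (comul (R := k) x))) := by
  refine (Module.forall_dual_apply_eq_zero_iff k _).1 (fun ψ => ?_) |> sub_eq_zero.1
  rw [map_sub, sub_eq_zero]
  have e : ∀ y : Q, ψ (slice ξ (comul (R := k) y)) = (toConv ψ * toConv ξ).ofConv y := by
    intro y
    rw [LinearMap.convMul_def]
    simp only [ofConv_toConv, LinearMap.comp_apply]
    generalize comul (R := k) y = z
    induction z using TensorProduct.induction_on with
    | zero => simp
    | tmul a b => simp [mul_comm]
    | add a b ha hb => simp only [map_add, ha, hb]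
  have e2 : ∀ (θ : Q →ₗ[k] k) (y : Q), θ (lslice φ (comul (R := k) y)) = φ (op θ y) := fun θ y =>
    apply_lslice θ φ _
  rw [e, e2, e2, op_mul]
  rfl

end Tangent

section Frob

variable [IsAlgClosed k] (p : ℕ) [Fact p.Prime] [CharP k p]

section Local

variable {L : Type u} [CommRing L] [Algebra k L] [Module.Finite k L]

/-- In a height one local algebra only constants are killed by all invariant derivations. -/
theorem eq_counit_of_deriv (S : HopfDeriv.CounitalLocal k L) (hp : ∀ a, S.ε a = 0 → a ^ p = 0)
    (a : L) (ha : ∀ (η : L →ₗ[k] k) (hη : ∀ b ∈ S.base, η b = 0), S.deriv hη a = 0) :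
    a = algebraMap k L (S.ε a) := by
  classical
  haveI := S.nontrivial
  obtain ⟨d, x, D, hxm, hx, hD⟩ := S.exists_coordinates
  obtain ⟨hli, hsp⟩ := S.linearIndependent_and_span_height_one p hp hx hD
  let η : Fin d → L →ₗ[k] k := fun i => S.ε.toLinearMap ∘ₗ (D i).toLinearMap
  have hη : ∀ i, ∀ b ∈ S.base, η i b = 0 := by
    intro i b hb
    obtain ⟨z, hz, c, hc, rfl⟩ := Submodule.mem_sup.1 hb
    obtain ⟨c, rfl⟩ := Submodule.mem_span_singleton.1 hc
    have h1 : S.ε (D i z) = 0 := by
      rw [Submodule.restrictScalars_mem, pow_two] at hz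
      refine Submodule.mul_induction_on hz (fun u hu v hv => ?_) (fun u v hu hv => ?_)
      · simp [Derivation.leibniz, S.mem_m.1 hu, S.mem_m.1 hv]
      · rw [map_add, map_add, hu, hv, add_zero]
    change S.ε (D i (z + c • 1)) = 0
    rw [map_add, Derivation.map_smul, Derivation.map_one_eq_zero, smul_zero, add_zero, h1]
  let M : Matrix (Fin d) (Fin d) L := fun i j => S.deriv (hη i) (x j)
  have hM : IsUnit M.det := by
    apply S.isUnit_of_counit
    have : M.map S.ε = 1 := by
      ext i j
      rw [Matrix.map_apply]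
      show S.ε (S.deriv (hη i) (x j)) = _
      rw [S.counit_deriv (hη i)]
      show S.ε (D i (x j)) = _
      rw [hD, Matrix.one_apply]
      split_ifs <;> simp
    rw [← AlgHom.coe_toRingHom, RingHom.map_det, RingHom.mapMatrix_apply, AlgHom.coe_toRingHom, this]
    simp
  have hadj : Algebra.adjoin k (Set.range x) = ⊤ := by
    rw [eq_top_iff, ← Subalgebra.toSubmodule.le_iff_le, Algebra.top_toSubmodule, ← hsp, Submodule.span_le]
    rintro _ ⟨α, rfl⟩
    change HopfDeriv.mono x α ∈ Algebra.adjoin k (Set.range x)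
    exact prod_mem fun i _ => pow_mem (Algebra.subset_adjoin (Set.mem_range_self i)) _
  have hDa : ∀ j, D j a = 0 := by
    have hE : ∀ i, S.deriv (hη i) a = ∑ j, M i j * D j a := by
      intro i
      have : S.deriv (hη i) = ∑ j, M i j • D j := by
        refine Derivation.ext_of_adjoin_eq_top _ hadj ?_
        rintro _ ⟨l, rfl⟩
        change _ = Derivation.coeFnAddMonoidHom (∑ j, M i j • D j) (x l)
        rw [map_sum, Finset.sum_apply]
        simp [Derivation.coeFnAddMonoidHom, hD, M]
      conv_lhs => rw [this]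
      change Derivation.coeFnAddMonoidHom (∑ j, M i j • D j) a = _
      rw [map_sum, Finset.sum_apply]
      simp [Derivation.coeFnAddMonoidHom]
    have hmul : M.mulVec (fun j => D j a) = 0 := funext fun i => (hE i).symm.trans (ha _ (hη i))
    intro j
    have := congrArg (M⁻¹.mulVec) hmul
    rw [Matrix.mulVec_mulVec, Matrix.nonsing_inv_mul _ hM, Matrix.one_mulVec, Matrix.mulVec_zero] at this
    exact congrFun this j
  let C : Subalgebra k L := Algebra.adjoin k {a}
  have hC : ∀ i, ∀ c ∈ C, D i c = 0 := by
    intro i c hc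
    induction hc using Algebra.adjoin_induction with
    | mem y hy => rw [Set.mem_singleton_iff.1 hy]; exact hDa i
    | algebraMap r => exact (D i).map_algebraMap r
    | add y z _ _ hy hz => rw [map_add, hy, hz, add_zero]
    | mul y z _ _ hy hz => rw [Derivation.leibniz, hy, hz, smul_zero, smul_zero, add_zero]
  have hliC := HopfDeriv.linearIndependent_mono hD C hC (HopfDeriv.CounitalLocal.cast_ne_zero_of_lt p)
  obtain ⟨c, hc⟩ := (Submodule.mem_span_range_iff_exists_fun k).1 (hsp.ge (Submodule.mem_top (x := a)))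
  let α₀ : Fin d → Fin p := fun _ => ⟨0, (Fact.out : p.Prime).pos⟩
  have hmono0 : HopfDeriv.mono x α₀ = 1 := by simp [HopfDeriv.mono, α₀]
  let aC : C := ⟨a, Algebra.self_mem_adjoin_singleton k a⟩
  have h0 := Fintype.linearIndependent_iff.1 hliC
    (fun α => algebraMap k C (c α) - if α = α₀ then aC else 0) (by
      simp only [sub_smul, Finset.sum_sub_distrib, ite_smul, zero_smul, Finset.sum_ite_eq',
        Finset.mem_univ, if_true, algebraMap_smul, hc, hmono0]
      rw [sub_eq_zero]
      exact (mul_one a).symm) α₀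
  rw [if_pos rfl, sub_eq_zero] at h0
  have ha' : algebraMap k L (c α₀) = a := congrArg Subtype.val h0
  rw [← ha', AlgHom.commutes]
  rfl

end Local

variable {Q : Type u} [CommRing Q] [HopfAlgebra k Q] [Algebra.FiniteType k Q]

theorem charP {K : Type u} [Field K] [CharP K p] (Q : Type u) [CommRing Q] [HopfAlgebra K Q] :
    CharP Q p :=
  haveI : Nontrivial Q := ⟨⟨0, 1, fun h => by
    simpa using congrArg (Bialgebra.counitAlgHom K Q) h⟩⟩
  charP_of_injective_algebraMap (algebraMap K Q).injective p

/-- The subalgebra of `p`-th powers. -/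
def powers : Subalgebra k Q :=
  haveI := charP p (K := k) Q
  { toSubsemiring := (frobenius Q p).rangeS
    algebraMap_mem' := fun r => by
      obtain ⟨s, rfl⟩ := IsAlgClosed.exists_pow_nat_eq r (Fact.out : p.Prime).pos
      exact ⟨algebraMap k Q s, by rw [frobenius_def, map_pow]⟩ }

theorem mem_powers {a : Q} : a ∈ powers (k := k) p ↔ ∃ b, b ^ p = a := Iff.rfl

/-- An element killed by all invariant derivations is a `p`-th power. -/
theorem exists_root {x : Q}
    (hx : ∀ ξ : Q →ₗ[k] k, IsTangent ξ → slice ξ (comul (R := k) x) = 0) : ∃ y, y ^ p = x := by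
  classical
  haveI := charP p (K := k) Q
  have hprime : p.Prime := Fact.out
  let C := powers (k := k) (Q := Q) p
  haveI : Nontrivial (Q ⊗[k] Q) := ⟨⟨1, 0, fun h => by
    simpa using congrArg (Algebra.TensorProduct.lift (Bialgebra.counitAlgHom k Q)
      (Bialgebra.counitAlgHom k Q) fun _ _ => .all _ _) h⟩⟩
  haveI : CharP (Q ⊗[k] Q) p := charP_of_injective_algebraMap (algebraMap k (Q ⊗[k] Q)).injective p
  have hpowT : ∀ z : Q ⊗[k] Q, z ^ p ∈ (Algebra.TensorProduct.map C.val C.val).range := by
    intro z
    induction z with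
    | zero => rw [zero_pow hprime.ne_zero]; exact zero_mem _
    | add a b ha hb => rw [add_pow_char]; exact add_mem ha hb
    | tmul a b =>
      exact ⟨(⟨a ^ p, (mem_powers p).2 ⟨a, rfl⟩⟩ : C) ⊗ₜ (⟨b ^ p, (mem_powers p).2 ⟨b, rfl⟩⟩ : C), by
        rw [Algebra.TensorProduct.tmul_pow]; rfl⟩
  have hΔC : ∀ c ∈ C, comul (R := k) c ∈
      LinearMap.range (TensorProduct.map C.val.toLinearMap C.val.toLinearMap) := by
    intro c hc
    obtain ⟨b, rfl⟩ := (mem_powers p).1 hc
    rw [Bialgebra.comul_pow]
    obtain ⟨z, hz⟩ := hpowT (comul (R := k) b)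
    exact ⟨z, hz⟩
  haveI : Module.FaithfullyFlat C Q := SubHopfFlat.faithfullyFlat C hΔC fun c hc => by
    obtain ⟨b, rfl⟩ := (mem_powers p).1 hc
    exact (mem_powers p).2 ⟨HopfAlgebra.antipode k b, (map_pow (HopfAlgebra.antipodeAlgHom k Q) b p).symm⟩
  -- the height one kernel
  let I : Ideal Q := Ideal.span {w | ∃ y, counit (R := k) y = 0 ∧ y ^ p = w}
  let mk : Q →ₐ[k] Q ⧸ I := Ideal.Quotient.mkₐ k I
  have hIε : ∀ w ∈ I, Bialgebra.counitAlgHom k Q w = 0 := fun w hw => by
    have : I ≤ RingHom.ker (Bialgebra.counitAlgHom k Q) := Ideal.span_le.2 (by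
      rintro _ ⟨y, hy, rfl⟩
      change Bialgebra.counitAlgHom k Q (y ^ p) = 0
      rw [map_pow, show Bialgebra.counitAlgHom k Q y = 0 from hy, zero_pow hprime.ne_zero])
    exact this hw
  let εL : Q ⧸ I →ₐ[k] k := Ideal.Quotient.liftₐ I (Bialgebra.counitAlgHom k Q) hIε
  haveI : Nontrivial (Q ⧸ I) := ⟨⟨1, 0, fun h => by simpa using congrArg εL h⟩⟩
  haveI : CharP (Q ⧸ I) p := charP_of_injective_algebraMap (algebraMap k (Q ⧸ I)).injective p
  haveI : Nontrivial ((Q ⧸ I) ⊗[k] (Q ⧸ I)) := ⟨⟨1, 0, fun h => by
    simpa using congrArg (Algebra.TensorProduct.lift εL εL fun _ _ => .all _ _) h⟩⟩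
  haveI : CharP ((Q ⧸ I) ⊗[k] (Q ⧸ I)) p :=
    charP_of_injective_algebraMap (algebraMap k ((Q ⧸ I) ⊗[k] (Q ⧸ I))).injective p
  have hLp : ∀ w : Q ⧸ I, w ^ p = algebraMap k _ (εL w ^ p) := by
    intro w
    obtain ⟨w, rfl⟩ := Ideal.Quotient.mk_surjective w
    have h1 : (mk (w - algebraMap k Q (counit (R := k) w))) ^ p = 0 := by
      rw [← map_pow]
      exact Ideal.Quotient.eq_zero_iff_mem.2 (Ideal.subset_span ⟨_, by simp, rfl⟩)
    rw [map_sub, AlgHom.commutes, sub_pow_char, sub_eq_zero, ← map_pow (algebraMap k (Q ⧸ I))] at h1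
    exact h1
  have hLTp : ∀ z : (Q ⧸ I) ⊗[k] (Q ⧸ I),
      z ^ p = algebraMap k _ ((Algebra.TensorProduct.lift εL εL fun _ _ => .all _ _) z ^ p) := by
    intro z
    induction z with
    | zero => simp [zero_pow hprime.ne_zero]
    | add a b ha hb => rw [add_pow_char, map_add, add_pow_char, map_add, ha, hb]
    | tmul a b =>
      rw [Algebra.TensorProduct.tmul_pow, hLp a, hLp b, Algebra.TensorProduct.lift_tmul, mul_pow,
        Algebra.TensorProduct.algebraMap_apply, map_mul, Algebra.algebraMap_eq_smul_one,
        Algebra.algebraMap_eq_smul_one, TensorProduct.tmul_smul, TensorProduct.smul_tmul',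
        smul_mul_assoc, one_mul, smul_comm]
  have hεΔ : ∀ y : Q, (Algebra.TensorProduct.lift εL εL fun _ _ => .all _ _)
      (Algebra.TensorProduct.map mk mk (comul (R := k) y)) = counit (R := k) y := by
    intro y
    have : ∀ z : Q ⊗[k] Q, (Algebra.TensorProduct.lift εL εL fun _ _ => .all _ _)
        (Algebra.TensorProduct.map mk mk z) =
        counit (R := k) (TensorProduct.lid k Q ((counit (R := k)).rTensor Q z)) := by
      intro z
      induction z with
      | zero => simp
      | add a b ha hb => simp only [map_add, ha, hb]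
      | tmul a b => simp [εL, mk]
    rw [this, Coalgebra.rTensor_counit_comul, TensorProduct.lid_tmul, one_smul]
  let ΔL : Q ⧸ I →ₐ[k] (Q ⧸ I) ⊗[k] (Q ⧸ I) := Ideal.Quotient.liftₐ I
    ((Algebra.TensorProduct.map mk mk).comp (Bialgebra.comulAlgHom k Q)) fun w hw => by
      have : I ≤ RingHom.ker ((Algebra.TensorProduct.map mk mk).comp (Bialgebra.comulAlgHom k Q)) :=
        Ideal.span_le.2 (by
          rintro _ ⟨y, hy, rfl⟩
          change (Algebra.TensorProduct.map mk mk).comp (Bialgebra.comulAlgHom k Q) (y ^ p) = 0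
          rw [map_pow, hLTp]
          change algebraMap k _ ((Algebra.TensorProduct.lift εL εL fun _ _ => .all _ _)
            (Algebra.TensorProduct.map mk mk (comul (R := k) y)) ^ p) = 0
          rw [hεΔ, hy, zero_pow hprime.ne_zero, map_zero])
      exact this hw
  haveI : Algebra.FiniteType k (Q ⧸ I) :=
    Algebra.FiniteType.of_surjective mk Ideal.Quotient.mk_surjective
  haveI : Algebra.IsIntegral k (Q ⧸ I) :=
    ⟨fun w => IsIntegral.of_pow hprime.pos ((hLp w) ▸ isIntegral_algebraMap)⟩
  haveI : Module.Finite k (Q ⧸ I) := Algebra.IsIntegral.finite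
  let S : HopfDeriv.CounitalLocal k (Q ⧸ I) :=
    { ε := εL
      Δ := ΔL
      hr := fun w => by
        obtain ⟨w, rfl⟩ := Ideal.Quotient.mk_surjective w
        change TensorProduct.rid k _ (LinearMap.lTensor _ εL.toLinearMap
          (Algebra.TensorProduct.map mk mk (comul (R := k) w))) = mk w
        have : ∀ z : Q ⊗[k] Q, TensorProduct.rid k _ (LinearMap.lTensor _ εL.toLinearMap
            (Algebra.TensorProduct.map mk mk z)) =
            mk (TensorProduct.rid k Q ((counit (R := k)).lTensor Q z)) := by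
          intro z
          induction z with
          | zero => simp
          | add a b ha hb => simp only [map_add, ha, hb]
          | tmul a b => simp [εL, mk]
        rw [this, Coalgebra.lTensor_counit_comul, TensorProduct.rid_tmul, one_smul]
      hl := fun w => by
        obtain ⟨w, rfl⟩ := Ideal.Quotient.mk_surjective w
        change TensorProduct.lid k _ (LinearMap.rTensor _ εL.toLinearMap
          (Algebra.TensorProduct.map mk mk (comul (R := k) w))) = mk w
        have : ∀ z : Q ⊗[k] Q, TensorProduct.lid k _ (LinearMap.rTensor _ εL.toLinearMap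
            (Algebra.TensorProduct.map mk mk z)) =
            mk (TensorProduct.lid k Q ((counit (R := k)).rTensor Q z)) := by
          intro z
          induction z with
          | zero => simp
          | add a b ha hb => simp only [map_add, ha, hb]
          | tmul a b => simp [εL, mk]
        rw [this, Coalgebra.rTensor_counit_comul, TensorProduct.lid_tmul, one_smul]
      nil := fun w hw => ⟨p, by rw [hLp, hw, zero_pow hprime.ne_zero, map_zero]⟩ }
  have hSp : ∀ w, S.ε w = 0 → w ^ p = 0 := fun w hw => by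
    rw [hLp, show εL w = 0 from hw, zero_pow hprime.ne_zero, map_zero]
  have hright : Algebra.TensorProduct.map (AlgHom.id k Q) mk (comul (R := k) x) = x ⊗ₜ 1 := by
    refine sub_eq_zero.1 (eq_zero_of_lslice fun φ => ?_)
    rw [map_sub, lslice_tmul]
    have e1 : ∀ z, lslice φ (Algebra.TensorProduct.map (AlgHom.id k Q) mk z) = mk (lslice φ z) := by
      intro z
      induction z with
      | zero => simp
      | add a b ha hb => simp only [map_add, ha, hb]
      | tmul a b => simp
    set y := lslice φ (comul (R := k) x) with hy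
    have hεy : counit (R := k) y = φ x := by
      rw [hy, apply_lslice, slice, LinearMap.comp_apply, Coalgebra.lTensor_counit_comul]
      simp
    have key := eq_counit_of_deriv p S hSp (mk y) fun η hη => ?_
    · rw [e1, key, show S.ε (mk y) = φ x from hεy, Algebra.algebraMap_eq_smul_one, sub_self]
    · let ξ : Q →ₗ[k] k := η ∘ₗ mk.toLinearMap
      have hξ : IsTangent ξ := fun a b => by
        change η (mk (a * b)) = _
        rw [map_mul, S.tangent_mul hη]
        rfl
      have e2 : ∀ z, HopfDeriv.CounitalLocal.contract η (Algebra.TensorProduct.map mk mk z) =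
          mk (slice ξ z) := by
        intro z
        induction z with
        | zero => simp
        | add a b ha hb => simp only [map_add, ha, hb]
        | tmul a b => simp [ξ]
      change HopfDeriv.CounitalLocal.contract η (Algebra.TensorProduct.map mk mk (comul (R := k) y)) = 0
      rw [e2, hy, op_lslice, hx ξ hξ]
      simp
  have hT : ∀ (T : Type u) [CommRing T] [Algebra k T] (i₁ i₂ : Q →ₐ[k] T),
      (∀ c ∈ C, i₁ c = i₂ c) → i₁ x = i₂ x := by
    intro T _ _ i₁ i₂ h12
    let κ : WithConv (Q →ₐ[k] T) := UnipotentExt.pinv i₁ * toConv i₂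
    have hκC : ∀ c ∈ C, κ.ofConv c = algebraMap k _ (counit (R := k) c) := by
      intro c hc
      obtain ⟨z, hz⟩ := hΔC c hc
      have h1 : (UnipotentExt.pinv i₁ * toConv i₁).ofConv c = algebraMap k _ (counit (R := k) c) := by
        rw [UnipotentExt.pinv_mul]
        rfl
      rw [← h1]
      change (Algebra.TensorProduct.lmul' k).comp (Algebra.TensorProduct.map (UnipotentExt.pinv i₁).ofConv i₂)
          (comul (R := k) c) = (Algebra.TensorProduct.lmul' k).comp
          (Algebra.TensorProduct.map (UnipotentExt.pinv i₁).ofConv i₁) (comul (R := k) c)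
      rw [← hz]
      clear hz
      induction z with
      | zero => simp
      | add a b ha hb => simp only [map_add, ha, hb]
      | tmul a b =>
        simp only [TensorProduct.map_tmul, AlgHom.toLinearMap_apply, AlgHom.comp_apply,
          Algebra.TensorProduct.map_tmul, Algebra.TensorProduct.lmul'_apply_tmul, Subalgebra.coe_val,
          h12 _ b.2]
    let κ' : Q ⧸ I →ₐ[k] T := Ideal.Quotient.liftₐ I κ.ofConv fun w hw => by
      have : I ≤ RingHom.ker κ.ofConv := Ideal.span_le.2 (by
        rintro _ ⟨y, hy, rfl⟩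
        change κ.ofConv (y ^ p) = 0
        rw [hκC _ ((mem_powers p).2 ⟨y, rfl⟩), Bialgebra.counit_pow, hy, zero_pow hprime.ne_zero, map_zero])
      exact this hw
    have h2 : (toConv i₁ * κ).ofConv x = i₂ x := by
      change (toConv i₁ * (UnipotentExt.pinv i₁ * toConv i₂)).ofConv x = i₂ x
      rw [← mul_assoc, UnipotentExt.mul_pinv, one_mul]
    have h3 : ∀ z, (Algebra.TensorProduct.lmul' k).comp (Algebra.TensorProduct.map i₁ κ.ofConv) z =
        (Algebra.TensorProduct.lmul' k).comp (Algebra.TensorProduct.map i₁ κ')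
          (Algebra.TensorProduct.map (AlgHom.id k Q) mk z) := by
      intro z
      induction z with
      | zero => simp
      | add a b ha hb => simp only [map_add, ha, hb]
      | tmul a b => simp [κ', mk]
    rw [← h2]
    change _ = (Algebra.TensorProduct.lmul' k).comp (Algebra.TensorProduct.map i₁ κ.ofConv)
      (comul (R := k) x)
    rw [h3, hright]
    simp
  obtain ⟨⟨r, hr⟩, hrx⟩ : ∃ r : C, (r : Q) = x := by
    let i₁ : Q →ₐ[k] Q ⊗[C] Q :=
      (Algebra.TensorProduct.includeLeft : Q →ₐ[C] Q ⊗[C] Q).restrictScalars k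
    let i₂ : Q →ₐ[k] Q ⊗[C] Q :=
      (Algebra.TensorProduct.includeRight : Q →ₐ[C] Q ⊗[C] Q).restrictScalars k
    have h12 : ∀ c ∈ C, i₁ c = i₂ c := fun c hc => by
      change (algebraMap C Q ⟨c, hc⟩) ⊗ₜ[C] (1 : Q) = (1 : Q) ⊗ₜ[C] (algebraMap C Q ⟨c, hc⟩)
      rw [Algebra.algebraMap_eq_smul_one, TensorProduct.smul_tmul]
    have h4 : x ⊗ₜ[C] (1 : Q) = (1 : Q) ⊗ₜ[C] x := hT _ i₁ i₂ h12
    let N : Submodule C Q := Submodule.span C {1}
    have h5 : (1 : Q) ⊗ₜ[C] N.mkQ x = 0 := by
      have := congrArg (N.mkQ.lTensor Q) h4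
      rw [LinearMap.lTensor_tmul, LinearMap.lTensor_tmul] at this
      rw [← this, Submodule.mkQ_apply,
        (Submodule.Quotient.mk_eq_zero N).2 (Submodule.subset_span rfl), TensorProduct.tmul_zero]
    have h6 : N.mkQ x = 0 :=
      (Module.FaithfullyFlat.tensorProduct_mk_injective (A := C) (B := Q) (Q ⧸ N)) (by
        rw [TensorProduct.mk_apply, h5, map_zero])
    obtain ⟨r, hr⟩ := Submodule.mem_span_singleton.1 ((Submodule.Quotient.mk_eq_zero N).1 h6)
    exact ⟨r, by rw [← hr, Subalgebra.smul_def, smul_eq_mul, mul_one]⟩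
  obtain ⟨y, hy⟩ := (mem_powers p).1 hr
  exact ⟨y, hy.trans hrx⟩

include p in
/-- The kernel of an additive function with nonzero differential is reduced. -/
theorem isReduced_quot_of_tangent [IsReduced Q] {x : Q}
    (hx : comul (R := k) x = x ⊗ₜ 1 + 1 ⊗ₜ x) {ξ : Q →ₗ[k] k} (hξ : IsTangent ξ) (hξx : ξ x ≠ 0) :
    IsReduced (Q ⧸ Ideal.span {x}) := by
  haveI := charP p (K := k) Q
  have hprime : p.Prime := Fact.out
  let ξ' : Q →ₗ[k] k := (ξ x)⁻¹ • ξ
  have hξ' : IsTangent ξ' := fun a b => by
    simp only [ξ', LinearMap.smul_apply, smul_eq_mul, hξ a b]; ring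
  let D := invDeriv hξ'
  have hDx : D x = 1 := by
    rw [invDeriv_apply, hx, map_add, slice_tmul, slice_tmul, hξ'.map_one]
    simp [ξ', inv_mul_cancel₀ hξx]
  have hnzd : ∀ a, x * a = 0 → a = 0 := by
    intro a ha
    have h1 : x * D a + a = 0 := by
      have := congrArg D ha
      rwa [Derivation.leibniz, hDx, smul_eq_mul, smul_eq_mul, mul_one, map_zero] at this
    refine IsReduced.eq_zero a ⟨2, ?_⟩
    calc a ^ 2 = a * (x * D a + a) - (x * a) * D a := by ring
      _ = 0 := by rw [h1, ha]; ring
  rw [isReduced_iff_pow_one_lt p hprime.one_lt]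
  intro z hz
  obtain ⟨z, rfl⟩ := Ideal.Quotient.mk_surjective z
  rw [← map_pow, Ideal.Quotient.eq_zero_iff_mem, Ideal.mem_span_singleton'] at hz
  rw [Ideal.Quotient.eq_zero_iff_mem]
  have hDpow : ∀ (E : Derivation k Q Q) (a : Q), E (a ^ p) = 0 := fun E a => by
    rw [Derivation.leibniz_pow, ← Nat.cast_smul_eq_nsmul k, CharP.cast_eq_zero, zero_smul]
  have hstep : ∀ j, 1 ≤ j → j ≤ p → ∃ w, z ^ p = x ^ j * w := by
    intro j hj1 hjp
    induction j, hj1 using Nat.le_induction with
    | base =>
      obtain ⟨w, hw⟩ := hz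
      exact ⟨w, by rw [pow_one, ← hw, mul_comm]⟩
    | succ j hj ih =>
      obtain ⟨w, hw⟩ := ih (by omega)
      obtain ⟨i, rfl⟩ : ∃ i, j = i + 1 := ⟨j - 1, by omega⟩
      have h1 := congrArg D hw
      rw [hDpow, Derivation.leibniz, Derivation.leibniz_pow, hDx, Nat.add_sub_cancel] at h1
      simp only [smul_eq_mul, mul_one, nsmul_eq_mul] at h1
      have h2 : ((i + 1 : ℕ) : Q) * w + x * D w = 0 := by
        have h3 : x ^ i * (((i + 1 : ℕ) : Q) * w + x * D w) = 0 := by
          rw [h1]; push_cast; ring
        clear h1 hw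
        induction i with
        | zero => simpa using h3
        | succ i ih' =>
          refine hnzd _ ?_
          by_contra hne
          exact hne (by
            have : ∀ n (a : Q), x ^ n * a = 0 → a = 0 := by
              intro n
              induction n with
              | zero => intro a ha; simpa using ha
              | succ n ihn => intro a ha; exact ihn a (hnzd _ (by rw [← mul_assoc, ← pow_succ', ha]))
            rw [this _ _ h3, mul_zero])
      have hu : IsUnit ((i + 1 : ℕ) : Q) := by
        rw [← map_natCast (algebraMap k Q)]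
        exact (IsUnit.mk0 _ (HopfDeriv.CounitalLocal.cast_ne_zero_of_lt p _ (by omega) (by omega))).map _
      refine ⟨(↑hu.unit⁻¹ : Q) * -D w, ?_⟩
      rw [hw, pow_succ x (i + 1), mul_assoc]
      congr 1
      calc w = (↑hu.unit⁻¹ : Q) * ((i + 1 : ℕ) : Q) * w := by rw [IsUnit.val_inv_mul, one_mul]
        _ = x * ((↑hu.unit⁻¹ : Q) * -D w) := by rw [mul_assoc, eq_neg_of_add_eq_zero_left h2]; ring
  obtain ⟨w, hw⟩ := hstep p hprime.one_lt.le le_rfl
  have hpn : ∀ n (a : Q), x ^ n * a = 0 → a = 0 := by
    intro n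
    induction n with
    | zero => intro a ha; simpa using ha
    | succ n ihn => intro a ha; exact ihn a (hnzd _ (by rw [← mul_assoc, ← pow_succ', ha]))
  obtain ⟨v, hv⟩ := exists_root (k := k) p (x := w) fun η hη => by
    refine hpn p _ ?_
    have h1 := congrArg (invDeriv hη) hw
    rw [hDpow, Derivation.leibniz, hDpow, smul_zero, add_zero, smul_eq_mul] at h1
    exact h1.symm
  refine Ideal.mem_span_singleton.2 ⟨v, sub_eq_zero.1 (IsReduced.eq_zero _ ⟨p, ?_⟩)⟩
  rw [sub_pow_char, mul_pow, hv, hw, sub_self]

omit [IsAlgClosed k] [Algebra.FiniteType k Q] in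
/-- `x` is zero near the identity -/
def LocZero (x : Q) : Prop := ∃ s, s * x = 0 ∧ counit (R := k) s ≠ 0

omit p in
/-- The kernel of an additive function vanishing near the identity is reduced. -/
theorem isReduced_quot_of_locZero [IsReduced Q] {x : Q}
    (hx : comul (R := k) x = x ⊗ₜ 1 + 1 ⊗ₜ x) (h : LocZero (k := k) x) :
    IsReduced (Q ⧸ Ideal.span {x}) := by
  obtain ⟨s, hs, hεs⟩ := h
  let ann : Ideal Q := (Submodule.span Q {x}).annihilator
  have hann : ∀ a, a ∈ ann ↔ a * x = 0 := fun a => by
    rw [Submodule.mem_annihilator_span_singleton, smul_eq_mul]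
  have htop : ann ⊔ Ideal.span {x} = ⊤ := by
    by_contra hne
    obtain ⟨m, hm, hle⟩ := Ideal.exists_le_maximal _ hne
    obtain ⟨u, hu⟩ := exists_point_of_isMaximal (k := k) m
    have hux : u x = 0 := by
      rw [← RingHom.mem_ker, hu]
      exact hle (Ideal.mem_sup_right (Ideal.mem_span_singleton_self x))
    let T : Q →ₐ[k] Q := (Algebra.TensorProduct.lid k Q).toAlgHom.comp
      ((Algebra.TensorProduct.map (u.comp (HopfAlgebra.antipodeAlgHom k Q)) (AlgHom.id k Q)).comp
        (Bialgebra.comulAlgHom k Q))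
    have hε : counit (R := k) x = 0 := by
      have h := congrArg (TensorProduct.lid k Q) (Coalgebra.rTensor_counit_comul (R := k) x)
      rw [hx, map_add, LinearMap.rTensor_tmul, LinearMap.rTensor_tmul, Bialgebra.counit_one, map_add,
        TensorProduct.lid_tmul, TensorProduct.lid_tmul, one_smul] at h
      have h' := congrArg (Bialgebra.counitAlgHom k Q) h
      simpa using h'
    have hSx : HopfAlgebra.antipode k x = -x := by
      have h := HopfAlgebra.mul_antipode_rTensor_comul_apply (R := k) x
      rw [hx, map_add, map_add, LinearMap.rTensor_tmul, LinearMap.rTensor_tmul, LinearMap.mul'_apply,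
        LinearMap.mul'_apply, mul_one, HopfAlgebra.antipode_one, one_mul, hε, map_zero] at h
      exact eq_neg_of_add_eq_zero_left h
    have hTx : T x = x := by
      change (Algebra.TensorProduct.lid k Q) (Algebra.TensorProduct.map
        (u.comp (HopfAlgebra.antipodeAlgHom k Q)) (AlgHom.id k Q) (comul (R := k) x)) = x
      rw [hx, map_add, Algebra.TensorProduct.map_tmul, Algebra.TensorProduct.map_tmul, map_add]
      simp [hSx, hux]
    have hTs : T s ∈ ann := by
      rw [hann, ← hTx, ← map_mul, hs, map_zero]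
    have huT : u (T s) = counit (R := k) s := by
      have e : ∀ z, u ((Algebra.TensorProduct.lid k Q) (Algebra.TensorProduct.map
          (u.comp (HopfAlgebra.antipodeAlgHom k Q)) (AlgHom.id k Q) z)) =
          u (LinearMap.mul' k Q ((HopfAlgebra.antipode k).rTensor Q z)) := by
        intro z
        induction z using TensorProduct.induction_on with
        | zero => simp
        | add a b ha hb => simp only [map_add, ha, hb]
        | tmul a b => simp
      refine (e _).trans ?_
      change u (LinearMap.mul' k Q ((HopfAlgebra.antipode k).rTensor Q (comul (R := k) s))) = _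
      rw [HopfAlgebra.mul_antipode_rTensor_comul_apply, AlgHom.commutes]
      rfl
    exact hεs (huT.symm.trans (RingHom.mem_ker.1 (hu ▸ hle (Ideal.mem_sup_left hTs))))
  obtain ⟨f, hf, g, hg, hfg⟩ := Submodule.mem_sup.1 (htop ▸ Submodule.mem_top : (1 : Q) ∈ ann ⊔ Ideal.span {x})
  obtain ⟨t, rfl⟩ := Ideal.mem_span_singleton'.1 hg
  refine ⟨fun z hz => ?_⟩
  obtain ⟨z, rfl⟩ := Ideal.Quotient.mk_surjective z
  obtain ⟨n, hn⟩ := hz
  rw [← map_pow, Ideal.Quotient.eq_zero_iff_mem, Ideal.mem_span_singleton'] at hn
  obtain ⟨w, hw⟩ := hn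
  rw [Ideal.Quotient.eq_zero_iff_mem, Ideal.mem_span_singleton']
  have hfx := (hann f).1 hf
  have hfz : f * z = 0 := IsReduced.eq_zero _ ⟨n + 1, by
    rw [mul_pow, pow_succ z, ← hw, pow_succ f,
      show f ^ n * f * (w * x * z) = f ^ n * w * z * (f * x) by ring, hfx, mul_zero]⟩
  refine ⟨t * z, ?_⟩
  calc t * z * x = (f + t * x) * z - f * z := by ring
    _ = z := by rw [hfg, hfz, one_mul, sub_zero]

omit [IsAlgClosed k] p in
/-- An element not zero near the identity is outside some power of the augmentation ideal. -/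
theorem exists_not_mem_pow {x : Q} (h : ¬ LocZero (k := k) x) :
    ∃ N : ℕ, x ∉ RingHom.ker (Bialgebra.counitAlgHom k Q) ^ N := by
  by_contra! hall
  haveI : IsNoetherianRing Q := Algebra.FiniteType.isNoetherianRing k Q
  have hx : x ∈ (⨅ i : ℕ, RingHom.ker (Bialgebra.counitAlgHom k Q) ^ i • ⊤ : Submodule Q Q) := by
    rw [Submodule.mem_iInf]
    intro i
    rw [smul_eq_mul, Ideal.mul_top]
    exact hall i
  obtain ⟨⟨r, hr⟩, hrx⟩ := (Ideal.mem_iInf_smul_pow_eq_bot_iff _ x).1 hx
  refine h ⟨1 - r, ?_, ?_⟩
  · rw [sub_mul, one_mul, sub_eq_zero]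
    exact hrx.symm
  · change Bialgebra.counitAlgHom k Q (1 - r) ≠ 0
    rw [map_sub, map_one, RingHom.mem_ker.1 hr, sub_zero]
    exact one_ne_zero

end Frob

end Groth.Sga3.FrobDescent
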