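import Groth.Agent.Sga3.CoverDescent
import Groth.Agent.Sga3.GroupAlg

/-!
The invariant integral of a group of multiplicative type.
-/

set_option autoImplicit false

universe u

open TensorProduct Coalgebra WithConv

noncomputable section

namespace Groth.Sga3.MultType

open SGA3b GroupAlg

variable {R : Type u} [CommRing R] {A : Type u} [CommRing A] [HopfAlgebra R A]

/-- A normalised two-sided invariant integral. -/
structure IsInvIntegral (l : A →ₗ[R] R) : Prop where
  map_one : l 1 = 1
  left_inv : ∀ a : A, TensorProduct.rid R A (l.lTensor A (comul a)) = l a • (1 : A)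
  right_inv : ∀ a : A, TensorProduct.lid R A (l.rTensor A (comul a)) = l a • (1 : A)

theorem IsInvIntegral.eq {l l' : A →ₗ[R] R} (h : IsInvIntegral l) (h' : IsInvIntegral l') : l = l' := by
  ext a
  have h1 := congrArg l' (h.left_inv a)
  have h2 := congrArg l (h'.right_inv a)
  rw [map_smul, h'.map_one, smul_eq_mul, mul_one] at h1
  rw [map_smul, h.map_one, smul_eq_mul, mul_one] at h2
  rw [← h1, ← h2]
  generalize comul (R := R) a = t
  induction t using TensorProduct.induction_on with
  | zero => simp
  | tmul x y => simp [mul_comm]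
  | add x y hx hy => simp only [map_add, hx, hy]

theorem isInvIntegral_cf (M : Type u) [CommGroup M] :
    IsInvIntegral (cf (1 : M) : MonoidAlgebra R M →ₗ[R] R) := by
  classical
  refine ⟨by rw [MonoidAlgebra.one_def, cf_single, if_pos rfl], fun a => ?_, fun a => ?_⟩ <;>
  · induction a using MonoidAlgebra.induction_linear with
    | zero => simp
    | add p q hp hq => simp only [map_add, hp, hq, add_smul]
    | single m r =>
      rw [show MonoidAlgebra.single m r = r • MonoidAlgebra.single m (1 : R) by simp]
      simp only [map_smul, (MonoidAlgebra.isGroupLikeElem_single_one m).comul_eq_tmul_self,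
        LinearMap.lTensor_tmul, LinearMap.rTensor_tmul, TensorProduct.rid_tmul,
        TensorProduct.lid_tmul, cf_single, smul_eq_mul]
      rcases eq_or_ne m 1 with rfl | hm
      · simp [MonoidAlgebra.one_def]
      · simp [hm]

theorem IsInvIntegral.comp_equiv {B : Type u} [CommRing B] [HopfAlgebra R B] {l : B →ₗ[R] R}
    (h : IsInvIntegral l) (e : A ≃ₐc[R] B) :
    IsInvIntegral (l ∘ₗ (e : A ≃ₐ[R] B).toLinearMap) := by
  refine ⟨?_, fun a => ?_, fun a => ?_⟩
  · change l ((e : A ≃ₐ[R] B) 1) = 1
    rw [_root_.map_one, h.map_one]
  · apply e.injective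
    change e _ = e _
    have h1 := h.left_inv (e a)
    rw [← CoalgHomClass.map_comp_comul_apply e a] at h1
    change _ = (e : A ≃ₐ[R] B) (l (e a) • (1 : A))
    rw [map_smul, _root_.map_one, ← h1]
    generalize comul (R := R) a = t
    induction t using TensorProduct.induction_on with
    | zero => simp
    | tmul x y =>
      change (e : A ≃ₐ[R] B) (l (e y) • x) = _
      rw [map_smul]
      rfl
    | add x y hx hy => simp only [map_add] at hx hy ⊢; rw [← hx, ← hy]
  · apply e.injective
    change e _ = e _
    have h1 := h.right_inv (e a)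
    rw [← CoalgHomClass.map_comp_comul_apply e a] at h1
    change _ = (e : A ≃ₐ[R] B) (l (e a) • (1 : A))
    rw [map_smul, _root_.map_one, ← h1]
    generalize comul (R := R) a = t
    induction t using TensorProduct.induction_on with
    | zero => simp
    | tmul x y =>
      change (e : A ≃ₐ[R] B) (l (e x) • y) = _
      rw [map_smul]
      rfl
    | add x y hx hy => simp only [map_add] at hx hy ⊢; rw [← hx, ← hy]

theorem exists_isInvIntegral_of_isDiag (h : IsDiag R A) : ∃ l : A →ₗ[R] R, IsInvIntegral l := by
  obtain ⟨M, _, ⟨e⟩⟩ := h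
  exact ⟨_, (isInvIntegral_cf M).comp_equiv e⟩

variable (S : Type u) [CommRing S] [Algebra R S]

/-- base change of a functional -/
def extendScalar (l : A →ₗ[R] R) : S ⊗[R] A →ₗ[S] S :=
  (Algebra.TensorProduct.rid R S S).toLinearMap ∘ₗ l.baseChange S

theorem extendScalar_tmul (l : A →ₗ[R] R) (s : S) (a : A) : extendScalar S l (s ⊗ₜ a) = l a • s := by
  simp [extendScalar]

theorem IsInvIntegral.baseChange {l : A →ₗ[R] R} (h : IsInvIntegral l) :
    IsInvIntegral (extendScalar S l) := by
  refine ⟨by rw [Algebra.TensorProduct.one_def, extendScalar_tmul, h.map_one, one_smul],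
    fun z => ?_, fun z => ?_⟩
  · induction z using TensorProduct.induction_on with
    | zero => simp
    | add p q hp hq => simp only [map_add, hp, hq, add_smul]
    | tmul s a =>
      rw [TensorProduct.comul_tmul, CommSemiring.comul_apply, extendScalar_tmul]
      refine Eq.trans (b := s ⊗ₜ[R] (TensorProduct.rid R A (l.lTensor A (comul a)))) ?_ ?_
      · generalize comul (R := R) a = t
        induction t using TensorProduct.induction_on with
        | zero => simp
        | add p q hp hq => simp only [TensorProduct.tmul_add, map_add, hp, hq]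
        | tmul x y =>
          simp only [TensorProduct.AlgebraTensorModule.tensorTensorTensorComm_tmul, LinearMap.lTensor_tmul,
            extendScalar_tmul, TensorProduct.rid_tmul, TensorProduct.tmul_smul, smul_assoc, one_smul,
            TensorProduct.smul_tmul', smul_eq_mul, mul_one]
          all_goals simp [Algebra.smul_def, mul_comm]
      · rw [h.left_inv, TensorProduct.tmul_smul, Algebra.TensorProduct.one_def, TensorProduct.smul_tmul',
          TensorProduct.smul_tmul', smul_eq_mul, mul_one]
  · induction z using TensorProduct.induction_on with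
    | zero => simp
    | add p q hp hq => simp only [map_add, hp, hq, add_smul]
    | tmul s a =>
      rw [TensorProduct.comul_tmul, CommSemiring.comul_apply, extendScalar_tmul]
      refine Eq.trans (b := s ⊗ₜ[R] (TensorProduct.lid R A (l.rTensor A (comul a)))) ?_ ?_
      · generalize comul (R := R) a = t
        induction t using TensorProduct.induction_on with
        | zero => simp
        | add p q hp hq => simp only [TensorProduct.tmul_add, map_add, hp, hq]
        | tmul x y =>
          simp only [TensorProduct.AlgebraTensorModule.tensorTensorTensorComm_tmul, LinearMap.rTensor_tmul,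
            extendScalar_tmul, TensorProduct.lid_tmul, TensorProduct.tmul_smul, smul_assoc, one_smul,
            TensorProduct.smul_tmul', smul_eq_mul, mul_one]
          all_goals simp [Algebra.smul_def, mul_comm]
      · rw [h.right_inv, TensorProduct.tmul_smul, Algebra.TensorProduct.one_def, TensorProduct.smul_tmul',
          TensorProduct.smul_tmul', smul_eq_mul, mul_one]

/-- A group of multiplicative type has an invariant integral. -/
theorem exists_isInvIntegral (h : IsMultType R A) : ∃ l : A →ₗ[R] R, IsInvIntegral l := by
  classical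
  obtain ⟨ι, _, S, _, _, hff, hd⟩ := exists_cover h
  choose li hli using fun i => exists_isInvIntegral_of_isDiag (hd i)
  have hagree : ∀ (i j : ι) (a : A), li i ((1 : S i) ⊗ₜ[R] a) ⊗ₜ[R] (1 : S j) =
      (1 : S i) ⊗ₜ[R] li j ((1 : S j) ⊗ₜ[R] a) := by
    intro i j a
    let T := S i ⊗[R] S j
    letI : Algebra (S j) T := (Algebra.TensorProduct.includeRight : S j →ₐ[R] T).toRingHom.toAlgebra
    haveI : IsScalarTower R (S j) T := IsScalarTower.of_algebraMap_eq fun r =>
      ((Algebra.TensorProduct.includeRight : S j →ₐ[R] T).commutes r).symm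
    have key : ∀ (k : ι) [Algebra (S k) T] [IsScalarTower R (S k) T],
        ∃ lk : T ⊗[R] A →ₗ[T] T, IsInvIntegral lk ∧
          lk ((1 : T) ⊗ₜ[R] a) = algebraMap (S k) T (li k ((1 : S k) ⊗ₜ[R] a)) := by
      intro k _ _
      refine ⟨_, ((hli k).baseChange T).comp_equiv (cancelBC R (S k) T A).symm, ?_⟩
      change extendScalar T (li k) ((cancelBC R (S k) T A).symm ((1 : T) ⊗ₜ[R] a)) = _
      have h5 : cancelBC R (S k) T A ((1 : T) ⊗ₜ[S k] ((1 : S k) ⊗ₜ[R] a)) = (1 : T) ⊗ₜ[R] a := by
        change Algebra.TensorProduct.cancelBaseChange R (S k) T T A _ = _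
        rw [Algebra.TensorProduct.cancelBaseChange_tmul, one_smul]
      rw [← h5, BialgEquiv.symm_apply_apply, extendScalar_tmul, Algebra.algebraMap_eq_smul_one]
    obtain ⟨l₁, h₁, e₁⟩ := key i
    obtain ⟨l₂, h₂, e₂⟩ := key j
    rw [h₁.eq h₂, e₂] at e₁
    exact e₁.symm
  choose l hl using fun a => exists_of_components (R := R) S (fun i => li i ((1 : S i) ⊗ₜ[R] a))
    (fun i j => hagree i j a)
  have hinj : ∀ r r' : R, (∀ i, algebraMap R (S i) r = algebraMap R (S i) r') → r = r' := fun r r' h => by
    refine sub_eq_zero.1 (eq_zero_of_cover (R := R) S fun i => ?_)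
    rw [← mul_one (r - r'), ← smul_eq_mul, ← TensorProduct.smul_tmul, Algebra.smul_def, map_sub, h i,
      sub_self, zero_mul, TensorProduct.zero_tmul]
  let L : A →ₗ[R] R :=
    { toFun := l
      map_add' := fun a b => hinj _ _ fun i => by
        rw [map_add, hl, hl, hl, TensorProduct.tmul_add, map_add]
      map_smul' := fun r a => hinj _ _ fun i => by
        rw [RingHom.id_apply, smul_eq_mul, map_mul, hl, hl, TensorProduct.tmul_smul,
          ← algebraMap_smul (S i) r, map_smul, smul_eq_mul] }
  have hext : ∀ i, extendScalar (S i) L = li i := fun i => by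
    refine LinearMap.ext fun z => ?_
    induction z using TensorProduct.induction_on with
    | zero => simp
    | add p q hp hq => simp only [map_add, hp, hq]
    | tmul s a =>
      rw [extendScalar_tmul, Algebra.smul_def]
      change algebraMap R (S i) (l a) * s = _
      rw [hl, mul_comm, ← smul_eq_mul, ← map_smul, TensorProduct.smul_tmul', smul_eq_mul, mul_one]
  have hcomp : ∀ (i : ι) (f g : A →ₗ[R] A) (a : A),
      (f.baseChange (S i)) ((1 : S i) ⊗ₜ[R] a) = (g.baseChange (S i)) ((1 : S i) ⊗ₜ[R] a) →
        (1 : S i) ⊗ₜ[R] (f a - g a) = 0 := fun i f g a h => by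
    simpa [TensorProduct.tmul_sub, sub_eq_zero] using h
  refine ⟨L, ⟨hinj _ _ fun i => ?_, fun a => ?_, fun a => ?_⟩⟩
  · change algebraMap R (S i) (l 1) = _
    rw [hl, map_one, ← Algebra.TensorProduct.one_def]
    exact (hli i).map_one
  · refine sub_eq_zero.1 (eq_zero_of_cover (R := R) S fun i => ?_)
    have h1 := (hli i).left_inv ((1 : S i) ⊗ₜ[R] a)
    rw [← hext i, TensorProduct.comul_tmul, CommSemiring.comul_apply, extendScalar_tmul] at h1
    rw [TensorProduct.tmul_sub, sub_eq_zero]
    refine Eq.trans ?_ (h1.trans ?_)
    · generalize comul (R := R) a = t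
      induction t using TensorProduct.induction_on with
      | zero => simp
      | add p q hp hq => simp only [TensorProduct.tmul_add, map_add, hp, hq]
      | tmul x y =>
        simp only [TensorProduct.AlgebraTensorModule.tensorTensorTensorComm_tmul, LinearMap.lTensor_tmul,
          extendScalar_tmul, TensorProduct.rid_tmul, TensorProduct.tmul_smul, smul_assoc, one_smul]
        all_goals rw [← algebraMap_smul (S i) (L y) ((1 : S i) ⊗ₜ[R] x ⊗ₜ[S i] (1 : S i)), map_smul, TensorProduct.rid_tmul, one_smul, algebraMap_smul]
    · rw [TensorProduct.tmul_smul, smul_assoc, one_smul, Algebra.TensorProduct.one_def]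
  · refine sub_eq_zero.1 (eq_zero_of_cover (R := R) S fun i => ?_)
    have h1 := (hli i).right_inv ((1 : S i) ⊗ₜ[R] a)
    rw [← hext i, TensorProduct.comul_tmul, CommSemiring.comul_apply, extendScalar_tmul] at h1
    rw [TensorProduct.tmul_sub, sub_eq_zero]
    refine Eq.trans ?_ (h1.trans ?_)
    · generalize comul (R := R) a = t
      induction t using TensorProduct.induction_on with
      | zero => simp
      | add p q hp hq => simp only [TensorProduct.tmul_add, map_add, hp, hq]
      | tmul x y =>
        simp only [TensorProduct.AlgebraTensorModule.tensorTensorTensorComm_tmul, LinearMap.rTensor_tmul,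
          extendScalar_tmul, TensorProduct.lid_tmul, TensorProduct.tmul_smul, smul_assoc, one_smul]
        all_goals rw [← algebraMap_smul (S i) (L x) ((1 : S i) ⊗ₜ[S i] ((1 : S i) ⊗ₜ[R] y)), map_smul, TensorProduct.lid_tmul, one_smul, algebraMap_smul]
    · rw [TensorProduct.tmul_smul, smul_assoc, one_smul, Algebra.TensorProduct.one_def]

end Groth.Sga3.MultType
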