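import Groth.Agent.Sga3.ConvPoints
import Groth.Agent.Sga3.MultTypeIntegral
import Mathlib.RingTheory.Smooth.Basic

/-!
Approximate homomorphisms from a group with an invariant integral into an affine group: the defect
of multiplicativity can be squared by averaging.
-/

set_option autoImplicit false

universe u

open TensorProduct WithConv Coalgebra

noncomputable section

namespace Groth.Sga3.HochLift

open ConvPoints

variable {R : Type u} [CommRing R] {C : Type u} [CommRing C] [HopfAlgebra R C]

section Conv

variable {T : Type u} [CommRing T] [Algebra R T] {T' : Type u} [CommRing T'] [Algebra R T']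

/-- the ideal of `T` generated by an ideal of the base -/
abbrev vI (K : Ideal R) (T : Type u) [CommRing T] [Algebra R T] : Ideal T := K.map (algebraMap R T)

theorem apply_mem {K : Ideal R} (f : T →ₗ[R] T') {x : T} (hx : x ∈ vI K T) : f x ∈ vI K T' := by
  have h1 : x ∈ K • (⊤ : Submodule R T) := by
    rw [Ideal.smul_top_eq_map]; exact hx
  have h2 := Submodule.mem_map_of_mem (f := f) h1
  rw [Submodule.map_smul''] at h2
  have h3 := Submodule.smul_mono le_rfl le_top h2
  rwa [Ideal.smul_top_eq_map] at h3

/-- congruence of linear maps modulo an ideal of the base -/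
def Cong (K : Ideal R) (X Y : WithConv (C →ₗ[R] T)) : Prop := ∀ c, X c - Y c ∈ vI K T

theorem Cong.refl (K : Ideal R) (X : WithConv (C →ₗ[R] T)) : Cong K X X := fun c => by simp

theorem Cong.symm {K : Ideal R} {X Y : WithConv (C →ₗ[R] T)} (h : Cong K X Y) : Cong K Y X :=
  fun c => by simpa using neg_mem (h c)

theorem Cong.trans {K : Ideal R} {X Y Z : WithConv (C →ₗ[R] T)} (h : Cong K X Y) (h' : Cong K Y Z) :
    Cong K X Z := fun c => by simpa using add_mem (h c) (h' c)

theorem Cong.mono {K K' : Ideal R} (hK : K ≤ K') {X Y : WithConv (C →ₗ[R] T)} (h : Cong K X Y) :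
    Cong K' X Y := fun c => Ideal.map_mono hK (h c)

theorem Cong.add {K : Ideal R} {X Y X' Y' : WithConv (C →ₗ[R] T)} (h : Cong K X Y)
    (h' : Cong K X' Y') : Cong K (X + X') (Y + Y') := fun c => by
  have := add_mem (h c) (h' c)
  simpa [add_sub_add_comm] using this

theorem Cong.sub {K : Ideal R} {X Y X' Y' : WithConv (C →ₗ[R] T)} (h : Cong K X Y)
    (h' : Cong K X' Y') : Cong K (X - X') (Y - Y') := fun c => by
  have := sub_mem (h c) (h' c)
  simpa [sub_sub_sub_comm] using this

theorem mul_mem {K L : Ideal R} {X Y : WithConv (C →ₗ[R] T)} (hX : Cong K X 0) (hY : Cong L Y 0) :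
    Cong (K * L) (X * Y) 0 := by
  intro c
  simp only [LinearMap.convMul_apply, WithConv.ofConv_zero, LinearMap.zero_apply, sub_zero]
  generalize comul (R := R) c = t
  induction t using TensorProduct.induction_on with
  | zero => simp
  | tmul a b =>
    simp only [TensorProduct.map_tmul, LinearMap.mul'_apply]
    rw [vI, Ideal.map_mul]
    exact Ideal.mul_mem_mul (by simpa using hX a) (by simpa using hY b)
  | add a b ha hb => simp only [map_add]; exact add_mem ha hb

theorem cong_iff {K : Ideal R} {X Y : WithConv (C →ₗ[R] T)} : Cong K X Y ↔ Cong K (X - Y) 0 := by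
  simp [Cong]

theorem top_mem (X : WithConv (C →ₗ[R] T)) : Cong (⊤ : Ideal R) X 0 := fun c => by
  rw [vI, Ideal.map_top]; exact Submodule.mem_top

theorem Cong.mul {K : Ideal R} {X Y X' Y' : WithConv (C →ₗ[R] T)} (h : Cong K X Y)
    (h' : Cong K X' Y') : Cong K (X * X') (Y * Y') := by
  rw [cong_iff] at h h' ⊢
  rw [show X * X' - Y * Y' = (X - Y) * X' + Y * (X' - Y') by
    rw [sub_mul, mul_sub]; abel]
  have h1 := mul_mem h (top_mem X')
  have h2 := mul_mem (top_mem Y) h'
  rw [Ideal.mul_top] at h1
  rw [Ideal.top_mul] at h2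
  simpa using h1.add h2

/-- postcomposition with an algebra map -/
def post (f : T →ₐ[R] T') (X : WithConv (C →ₗ[R] T)) : WithConv (C →ₗ[R] T') :=
  toConv (f.toLinearMap ∘ₗ X.ofConv)

/-- postcomposition with a linear map -/
def postL (f : T →ₗ[R] T') (X : WithConv (C →ₗ[R] T)) : WithConv (C →ₗ[R] T') :=
  toConv (f ∘ₗ X.ofConv)

theorem post_eq_postL (f : T →ₐ[R] T') (X : WithConv (C →ₗ[R] T)) :
    post f X = postL f.toLinearMap X := rfl

theorem post_apply (f : T →ₐ[R] T') (X : WithConv (C →ₗ[R] T)) (c : C) : post f X c = f (X c) := rfl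

theorem post_mul (f : T →ₐ[R] T') (X Y : WithConv (C →ₗ[R] T)) :
    post f (X * Y) = post f X * post f Y :=
  WithConv.ofConv_injective (LinearMap.algHom_comp_convMul_distrib f X Y)

theorem post_one (f : T →ₐ[R] T') : post f (1 : WithConv (C →ₗ[R] T)) = 1 := by
  ext c; simp [post, LinearMap.convOne_def]

theorem post_sub (f : T →ₐ[R] T') (X Y : WithConv (C →ₗ[R] T)) :
    post f (X - Y) = post f X - post f Y := by ext c; simp [post]

theorem post_add (f : T →ₐ[R] T') (X Y : WithConv (C →ₗ[R] T)) :
    post f (X + Y) = post f X + post f Y := by ext c; simp [post]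

theorem post_lin (f : T →ₐ[R] T') (u : C →ₐ[R] T) : post f (lin u) = lin (f.comp u) := rfl

theorem postL_add (f : T →ₗ[R] T') (X Y : WithConv (C →ₗ[R] T)) :
    postL f (X + Y) = postL f X + postL f Y := by ext c; simp [postL]

theorem postL_sub (f : T →ₗ[R] T') (X Y : WithConv (C →ₗ[R] T)) :
    postL f (X - Y) = postL f X - postL f Y := by ext c; simp [postL]

theorem Cong.postL {K : Ideal R} {X Y : WithConv (C →ₗ[R] T)} (h : Cong K X Y) (f : T →ₗ[R] T') :
    Cong K (HochLift.postL f X) (HochLift.postL f Y) := fun c => by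
  have := apply_mem f (h c)
  simpa [HochLift.postL] using this

theorem Cong.post {K : Ideal R} {X Y : WithConv (C →ₗ[R] T)} (h : Cong K X Y) (f : T →ₐ[R] T') :
    Cong K (HochLift.post f X) (HochLift.post f Y) := h.postL f.toLinearMap

/-- the inverse of a point -/
def inv (u : C →ₐ[R] T) : WithConv (C →ₗ[R] T) := lin (u.comp (HopfAlgebra.antipodeAlgHom R C))

theorem post_inv (f : T →ₐ[R] T') (u : C →ₐ[R] T) : post f (inv u) = inv (f.comp u) := rfl

theorem lin_mul_inv (u : C →ₐ[R] T) : lin u * inv u = 1 := lin_mul_antipode u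

theorem inv_mul_lin (u : C →ₐ[R] T) : inv u * lin u = 1 := by
  have h := LinearMap.algHom_comp_convMul_distrib u
    (toConv (HopfAlgebra.antipode R (A := C))) (toConv LinearMap.id : WithConv (C →ₗ[R] C))
  rw [LinearMap.antipode_mul_id] at h
  apply WithConv.ofConv_injective
  refine h.symm.trans (LinearMap.ext fun a => ?_)
  simp

theorem inv_mul_lin_assoc (u : C →ₐ[R] T) (X : WithConv (C →ₗ[R] T)) :
    inv u * (lin u * X) = X := by
  rw [← mul_assoc, inv_mul_lin, one_mul]

/-- the derivation rule modulo an ideal -/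
def IsDer (K : Ideal R) (D : WithConv (C →ₗ[R] T)) : Prop :=
  ∀ a b : C, D (a * b) - (counit (R := R) a • D b + counit (R := R) b • D a) ∈ vI K T

theorem IsDer.postL {K : Ideal R} {D : WithConv (C →ₗ[R] T)} (h : IsDer K D) (f : T →ₗ[R] T') :
    IsDer K (HochLift.postL f D) := fun a b => by
  have := apply_mem f (h a b)
  simpa [HochLift.postL] using this

/-- an element congruent to one and multiplicative gives a derivation modulo the square -/
theorem isDer_of_point {J : Ideal R} (w : C →ₐ[R] T) (h : Cong J (lin w) 1) :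
    IsDer (J * J) (lin w - 1) := by
  intro a b
  have h2 : (lin w - 1) (a * b) - (counit (R := R) a • (lin w - 1) b + counit (R := R) b • (lin w - 1) a) =
      (lin w - 1) a * (lin w - 1) b := by
    simp [LinearMap.convOne_def, Algebra.smul_def, Bialgebra.counit_mul]
    ring
  rw [h2, vI, Ideal.map_mul]
  refine Ideal.mul_mem_mul ?_ ?_ <;>
  · simpa using h _

end Conv

variable {A : Type u} [CommRing A] [HopfAlgebra R A]

/-- `A → A ⊗ A`, `x` -/
abbrev pX (R A : Type u) [CommRing R] [CommRing A] [Algebra R A] : A →ₐ[R] A ⊗[R] A :=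
  Algebra.TensorProduct.includeLeft

/-- `A → A ⊗ A`, `y` -/
abbrev pY (R A : Type u) [CommRing R] [CommRing A] [Algebra R A] : A →ₐ[R] A ⊗[R] A :=
  Algebra.TensorProduct.includeRight

/-- the product of the values at two variables, compared with the value at their product -/
def defect (u : C →ₐ[R] A) : WithConv (C →ₗ[R] A ⊗[R] A) :=
  lin ((pX R A).comp u) * lin ((pY R A).comp u) * inv ((Bialgebra.comulAlgHom R A).comp u) - 1

/-- averaging over the second variable -/
def avg (l : A →ₗ[R] R) {T : Type u} [CommRing T] [Algebra R T] : T ⊗[R] A →ₗ[R] T :=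
  (TensorProduct.rid R T).toLinearMap ∘ₗ l.lTensor T

theorem avg_tmul (l : A →ₗ[R] R) {T : Type u} [CommRing T] [Algebra R T] (x : T) (y : A) :
    avg l (x ⊗ₜ[R] y) = l y • x := by simp [avg]

theorem avg_incl_mul (l : A →ₗ[R] R) {T : Type u} [CommRing T] [Algebra R T] (x : T)
    (w : T ⊗[R] A) : avg l ((x ⊗ₜ[R] (1 : A)) * w) = x * avg l w := by
  induction w using TensorProduct.induction_on with
  | zero => simp
  | tmul p q => simp [avg_tmul]
  | add p q hp hq => simp [mul_add, hp, hq]

theorem postL_avg_mul (l : A →ₗ[R] R) {T : Type u} [CommRing T] [Algebra R T]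
    (X Y : WithConv (C →ₗ[R] T)) (Z : WithConv (C →ₗ[R] T ⊗[R] A)) :
    postL (avg l) (post (Algebra.TensorProduct.includeLeft : T →ₐ[R] T ⊗[R] A) X * Z *
        post (Algebra.TensorProduct.includeLeft : T →ₐ[R] T ⊗[R] A) Y) =
      X * postL (avg l) Z * Y := by
  have h1 : ∀ (X : WithConv (C →ₗ[R] T)) (Z : WithConv (C →ₗ[R] T ⊗[R] A)),
      postL (avg l) (post (Algebra.TensorProduct.includeLeft : T →ₐ[R] T ⊗[R] A) X * Z) =
        X * postL (avg l) Z := by
    intro X Z
    ext c
    simp only [postL, post, LinearMap.comp_apply, LinearMap.convMul_apply]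
    generalize comul (R := R) c = t
    induction t using TensorProduct.induction_on with
    | zero => simp
    | tmul a b => simp [avg_incl_mul]
    | add a b ha hb => simp only [map_add, ha, hb]
  have h2 : ∀ (Y : WithConv (C →ₗ[R] T)) (Z : WithConv (C →ₗ[R] T ⊗[R] A)),
      postL (avg l) (Z * post (Algebra.TensorProduct.includeLeft : T →ₐ[R] T ⊗[R] A) Y) =
        postL (avg l) Z * Y := by
    intro Y Z
    ext c
    simp only [postL, post, LinearMap.comp_apply, LinearMap.convMul_apply]
    generalize comul (R := R) c = t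
    induction t using TensorProduct.induction_on with
    | zero => simp
    | tmul a b =>
      simp [mul_comm _ ((Y.ofConv b) ⊗ₜ[R] (1 : A)), avg_incl_mul, mul_comm]
    | add a b ha hb => simp only [map_add, ha, hb]
  rw [h2, h1]

open Groth.Sga3.MultType (IsInvIntegral)

variable {l : A →ₗ[R] R} (hl : IsInvIntegral l)

/-- `(x, y, z) ↦ (xy, z)` -/
def dLeft (R A : Type u) [CommRing R] [CommRing A] [HopfAlgebra R A] :
    A ⊗[R] A →ₐ[R] (A ⊗[R] A) ⊗[R] A :=
  Algebra.TensorProduct.map (Bialgebra.comulAlgHom R A) (AlgHom.id R A)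

/-- `(x, y, z) ↦ (x, yz)` -/
def dRight (R A : Type u) [CommRing R] [CommRing A] [HopfAlgebra R A] :
    A ⊗[R] A →ₐ[R] (A ⊗[R] A) ⊗[R] A :=
  (Algebra.TensorProduct.assoc R R R A A A).symm.toAlgHom.comp
    (Algebra.TensorProduct.map (AlgHom.id R A) (Bialgebra.comulAlgHom R A))

/-- `(x, y, z) ↦ (y, z)` -/
def dYZ (R A : Type u) [CommRing R] [CommRing A] [HopfAlgebra R A] :
    A ⊗[R] A →ₐ[R] (A ⊗[R] A) ⊗[R] A :=
  Algebra.TensorProduct.map (pY R A) (AlgHom.id R A)

include hl in
/-- The improved approximation. -/
theorem exists_improvement (u : C →ₐ[R] A) {J : Ideal R} (hu : Cong J (defect u) 0) :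
    ∃ h : WithConv (C →ₗ[R] A), Cong J h 0 ∧ IsDer (J * J) h ∧
      Cong (J * J) (post (pX R A) ((1 - h) * lin u) * post (pY R A) ((1 - h) * lin u))
        (post (Bialgebra.comulAlgHom R A) ((1 - h) * lin u)) := by
  let W := WithConv (C →ₗ[R] A ⊗[R] A)
  let ux : C →ₐ[R] A ⊗[R] A := (pX R A).comp u
  let uy : C →ₐ[R] A ⊗[R] A := (pY R A).comp u
  let um : C →ₐ[R] A ⊗[R] A := (Bialgebra.comulAlgHom R A).comp u
  set D : W := defect u with hD
  let h : WithConv (C →ₗ[R] A) := postL (avg l) D
  have hh : Cong J h 0 := by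
    have := hu.postL (avg l)
    simpa [h, HochLift.postL] using this
  refine ⟨h, hh, ?_, ?_⟩
  · let w : C →ₐ[R] A ⊗[R] A := (toConv ux * toConv uy *
      toConv (um.comp (HopfAlgebra.antipodeAlgHom R C))).ofConv
    have hw : lin w = lin ux * lin uy * inv um := by
      simp only [w, inv, ← lin_mul]
    have : IsDer (J * J) D := by
      rw [hD, defect, ← hw]
      refine isDer_of_point w ?_
      rw [cong_iff, hw]
      exact hu
    exact this.postL (avg l)
  -- the cocycle identity in three variables
  let T3 := (A ⊗[R] A) ⊗[R] A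
  let inl : A ⊗[R] A →ₐ[R] T3 := Algebra.TensorProduct.includeLeft
  let inr : A →ₐ[R] T3 := Algebra.TensorProduct.includeRight
  let a : C →ₐ[R] T3 := inl.comp ux
  let b : C →ₐ[R] T3 := inl.comp uy
  let c : C →ₐ[R] T3 := inr.comp u
  let ab : C →ₐ[R] T3 := inl.comp um
  let bc : C →ₐ[R] T3 := (dYZ R A).comp um
  let abc : C →ₐ[R] T3 := (dLeft R A).comp um
  let D1 := post inl D
  let D2 := post (dLeft R A) D
  let D3 := post (dYZ R A) D
  let D4 := post (dRight R A) D
  have e2x : (dLeft R A).comp ux = ab := by
    refine AlgHom.ext fun x => ?_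
    simp [dLeft, ab, ux, um, inl]
    rfl
  have e2y : (dLeft R A).comp uy = c := by
    refine AlgHom.ext fun x => ?_
    simp [dLeft, c, uy, inr]
    rfl
  have e3x : (dYZ R A).comp ux = b := by
    refine AlgHom.ext fun x => ?_
    simp [dYZ, ux, uy, b, inl]
    rfl
  have e3y : (dYZ R A).comp uy = c := by
    refine AlgHom.ext fun x => ?_
    simp [dYZ, c, uy, inr]
    rfl
  have e4x : (dRight R A).comp ux = a := by
    refine AlgHom.ext fun x => ?_
    simp [dRight, a, ux, inl, Algebra.TensorProduct.one_def]
    rfl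
  have e4y : (dRight R A).comp uy = bc := by
    refine AlgHom.ext fun x => ?_
    change (Algebra.TensorProduct.assoc R R R A A A).symm
        ((1 : A) ⊗ₜ[R] Bialgebra.comulAlgHom R A (u x)) =
      dYZ R A (Bialgebra.comulAlgHom R A (u x))
    generalize Bialgebra.comulAlgHom R A (u x) = t
    induction t using TensorProduct.induction_on with
    | zero => simp
    | tmul p q => simp [dYZ]
    | add p q hp hq => simp only [TensorProduct.tmul_add, map_add, hp, hq]
  have e4m : (dRight R A).comp um = abc := by
    refine AlgHom.ext fun x => ?_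
    have := Coalgebra.coassoc_apply (R := R) (u x)
    change (Algebra.TensorProduct.assoc R R R A A A).symm
        ((comul (R := R) (A := A)).lTensor A (comul (u x))) =
      (comul (R := R) (A := A)).rTensor A (comul (u x))
    rw [← this]
    exact (TensorProduct.assoc R A A A).symm_apply_apply _
  have h1 : 1 + D1 = lin a * lin b * inv ab := by
    simp only [D1, hD, defect, post_sub, post_mul, post_one, post_lin, post_inv]
    rw [add_sub_cancel]
  have h2 : 1 + D2 = lin ab * lin c * inv abc := by
    simp only [D2, hD, defect, post_sub, post_mul, post_one, post_lin, post_inv]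
    rw [add_sub_cancel]
    change lin ((dLeft R A).comp ux) * lin ((dLeft R A).comp uy) * inv abc = _
    rw [e2x, e2y]
  have h3 : 1 + D3 = lin b * lin c * inv bc := by
    simp only [D3, hD, defect, post_sub, post_mul, post_one, post_lin, post_inv]
    rw [add_sub_cancel]
    change lin ((dYZ R A).comp ux) * lin ((dYZ R A).comp uy) * inv bc = _
    rw [e3x, e3y]
  have h4 : 1 + D4 = lin a * lin bc * inv abc := by
    simp only [D4, hD, defect, post_sub, post_mul, post_one, post_lin, post_inv]
    rw [add_sub_cancel]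
    change lin ((dRight R A).comp ux) * lin ((dRight R A).comp uy) * inv ((dRight R A).comp um) = _
    rw [e4x, e4y, e4m]
  have hJ : ∀ {T : Type u} [CommRing T] [Algebra R T] (f : A ⊗[R] A →ₐ[R] T),
      Cong J (post f D) 0 := fun f => by
    have := hu.post f
    simpa [HochLift.post] using this
  have hid : (1 + D1) * (1 + D2) = lin a * (1 + D3) * inv a * (1 + D4) := by
    rw [h1, h2, h3, h4]
    simp only [mul_assoc, inv_mul_lin_assoc]
  have hcoc : Cong (J * J) (D1 + D2) (lin a * D3 * inv a + D4) := by
    rw [cong_iff]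
    have he : D1 + D2 - (lin a * D3 * inv a + D4) = lin a * D3 * inv a * D4 - D1 * D2 := by
      have h5 : lin a * (1 + D3) * inv a = 1 + lin a * D3 * inv a := by
        rw [mul_add, add_mul, mul_one, lin_mul_inv]
      rw [h5] at hid
      simp only [add_mul, one_mul, mul_add, mul_one] at hid
      linear_combination (norm := abel) hid
    rw [he]
    have h6 : Cong J (lin a * D3 * inv a) 0 := by
      have := ((Cong.refl J (lin a)).mul (hJ (dYZ R A))).mul (Cong.refl J (inv a))
      simpa using this
    simpa using (mul_mem h6 (hJ (dRight R A))).sub (mul_mem (hJ inl) (hJ (dLeft R A)))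
  -- average over the last variable
  have k1 : postL (avg l) D1 = D := by
    ext x
    change avg l (D.ofConv x ⊗ₜ[R] (1 : A)) = _
    rw [avg_tmul, hl.map_one, one_smul]
  have k2 : postL (avg l) D2 = post (Bialgebra.comulAlgHom R A) h := by
    ext x
    simp only [D2, h, HochLift.postL, HochLift.post, LinearMap.comp_apply, AlgHom.toLinearMap_apply]
    generalize D.ofConv x = t
    induction t using TensorProduct.induction_on with
    | zero => simp
    | tmul p q => simp [dLeft, avg_tmul]
    | add p q hp hq => simp only [map_add, hp, hq]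
  have k3 : postL (avg l) (lin a * D3 * inv a) = lin ux * post (pY R A) h * inv ux := by
    have : lin a * D3 * inv a = post inl (lin ux) * D3 * post inl (inv ux) := rfl
    rw [this, postL_avg_mul]
    congr 2
    ext x
    simp only [D3, h, HochLift.postL, HochLift.post, LinearMap.comp_apply, AlgHom.toLinearMap_apply]
    generalize D.ofConv x = t
    induction t using TensorProduct.induction_on with
    | zero => simp
    | tmul p q => simp [dYZ, avg_tmul]
    | add p q hp hq => simp only [map_add, hp, hq]
  have k4 : postL (avg l) D4 = post (pX R A) h := by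
    ext x
    simp only [D4, h, HochLift.postL, HochLift.post, LinearMap.comp_apply, AlgHom.toLinearMap_apply]
    generalize D.ofConv x = t
    induction t using TensorProduct.induction_on with
    | zero => simp
    | add p q hp hq => simp only [map_add, hp, hq]
    | tmul p q =>
      have h7 : ∀ w : A ⊗[R] A, avg l ((Algebra.TensorProduct.assoc R R R A A A).symm (p ⊗ₜ[R] w)) =
          p ⊗ₜ[R] (avg l w) := by
        intro w
        induction w using TensorProduct.induction_on with
        | zero => simp
        | tmul r s => simp [avg_tmul, TensorProduct.tmul_smul]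
        | add r s hr hs => simp only [TensorProduct.tmul_add, map_add, hr, hs]
      simp only [dRight, AlgHom.comp_apply, Algebra.TensorProduct.map_tmul, AlgHom.id_apply,
        Bialgebra.comulAlgHom_apply, avg_tmul, Algebra.TensorProduct.includeLeft_apply, map_smul]
      change avg l ((Algebra.TensorProduct.assoc R R R A A A).symm (p ⊗ₜ[R] comul (R := R) q)) = _
      rw [h7, show avg l (comul (R := R) q) = l q • (1 : A) from hl.left_inv q, TensorProduct.tmul_smul]
  have hav := hcoc.postL (avg l)
  rw [postL_add, postL_add, k1, k2, k3, k4] at hav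
  -- conclusion
  let hx := post (pX R A) h
  let hy := post (pY R A) h
  let hm := post (Bialgebra.comulAlgHom R A) h
  let hy' := lin ux * hy * inv ux
  have hD0 : lin ux * lin uy = (1 + D) * lin um := by
    rw [hD, defect, add_sub_cancel, mul_assoc (lin ((pX R A).comp u) * lin ((pY R A).comp u)),
      inv_mul_lin, mul_one]
  have hmain : Cong (J * J) ((1 - hx) * (1 - hy') * (1 + D)) (1 - hm) := by
    rw [cong_iff]
    have he : (1 - hx) * (1 - hy') * (1 + D) - (1 - hm) =
        (D + hm - (hy' + hx)) + (hx * hy' - hx * D - hy' * D + hx * hy' * D) := by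
      simp only [sub_mul, mul_add, one_mul, mul_one, mul_sub]
      abel
    rw [he]
    have hxJ : Cong J hx 0 := hJ' hh (pX R A)
    have hyJ : Cong J hy' 0 := by
      have := ((Cong.refl J (lin ux)).mul (hJ' hh (pY R A))).mul (Cong.refl J (inv ux))
      simpa using this
    have h8 : Cong (J * J) (hx * hy' - hx * D - hy' * D + hx * hy' * D) 0 := by
      have t4 : Cong (J * J) (hx * hy' * D) 0 :=
        (mul_mem (mul_mem hxJ hyJ) hu).mono (Ideal.mul_le_left (I := J * J) (J := J))
      simpa using (((mul_mem hxJ hyJ).sub (mul_mem hxJ hu)).sub (mul_mem hyJ hu)).add t4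
    simpa using (cong_iff.1 hav).add h8
  have hfin := hmain.mul (Cong.refl (J * J) (lin um))
  simp only [post_mul, post_sub, post_one, post_lin]
  change Cong (J * J) ((1 - hx) * lin ux * ((1 - hy) * lin uy)) ((1 - hm) * lin um)
  have he : (1 - hx) * lin ux * ((1 - hy) * lin uy) = (1 - hx) * (1 - hy') * (1 + D) * lin um := by
    rw [mul_assoc ((1 - hx) * (1 - hy')), ← hD0]
    simp only [hy', sub_mul, mul_sub, one_mul, mul_one, mul_assoc]
    rw [← mul_assoc (inv ux) (lin ux) (lin uy), inv_mul_lin, one_mul]
  rw [he]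
  exact hfin
where
  hJ' {h : WithConv (C →ₗ[R] A)} {J : Ideal R} (hh : Cong J h 0) {T : Type u} [CommRing T]
      [Algebra R T] (f : A →ₐ[R] T) : Cong J (post f h) 0 := by
    have := hh.post f
    simpa [HochLift.post] using this

end Groth.Sga3.HochLift
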