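import Mathlib

/-!
# Pointed algebras with a counital comultiplication

`L` is a commutative algebra over a field `k` with an augmentation `ε` whose kernel is nil and a
comultiplication `Δ : L →ₐ[k] L ⊗ L` with two-sided counit `ε` (coassociativity is not needed).
Translation-invariant derivations give: `L = k` in characteristic zero, and in characteristic `p` the
monomials `x^a` (`a < p`) in lifts of a cotangent basis are a basis over any subalgebra killed by them.
-/

universe u

open TensorProduct

namespace Groth.Sga3.HopfDeriv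

variable (k L : Type u) [Field k] [CommRing L] [Algebra k L]

/-- A local pointed algebra with a counital comultiplication. -/
structure CounitalLocal where
  ε : L →ₐ[k] k
  Δ : L →ₐ[k] L ⊗[k] L
  hr : ∀ a, TensorProduct.rid k L (LinearMap.lTensor L ε.toLinearMap (Δ a)) = a
  hl : ∀ a, TensorProduct.lid k L (LinearMap.rTensor L ε.toLinearMap (Δ a)) = a
  nil : ∀ a, ε a = 0 → IsNilpotent a

namespace CounitalLocal

variable {k L} (S : CounitalLocal k L)

/-- The augmentation ideal. -/
def m : Ideal L := RingHom.ker S.ε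

theorem mem_m {a : L} : a ∈ S.m ↔ S.ε a = 0 := RingHom.mem_ker

theorem sub_mem_m (a : L) : a - algebraMap k L (S.ε a) ∈ S.m := by
  simp [mem_m]

theorem nontrivial (S : CounitalLocal k L) : Nontrivial L :=
  ⟨⟨1, 0, fun h => by simpa using congrArg S.ε h⟩⟩

theorem m_le_jacobson : S.m ≤ Ideal.jacobson ⊥ := by
  intro a ha
  rw [Ideal.mem_jacobson_bot]
  exact fun y => IsNilpotent.isUnit_add_one ((Commute.all a y).isNilpotent_mul_right (S.nil a (S.mem_m.1 ha)))

theorem isUnit_of_counit {a : L} (h : S.ε a ≠ 0) : IsUnit a := by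
  have hn : IsNilpotent (a - algebraMap k L (S.ε a)) := S.nil _ (S.mem_m.1 (S.sub_mem_m a))
  have := hn.isUnit_add_right_of_commute ((IsUnit.mk0 _ h).map (algebraMap k L)) (Commute.all _ _)
  simpa using this

/-- The submodule `k + m²` on which tangent functionals vanish. -/
def base : Submodule k L := (S.m ^ 2).restrictScalars k ⊔ k ∙ (1 : L)

/-- A tangent functional is a derivation at the augmentation. -/
theorem tangent_mul {ξ : L →ₗ[k] k} (hξ : ∀ a ∈ S.base, ξ a = 0) (a b : L) :
    ξ (a * b) = S.ε a * ξ b + S.ε b * ξ a := by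
  have h1 : ξ 1 = 0 := hξ 1 (Submodule.mem_sup_right (Submodule.mem_span_singleton_self 1))
  have h2 : ξ ((a - algebraMap k L (S.ε a)) * (b - algebraMap k L (S.ε b))) = 0 :=
    hξ _ (Submodule.mem_sup_left (by
      rw [Submodule.restrictScalars_mem, pow_two]
      exact Ideal.mul_mem_mul (S.sub_mem_m a) (S.sub_mem_m b)))
  have e : a * b = (a - algebraMap k L (S.ε a)) * (b - algebraMap k L (S.ε b)) + S.ε a • b + S.ε b • a -
      (S.ε a * S.ε b) • (1 : L) := by
    simp only [Algebra.smul_def, map_mul]; ring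
  rw [e, map_sub, map_add, map_add, h2, map_smul, map_smul, map_smul, h1]
  simp

/-- `(id ⊗ ξ) z`. -/
noncomputable def contract (ξ : L →ₗ[k] k) : L ⊗[k] L →ₗ[k] L :=
  (TensorProduct.rid k L).toLinearMap ∘ₗ ξ.lTensor L

@[simp] theorem contract_tmul (ξ : L →ₗ[k] k) (a b : L) : contract ξ (a ⊗ₜ b) = ξ b • a := by
  simp [contract]

theorem contract_mul {ξ : L →ₗ[k] k} (hξ : ∀ a ∈ S.base, ξ a = 0) (z w : L ⊗[k] L) :
    contract ξ (z * w) = contract S.ε.toLinearMap z * contract ξ w +
      contract S.ε.toLinearMap w * contract ξ z := by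
  induction z with
  | zero => simp
  | add z₁ z₂ h₁ h₂ => simp only [add_mul, map_add, h₁, h₂]; ring
  | tmul a b =>
    induction w with
    | zero => simp
    | add w₁ w₂ h₁ h₂ => simp only [mul_add, map_add, h₁, h₂]; ring
    | tmul c d =>
      simp only [Algebra.TensorProduct.tmul_mul_tmul, contract_tmul, S.tangent_mul hξ,
        AlgHom.toLinearMap_apply, Algebra.smul_def, map_add, map_mul]
      ring

/-- The translation invariant derivation of a tangent functional. -/
noncomputable def deriv {ξ : L →ₗ[k] k} (hξ : ∀ a ∈ S.base, ξ a = 0) : Derivation k L L :=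
  Derivation.mk' (contract ξ ∘ₗ S.Δ.toLinearMap) fun a b => by
    have hr : ∀ c, contract S.ε.toLinearMap (S.Δ c) = c := S.hr
    simp only [LinearMap.coe_comp, AlgHom.toLinearMap_apply, Function.comp_apply, map_mul,
      S.contract_mul hξ, hr, smul_eq_mul]

theorem counit_deriv {ξ : L →ₗ[k] k} (hξ : ∀ a ∈ S.base, ξ a = 0) (a : L) :
    S.ε (S.deriv hξ a) = ξ a := by
  have key : ∀ z : L ⊗[k] L, S.ε (contract ξ z) =
      ξ (TensorProduct.lid k L (LinearMap.rTensor L S.ε.toLinearMap z)) := by
    intro z
    induction z with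
    | zero => simp
    | add z₁ z₂ h₁ h₂ => simp [h₁, h₂]
    | tmul a b => simp [mul_comm]
  show S.ε (contract ξ (S.Δ a)) = ξ a
  rw [key, S.hl]

/-- Lifts of a cotangent basis, with dual derivations. -/
theorem exists_coordinates [Module.Finite k L] :
    ∃ (d : ℕ) (x : Fin d → L) (D : Fin d → Derivation k L L),
      (∀ i, x i ∈ S.m) ∧ Ideal.span (Set.range x) = S.m ∧
      ∀ i j, D i (x j) = if i = j then 1 else 0 := by
  classical
  let Q := L ⧸ S.base
  let b := Module.finBasis k Q
  choose y hy using fun i => S.base.mkQ_surjective (b i)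
  let x : Fin (Module.finrank k Q) → L := fun i => y i - algebraMap k L (S.ε (y i))
  have hx : ∀ i, S.base.mkQ (x i) = b i := by
    intro i
    have : algebraMap k L (S.ε (y i)) ∈ S.base :=
      Submodule.mem_sup_right (Submodule.mem_span_singleton.2 ⟨S.ε (y i), by simp [Algebra.smul_def]⟩)
    simp only [x, map_sub, hy]
    rw [(Submodule.Quotient.mk_eq_zero _).2 this |> fun h => (h : S.base.mkQ _ = 0), sub_zero]
  let ξ : Fin (Module.finrank k Q) → L →ₗ[k] k := fun j => b.coord j ∘ₗ S.base.mkQ
  have hξ : ∀ j, ∀ a ∈ S.base, ξ j a = 0 := fun j a ha => by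
    show b.coord j (S.base.mkQ a) = 0
    rw [show S.base.mkQ a = 0 from (Submodule.Quotient.mk_eq_zero _).2 ha, map_zero]
  let M : Matrix (Fin (Module.finrank k Q)) (Fin (Module.finrank k Q)) L :=
    fun i j => S.deriv (hξ j) (x i)
  have hM : IsUnit M.det := by
    apply S.isUnit_of_counit
    have : M.map S.ε = 1 := by
      ext i j
      rw [Matrix.map_apply]
      show S.ε (S.deriv (hξ j) (x i)) = _
      rw [S.counit_deriv (hξ j)]
      show b.coord j (S.base.mkQ (x i)) = _
      rw [hx, b.coord_apply, b.repr_self, Matrix.one_apply, Finsupp.single_apply]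
    rw [← AlgHom.coe_toRingHom, RingHom.map_det, RingHom.mapMatrix_apply, AlgHom.coe_toRingHom, this]
    simp
  let N := M⁻¹
  refine ⟨_, x, fun i => ∑ j, N j i • S.deriv (hξ j), fun i => S.sub_mem_m _, ?_, ?_⟩
  · refine le_antisymm (Ideal.span_le.2 (Set.range_subset_iff.2 fun i => S.sub_mem_m _)) ?_
    have : IsNoetherianRing L := IsNoetherianRing.of_finite k L
    refine Submodule.le_of_le_smul_of_le_jacobson_bot (IsNoetherian.noetherian _) S.m_le_jacobson ?_
    intro a ha
    have hc : a - ∑ i, (b.repr (S.base.mkQ a) i) • x i ∈ S.base := by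
      rw [← Submodule.Quotient.mk_eq_zero]
      show S.base.mkQ _ = 0
      simp [map_sub, map_sum, hx, b.sum_repr]
    obtain ⟨z, hz, c, hc', e⟩ := Submodule.mem_sup.1 hc
    obtain ⟨c, rfl⟩ := Submodule.mem_span_singleton.1 hc'
    have hz' : S.ε z = 0 := S.mem_m.1 (Ideal.pow_le_self two_ne_zero hz)
    have hxm : ∀ i, S.ε (x i) = 0 := fun i => S.mem_m.1 (S.sub_mem_m _)
    have hc0 : c = 0 := by
      have := congrArg S.ε e
      simpa [hz', hxm, map_sum, S.mem_m.1 ha] using this
    subst hc0
    rw [zero_smul, add_zero, eq_sub_iff_add_eq] at e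
    rw [← e]
    refine Submodule.add_mem _ (Submodule.mem_sup_right ?_) (Submodule.mem_sup_left ?_)
    · rw [smul_eq_mul, ← pow_two]; exact hz
    · exact Submodule.sum_mem _ fun i _ => Submodule.smul_of_tower_mem _ _ (Ideal.subset_span ⟨i, rfl⟩)
  · intro i j
    have : (M * N) j i = (1 : Matrix _ _ L) j i := by rw [Matrix.mul_nonsing_inv _ hM]
    show Derivation.coeFnAddMonoidHom (∑ j', N j' i • S.deriv (hξ j')) (x j) = _
    rw [map_sum, Finset.sum_apply]
    simp only [Derivation.coeFnAddMonoidHom, AddMonoidHom.coe_mk, ZeroHom.coe_mk, Derivation.smul_apply, smul_eq_mul]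
    rw [Matrix.mul_apply] at this
    simpa [M, Matrix.one_apply, eq_comm, mul_comm] using this

end CounitalLocal

end Groth.Sga3.HopfDeriv
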