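import Groth.Agent.Sga3.HopfDeriv

/-!
# Monomial bases and dimension of counital local algebras
-/

universe u

open TensorProduct MvPolynomial

namespace Groth.Sga3.HopfDeriv

variable {k L : Type u} [Field k] [CommRing L] [Algebra k L]
  {d : ℕ} {x : Fin d → L} {D : Fin d → Derivation k L L}

/-- `D i` acts as the formal partial derivative on polynomials in `x` over constants. -/
theorem deriv_aeval (hD : ∀ i j, D i (x j) = if i = j then 1 else 0) (C : Subalgebra k L)
    (hC : ∀ i, ∀ c ∈ C, D i c = 0) (i : Fin d) (P : MvPolynomial (Fin d) C) :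
    D i (aeval x P) = aeval x (pderiv i P) := by
  classical
  induction P using MvPolynomial.induction_on with
  | C a => simp [hC i _ a.2]
  | add p q hp hq => simp [hp, hq]
  | mul_X p j hp =>
    simp only [map_mul, aeval_X, Derivation.leibniz, hp, hD, pderiv_X, smul_eq_mul, map_add]
    by_cases h : j = i
    · subst h; simp
    · simp [h, Ne.symm h]

/-- A polynomial of bounded individual degrees vanishing at `x` is zero. -/
theorem eq_zero_of_aeval_eq_zero (hD : ∀ i j, D i (x j) = if i = j then 1 else 0)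
    (C : Subalgebra k L) (hC : ∀ i, ∀ c ∈ C, D i c = 0) {q : ℕ}
    (hq : ∀ n : ℕ, 0 < n → n < q → (n : k) ≠ 0) :
    ∀ (n : ℕ) (P : MvPolynomial (Fin d) C), (∀ α ∈ P.support, α.degree ≤ n ∧ ∀ i, α i < q) →
      aeval x P = 0 → P = 0 := by
  classical
  intro n
  induction n with
  | zero =>
    intro P hP h0
    have hPC : P = MvPolynomial.C (coeff 0 P) := by
      ext1 α
      rw [coeff_C]
      split_ifs with h
      · rw [h]
      · by_contra hne
        exact h ((Finsupp.degree_eq_zero_iff α).1 (Nat.le_zero.1 (hP α (mem_support_iff.2 hne)).1)).symm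
    rw [hPC, aeval_C, Subalgebra.algebraMap_def] at h0
    rw [hPC, Subtype.coe_injective (h0.trans (ZeroMemClass.coe_zero C).symm), map_zero]
  | succ n ih =>
    intro P hP h0
    have hd : ∀ i, pderiv i P = 0 := by
      intro i
      refine ih _ (fun α hα => ?_) (by rw [← deriv_aeval hD C hC, h0, map_zero])
      rw [mem_support_iff, coeff_pderiv] at hα
      obtain ⟨h1, h2⟩ := hP _ (mem_support_iff.2 (left_ne_zero_of_mul hα))
      refine ⟨?_, fun j => ?_⟩
      · simpa using h1
      · have := h2 j
        simp only [Finsupp.add_apply] at this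
        omega
    apply ih P _ h0
    intro α hα
    refine ⟨?_, (hP α hα).2⟩
    by_contra hlt
    obtain ⟨i, hi⟩ : ∃ i, α i ≠ 0 := by
      by_contra h
      exact hlt (by rw [show α = 0 from Finsupp.ext fun i => not_not.1 (not_exists.1 h i)]; simp)
    have hc : coeff α P * ((α i : ℕ) : C) = 0 := by
      have := congrArg (coeff (α - Finsupp.single i 1)) (hd i)
      rw [coeff_pderiv, coeff_zero] at this
      rw [tsub_add_cancel_of_le (Finsupp.single_le_iff.2 (Nat.one_le_iff_ne_zero.2 hi))] at this
      simpa [Nat.cast_sub (Nat.one_le_iff_ne_zero.2 hi)] using this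
    have hu : IsUnit ((α i : ℕ) : C) := by
      rw [← map_natCast (algebraMap k C)]
      exact (IsUnit.mk0 _ (hq _ (Nat.pos_of_ne_zero hi) ((hP α hα).2 i))).map _
    exact mem_support_iff.1 hα ((hu.mul_left_eq_zero).1 hc)

/-- The monomial `x ^ α`. -/
noncomputable def mono (x : Fin d → L) {q : ℕ} (α : Fin d → Fin q) : L := ∏ i, x i ^ (α i : ℕ)

theorem linearIndependent_mono (hD : ∀ i j, D i (x j) = if i = j then 1 else 0)
    (C : Subalgebra k L) (hC : ∀ i, ∀ c ∈ C, D i c = 0) {q : ℕ}
    (hq : ∀ n : ℕ, 0 < n → n < q → (n : k) ≠ 0) :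
    LinearIndependent C (mono x : (Fin d → Fin q) → L) := by
  classical
  rw [Fintype.linearIndependent_iff]
  intro c hc β
  let e : (Fin d → Fin q) → (Fin d →₀ ℕ) := fun α => Finsupp.equivFunOnFinite.symm fun i => (α i : ℕ)
  have he : Function.Injective e := fun a b h => funext fun i => Fin.ext (DFunLike.congr_fun h i)
  let P : MvPolynomial (Fin d) C := ∑ α, monomial (e α) (c α)
  have hP : P = 0 := by
    refine eq_zero_of_aeval_eq_zero hD C hC hq (d * q) P (fun α hα => ?_) ?_
    · obtain ⟨γ, -, hγ⟩ := Finset.mem_biUnion.1 (support_sum hα)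
      have := Finset.mem_singleton.1 (support_monomial_subset hγ)
      subst this
      refine ⟨?_, fun i => by simp [e]⟩
      rw [Finsupp.degree_eq_sum]
      calc ∑ i, e γ i ≤ ∑ _i : Fin d, q := Finset.sum_le_sum fun i _ => by simp [e]
        _ = d * q := by simp
    · rw [← hc, map_sum]
      refine Finset.sum_congr rfl fun α _ => ?_
      rw [aeval_monomial, Finsupp.prod_fintype _ _ (fun i => pow_zero _), Algebra.smul_def]
      simp [e, mono]
  have := congrArg (coeff (e β)) hP
  simpa [P, coeff_sum, coeff_monomial, he.eq_iff] using this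

/-- The monomials span over `C` when `x` generates the maximal ideal and `x i ^ q ∈ C`. -/
theorem span_mono (S : CounitalLocal k L) [Module.Finite k L]
    (hx : Ideal.span (Set.range x) = S.m) (C : Subalgebra k L) {q : ℕ} (hq0 : 0 < q)
    (hxq : ∀ i, x i ^ q ∈ C) :
    Submodule.span C (Set.range (mono x : (Fin d → Fin q) → L)) = ⊤ := by
  classical
  set W := Submodule.span C (Set.range (mono x : (Fin d → Fin q) → L))
  have h1 : (1 : L) ∈ W := Submodule.subset_span ⟨fun _ => ⟨0, hq0⟩, by simp [mono]⟩
  have hmul : ∀ i, ∀ w ∈ W, w * x i ∈ W := by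
    intro i w hw
    induction hw using Submodule.span_induction with
    | zero => simp
    | add a b _ _ ha hb => rw [add_mul]; exact W.add_mem ha hb
    | smul c a _ ha => rw [smul_mul_assoc]; exact W.smul_mem c ha
    | mem a ha =>
      obtain ⟨α, rfl⟩ := ha
      have key : mono x α * x i = (∏ j ∈ Finset.univ.erase i, x j ^ (α j : ℕ)) * x i ^ ((α i : ℕ) + 1) := by
        rw [mono, ← Finset.prod_erase_mul _ _ (Finset.mem_univ i), pow_succ, mul_assoc]
      by_cases h : (α i : ℕ) + 1 < q
      · refine Submodule.subset_span ⟨Function.update α i ⟨_, h⟩, ?_⟩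
        rw [key, mono, ← Finset.prod_erase_mul _ _ (Finset.mem_univ i), Function.update_self]
        congr 1
        refine Finset.prod_congr rfl fun j hj => ?_
        rw [Function.update_of_ne (Finset.ne_of_mem_erase hj)]
      · have heq : (α i : ℕ) + 1 = q := by have := (α i).isLt; omega
        have hsm : mono x α * x i = (⟨_, hxq i⟩ : C) • mono x (Function.update α i ⟨0, hq0⟩) := by
          rw [key, heq, Subalgebra.smul_def, smul_eq_mul, mul_comm, mono,
            ← Finset.prod_erase_mul _ _ (Finset.mem_univ i), Function.update_self]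
          simp only [pow_zero, mul_one]
          congr 1
          refine Finset.prod_congr rfl fun j hj => ?_
          rw [Function.update_of_ne (Finset.ne_of_mem_erase hj)]
        rw [hsm]
        exact W.smul_mem _ (Submodule.subset_span ⟨_, rfl⟩)
  obtain ⟨N, hN⟩ : IsNilpotent S.m := by
    have : IsNoetherianRing L := IsNoetherianRing.of_finite k L
    rw [Ideal.FG.isNilpotent_iff_le_nilradical (IsNoetherian.noetherian _)]
    exact fun a ha => S.nil a (S.mem_m.1 ha)
  have hk : ∀ j : ℕ, ∀ z ∈ S.m ^ j, ∃ w ∈ W, z - w ∈ S.m ^ (j + 1) := by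
    intro j
    induction j with
    | zero =>
      intro z _
      refine ⟨(algebraMap k C (S.ε z)) • 1, W.smul_mem _ h1, ?_⟩
      rw [zero_add, pow_one]
      simpa [Subalgebra.smul_def, Algebra.smul_def] using S.sub_mem_m z
    | succ j ih =>
      intro z hz
      rw [pow_succ] at hz
      refine Submodule.mul_induction_on hz ?_ ?_
      · intro a ha b hb
        rw [← hx, Ideal.mem_span_range_iff_exists_fun] at hb
        obtain ⟨l, rfl⟩ := hb
        choose w hw hw' using fun i => ih (a * l i) (Ideal.mul_mem_right _ _ ha)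
        refine ⟨∑ i, w i * x i, W.sum_mem fun i _ => hmul i _ (hw i), ?_⟩
        rw [Finset.mul_sum, ← Finset.sum_sub_distrib]
        refine Submodule.sum_mem _ fun i _ => ?_
        rw [← mul_assoc, ← sub_mul, pow_succ _ (j + 1)]
        exact Ideal.mul_mem_mul (hw' i) (hx ▸ Ideal.subset_span ⟨i, rfl⟩)
      · rintro a b ⟨u, hu, hu'⟩ ⟨v, hv, hv'⟩
        exact ⟨u + v, W.add_mem hu hv, by rw [add_sub_add_comm]; exact Submodule.add_mem _ hu' hv'⟩
  refine eq_top_iff.2 fun a _ => ?_
  have : ∀ j : ℕ, ∃ w ∈ W, a - w ∈ S.m ^ j := by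
    intro j
    induction j with
    | zero => exact ⟨0, W.zero_mem, by simp⟩
    | succ j ih =>
      obtain ⟨w, hw, hw'⟩ := ih
      obtain ⟨v, hv, hv'⟩ := hk j _ hw'
      exact ⟨w + v, W.add_mem hw hv, by rwa [← sub_sub]⟩
  obtain ⟨w, hw, hw'⟩ := this N
  rw [hN, Ideal.zero_eq_bot, Ideal.mem_bot, sub_eq_zero] at hw'
  exact hw' ▸ hw

namespace CounitalLocal

variable (S : CounitalLocal k L)

/-- If every natural number is invertible in `k`, then `L = k` (Cartier). -/
theorem m_eq_bot_of_charZero [Module.Finite k L] [CharZero k] : S.m = ⊥ := by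
  obtain ⟨d, x, D, hxm, hx, hD⟩ := S.exists_coordinates
  rcases Nat.eq_zero_or_pos d with rfl | hd
  · rw [← hx, Set.range_eq_empty, Ideal.span_empty]
  exfalso
  let i : Fin d := ⟨0, hd⟩
  obtain ⟨N, hN⟩ := S.nil _ (S.mem_m.1 (hxm i))
  have := S.nontrivial
  have h0 := eq_zero_of_aeval_eq_zero hD ⊥ (fun j c hc => by
      obtain ⟨r, rfl⟩ := Algebra.mem_bot.1 hc
      exact (D j).map_algebraMap r) (q := N + 1) (fun n hn _ => Nat.cast_ne_zero.2 hn.ne') N
    (monomial (Finsupp.single i N) 1) (fun α hα => by
      have := Finset.mem_singleton.1 (support_monomial_subset hα)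
      subst this
      exact ⟨by simp, fun j => by classical rw [Finsupp.single_apply]; split <;> omega⟩)
    (by rw [aeval_monomial, Finsupp.prod_fintype _ _ (fun j => pow_zero _), Finset.prod_eq_single i (fun j _ hj => by rw [Finsupp.single_eq_of_ne hj, pow_zero]) (by simp), Finsupp.single_eq_same, hN, mul_zero])
  exact one_ne_zero (monomial_eq_zero.1 h0)

variable (p : ℕ) [Fact p.Prime] [CharP k p]

omit [Fact p.Prime] in
theorem cast_ne_zero_of_lt (n : ℕ) (h0 : 0 < n) (h : n < p) : (n : k) ≠ 0 := fun e =>
  absurd (Nat.le_of_dvd h0 ((CharP.cast_eq_zero_iff k p n).1 e)) (not_le.2 h)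

omit [Fact p.Prime] in
theorem deriv_pow_char (E : Derivation k L L) (a : L) : E (a ^ p) = 0 := by
  rw [Derivation.leibniz_pow, ← Nat.cast_smul_eq_nsmul k, CharP.cast_eq_zero, zero_smul]

theorem linearIndependent_and_span_height_one [Module.Finite k L]
    (hp : ∀ a, S.ε a = 0 → a ^ p = 0) {x : Fin d → L} {D : Fin d → Derivation k L L}
    (hx : Ideal.span (Set.range x) = S.m) (hD : ∀ i j, D i (x j) = if i = j then 1 else 0) :
    LinearIndependent k (mono x : (Fin d → Fin p) → L) ∧
      Submodule.span k (Set.range (mono x : (Fin d → Fin p) → L)) = ⊤ := by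
  have h1 := linearIndependent_mono hD ⊥ (fun j c hc => by
      obtain ⟨r, rfl⟩ := Algebra.mem_bot.1 hc
      exact (D j).map_algebraMap r) (cast_ne_zero_of_lt p)
  have h2 := span_mono S hx (⊥ : Subalgebra k L) (Fact.out : p.Prime).pos (fun i => by
    rw [hp _ (S.mem_m.1 (hx ▸ Ideal.subset_span ⟨i, rfl⟩))]; exact zero_mem _)
  refine ⟨h1.restrict_scalars (fun a b h => ?_), ?_⟩
  · have := S.nontrivial
    exact (algebraMap k L).injective (by simpa [Subalgebra.smul_def, Algebra.smul_def] using h)
  rw [eq_top_iff]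
  intro a _
  have : a ∈ Submodule.span (⊥ : Subalgebra k L) (Set.range (mono x : (Fin d → Fin p) → L)) := h2 ▸ trivial
  induction this using Submodule.span_induction with
  | mem a ha => exact Submodule.subset_span ha
  | zero => exact zero_mem _
  | add a b _ _ ha hb => exact add_mem (ha trivial) (hb trivial)
  | smul c a _ ha =>
    obtain ⟨r, hr⟩ := Algebra.mem_bot.1 c.2
    rw [Subalgebra.smul_def, ← hr, algebraMap_smul]
    exact Submodule.smul_mem _ r (ha trivial)

end CounitalLocal

end Groth.Sga3.HopfDeriv
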