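import Groth.Agent.Sga3.HopfDerivBasis

/-!
# The dimension of a counital local algebra is a power of the characteristic exponent
-/

universe u

open TensorProduct

namespace Groth.Sga3.HopfDeriv

namespace CounitalLocal

variable {k : Type u} [Field k]

/-- The subalgebra of `p`-th powers over a perfect field. -/
noncomputable def frobRange (L : Type u) [CommRing L] [Algebra k L] (p : ℕ) [ExpChar k p]
    [ExpChar L p] [PerfectRing k p] : Subalgebra k L where
  toSubsemiring := (frobenius L p).rangeS
  algebraMap_mem' r := ⟨algebraMap k L ((frobeniusEquiv k p).symm r), by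
    rw [frobenius_def, ← map_pow, frobeniusEquiv_symm_pow_p]⟩

theorem mem_frobRange {L : Type u} [CommRing L] [Algebra k L] {p : ℕ} [ExpChar k p] [ExpChar L p]
    [PerfectRing k p] {a : L} : a ∈ frobRange (k := k) L p ↔ ∃ b, b ^ p = a := Iff.rfl

theorem map_val_injective {L : Type u} [CommRing L] [Algebra k L] (C : Subalgebra k L) :
    Function.Injective (Algebra.TensorProduct.map C.val C.val) := by
  have h1 : Function.Injective C.val.toLinearMap := Subtype.val_injective
  have := TensorProduct.map_injective_of_flat_flat _ _ h1 h1
  exact this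

/-- The counital structure on the subalgebra of `p`-th powers. -/
noncomputable def frob {L : Type u} [CommRing L] [Algebra k L] (S : CounitalLocal k L) (p : ℕ)
    [Fact p.Prime] [CharP k p] [PerfectField k] [CharP L p] :
    CounitalLocal k (frobRange (k := k) L p) := by
  let C := frobRange (k := k) L p
  haveI : Nontrivial L := S.nontrivial
  haveI : Nontrivial (L ⊗[k] L) :=
    ⟨⟨1, 0, fun h => by simpa using congrArg (Algebra.TensorProduct.lift S.ε S.ε (fun _ _ => .all _ _)) h⟩⟩
  haveI : CharP (L ⊗[k] L) p := charP_of_injective_algebraMap (algebraMap k (L ⊗[k] L)).injective p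
  have key : ∀ z : L ⊗[k] L, z ^ p ∈ (Algebra.TensorProduct.map C.val C.val).range := by
    intro z
    induction z with
    | zero => rw [zero_pow (Fact.out : p.Prime).ne_zero]; exact zero_mem _
    | add a b ha hb => rw [add_pow_char]; exact add_mem ha hb
    | tmul a b =>
      refine ⟨(⟨a ^ p, a, rfl⟩ : C) ⊗ₜ (⟨b ^ p, b, rfl⟩ : C), ?_⟩
      simp [Algebra.TensorProduct.tmul_pow, C]
  let e := AlgEquiv.ofInjective _ (map_val_injective C)
  let g : C →ₐ[k] (Algebra.TensorProduct.map C.val C.val).range :=
    (S.Δ.comp C.val).codRestrict _ (fun c => by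
      obtain ⟨b, hb⟩ := c.2
      show S.Δ (c : L) ∈ _
      rw [← hb, show (frobenius L p) b = b ^ p from rfl, map_pow]
      exact key _)
  let f : C →ₐ[k] C ⊗[k] C := e.symm.toAlgHom.comp g
  have hf : ∀ c, Algebra.TensorProduct.map C.val C.val (f c) = S.Δ c := fun c =>
    congrArg Subtype.val (e.apply_symm_apply (g c))
  refine ⟨S.ε.comp C.val, f, fun c => ?_, fun c => ?_, fun c hc => ?_⟩
  · apply Subtype.val_injective
    conv_rhs => rw [← S.hr c, ← hf c]
    generalize f c = z
    induction z with
    | zero => simp
    | add a b ha hb => simp only [map_add, AddMemClass.coe_add, ha, hb]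
    | tmul a b => simp [C]
  · apply Subtype.val_injective
    conv_rhs => rw [← S.hl c, ← hf c]
    generalize f c = z
    induction z with
    | zero => simp
    | add a b ha hb => simp only [map_add, AddMemClass.coe_add, ha, hb]
    | tmul a b => simp [C]
  · obtain ⟨n, hn⟩ := S.nil (c : L) hc
    exact ⟨n, Subtype.val_injective (by simpa using hn)⟩

theorem finrank_eq_one {L : Type u} [CommRing L] [Algebra k L] (S : CounitalLocal k L)
    (h : S.m = ⊥) : Module.finrank k L = 1 := by
  have hb : Function.Bijective S.ε.toLinearMap :=
    ⟨fun a b e => by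
      have : a - b ∈ S.m := S.mem_m.2 (by simpa [sub_eq_zero] using e)
      rwa [h, Ideal.mem_bot, sub_eq_zero] at this,
     fun r => ⟨algebraMap k L r, by simp⟩⟩
  simpa using (LinearEquiv.ofBijective _ hb).finrank_eq

theorem exists_finrank_eq_pow_aux (p : ℕ) [Fact p.Prime] [CharP k p] [PerfectField k] (n : ℕ) :
    ∀ (L : Type u) [CommRing L] [Algebra k L] [Module.Finite k L], CounitalLocal k L →
      Module.finrank k L ≤ n → ∃ m, Module.finrank k L = p ^ m := by
  induction n with
  | zero =>
    intro L _ _ _ S h
    have := S.nontrivial
    exact absurd h (not_le.2 Module.finrank_pos)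
  | succ n ih =>
    intro L _ _ _ S hn
    have := S.nontrivial
    haveI : CharP L p := charP_of_injective_algebraMap (algebraMap k L).injective p
    obtain ⟨d, x, D, hxm, hx, hD⟩ := S.exists_coordinates
    let C := frobRange (k := k) L p
    haveI : Module.Finite k C := inferInstanceAs (Module.Finite k C.toSubmodule)
    have hC : ∀ i, ∀ c ∈ C, D i c = 0 := by
      rintro i c ⟨b, rfl⟩
      exact deriv_pow_char p (D i) b
    have hlin := linearIndependent_mono hD C hC (cast_ne_zero_of_lt p)
    have hspan := span_mono S hx C (Fact.out : p.Prime).pos (fun i => ⟨x i, rfl⟩)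
    let b : Module.Basis (Fin d → Fin p) C L := Module.Basis.mk hlin hspan.ge
    haveI : Module.Free C L := Module.Free.of_basis b
    have hfin : Module.finrank C L = p ^ d := by
      rw [Module.finrank_eq_card_basis b, Fintype.card_fun, Fintype.card_fin, Fintype.card_fin]
    have hmul : Module.finrank k C * p ^ d = Module.finrank k L := by
      rw [← hfin]; exact Module.finrank_mul_finrank k C L
    rcases Nat.eq_zero_or_pos d with rfl | hd
    · refine ⟨0, ?_⟩
      rw [pow_zero]
      apply S.finrank_eq_one
      rw [← hx, Set.range_eq_empty, Ideal.span_empty]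
    · have : 0 < Module.finrank k C := Module.finrank_pos
      have hlt : Module.finrank k C < Module.finrank k L := by
        rw [← hmul]
        exact lt_mul_of_one_lt_right this (Nat.one_lt_pow hd.ne' (Fact.out : p.Prime).one_lt)
      obtain ⟨m, hm⟩ := ih C (S.frob p) (by omega)
      exact ⟨m + d, by rw [← hmul, hm, pow_add]⟩

variable {L : Type u} [CommRing L] [Algebra k L] [Module.Finite k L]

/-- **The dimension of a counital local algebra is a power of `p`.** -/
theorem exists_finrank_eq_pow (S : CounitalLocal k L) (p : ℕ) [Fact p.Prime] [CharP k p]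
    [PerfectField k] : ∃ m, Module.finrank k L = p ^ m :=
  exists_finrank_eq_pow_aux p _ L S le_rfl

/-- The augmentation ideal is killed by the dimension. -/
theorem m_pow_finrank (S : CounitalLocal k L) : S.m ^ Module.finrank k L = ⊥ := by
  have := S.nontrivial
  have hN : IsNoetherianRing L := IsNoetherianRing.of_finite k L
  have key : ∀ j, S.m ^ j = ⊥ ∨ j + Module.finrank k ((S.m ^ j).restrictScalars k) ≤ Module.finrank k L := by
    intro j
    induction j with
    | zero => exact Or.inr (by simpa using Submodule.finrank_le _)
    | succ j ih =>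
      rcases ih with h | h
      · left; rw [pow_succ, h, Ideal.bot_mul]
      by_cases he : S.m ^ (j + 1) = S.m ^ j
      · left
        have : S.m ^ j ≤ ⊥ := by
          refine Submodule.le_of_le_smul_of_le_jacobson_bot (IsNoetherian.noetherian _) S.m_le_jacobson ?_
          rw [bot_sup_eq, smul_eq_mul, ← pow_succ', he]
        rw [he]; exact le_bot_iff.1 this
      · right
        have hlt : (S.m ^ (j + 1)).restrictScalars k < (S.m ^ j).restrictScalars k :=
          lt_of_le_of_ne (Ideal.pow_le_pow_right j.le_succ)
            (fun e => he ((Submodule.restrictScalars_injective k L L) e))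
        have := Submodule.finrank_lt_finrank_of_lt hlt
        omega
  rcases key (Module.finrank k L) with h | h
  · exact h
  · have h0 : Module.finrank k ((S.m ^ Module.finrank k L).restrictScalars k) = 0 := by omega
    rw [Submodule.finrank_eq_zero, Submodule.restrictScalars_eq_bot_iff] at h0
    exact h0

end CounitalLocal

end Groth.Sga3.HopfDeriv
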