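import Groth.Agent.Sga3.SectionConj
import Groth.Agent.Sga3.CharDescent
import Groth.Agent.Hopf.Regular
import Groth.Agent.Hopf.Unipotent
import Groth.Agent.Misc1.Unip.MultType
import Mathlib.LinearAlgebra.Matrix.Charpoly.Basic
import Mathlib.LinearAlgebra.Eigenspace.Triangularizable
import Mathlib.LinearAlgebra.TensorProduct.Basis

/-!
Extensions of a smooth connected unipotent group by a diagonalisable group over an algebraically
closed field (SGA 3 XVII 5.1.1), in Hopf form: the kernel is central, every character of the kernel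
extends to a character of the extension, and so the extension splits with a unique section.
-/

set_option autoImplicit false
set_option linter.unusedSectionVars false

universe u

open TensorProduct Coalgebra WithConv
open Groth.ComodLib (lslice lslice_tmul lslice_lTensor slice slice_tmul op op_apply ext_slice)
open Groth.Sga3.UnipotentExt Groth.Sga3.SectionConj

noncomputable section

namespace Groth.Sga3.UnipotentByMult

variable {k : Type u} [Field k]

section Points

variable {A A' : Type u} [CommRing A] [HopfAlgebra k A] [CommRing A'] [Algebra k A']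

/-- the comultiplication as a product of points -/
theorem comulAlgHom_eq : toConv (Bialgebra.comulAlgHom k A) =
    toConv (Algebra.TensorProduct.includeLeft : A →ₐ[k] A ⊗[k] A) *
      toConv (Algebra.TensorProduct.includeRight : A →ₐ[k] A ⊗[k] A) := by
  refine WithConv.ofConv_injective (AlgHom.ext fun a => ?_)
  change comul (R := k) a = (Algebra.TensorProduct.lmul' k).comp (Algebra.TensorProduct.map
      (Algebra.TensorProduct.includeLeft : A →ₐ[k] A ⊗[k] A)
      (Algebra.TensorProduct.includeRight : A →ₐ[k] A ⊗[k] A)) (comul (R := k) a)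
  generalize comul (R := k) a = z
  induction z using TensorProduct.induction_on with
  | zero => simp
  | add x y hx hy => simp only [map_add, ← hx, ← hy]
  | tmul x y => simp

/-- a map applied to both factors of the comultiplication -/
theorem map_comp_comul (c : A →ₐ[k] A') :
    toConv ((Algebra.TensorProduct.map c c).comp (Bialgebra.comulAlgHom k A)) =
      toConv ((Algebra.TensorProduct.includeLeft : A' →ₐ[k] A' ⊗[k] A').comp c) *
      toConv ((Algebra.TensorProduct.includeRight : A' →ₐ[k] A' ⊗[k] A').comp c) := by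
  refine WithConv.ofConv_injective (AlgHom.ext fun a => ?_)
  change Algebra.TensorProduct.map c c (comul (R := k) a) =
    (Algebra.TensorProduct.lmul' k).comp (Algebra.TensorProduct.map
      ((Algebra.TensorProduct.includeLeft : A' →ₐ[k] A' ⊗[k] A').comp c)
      ((Algebra.TensorProduct.includeRight : A' →ₐ[k] A' ⊗[k] A').comp c)) (comul (R := k) a)
  generalize comul (R := k) a = z
  induction z using TensorProduct.induction_on with
  | zero => simp
  | add x y hx hy => simp only [map_add, ← hx, ← hy]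
  | tmul x y => simp

theorem mul_pinv' {T : Type u} [CommRing T] [Algebra k T] (f : WithConv (A →ₐ[k] T)) :
    f * pinv f.ofConv = 1 := mul_pinv f.ofConv

theorem pinv_mul' {T : Type u} [CommRing T] [Algebra k T] (f : WithConv (A →ₐ[k] T)) :
    pinv f.ofConv * f = 1 := pinv_mul f.ofConv

theorem conv_one_mul {T : Type u} [CommRing T] [Algebra k T] (f : WithConv (A →ₐ[k] T)) : 1 * f = f :=
  one_mul f

theorem conv_mul_one {T : Type u} [CommRing T] [Algebra k T] (f : WithConv (A →ₐ[k] T)) : f * 1 = f :=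
  mul_one f

theorem pinv_mul_rev' {T : Type u} [CommRing T] [Algebra k T] (f g : WithConv (A →ₐ[k] T)) :
    pinv (f * g).ofConv = pinv g.ofConv * pinv f.ofConv := pinv_mul_rev f.ofConv g.ofConv

end Points

section Reduced

variable [IsAlgClosed k] {A C : Type u} [CommRing A] [Algebra k A] [Algebra.FiniteType k A]
  [CommRing C] [Algebra k C] [IsReduced C] (ψ : C →ₐ[k] A) (hψ : Function.Injective ψ)

include hψ in
/-- A function on a reduced quotient vanishing at all points above vanishes. -/
theorem eq_zero_of_points {c : C} (h : ∀ u : A →ₐ[k] k, u (ψ c) = 0) : c = 0 := by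
  haveI : IsReduced (A ⧸ nilradical A) :=
    (Ideal.isRadical_iff_quotient_reduced _).1 (Ideal.radical_isRadical ⊥)
  haveI : Algebra.FiniteType k (A ⧸ nilradical A) :=
    Algebra.FiniteType.of_surjective (Ideal.Quotient.mkₐ k _) Ideal.Quotient.mk_surjective
  have h0 : Ideal.Quotient.mk (nilradical A) (ψ c) = 0 :=
    FrobDescent.eq_zero_of_forall_point (k := k) fun v => h (v.comp (Ideal.Quotient.mkₐ k _))
  obtain ⟨n, hn⟩ := mem_nilradical.1 (Ideal.Quotient.eq_zero_iff_mem.1 h0)
  exact IsNilpotent.eq_zero ⟨n, hψ (by rw [map_pow, hn, map_zero])⟩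

include hψ in
/-- A function with finitely many values on a connected reduced quotient, vanishing at one point,
vanishes. -/
theorem eq_zero_of_root (hconn : ∀ e : C, IsIdempotentElem e → e = 0 ∨ e = 1)
    (u₀ : C →ₐ[k] k) {Q : Polynomial k} (hQ : Q ≠ 0) {l : C} (hl : Polynomial.aeval l Q = 0)
    (h0 : u₀ l = 0) : l = 0 := by
  classical
  let S : Finset k := Q.roots.toFinset.erase 0
  let e : C := ∏ r ∈ S, (1 - r⁻¹ • l)
  have hval : ∀ u : C →ₐ[k] k, u e = if u l = 0 then 1 else 0 := by
    intro u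
    have hr : u l ∈ Q.roots := by
      rw [Polynomial.mem_roots hQ, Polynomial.IsRoot.def, ← Polynomial.coe_aeval_eq_eval,
        Polynomial.aeval_algHom_apply, hl, map_zero]
    simp only [e, map_prod, map_sub, map_one, map_smul, smul_eq_mul]
    split_ifs with hu
    · simp [hu]
    · refine Finset.prod_eq_zero (i := u l) ?_ ?_
      · exact Finset.mem_erase.2 ⟨hu, Multiset.mem_toFinset.2 hr⟩
      · rw [inv_mul_cancel₀ hu, sub_self]
  have he : IsIdempotentElem e := by
    refine sub_eq_zero.1 (eq_zero_of_points ψ hψ fun u => ?_)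
    have := hval (u.comp ψ)
    simp only [AlgHom.comp_apply] at this
    rw [map_sub, map_mul, map_sub, map_mul, this]
    split_ifs <;> simp
  have he1 : e = 1 := (hconn e he).resolve_left fun h => by
    have := hval u₀
    rw [h, map_zero, if_pos h0] at this
    exact zero_ne_one this
  refine eq_zero_of_points ψ hψ fun u => ?_
  have := hval (u.comp ψ)
  rw [he1, map_one, AlgHom.comp_apply] at this
  by_contra hne
  rw [if_neg hne] at this
  exact one_ne_zero this

end Reduced

section Char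

variable {A C : Type u} [CommRing A] [HopfAlgebra k A] [CommRing C] [HopfAlgebra k C]
  {ψ : C →ₐc[k] A} {J : Ideal A} [J.IsHopfIdeal k]
  (hJ : J = Ideal.map (ψ : C →+* A) (RingHom.ker (Bialgebra.counitAlgHom k C)))
  {M : Type u} [CommGroup M] (e : (A ⧸ J) ≃ₐc[k] MonoidAlgebra k M)

local notation "π" => Ideal.Quotient.mkₐ k J

/-- a character of the kernel -/
def gl (m : M) : A ⧸ J := e.symm (MonoidAlgebra.single m 1)

theorem isGroupLikeElem_gl (m : M) : IsGroupLikeElem k (gl e m) :=
  (MonoidAlgebra.isGroupLikeElem_single_one m).map (e.symm : MonoidAlgebra k M →ₐc[k] (A ⧸ J))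

theorem e_gl (m : M) : e (gl e m) = MonoidAlgebra.single m 1 := e.apply_symm_apply _

theorem gl_one : gl e 1 = 1 := by
  rw [gl, ← MonoidAlgebra.one_def, map_one]

theorem gl_mul (m n : M) : gl e (m * n) = gl e m * gl e n := by
  rw [gl, gl, gl, ← map_mul, MonoidAlgebra.single_mul_single, one_mul]

/-- the coefficient of a character -/
def δ (n : M) : A ⧸ J →ₗ[k] k :=
  GroupAlg.cf n ∘ₗ ((e : (A ⧸ J) →ₐc[k] MonoidAlgebra k M) : A ⧸ J →ₐ[k] MonoidAlgebra k M).toLinearMap

theorem δ_gl [DecidableEq M] (m n : M) : δ e n (gl e m) = if m = n then 1 else 0 := by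
  change GroupAlg.cf n (e (gl e m)) = _
  rw [e_gl, GroupAlg.cf_single]

/-- the characters form a basis -/
def basisQ : Module.Basis M k (A ⧸ J) :=
  (Module.Basis.ofRepr (MonoidAlgebra.coeffLinearEquiv k)).map
    (e : (A ⧸ J) ≃ₐ[k] MonoidAlgebra k M).symm.toLinearEquiv

theorem basisQ_apply (m : M) : basisQ e m = gl e m := rfl

theorem ext_gl {W : Type*} [AddCommMonoid W] [Module k W] {f g : A ⧸ J →ₗ[k] W}
    (h : ∀ m, f (gl e m) = g (gl e m)) : f = g :=
  (basisQ e).ext fun m => by rw [basisQ_apply]; exact h m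

theorem exists_gl {x : A ⧸ J} (hx : IsGroupLikeElem k x) : ∃ n, x = gl e n := by
  obtain ⟨n, hn⟩ := CharLift.exists_eq_single (hx.map (e : (A ⧸ J) →ₐc[k] MonoidAlgebra k M))
  exact ⟨n, (e.symm_apply_apply x).symm.trans (congrArg e.symm hn)⟩

theorem eq_zero_of_δ {N : Type u} [AddCommGroup N] [Module k N] {z : (A ⧸ J) ⊗[k] N}
    (h : ∀ n, lslice (δ e n) z = 0) : z = 0 := by
  classical
  have hcoord : ∀ n, (basisQ e).coord n = δ e n := fun n => ext_gl e fun m => by
    rw [δ_gl, ← basisQ_apply, Module.Basis.coord_apply, Module.Basis.repr_self,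
      Finsupp.single_apply]
  refine (TensorProduct.equivFinsuppOfBasisLeft (basisQ e)).injective (Finsupp.ext fun n => ?_)
  rw [map_zero, Finsupp.zero_apply, ← h n]
  clear h
  induction z using TensorProduct.induction_on with
  | zero => simp
  | add x y hx hy => simp only [map_add, Finsupp.add_apply, hx, hy]
  | tmul q x =>
    rw [TensorProduct.equivFinsuppOfBasisLeft_apply_tmul_apply, lslice_tmul, ← hcoord,
      Module.Basis.coord_apply]

theorem fac {T : Type u} [CommRing T] [Algebra k T] {κ : WithConv (A →ₐ[k] T)}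
    (hκ : ∀ x ∈ J, κ.ofConv x = 0) :
    ∃ κ' : WithConv (A ⧸ J →ₐ[k] T), precomp (Bialgebra.Quotient.mkBialgHom J) κ' = κ :=
  ⟨toConv (Ideal.Quotient.liftₐ J κ.ofConv hκ), WithConv.ofConv_injective (AlgHom.ext fun _ => rfl)⟩

include e in
/-- points of the kernel commute -/
theorem mul_comm_ker {T : Type u} [CommRing T] [Algebra k T] {κ h : WithConv (A →ₐ[k] T)}
    (hκ : ∀ x ∈ J, κ.ofConv x = 0) (hh : ∀ x ∈ J, h.ofConv x = 0) : κ * h = h * κ := by
  obtain ⟨κ', rfl⟩ := fac hκ
  obtain ⟨h', rfl⟩ := fac hh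
  rw [← map_mul, ← map_mul]
  refine congrArg _ (WithConv.ofConv_injective (AlgHom.toLinearMap_injective (ext_gl e fun m => ?_)))
  change (κ' * h').ofConv (gl e m) = (h' * κ').ofConv (gl e m)
  rw [mul_apply_grouplike (isGroupLikeElem_gl e m), mul_apply_grouplike (isGroupLikeElem_gl e m),
    mul_comm]

include hJ in
theorem exists_ker_ratio {T : Type u} [CommRing T] [Algebra k T] (i₁ i₂ : A →ₐ[k] T)
    (h : ∀ b, i₁ (ψ b) = i₂ (ψ b)) :
    ∃ κ : WithConv (A →ₐ[k] T), (∀ x ∈ J, κ.ofConv x = 0) ∧ toConv i₁ * κ = toConv i₂ :=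
  ⟨pinv i₁ * toConv i₂,
    lift_ratio hJ _ (by rw [map_mul, precomp_pinv h, ← map_mul, pinv_mul, map_one]),
    by rw [← mul_assoc, mul_pinv, one_mul]⟩

/-- conjugation of the kernel by a point -/
def conjPt {T : Type u} [CommRing T] [Algebra k T] (i : A →ₐ[k] T) :
    WithConv (A →ₐ[k] (A ⧸ J) ⊗[k] T) :=
  toConv ((Algebra.TensorProduct.includeRight : T →ₐ[k] (A ⧸ J) ⊗[k] T).comp i) *
    toConv ((Algebra.TensorProduct.includeLeft : A ⧸ J →ₐ[k] (A ⧸ J) ⊗[k] T).comp π) *
    pinv ((Algebra.TensorProduct.includeRight : T →ₐ[k] (A ⧸ J) ⊗[k] T).comp i)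

include hJ in
theorem precomp_incl {T : Type u} [CommRing T] [Algebra k T] :
    precomp ψ (toConv ((Algebra.TensorProduct.includeLeft : A ⧸ J →ₐ[k] (A ⧸ J) ⊗[k] T).comp π)) = 1 :=
  WithConv.ofConv_injective (AlgHom.ext fun b => by
    change (Algebra.TensorProduct.includeLeft : A ⧸ J →ₐ[k] (A ⧸ J) ⊗[k] T) (π (ψ b)) =
      algebraMap k _ (counit (R := k) b)
    rw [mk_ψ hJ, AlgHom.commutes])

include hJ in
theorem conjPt_ker {T : Type u} [CommRing T] [Algebra k T] (i : A →ₐ[k] T) :
    ∀ x ∈ J, (conjPt (J := J) i).ofConv x = 0 := by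
  refine lift_ratio hJ _ ?_
  rw [conjPt, map_mul, map_mul, precomp_incl hJ]
  rw [conv_mul_one, ← map_mul, mul_pinv, map_one]

theorem conjPt_comp {T T' : Type u} [CommRing T] [Algebra k T] [CommRing T'] [Algebra k T']
    (i : A →ₐ[k] T) (h : T →ₐ[k] T') :
    toConv ((Algebra.TensorProduct.map (AlgHom.id k (A ⧸ J)) h).comp (conjPt (J := J) i).ofConv) =
      conjPt (J := J) (h.comp i) := by
  rw [conjPt, postcomp_mul, postcomp_mul, postcomp_pinv, conjPt]
  have h1 : (Algebra.TensorProduct.map (AlgHom.id k (A ⧸ J)) h).comp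
      ((Algebra.TensorProduct.includeRight : T →ₐ[k] (A ⧸ J) ⊗[k] T).comp i) =
      (Algebra.TensorProduct.includeRight : T' →ₐ[k] (A ⧸ J) ⊗[k] T').comp (h.comp i) :=
    AlgHom.ext fun a => by simp
  have h2 : (Algebra.TensorProduct.map (AlgHom.id k (A ⧸ J)) h).comp
      ((Algebra.TensorProduct.includeLeft : A ⧸ J →ₐ[k] (A ⧸ J) ⊗[k] T).comp π) =
      (Algebra.TensorProduct.includeLeft : A ⧸ J →ₐ[k] (A ⧸ J) ⊗[k] T').comp π :=
    AlgHom.ext fun a => by simp
  simp only [ofConv_toConv, h1, h2]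

include hJ e in
theorem conjPt_congr {T : Type u} [CommRing T] [Algebra k T] (i₁ i₂ : A →ₐ[k] T)
    (h : ∀ b, i₁ (ψ b) = i₂ (ψ b)) : conjPt (J := J) i₁ = conjPt (J := J) i₂ := by
  obtain ⟨κ, hκ, hmul⟩ := exists_ker_ratio hJ i₁ i₂ h
  let R := (Algebra.TensorProduct.includeRight : T →ₐ[k] (A ⧸ J) ⊗[k] T)
  let h₀ := toConv ((Algebra.TensorProduct.includeLeft : A ⧸ J →ₐ[k] (A ⧸ J) ⊗[k] T).comp π)
  let K : WithConv (A →ₐ[k] (A ⧸ J) ⊗[k] T) := toConv (R.comp κ.ofConv)
  have hK : toConv (R.comp i₂) = toConv (R.comp i₁) * K := by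
    rw [← ofConv_toConv i₂, ← hmul, postcomp_mul]
  have hKh : K * h₀ = h₀ * K := mul_comm_ker e
    (fun x hx => by change R (κ.ofConv x) = 0; rw [hκ x hx, map_zero])
    (fun x hx => by
      change (Algebra.TensorProduct.includeLeft : A ⧸ J →ₐ[k] (A ⧸ J) ⊗[k] T) (π x) = 0
      rw [Ideal.Quotient.mkₐ_eq_mk, Ideal.Quotient.eq_zero_iff_mem.2 hx, map_zero])
  change toConv (R.comp i₁) * h₀ * pinv (R.comp i₁) = toConv (R.comp i₂) * h₀ * pinv (R.comp i₂)
  rw [show pinv (R.comp i₂) = pinv (toConv (R.comp i₂)).ofConv from rfl, hK, pinv_mul_rev',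
    mul_assoc (toConv (R.comp i₁)) K, hKh]
  rw [mul_assoc (toConv (R.comp i₁)) (h₀ * K), mul_assoc h₀ K, ← mul_assoc K, mul_pinv', conv_one_mul,
    ← mul_assoc]

theorem lslice_map_id {T T' : Type u} [CommRing T] [Algebra k T] [CommRing T'] [Algebra k T']
    (h : T →ₐ[k] T') (l : A ⧸ J →ₗ[k] k) (z : (A ⧸ J) ⊗[k] T) :
    lslice l (Algebra.TensorProduct.map (AlgHom.id k (A ⧸ J)) h z) = h (lslice l z) := by
  induction z using TensorProduct.induction_on with
  | zero => simp
  | add x y hx hy => simp only [map_add, hx, hy]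
  | tmul x y => simp

include hJ e in
/-- the kernel is central -/
theorem conjPt_id [IsAlgClosed k] [Algebra.FiniteType k A] [IsReduced C]
    (hψ : Function.Injective ψ) (hconn : ∀ e : C, IsIdempotentElem e → e = 0 ∨ e = 1) :
    conjPt (J := J) (AlgHom.id k A) =
      toConv ((Algebra.TensorProduct.includeLeft : A ⧸ J →ₐ[k] (A ⧸ J) ⊗[k] A).comp π) := by
  classical
  let c' : A ⧸ J →ₐ[k] (A ⧸ J) ⊗[k] A :=
    Ideal.Quotient.liftₐ J (conjPt (AlgHom.id k A)).ofConv (conjPt_ker hJ _)
  suffices hmain : c' = Algebra.TensorProduct.includeLeft by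
    refine WithConv.ofConv_injective (AlgHom.ext fun a => ?_)
    exact AlgHom.congr_fun hmain (π a)
  refine AlgHom.toLinearMap_injective (ext_gl e fun m => ?_)
  obtain ⟨a, ha⟩ := Ideal.Quotient.mk_surjective (gl e m)
  change c' (gl e m) = gl e m ⊗ₜ (1 : A)
  have hc : c' (gl e m) = (conjPt (AlgHom.id k A)).ofConv a := by
    rw [← ha]
    rfl
  rw [hc, ← sub_eq_zero]
  refine eq_zero_of_δ e fun n => ?_
  set x := lslice (δ e n) ((conjPt (J := J) (AlgHom.id k A)).ofConv a) with hx
  obtain ⟨c, hcx⟩ : ∃ c, ψ c = x := by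
    refine mem_range_of_tmul ψ fun T _ _ i₁ i₂ h12 => ?_
    rw [hx, ← lslice_map_id, ← lslice_map_id]
    refine congrArg (lslice (δ e n)) ?_
    have h1 := congrArg (fun f : WithConv (A →ₐ[k] (A ⧸ J) ⊗[k] T) => f.ofConv a) (conjPt_comp (J := J) (AlgHom.id k A) i₁)
    have h2 := congrArg (fun f : WithConv (A →ₐ[k] (A ⧸ J) ⊗[k] T) => f.ofConv a) (conjPt_comp (J := J) (AlgHom.id k A) i₂)
    refine h1.trans (Eq.trans ?_ h2.symm)
    exact congrArg (fun f : WithConv (A →ₐ[k] (A ⧸ J) ⊗[k] T) => f.ofConv a) (conjPt_congr hJ e _ _ h12)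
  have hpt : ∀ u : A →ₐ[k] k, u x = δ e n ((conjP u (toConv π)).ofConv a) := by
    intro u
    let H : (A ⧸ J) ⊗[k] A →ₐ[k] A ⧸ J :=
      Algebra.TensorProduct.lift (AlgHom.id k (A ⧸ J)) ((Algebra.ofId k (A ⧸ J)).comp u)
        fun _ _ => Commute.all _ _
    have hH : ∀ z, u (lslice (δ e n) z) = δ e n (H z) := by
      intro z
      induction z using TensorProduct.induction_on with
      | zero => simp
      | add p q hp hq => simp only [map_add, hp, hq]
      | tmul p q =>
        change u (lslice (δ e n) (p ⊗ₜ[k] q)) = δ e n (p * algebraMap k (A ⧸ J) (u q))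
        rw [lslice_tmul, map_smul, mul_comm p, ← Algebra.smul_def, map_smul, smul_eq_mul, smul_eq_mul,
          mul_comm]
    rw [hx, hH]
    refine congrArg (δ e n) ?_
    refine congrArg (fun f : WithConv (A →ₐ[k] A ⧸ J) => f.ofConv a)
      (?_ : toConv (H.comp (conjPt (J := J) (AlgHom.id k A)).ofConv) = conjP u (toConv π))
    rw [conjPt, postcomp_mul, postcomp_mul, postcomp_pinv, conjP]
    have h1 : H.comp ((Algebra.TensorProduct.includeRight : A →ₐ[k] (A ⧸ J) ⊗[k] A).comp
        (AlgHom.id k A)) = (Algebra.ofId k (A ⧸ J)).comp u := AlgHom.ext fun b => by simp [H]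
    have h2 : H.comp ((Algebra.TensorProduct.includeLeft : A ⧸ J →ₐ[k] (A ⧸ J) ⊗[k] A).comp π) = π :=
      AlgHom.ext fun b => by simp [H]
    simp only [ofConv_toConv, h1, h2, pt]
  have hε : counit (R := k) c = δ e n (gl e m) := by
    have h1 := hpt (Bialgebra.counitAlgHom k A)
    rw [conjP_counit, ← hcx] at h1
    rw [← CoalgHomClass.counit_comp_apply ψ c]
    exact h1.trans (congrArg (δ e n) ha)
  have hidem : IsIdempotentElem c := by
    refine sub_eq_zero.1 (eq_zero_of_points (ψ : C →ₐ[k] A) hψ fun u => ?_)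
    let f : A →ₐc[k] (A ⧸ J) := (Bialgebra.Quotient.mkBialgHom J).comp (conjHom u)
    have hf : (f : A →ₐ[k] A ⧸ J) = (conjP u (toConv π)).ofConv :=
      congrArg WithConv.ofConv (comp_conjHom (Bialgebra.Quotient.mkBialgHom (R := k) J) u)
    have hfJ : ∀ y ∈ J, (f : A →ₐ[k] A ⧸ J) y = 0 := by
      rw [hf]
      refine lift_ratio hJ _ ?_
      rw [conjP, map_mul, map_mul, show precomp ψ (toConv π) = 1 from
        WithConv.ofConv_injective (AlgHom.ext (mk_ψ hJ)), conv_mul_one, ← map_mul, mul_pinv', map_one]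
    have hgrp : IsGroupLikeElem k ((conjP u (toConv π)).ofConv a) := by
      rw [← hf]
      let f' : A ⧸ J →ₐ[k] A ⧸ J := Ideal.Quotient.liftₐ J (f : A →ₐ[k] A ⧸ J) hfJ
      refine ⟨?_, ?_⟩
      · change counit (R := k) (f a) = 1
        rw [CoalgHomClass.counit_comp_apply, ← (isGroupLikeElem_gl e m).counit_eq_one, ← ha]
        exact (CoalgHomClass.counit_comp_apply (Bialgebra.Quotient.mkBialgHom (R := k) J) a).symm
      · change comul (R := k) (f a) = f a ⊗ₜ f a
        have h2 : ∀ z : A ⊗[k] A, TensorProduct.map (f : A →ₗ[k] A ⧸ J) (f : A →ₗ[k] A ⧸ J) z =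
            Algebra.TensorProduct.map f' f' (Algebra.TensorProduct.map π π z) := by
          intro z
          induction z using TensorProduct.induction_on with
          | zero => simp
          | add p q hp hq => simp only [map_add, hp, hq]
          | tmul p q => rfl
        rw [← CoalgHomClass.map_comp_comul_apply f, h2,
          show Algebra.TensorProduct.map π π (comul (R := k) a) = comul (R := k) (π a) from
            CoalgHomClass.map_comp_comul_apply (Bialgebra.Quotient.mkBialgHom (R := k) J) a,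
          show π a = gl e m from ha, (isGroupLikeElem_gl e m).comul_eq_tmul_self,
          Algebra.TensorProduct.map_tmul, ← ha]
        rfl
    obtain ⟨n', hn'⟩ := exists_gl e hgrp
    have hu : u (ψ c) = if n' = n then 1 else 0 := by rw [hcx, hpt, hn', δ_gl]
    change u (ψ (c * c - c)) = 0
    rw [map_sub, map_mul, map_sub, map_mul, hu]
    split_ifs <;> simp
  rw [map_sub, lslice_tmul, ← hx, ← hcx, δ_gl]
  rcases hconn c hidem with rfl | rfl
  · rw [map_zero, δ_gl] at hε
    rw [map_zero, ← hε, zero_smul, sub_zero]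
  · rw [Bialgebra.counit_one, δ_gl] at hε
    rw [map_one, ← hε, one_smul, sub_self]

include hJ e in
/-- points of the kernel are central -/
theorem central [IsAlgClosed k] [Algebra.FiniteType k A] [IsReduced C]
    (hψ : Function.Injective ψ) (hconn : ∀ e : C, IsIdempotentElem e → e = 0 ∨ e = 1)
    {T : Type u} [CommRing T] [Algebra k T] (f : WithConv (A →ₐ[k] T)) {κ : WithConv (A →ₐ[k] T)}
    (hκ : ∀ x ∈ J, κ.ofConv x = 0) : f * κ = κ * f := by
  let R := (Algebra.TensorProduct.includeRight : A →ₐ[k] (A ⧸ J) ⊗[k] A).comp (AlgHom.id k A)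
  let h₀ := toConv ((Algebra.TensorProduct.includeLeft : A ⧸ J →ₐ[k] (A ⧸ J) ⊗[k] A).comp π)
  have h1 : toConv R * h₀ = h₀ * toConv R := by
    have h2 : toConv R * h₀ * pinv R = h₀ := conjPt_id hJ e hψ hconn
    conv_rhs => rw [← h2]
    rw [mul_assoc (toConv R * h₀), pinv_mul, conv_mul_one]
  let κ' : A ⧸ J →ₐ[k] T := Ideal.Quotient.liftₐ J κ.ofConv hκ
  let Φ : (A ⧸ J) ⊗[k] A →ₐ[k] T :=
    Algebra.TensorProduct.lift κ' f.ofConv fun _ _ => Commute.all _ _
  have hR : toConv (Φ.comp R) = f := WithConv.ofConv_injective (AlgHom.ext fun a => by simp [Φ, R])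
  have hh : toConv (Φ.comp h₀.ofConv) = κ :=
    WithConv.ofConv_injective (AlgHom.ext fun a => by simp [Φ, h₀, κ'])
  have h3 := congrArg (fun g : WithConv (A →ₐ[k] (A ⧸ J) ⊗[k] A) => toConv (Φ.comp g.ofConv)) h1
  simp only [postcomp_mul] at h3
  rw [ofConv_toConv, hR, hh] at h3
  exact h3

include hJ e in
/-- forms on the kernel are central in the convolution algebra -/
theorem conv_comm [IsAlgClosed k] [Algebra.FiniteType k A] [IsReduced C]
    (hψ : Function.Injective ψ) (hconn : ∀ e : C, IsIdempotentElem e → e = 0 ∨ e = 1)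
    (φ : A ⧸ J →ₗ[k] k) (χ : A →ₗ[k] k) :
    toConv (φ ∘ₗ (π).toLinearMap) * toConv χ = toConv χ * toConv (φ ∘ₗ (π).toLinearMap) := by
  let R : A →ₐ[k] (A ⧸ J) ⊗[k] A := Algebra.TensorProduct.includeRight
  let L : A →ₐ[k] (A ⧸ J) ⊗[k] A := Algebra.TensorProduct.includeLeft.comp π
  have h1 : toConv R * toConv L = toConv L * toConv R :=
    central hJ e hψ hconn (toConv R) fun x hx => by
      change (π x) ⊗ₜ[k] (1 : A) = 0
      rw [Ideal.Quotient.mkₐ_eq_mk, Ideal.Quotient.eq_zero_iff_mem.2 hx, TensorProduct.zero_tmul]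
  let Lin : (A ⧸ J) ⊗[k] A →ₗ[k] k := LinearMap.mul' k k ∘ₗ TensorProduct.map φ χ
  refine WithConv.ofConv_injective (LinearMap.ext fun a => ?_)
  have h2 : Lin ((toConv R * toConv L).ofConv a) = Lin ((toConv L * toConv R).ofConv a) := by rw [h1]
  change LinearMap.mul' k k (TensorProduct.map (φ ∘ₗ (π).toLinearMap) χ (comul (R := k) a)) =
    LinearMap.mul' k k (TensorProduct.map χ (φ ∘ₗ (π).toLinearMap) (comul (R := k) a))
  change Lin ((Algebra.TensorProduct.lmul' k).comp (Algebra.TensorProduct.map R L) (comul (R := k) a)) =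
    Lin ((Algebra.TensorProduct.lmul' k).comp (Algebra.TensorProduct.map L R) (comul (R := k) a)) at h2
  have e1 : ∀ z : A ⊗[k] A,
      Lin ((Algebra.TensorProduct.lmul' k).comp (Algebra.TensorProduct.map R L) z) =
        LinearMap.mul' k k (TensorProduct.map χ (φ ∘ₗ (π).toLinearMap) z) := by
    intro z
    induction z using TensorProduct.induction_on with
    | zero => simp
    | add p q hp hq => simp only [map_add, hp, hq]
    | tmul p q => simp [Lin, R, L, mul_comm]
  have e2 : ∀ z : A ⊗[k] A,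
      Lin ((Algebra.TensorProduct.lmul' k).comp (Algebra.TensorProduct.map L R) z) =
        LinearMap.mul' k k (TensorProduct.map (φ ∘ₗ (π).toLinearMap) χ z) := by
    intro z
    induction z using TensorProduct.induction_on with
    | zero => simp
    | add p q hp hq => simp only [map_add, hp, hq]
    | tmul p q => simp [Lin, R, L]
  rw [e1, e2] at h2
  exact h2.symm

include hJ e in
/-- every character of the kernel occurs in a simple representation -/
theorem exists_simple [IsAlgClosed k] [Algebra.FiniteType k A] [IsReduced C]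
    (hψ : Function.Injective ψ) (hconn : ∀ e : C, IsIdempotentElem e → e = 0 ∨ e = 1) (m : M) :
    ∃ (V : Submodule k A) (hV : HopfRep.IsSubcomod (k := k) (A := A) V),
      Module.Finite k V ∧
      @HopfRep.IsSimpleComod k A _ _ _ _ V _ _
        (ComodSub.Comod.restr (HopfRep.Comod.regular k A) V hV) ∧
      ∀ (φ : A ⧸ J →ₗ[k] k), ∀ v ∈ V, op (φ ∘ₗ (π).toLinearMap) v = φ (gl e m) • v := by
  classical
  obtain ⟨a, ha⟩ := Ideal.Quotient.mk_surjective (gl e m)
  let w : A := op (δ e m ∘ₗ (π).toLinearMap) a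
  have hw0 : π w = gl e m := by
    have h1 : ∀ z : A ⊗[k] A, π (slice (δ e m ∘ₗ (π).toLinearMap) z) =
        slice (δ e m) (Algebra.TensorProduct.map π π z) := by
      intro z
      induction z using TensorProduct.induction_on with
      | zero => simp
      | add p q hp hq => simp only [map_add, hp, hq]
      | tmul p q =>
        rw [slice_tmul, map_smul, Algebra.TensorProduct.map_tmul, slice_tmul]
        rfl
    change π (slice (δ e m ∘ₗ (π).toLinearMap) (comul (R := k) a)) = _
    rw [h1, show Algebra.TensorProduct.map π π (comul (R := k) a) = comul (R := k) (π a) from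
        CoalgHomClass.map_comp_comul_apply (Bialgebra.Quotient.mkBialgHom (R := k) J) a,
      show π a = gl e m from ha, (isGroupLikeElem_gl e m).comul_eq_tmul_self, slice_tmul, δ_gl,
      if_pos rfl, one_smul]
  let W : Submodule k A := ⨅ φ : A ⧸ J →ₗ[k] k,
    LinearMap.ker (op (V := A) (φ ∘ₗ (π).toLinearMap) - φ (gl e m) • LinearMap.id)
  have hW : ∀ v, v ∈ W ↔ ∀ φ : A ⧸ J →ₗ[k] k, op (φ ∘ₗ (π).toLinearMap) v = φ (gl e m) • v := by
    intro v
    simp [W, Submodule.mem_iInf, sub_eq_zero]
  have hsub : HopfRep.IsSubcomod (k := k) (A := A) W := by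
    rw [ComodLib.isSubcomod_iff]
    intro χ v hv
    rw [hW] at hv ⊢
    intro φ
    have h1 := ComodLib.op_mul (V := A) (toConv (φ ∘ₗ (π).toLinearMap)) (toConv χ) v
    have h2 := ComodLib.op_mul (V := A) (toConv χ) (toConv (φ ∘ₗ (π).toLinearMap)) v
    rw [conv_comm hJ e hψ hconn φ χ] at h1
    rw [ofConv_toConv, ofConv_toConv] at h1 h2
    rw [← h1, h2, hv φ, map_smul]
  have hwW : w ∈ W := by
    rw [hW]
    intro φ
    have h1 := ComodLib.op_mul (V := A) (toConv (φ ∘ₗ (π).toLinearMap))
      (toConv (δ e m ∘ₗ (π).toLinearMap)) a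
    rw [ofConv_toConv, ofConv_toConv] at h1
    rw [← h1]
    have h2 : (toConv (φ ∘ₗ (π).toLinearMap) * toConv (δ e m ∘ₗ (π).toLinearMap)).ofConv =
        φ (gl e m) • (δ e m ∘ₗ (π).toLinearMap) := by
      have h3 : (toConv φ * toConv (δ e m)).ofConv = φ (gl e m) • δ e m := by
        refine ext_gl e fun n => ?_
        change LinearMap.mul' k k (TensorProduct.map φ (δ e m) (comul (R := k) (gl e n))) = _
        rw [(isGroupLikeElem_gl e n).comul_eq_tmul_self, TensorProduct.map_tmul,
          LinearMap.mul'_apply, LinearMap.smul_apply, δ_gl, smul_eq_mul]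
        split_ifs with h
        · rw [h]
        · simp
      refine LinearMap.ext fun x => ?_
      rw [LinearMap.smul_apply, LinearMap.comp_apply, ← LinearMap.smul_apply, ← h3]
      change LinearMap.mul' k k (TensorProduct.map (φ ∘ₗ (π).toLinearMap)
          (δ e m ∘ₗ (π).toLinearMap) (comul (R := k) x)) =
        LinearMap.mul' k k (TensorProduct.map φ (δ e m) (comul (R := k) (π x)))
      rw [TensorProduct.map_comp, LinearMap.comp_apply]
      exact congrArg (fun t => LinearMap.mul' k k (TensorProduct.map φ (δ e m) t))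
        (CoalgHomClass.map_comp_comul_apply (Bialgebra.Quotient.mkBialgHom (R := k) J) x)
    rw [h2, ComodLib.op_smul]
  have hne : W ≠ ⊥ := fun h => by
    rw [h, Submodule.mem_bot] at hwW
    rw [hwW, map_zero] at hw0
    exact (isGroupLikeElem_gl e m).ne_zero hw0.symm
  obtain ⟨V, hV, hle, hs, hfin⟩ := ComodLib.exists_simpleSub_le hsub hne
  exact ⟨V, hV, hfin, ComodLib.isSimpleComod_restr _ V hV hs, fun φ v hv => (hW v).1 (hle hv) φ⟩

end Char

end Groth.Sga3.UnipotentByMult
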