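import Groth.Agent.Sga3.UnipotentByMult
import Mathlib.LinearAlgebra.Matrix.ToLin
import Mathlib.LinearAlgebra.Matrix.Charpoly.Coeff
import Mathlib.Data.Matrix.Basis

/-!
A simple representation of an extension of a connected unipotent group by a central diagonalisable
group, over an algebraically closed field, is a character; hence the extension splits uniquely
(SGA 3 XVII 5.1.1).
-/

set_option autoImplicit false
set_option linter.unusedSectionVars false

universe u

open TensorProduct Coalgebra WithConv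
open Groth.ComodLib (lslice lslice_tmul lslice_lTensor slice slice_tmul op op_apply ext_slice)
open Groth.Sga3.UnipotentExt Groth.Sga3.SectionConj

noncomputable section

namespace Groth.Sga3.UnipotentByMult

variable {k : Type u} [Field k]

section Matrix

variable {A : Type u} [CommRing A] [HopfAlgebra k A] {ι : Type} [Fintype ι] [DecidableEq ι]
  (X : Matrix ι ι A) (hΔ : ∀ i j, comul (R := k) (X i j) = ∑ l, X i l ⊗ₜ[k] X l j)
  (hε : ∀ i j, counit (R := k) (X i j) = if i = j then 1 else 0)

include hΔ in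
theorem map_mul_pt {T : Type u} [CommRing T] [Algebra k T] (f g : WithConv (A →ₐ[k] T)) :
    X.map (f * g).ofConv = X.map f.ofConv * X.map g.ofConv := by
  ext i j
  rw [Matrix.map_apply, Matrix.mul_apply]
  change (Algebra.TensorProduct.lmul' k).comp (Algebra.TensorProduct.map f.ofConv g.ofConv)
    (comul (R := k) (X i j)) = _
  rw [hΔ, map_sum]
  simp

include hε in
theorem map_one_pt {T : Type u} [CommRing T] [Algebra k T] :
    X.map (1 : WithConv (A →ₐ[k] T)).ofConv = 1 := by
  ext i j
  rw [Matrix.map_apply, Matrix.one_apply]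
  change algebraMap k T (counit (R := k) (X i j)) = _
  rw [hε]
  split_ifs <;> simp

include hΔ hε in
theorem map_mul_pinv {T : Type u} [CommRing T] [Algebra k T] (i : A →ₐ[k] T) :
    X.map i * X.map (pinv i).ofConv = 1 := by
  have h := map_mul_pt X hΔ (toConv i) (pinv i)
  rw [mul_pinv, map_one_pt X hε] at h
  exact h.symm

include hΔ hε in
theorem map_pinv_mul {T : Type u} [CommRing T] [Algebra k T] (i : A →ₐ[k] T) :
    X.map (pinv i).ofConv * X.map i = 1 := by
  have h := map_mul_pt X hΔ (pinv i) (toConv i)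
  rw [pinv_mul, map_one_pt X hε] at h
  exact h.symm

/-- the adjoint action on matrices -/
def conjMat : Matrix ι ι k →ₗ[k] Matrix ι ι A :=
  (LinearMap.mulRight k (X.map (pinv (AlgHom.id k A)).ofConv)) ∘ₗ (LinearMap.mulLeft k X) ∘ₗ
    (Algebra.ofId k A).mapMatrix.toLinearMap

theorem conjMat_apply (x : Matrix ι ι k) :
    conjMat X x = X * x.map (algebraMap k A) * X.map (pinv (AlgHom.id k A)).ofConv := rfl

theorem map_conjMat (x : Matrix ι ι k) {T : Type u} [CommRing T] [Algebra k T] (i : A →ₐ[k] T) :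
    (conjMat X x).map i = X.map i * x.map (algebraMap k T) * X.map (pinv i).ofConv := by
  rw [conjMat_apply]
  change i.mapMatrix (X * x.map (algebraMap k A) * X.map (pinv (AlgHom.id k A)).ofConv) = _
  rw [map_mul, map_mul, AlgHom.mapMatrix_apply, AlgHom.mapMatrix_apply, AlgHom.mapMatrix_apply,
    Matrix.map_map, Matrix.map_map]
  congr 2
  exact Matrix.ext fun a b => i.commutes _

theorem conjMat_single (a b i j : ι) :
    conjMat X (Matrix.single a b (1 : k)) i j = X i a * (pinv (AlgHom.id k A)).ofConv (X b j) := by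
  rw [conjMat_apply, Matrix.map_single, map_one, Matrix.mul_apply, Finset.sum_eq_single b]
  · rw [Matrix.mul_single_apply_same, mul_one, Matrix.map_apply]
  · intro l _ hl
    rw [Matrix.mul_single_apply_of_ne _ _ _ _ _ hl, zero_mul]
  · simp

include hΔ in
theorem comul_conjMat (x : Matrix ι ι k) (i j : ι) :
    comul (R := k) (conjMat X x i j) =
      ∑ p : ι × ι, conjMat X (Matrix.single p.1 p.2 (1 : k)) i j ⊗ₜ[k] conjMat X x p.1 p.2 := by
  let iL : A →ₐ[k] A ⊗[k] A := Algebra.TensorProduct.includeLeft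
  let iR : A →ₐ[k] A ⊗[k] A := Algebra.TensorProduct.includeRight
  have h1 : (conjMat X x).map (Bialgebra.comulAlgHom k A) =
      X.map iL * (conjMat X x).map iR * X.map (pinv iL).ofConv := by
    rw [map_conjMat, map_conjMat,
      show (Bialgebra.comulAlgHom k A) = (toConv iL * toConv iR).ofConv from
        congrArg WithConv.ofConv comulAlgHom_eq]
    rw [pinv_mul_rev' (toConv iL) (toConv iR), map_mul_pt X hΔ, map_mul_pt X hΔ]
    simp only [mul_assoc]
  have h2 := congrFun (congrFun h1 i) j
  rw [Matrix.map_apply, Matrix.mul_apply] at h2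
  refine h2.trans ?_
  rw [Fintype.sum_prod_type, Finset.sum_comm]
  refine Finset.sum_congr rfl fun b _ => ?_
  rw [Matrix.mul_apply, Finset.sum_mul]
  refine Finset.sum_congr rfl fun a _ => ?_
  rw [conjMat_single]
  simp [iL, iR, pinv]

include hε hΔ in
theorem counit_conjMat (x : Matrix ι ι k) (i j : ι) :
    counit (R := k) (conjMat X x i j) = x i j := by
  have h1 : X.map (Bialgebra.counitAlgHom k A) = 1 := by
    ext a b
    rw [Matrix.map_apply, Matrix.one_apply]
    exact hε a b
  have h2 := map_mul_pinv X hΔ hε (Bialgebra.counitAlgHom k A)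
  rw [h1, one_mul] at h2
  have h3 := congrFun (congrFun (map_conjMat X x (Bialgebra.counitAlgHom k A)) i) j
  rw [h1, h2, one_mul, mul_one] at h3
  exact h3

include hΔ hε in
theorem commute_of_fixed {x : Matrix ι ι k} (h : conjMat X x = x.map (algebraMap k A)) :
    X * x.map (algebraMap k A) = x.map (algebraMap k A) * X := by
  have h1 := congrArg (· * X) h
  rw [conjMat_apply] at h1
  simp only [mul_assoc] at h1
  have h2 : X.map (pinv (AlgHom.id k A)).ofConv * X = 1 := by
    have := map_pinv_mul X hΔ hε (AlgHom.id k A)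
    rwa [show X.map (AlgHom.id k A) = X from Matrix.ext fun a b => rfl] at this
  rwa [h2, mul_one] at h1

include hΔ hε in
theorem exists_poly [IsAlgClosed k] [Nonempty ι] {x : Matrix ι ι k} {l : A}
    (h : conjMat X x = x.map (algebraMap k A) + l • (1 : Matrix ι ι A)) :
    ∃ Q : Polynomial k, Q ≠ 0 ∧ Polynomial.aeval l Q = 0 := by
  have hdeg : x.charpoly.degree ≠ 0 := by
    rw [Matrix.charpoly_degree_eq_dim]
    exact_mod_cast Fintype.card_ne_zero
  obtain ⟨μ, hμ⟩ := IsAlgClosed.exists_root x.charpoly hdeg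
  refine ⟨x.charpoly.comp (Polynomial.C μ - Polynomial.X), fun h0 => ?_, ?_⟩
  · refine (Matrix.charpoly_monic x).ne_zero ?_
    have := congrArg (fun p : Polynomial k => p.comp (Polynomial.C μ - Polynomial.X)) h0
    simpa [Polynomial.comp_assoc] using this
  · rw [Polynomial.aeval_comp, map_sub, Polynomial.aeval_C, Polynomial.aeval_X]
    set μA : A := algebraMap k A μ
    let Y := X.map (pinv (AlgHom.id k A)).ofConv
    have hXY : X * Y = 1 := by
      have := map_mul_pinv X hΔ hε (AlgHom.id k A)
      rwa [show X.map (AlgHom.id k A) = X from Matrix.ext fun a b => rfl] at this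
    have hN : X * (Matrix.scalar ι μA - x.map (algebraMap k A)) * Y =
        Matrix.scalar ι (μA - l) - x.map (algebraMap k A) := by
      rw [mul_sub, sub_mul, ← conjMat_apply, h,
        (Matrix.scalar_commute μA (fun r => Commute.all _ _) X).symm.eq, mul_assoc, hXY, mul_one,
        map_sub, show (Matrix.scalar ι l : Matrix ι ι A) = l • 1 from (Matrix.smul_one_eq_diagonal l).symm]
      abel
    have hdet := congrArg Matrix.det hN
    rw [Matrix.det_mul, Matrix.det_mul, mul_comm, ← mul_assoc, mul_comm (Matrix.det Y),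
      ← Matrix.det_mul, hXY, Matrix.det_one, one_mul, ← Matrix.eval_charpoly,
      ← Matrix.eval_charpoly, Matrix.charpoly_map, Polynomial.eval_map, Polynomial.eval_map,
      Polynomial.eval₂_at_apply, show x.charpoly.eval μ = 0 from hμ, map_zero] at hdet
    rw [Polynomial.aeval_def]
    exact hdet.symm

end Matrix

/-- a comodule of matrices given by its matrix of coefficient maps -/
@[reducible] def matComod {C : Type u} [CommRing C] [Bialgebra k C] {ι : Type} [Fintype ι] [DecidableEq ι]
    (cc : ι → ι → (Matrix ι ι k →ₗ[k] C))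
    (hc : ∀ i j x, comul (R := k) (cc i j x) =
      ∑ p : ι × ι, cc i j (Matrix.single p.1 p.2 (1 : k)) ⊗ₜ[k] cc p.1 p.2 x)
    (hε : ∀ i j x, counit (R := k) (cc i j x) = x i j) : HopfRep.Comod k C (Matrix ι ι k) where
  coact := ∑ p : ι × ι,
    TensorProduct.mk k (Matrix ι ι k) C (Matrix.single p.1 p.2 (1 : k)) ∘ₗ cc p.1 p.2
  coassoc := LinearMap.ext fun x => by
    simp only [LinearMap.comp_apply, LinearMap.coe_sum, Finset.sum_apply, TensorProduct.mk_apply,
      map_sum, LinearMap.rTensor_tmul, LinearMap.lTensor_tmul, LinearEquiv.coe_coe,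
      TensorProduct.sum_tmul, TensorProduct.assoc_tmul, TensorProduct.tmul_sum, hc]
    exact Finset.sum_comm
  counit_comp := LinearMap.ext fun x => by
    simp only [LinearMap.comp_apply, LinearMap.coe_sum, Finset.sum_apply, TensorProduct.mk_apply,
      map_sum, LinearMap.lTensor_tmul, LinearMap.flip_apply, hε]
    rw [Fintype.sum_prod_type]
    conv_rhs => rw [Matrix.matrix_eq_sum_single x]
    simp only [TensorProduct.sum_tmul]
    refine Finset.sum_congr rfl fun a _ => Finset.sum_congr rfl fun b _ => ?_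
    rw [← mul_one (x a b), ← smul_eq_mul, ← TensorProduct.smul_tmul, Matrix.smul_single]

theorem lslice_matComod {C : Type u} [CommRing C] [Bialgebra k C] {ι : Type} [Fintype ι]
    [DecidableEq ι] (cc : ι → ι → (Matrix ι ι k →ₗ[k] C)) (a b : ι) (x : Matrix ι ι k) :
    lslice (Matrix.entryLinearMap k k a b) ((∑ p : ι × ι,
      TensorProduct.mk k (Matrix ι ι k) C (Matrix.single p.1 p.2 (1 : k)) ∘ₗ cc p.1 p.2) x) = cc a b x := by
  rw [LinearMap.sum_apply, map_sum, Finset.sum_eq_single (a, b)]
  · simp
  · rintro ⟨c, d⟩ _ hcd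
    simp [Matrix.single_apply, show ¬ (c = a ∧ d = b) from fun h => hcd (Prod.ext h.1 h.2)]
  · simp

section Char

variable [IsAlgClosed k] {A C : Type u} [CommRing A] [HopfAlgebra k A] [Algebra.FiniteType k A]
  [CommRing C] [HopfAlgebra k C] [IsReduced C] {ψ : C →ₐc[k] A} {J : Ideal A} [J.IsHopfIdeal k]
  (hJ : J = Ideal.map (ψ : C →+* A) (RingHom.ker (Bialgebra.counitAlgHom k C)))
  (hψ : Function.Injective ψ) (hconn : ∀ e : C, IsIdempotentElem e → e = 0 ∨ e = 1)
  (hCu : HopfRep.IsUnipotent k C)
  {M : Type u} [CommGroup M] (e : (A ⧸ J) ≃ₐc[k] MonoidAlgebra k M)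

local notation "π" => Ideal.Quotient.mkₐ k J

include hJ e in
theorem conjMat_range {ι : Type} [Fintype ι] [DecidableEq ι] (X : Matrix ι ι A)
    (hΔ : ∀ i j, comul (R := k) (X i j) = ∑ l, X i l ⊗ₜ[k] X l j)
    (hε : ∀ i j, counit (R := k) (X i j) = if i = j then 1 else 0) (m : M)
    (hπ : ∀ i j, π (X i j) = if i = j then gl e m else 0) (x : Matrix ι ι k) (a b : ι) :
    ∃ c, ψ c = conjMat X x a b := by
  refine mem_range_of_tmul ψ fun T _ _ i₁ i₂ h12 => ?_
  obtain ⟨κ, hκ, hmul⟩ := exists_ker_ratio hJ i₁ i₂ h12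
  suffices h : (conjMat X x).map i₁ = (conjMat X x).map i₂ from congrFun (congrFun h a) b
  have hK : X.map κ.ofConv = (Ideal.Quotient.liftₐ J κ.ofConv hκ (gl e m)) • (1 : Matrix ι ι T) := by
    ext i j
    rw [Matrix.map_apply, Matrix.smul_apply, Matrix.one_apply]
    change Ideal.Quotient.liftₐ J κ.ofConv hκ (π (X i j)) = _
    rw [hπ]
    split_ifs <;> simp
  have hKK : X.map κ.ofConv * X.map (pinv κ.ofConv).ofConv = 1 := map_mul_pinv X hΔ hε κ.ofConv
  rw [map_conjMat, map_conjMat, show i₂ = (toConv i₁ * κ).ofConv from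
      (congrArg WithConv.ofConv hmul).symm, pinv_mul_rev' (toConv i₁) κ, map_mul_pt X hΔ,
    map_mul_pt X hΔ, hK]
  rw [hK] at hKK
  simp only [ofConv_toConv, mul_smul_comm, mul_one, smul_mul_assoc] at hKK ⊢
  rw [one_mul] at hKK
  rw [← mul_smul_comm, ← smul_mul_assoc, hKK, one_mul]

include hJ hψ hconn hCu e in
/-- A simple representation on which the kernel acts by a character is itself a character. -/
theorem exists_groupLike (V : Type u) [AddCommGroup V] [Module k V] [HopfRep.Comod k A V]
    [Module.Finite k V] (hs : HopfRep.IsSimpleComod k A V) (m : M)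
    (hw : ∀ (φ : A ⧸ J →ₗ[k] k) (v : V), op (φ ∘ₗ (π).toLinearMap) v = φ (gl e m) • v) :
    ∃ χ : A, IsGroupLikeElem k χ ∧ π χ = gl e m := by
  classical
  haveI := hs.1
  let b := Module.finBasis k V
  haveI : Nonempty (Fin (Module.finrank k V)) := ⟨⟨0, Module.finrank_pos⟩⟩
  let X : Matrix (Fin (Module.finrank k V)) (Fin (Module.finrank k V)) A :=
    fun i j => ComodLib.cf (A := A) (b.coord i) (b j)
  have hop : ∀ (φ : A →ₗ[k] k) i j, φ (X i j) = b.repr (op φ (b j)) i := fun φ i j =>
    ComodLib.apply_cf φ (b.coord i) (b j)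
  have hρ : ∀ j, HopfRep.Comod.coact (k := k) (A := A) (b j) = ∑ l, b l ⊗ₜ[k] X l j := by
    intro j
    refine ext_slice fun φ => ?_
    rw [← op_apply, map_sum]
    simp only [slice_tmul, hop]
    exact (b.sum_repr _).symm
  have hΔ : ∀ i j, comul (R := k) (X i j) = ∑ l, X i l ⊗ₜ[k] X l j := by
    intro i j
    change comul (R := k) (ComodLib.cf (A := A) (b.coord i) (b j)) = _
    rw [ComodLib.comul_cf, hρ, map_sum]
    rfl
  have hε : ∀ i j, counit (R := k) (X i j) = if i = j then 1 else 0 := by
    intro i j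
    rw [hop, ComodLib.op_counit, b.repr_self, Finsupp.single_apply]
    exact ite_congr (propext eq_comm) (fun _ => rfl) fun _ => rfl
  have hπ : ∀ i j, π (X i j) = if i = j then gl e m else 0 := by
    intro i j
    refine sub_eq_zero.1 ((Module.forall_dual_apply_eq_zero_iff k _).1 fun φ => ?_)
    rw [map_sub, sub_eq_zero]
    change (φ ∘ₗ (π).toLinearMap) (X i j) = _
    rw [hop, hw, map_smul, b.repr_self, Finsupp.smul_apply, Finsupp.single_apply]
    rcases eq_or_ne i j with h | h
    · rw [if_pos h, if_pos h.symm, smul_eq_mul, mul_one]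
    · rw [if_neg h, if_neg h.symm, smul_zero, map_zero]
  -- the adjoint representation of the quotient
  let ψl : C →ₗ[k] A := (ψ : C →ₐ[k] A).toLinearMap
  let cc : Fin (Module.finrank k V) → Fin (Module.finrank k V) →
      (Matrix (Fin (Module.finrank k V)) (Fin (Module.finrank k V)) k →ₗ[k] C) := fun a c =>
    (LinearEquiv.ofInjective ψl hψ).symm.toLinearMap ∘ₗ
      ((Matrix.entryLinearMap k A a c) ∘ₗ conjMat X).codRestrict (LinearMap.range ψl)
        (fun x => conjMat_range hJ e X hΔ hε m hπ x a c)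
  have hcc : ∀ a c x, ψ (cc a c x) = conjMat X x a c := fun a c x =>
    congrArg Subtype.val ((LinearEquiv.ofInjective ψl hψ).apply_symm_apply _)
  have hinj : Function.Injective (TensorProduct.map ψl ψl) := by
    rw [← LinearMap.lTensor_comp_rTensor]
    exact (Module.Flat.lTensor_preserves_injective_linearMap ψl hψ).comp
      (Module.Flat.rTensor_preserves_injective_linearMap ψl hψ)
  have hc : ∀ i j x, comul (R := k) (cc i j x) =
      ∑ p : Fin (Module.finrank k V) × Fin (Module.finrank k V), cc i j (Matrix.single p.1 p.2 (1 : k)) ⊗ₜ[k] cc p.1 p.2 x := by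
    intro i j x
    refine hinj ?_
    rw [map_sum]
    refine (CoalgHomClass.map_comp_comul_apply ψ (cc i j x)).trans ?_
    rw [hcc, comul_conjMat X hΔ]
    exact Finset.sum_congr rfl fun p _ => by
      rw [TensorProduct.map_tmul, ← hcc, ← hcc]
      rfl
  have hccε : ∀ i j x, counit (R := k) (cc i j x) = x i j := by
    intro i j x
    rw [← CoalgHomClass.counit_comp_apply ψ, hcc, counit_conjMat X hΔ hε]
  letI cM : HopfRep.Comod k C (Matrix (Fin (Module.finrank k V)) (Fin (Module.finrank k V)) k) :=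
    matComod cc hc hccε
  -- Schur
  have hschur : ∀ x, conjMat X x = x.map (algebraMap k A) →
      ∃ t : k, x = t • (1 : Matrix _ _ k) := by
    intro x hx
    have hcomm := commute_of_fixed X hΔ hε hx
    let f : Module.End k V := Matrix.toLin b b x
    have hf : ∀ (φ : A →ₗ[k] k) (v : V), f (op φ v) = op φ (f v) := by
      intro φ v
      suffices h : f ∘ₗ op φ = op φ ∘ₗ f from LinearMap.congr_fun h v
      refine (LinearMap.toMatrix b b).injective ?_
      rw [LinearMap.toMatrix_comp b b b, LinearMap.toMatrix_comp b b b, LinearMap.toMatrix_toLin]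
      ext i j
      have h1 := congrArg φ (congrFun (congrFun hcomm i) j)
      simp only [Matrix.mul_apply, Matrix.map_apply, map_sum, ← Algebra.commutes,
        ← Algebra.smul_def, map_smul, smul_eq_mul, hop] at h1
      simp only [Matrix.mul_apply, LinearMap.toMatrix_apply]
      rw [← h1]
      exact Finset.sum_congr rfl fun l _ => mul_comm _ _
    obtain ⟨t, ht⟩ := Module.End.exists_eigenvalue f
    obtain ⟨v, hv⟩ := ht.exists_hasEigenvector
    let U : Submodule k V := LinearMap.ker (f - t • LinearMap.id)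
    have hU : HopfRep.IsSubcomod (k := k) (A := A) U := by
      rw [ComodLib.isSubcomod_iff]
      intro φ y hy
      simp only [U, LinearMap.mem_ker, LinearMap.sub_apply, LinearMap.smul_apply, LinearMap.id_apply,
        sub_eq_zero] at hy ⊢
      rw [hf, hy, map_smul]
    have hUtop : U = ⊤ := (hs.2 U hU).resolve_left fun h => hv.2 <| (Submodule.mem_bot k).1 <| h ▸ by
      simp [U, Module.End.mem_eigenspace_iff.1 hv.1]
    refine ⟨t, (Matrix.toLin b b).injective ?_⟩
    rw [map_smul, Matrix.toLin_one]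
    refine LinearMap.ext fun y => ?_
    have : y ∈ U := hUtop ▸ Submodule.mem_top
    exact sub_eq_zero.1 this
  -- the fixed series stops at the scalars
  let N := Submodule.span k {(1 : Matrix (Fin (Module.finrank k V)) (Fin (Module.finrank k V)) k)}
  have hent : ∀ a c x, lslice (Matrix.entryLinearMap k k a c)
      (HopfRep.Comod.coact (k := k) (A := C) x) = cc a c x := fun a c x => lslice_matComod cc a c x
  have h1N : ComodLib.fixSeries k C (Matrix (Fin (Module.finrank k V)) (Fin (Module.finrank k V)) k) 1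
      ≤ N := by
    intro x hx
    rw [ComodLib.fixSeries_one] at hx
    obtain ⟨t, ht⟩ := hschur x (Matrix.ext fun a c => by
      rw [← hcc, ← hent, show HopfRep.Comod.coact (k := k) (A := C) x = x ⊗ₜ[k] (1 : C) from hx,
        lslice_tmul, map_smul, map_one, Matrix.map_apply, Algebra.algebraMap_eq_smul_one]
      rfl)
    rw [ht]
    exact Submodule.smul_mem _ _ (Submodule.mem_span_singleton_self _)
  have h2N : ComodLib.fixSeries k C (Matrix (Fin (Module.finrank k V)) (Fin (Module.finrank k V)) k) 2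
      ≤ ComodLib.fixSeries k C (Matrix (Fin (Module.finrank k V)) (Fin (Module.finrank k V)) k) 1 := by
    intro x hx
    obtain ⟨y, hy⟩ := ComodLib.mem_fixSeries_succ_iff_coact.1 hx
    obtain ⟨l, hl⟩ : ∃ l : C, (ComodLib.fixSeries k C _ 1).subtype.rTensor C y =
        (1 : Matrix (Fin (Module.finrank k V)) (Fin (Module.finrank k V)) k) ⊗ₜ[k] l := by
      clear hy
      induction y using TensorProduct.induction_on with
      | zero => exact ⟨0, by simp⟩
      | add p q hp hq =>
        obtain ⟨l, hl⟩ := hp; obtain ⟨l', hl'⟩ := hq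
        exact ⟨l + l', by rw [map_add, hl, hl', TensorProduct.tmul_add]⟩
      | tmul p q =>
        obtain ⟨t, ht⟩ := Submodule.mem_span_singleton.1 (h1N p.2)
        exact ⟨t • q, by rw [LinearMap.rTensor_tmul, Submodule.subtype_apply, ← ht,
          TensorProduct.smul_tmul]⟩
    rw [hl, eq_comm, sub_eq_iff_eq_add] at hy
    have hcx : ∀ a c, cc a c x = (if a = c then (1 : k) else 0) • l + x a c • (1 : C) := by
      intro a c
      rw [← hent, hy, map_add, lslice_tmul, lslice_tmul]
      simp [Matrix.one_apply]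
    have hmat : conjMat X x = x.map (algebraMap k A) + ψ l • (1 : Matrix _ _ A) := by
      ext a c
      rw [← hcc, hcx, map_add, map_smul, map_smul, map_one, Matrix.add_apply, Matrix.map_apply,
        Matrix.smul_apply, Matrix.one_apply, Algebra.algebraMap_eq_smul_one, add_comm]
      congr 1
      split_ifs <;> simp
    obtain ⟨Q, hQ, hroot⟩ := exists_poly X hΔ hε hmat
    have hl0 : l = 0 := by
      refine eq_zero_of_root (ψ : C →ₐ[k] A) hψ hconn (Bialgebra.counitAlgHom k C) hQ ?_ ?_
      · refine hψ ?_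
        rw [map_zero, ← hroot]
        exact (Polynomial.aeval_algHom_apply (ψ : C →ₐ[k] A) l Q).symm
      · have i₀ : Fin (Module.finrank k V) := Classical.arbitrary _
        have := hccε i₀ i₀ x
        rw [hcx, map_add, map_smul, map_smul, Bialgebra.counit_one, if_pos rfl, one_smul,
          smul_eq_mul, mul_one, add_eq_right] at this
        exact this
    rw [ComodLib.fixSeries_one]
    change HopfRep.Comod.coact (k := k) (A := C) x = x ⊗ₜ[k] (1 : C)
    rw [hy, hl0, TensorProduct.tmul_zero, zero_add]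
  have hstop : ∀ n, ComodLib.fixSeries k C
      (Matrix (Fin (Module.finrank k V)) (Fin (Module.finrank k V)) k) n ≤
      ComodLib.fixSeries k C (Matrix (Fin (Module.finrank k V)) (Fin (Module.finrank k V)) k) 1 := by
    intro n
    induction n with
    | zero => exact ComodLib.fixSeries_le_succ 0
    | succ n ih => exact fun x hx => h2N (ComodLib.mem_fixSeries_succ.2 fun φ =>
        ih (ComodLib.mem_fixSeries_succ.1 hx φ))
  obtain ⟨n, hn⟩ := ComodLib.exists_fixSeries_eq_top hCu
    (Matrix (Fin (Module.finrank k V)) (Fin (Module.finrank k V)) k)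
  have hone : ∀ i j : Fin (Module.finrank k V), i = j := by
    intro i j
    by_contra hne
    obtain ⟨t, ht⟩ := Submodule.mem_span_singleton.1 (h1N (hstop n (hn ▸ Submodule.mem_top :
      Matrix.single i j (1 : k) ∈ _)))
    have := congrFun (congrFun ht i) j
    simp [Matrix.one_apply_ne hne] at this
  obtain ⟨i₀⟩ := (inferInstance : Nonempty (Fin (Module.finrank k V)))
  refine ⟨X i₀ i₀, ⟨by rw [hε, if_pos rfl], ?_⟩, by rw [hπ, if_pos rfl]⟩
  rw [hΔ, Finset.sum_eq_single i₀ (fun l _ hl => absurd (hone l i₀) hl) (by simp)]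

include hψ in
theorem isGroupLikeElem_of_map {g : C} (h : IsGroupLikeElem k (ψ g)) : IsGroupLikeElem k g := by
  refine ⟨by rw [← CoalgHomClass.counit_comp_apply ψ]; exact h.counit_eq_one, ?_⟩
  have hinj : Function.Injective (TensorProduct.map (ψ : C →ₗ[k] A) (ψ : C →ₗ[k] A)) := by
    rw [← LinearMap.lTensor_comp_rTensor]
    exact (Module.Flat.lTensor_preserves_injective_linearMap (ψ : C →ₗ[k] A) hψ).comp
      (Module.Flat.rTensor_preserves_injective_linearMap (ψ : C →ₗ[k] A) hψ)
  refine hinj ?_
  rw [TensorProduct.map_tmul]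
  exact (CoalgHomClass.map_comp_comul_apply ψ g).trans h.comul_eq_tmul_self

include hJ hψ hconn hCu e in
/-- every character of the kernel extends uniquely to a character -/
theorem exists_characters : ∃ χ : M →* A, (∀ m, IsGroupLikeElem k (χ m)) ∧
    ∀ m, π (χ m) = gl e m := by
  classical
  have hex : ∀ m, ∃ x : A, IsGroupLikeElem k x ∧ π x = gl e m := by
    intro m
    obtain ⟨V, hV, hfin, hs, hw⟩ := exists_simple hJ e hψ hconn m
    letI := ComodSub.Comod.restr (HopfRep.Comod.regular k A) V hV
    have hi : Hoch.IsComodHom A V.subtype :=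
      ComodSub.isComodHom_subtype (HopfRep.Comod.regular k A) V hV
    exact exists_groupLike hJ hψ hconn hCu e V hs m fun φ v => Subtype.ext <|
      (ComodLib.isComodHom_op hi _ v).trans (hw φ v v.2)
  have huniq : ∀ x y : A, IsGroupLikeElem k x → IsGroupLikeElem k y → π x = π y → x = y := by
    intro x y hx hy hxy
    have hSy : IsGroupLikeElem k (HopfAlgebra.antipode k y) :=
      (⟨y, hy⟩ : GroupLike k A)⁻¹.2
    have hz : IsGroupLikeElem k (x * HopfAlgebra.antipode k y) := hx.mul hSy
    have hπz : π (x * HopfAlgebra.antipode k y) = 1 := by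
      rw [map_mul, hxy, ← map_mul, hy.mul_antipode_cancel, map_one]
    obtain ⟨g, hg⟩ : ∃ g, ψ g = x * HopfAlgebra.antipode k y := by
      refine mem_range_of_tmul ψ fun T _ _ i₁ i₂ h12 => eq_of_coinv_left hJ i₁ i₂ h12 ?_
      rw [hz.comul_eq_tmul_self, Algebra.TensorProduct.map_tmul, hπz]
      rfl
    have hg1 : g = 1 := Groth.Misc1.Unip.groupLike_eq_one (ComodLib.exists_mem_fixSeries hCu)
      (isGroupLikeElem_of_map hψ (hg ▸ hz))
    rw [hg1, map_one] at hg
    calc x = x * (HopfAlgebra.antipode k y * y) := by rw [hy.antipode_mul_cancel, mul_one]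
      _ = y := by rw [← mul_assoc, ← hg, one_mul]
  choose x hx hπx using hex
  refine ⟨{ toFun := x, map_one' := ?_, map_mul' := fun m n => ?_ }, hx, hπx⟩
  · exact huniq _ _ (hx 1) IsGroupLikeElem.one (by rw [hπx, gl_one, map_one])
  · exact huniq _ _ (hx _) ((hx m).mul (hx n)) (by rw [map_mul, hπx, hπx, hπx, gl_mul])

include hJ hψ hconn hCu e in
/-- The extension splits, with a unique section. -/
theorem exists_retraction_unique :
    ∃ r : A →ₐc[k] C, (∀ c, r (ψ c) = c) ∧
      ∀ r' : A →ₐc[k] C, (∀ c, r' (ψ c) = c) → r' = r := by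
  classical
  obtain ⟨χ, hχ, hπχ⟩ := exists_characters hJ hψ hconn hCu e
  let F₀ : MonoidAlgebra k M →ₐ[k] A := MonoidAlgebra.lift k A M χ
  have hF₀ : ∀ m, F₀ (MonoidAlgebra.single m 1) = χ m := fun m => by simp [F₀]
  let F : MonoidAlgebra k M →ₐc[k] A := BialgHom.ofAlgHom F₀
    (MonoidAlgebra.algHom_ext (fun m => by simp [hF₀, (hχ m).counit_eq_one]) (Subsingleton.elim _ _))
    (MonoidAlgebra.algHom_ext (fun m => by simp [hF₀, (hχ m).comul_eq_tmul_self])
      (Subsingleton.elim _ _))
  let s : (A ⧸ J) →ₐc[k] A := F.comp (e : (A ⧸ J) →ₐc[k] MonoidAlgebra k M)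
  have hs : ∀ m, s (gl e m) = χ m := fun m => by
    change F (e (gl e m)) = χ m
    rw [e_gl]
    exact hF₀ m
  have hπs : ∀ q, π (s q) = q := fun q => LinearMap.congr_fun
    (ext_gl e (f := (π).toLinearMap ∘ₗ (s : (A ⧸ J) →ₐ[k] A).toLinearMap) (g := LinearMap.id)
      fun m => by
        change π (s (gl e m)) = _
        rw [hs, hπχ]
        rfl) q
  let ρ₀ : A →ₐc[k] A := s.comp (Bialgebra.Quotient.mkBialgHom J)
  have hρJ : ∀ {T : Type u} [CommRing T] [Algebra k T] (i : A →ₐ[k] T),
      ∀ x ∈ J, (precomp ρ₀ (toConv i)).ofConv x = 0 := fun i x hx => by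
    change i (s (π x)) = 0
    rw [Ideal.Quotient.mkₐ_eq_mk, Ideal.Quotient.eq_zero_iff_mem.2 hx, map_zero, map_zero]
  have hinvJ : ∀ {T : Type u} [CommRing T] [Algebra k T] (f : WithConv (A →ₐ[k] T)),
      (∀ x ∈ J, f.ofConv x = 0) → ∀ x ∈ J, (pinv f.ofConv).ofConv x = 0 := fun f hf x hx =>
    hf _ (Ideal.IsHopfIdeal.antipode_mem (R := k) hx)
  let θ : A →ₐ[k] A :=
    (pinv (precomp ρ₀ (toConv (AlgHom.id k A))).ofConv * toConv (AlgHom.id k A)).ofConv
  have hθ : ∀ {T : Type u} [CommRing T] [Algebra k T] (i : A →ₐ[k] T),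
      toConv (i.comp θ) = pinv (precomp ρ₀ (toConv i)).ofConv * toConv i := fun i => by
    simp only [θ]
    rw [postcomp_mul, postcomp_pinv]
    rfl
  have hrange : ∀ a, ∃ c, ψ c = θ a := by
    intro a
    refine mem_range_of_tmul ψ fun T _ _ i₁ i₂ h12 => ?_
    obtain ⟨κ, hκ, hmul⟩ := exists_ker_ratio hJ i₁ i₂ h12
    have hκρ : precomp ρ₀ κ = κ := by
      obtain ⟨κ', rfl⟩ := fac hκ
      exact WithConv.ofConv_injective (AlgHom.ext fun x => congrArg κ'.ofConv (hπs (π x)))
    suffices h : toConv (i₁.comp θ) = toConv (i₂.comp θ) from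
      congrArg (fun f : WithConv (A →ₐ[k] T) => f.ofConv a) h
    rw [hθ, hθ, ← hmul, map_mul, hκρ, pinv_mul_rev', ← mul_assoc, mul_assoc (pinv κ.ofConv),
      mul_assoc (pinv κ.ofConv),
      central hJ e hψ hconn (pinv (precomp ρ₀ (toConv i₁)).ofConv * toConv i₁) hκ, ← mul_assoc,
      pinv_mul', conv_one_mul]
  have hθψ : ∀ c, θ (ψ c) = ψ c := by
    intro c
    have h1 : precomp ψ (precomp ρ₀ (toConv (AlgHom.id k A))) = 1 :=
      WithConv.ofConv_injective (AlgHom.ext fun b => by
        change s (π (ψ b)) = algebraMap k A (counit (R := k) b)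
        rw [mk_ψ hJ, AlgHomClass.commutes])
    have h2 := congrArg (precomp ψ) (mul_pinv' (precomp ρ₀ (toConv (AlgHom.id k A))))
    rw [map_mul, h1, conv_one_mul, map_one] at h2
    have h3 : precomp ψ (toConv θ) = precomp ψ (toConv (AlgHom.id k A)) := by
      change precomp ψ (_ * _) = _
      rw [map_mul, h2, conv_one_mul]
    exact congrArg (fun f : WithConv (C →ₐ[k] A) => f.ofConv c) h3
  let eψ := AlgEquiv.ofInjective (ψ : C →ₐ[k] A) hψ
  let r₀ : A →ₐ[k] C := eψ.symm.toAlgHom.comp
    (θ.codRestrict (ψ : C →ₐ[k] A).range fun a => hrange a)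
  have hr₀ : ∀ a, ψ (r₀ a) = θ a := fun a => congrArg Subtype.val (eψ.apply_symm_apply _)
  have hεθ : ∀ a, counit (R := k) (θ a) = counit (R := k) a := by
    have h1 := hθ (Bialgebra.counitAlgHom k A)
    have h2 : precomp ρ₀ (toConv (Bialgebra.counitAlgHom k A)) =
        (1 : WithConv (A →ₐ[k] k)) := map_one _
    rw [h2, pinv_one, conv_one_mul] at h1
    exact fun a => congrArg (fun f : WithConv (A →ₐ[k] k) => f.ofConv a) h1
  have hΔθ : ∀ a, comul (R := k) (θ a) = Algebra.TensorProduct.map θ θ (comul (R := k) a) := by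
    have h1 := hθ (Bialgebra.comulAlgHom k A)
    let iL : A →ₐ[k] A ⊗[k] A := Algebra.TensorProduct.includeLeft
    let iR : A →ₐ[k] A ⊗[k] A := Algebra.TensorProduct.includeRight
    have h2 : toConv ((Algebra.TensorProduct.map θ θ).comp (Bialgebra.comulAlgHom k A)) =
        toConv ((Bialgebra.comulAlgHom k A).comp θ) := by
      rw [map_comp_comul, h1, comulAlgHom_eq, map_mul, pinv_mul_rev', hθ, hθ]
      have hc := central hJ e hψ hconn (pinv (precomp ρ₀ (toConv iL)).ofConv * toConv iL)
        (hinvJ _ (hρJ iR))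
      rw [← mul_assoc (_ * _) (pinv _), hc]
      simp only [mul_assoc]
      rfl
    exact fun a => (congrArg (fun f : WithConv (A →ₐ[k] A ⊗[k] A) => f.ofConv a) h2).symm
  let r : A →ₐc[k] C := BialgHom.ofAlgHom r₀
    (AlgHom.ext fun a => by
      change counit (R := k) (r₀ a) = counit (R := k) a
      rw [← CoalgHomClass.counit_comp_apply ψ, hr₀, hεθ])
    (AlgHom.ext fun a => by
      change Algebra.TensorProduct.map r₀ r₀ (comul (R := k) a) = comul (R := k) (r₀ a)
      have hinj : Function.Injective (TensorProduct.map (ψ : C →ₗ[k] A) (ψ : C →ₗ[k] A)) := by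
        rw [← LinearMap.lTensor_comp_rTensor]
        exact (Module.Flat.lTensor_preserves_injective_linearMap (ψ : C →ₗ[k] A) hψ).comp
          (Module.Flat.rTensor_preserves_injective_linearMap (ψ : C →ₗ[k] A) hψ)
      refine hinj ?_
      refine Eq.trans ?_ (CoalgHomClass.map_comp_comul_apply ψ (r₀ a)).symm
      rw [hr₀, hΔθ]
      generalize comul (R := k) a = z
      induction z using TensorProduct.induction_on with
      | zero => simp
      | add x y hx hy => simp only [map_add, hx, hy]
      | tmul x y =>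
        simp only [Algebra.TensorProduct.map_tmul, TensorProduct.map_tmul, ← hr₀]
        rfl)
  refine ⟨r, fun c => hψ ((hr₀ _).trans (hθψ c)), fun r' hr' => BialgHom.ext fun a => ?_⟩
  have h1 : precomp ρ₀ (toConv (r' : A →ₐ[k] C)) = 1 := by
    refine WithConv.ofConv_injective (AlgHom.ext fun x => ?_)
    have h2 : ((r' : A →ₐ[k] C).comp (s : (A ⧸ J) →ₐ[k] A)).toLinearMap =
        Algebra.linearMap k C ∘ₗ counit (R := k) := ext_gl e fun m => by
      change r' (s (gl e m)) = algebraMap k C (counit (R := k) (gl e m))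
      rw [hs, (isGroupLikeElem_gl e m).counit_eq_one, map_one]
      exact Groth.Misc1.Unip.groupLike_eq_one (ComodLib.exists_mem_fixSeries hCu) ((hχ m).map r')
    refine (LinearMap.congr_fun h2 (π x)).trans ?_
    exact congrArg (algebraMap k C)
      (CoalgHomClass.counit_comp_apply (Bialgebra.Quotient.mkBialgHom (R := k) J) x)
  have h3 := hθ (r' : A →ₐ[k] C)
  rw [h1, pinv_one, conv_one_mul] at h3
  refine (congrArg (fun f : WithConv (A →ₐ[k] C) => f.ofConv a) h3).symm.trans ?_
  change r' (θ a) = r₀ a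
  rw [← hr₀, hr']

end Char

end Groth.Sga3.UnipotentByMult
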